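/-
Elements of group algebras of finite groups given by coefficient functions, class sums, and the
truncation to the centraliser of a subgroup.
-/
import Mathlib.Algebra.MonoidAlgebra.MapDomain
import Mathlib.Algebra.MonoidAlgebra.Basic
import Mathlib.GroupTheory.PGroup
import Mathlib.GroupTheory.Subgroup.Centralizer
import Mathlib.Algebra.CharP.Basic
import Mathlib.Data.Finsupp.Fintype
import Mathlib.Algebra.BigOperators.Finprod
import Mathlib.GroupTheory.GroupAction.ConjAct

namespace Cfsg.Agent.Blocks

open MonoidAlgebra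

variable {G : Type*} [Group G] {R S : Type*} [CommRing R] [CommRing S]

/-- A function on the group as an element of the group algebra. -/
noncomputable def gaOfFun [Finite G] (f : G → R) : MonoidAlgebra R G :=
  ofCoeff (Finsupp.equivFunOnFinite.symm f)

@[simp] theorem coeff_gaOfFun [Finite G] (f : G → R) (g : G) : (gaOfFun f).coeff g = f g := rfl

theorem gaExt {x y : MonoidAlgebra R G} (h : ∀ g, x.coeff g = y.coeff g) : x = y :=
  MonoidAlgebra.ext (Finsupp.ext h)

theorem coeff_mul_univ [Fintype G] (x y : MonoidAlgebra R G) (g : G) :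
    (x * y).coeff g = ∑ a : G, x.coeff a * y.coeff (a⁻¹ * g) := by
  classical
  rw [MonoidAlgebra.coeff_mul]
  rw [Finsupp.sum_fintype _ _ (by simp)]
  refine Finset.sum_congr rfl fun a _ => ?_
  rw [Finsupp.sum_fintype _ _ (by simp)]
  rw [Finset.sum_eq_single (a⁻¹ * g)]
  · simp
  · intro b _ hb
    rw [if_neg]
    rintro rfl
    exact hb (by simp)
  · simp

/-- Coefficients constant on conjugacy classes. -/
def IsClassElt (x : MonoidAlgebra R G) : Prop :=
  ∀ g h : G, x.coeff (h * g * h⁻¹) = x.coeff g

theorem IsClassElt.zero : IsClassElt (0 : MonoidAlgebra R G) := fun _ _ => by simp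

theorem IsClassElt.one : IsClassElt (1 : MonoidAlgebra R G) := fun g h => by
  classical
  rw [MonoidAlgebra.one_def, MonoidAlgebra.coeff_single, Finsupp.single_apply,
    Finsupp.single_apply]
  exact if_congr (by simp only [eq_comm (a := (1 : G)), conj_eq_one_iff]) rfl rfl

theorem IsClassElt.add {x y : MonoidAlgebra R G} (hx : IsClassElt x) (hy : IsClassElt y) :
    IsClassElt (x + y) := fun g h => by simp [hx g h, hy g h]

theorem IsClassElt.smul {x : MonoidAlgebra R G} (hx : IsClassElt x) (c : R) :
    IsClassElt (c • x) := fun g h => by simp [hx g h]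

theorem IsClassElt.neg {x : MonoidAlgebra R G} (hx : IsClassElt x) : IsClassElt (-x) := by
  simpa using IsClassElt.smul hx (-1)

theorem IsClassElt.sub {x y : MonoidAlgebra R G} (hx : IsClassElt x) (hy : IsClassElt y) :
    IsClassElt (x - y) := by
  rw [sub_eq_add_neg]; exact IsClassElt.add hx (IsClassElt.neg hy)

theorem IsClassElt.sum {ι : Type*} (s : Finset ι) (f : ι → MonoidAlgebra R G)
    (h : ∀ i ∈ s, IsClassElt (f i)) : IsClassElt (∑ i ∈ s, f i) :=
  Finset.sum_induction f IsClassElt (fun _ _ => IsClassElt.add) IsClassElt.zero h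

theorem IsClassElt.mul [Fintype G] {x y : MonoidAlgebra R G} (hx : IsClassElt x)
    (hy : IsClassElt y) : IsClassElt (x * y) := fun g h => by
  rw [coeff_mul_univ, coeff_mul_univ]
  symm
  refine Fintype.sum_equiv (MulAut.conj h).toEquiv _ _ fun a => ?_
  simp only [MulEquiv.toEquiv_eq_coe, MulEquiv.coe_toEquiv, MulAut.conj_apply]
  rw [hx a h, show (h * a * h⁻¹)⁻¹ * (h * g * h⁻¹) = h * (a⁻¹ * g) * h⁻¹ by group,
    hy (a⁻¹ * g) h]

theorem IsClassElt.pow [Fintype G] {x : MonoidAlgebra R G} (hx : IsClassElt x) (n : ℕ) :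
    IsClassElt (x ^ n) := by
  induction n with
  | zero => simpa using IsClassElt.one
  | succ n ih => rw [pow_succ]; exact IsClassElt.mul ih hx

theorem IsClassElt.comm [Fintype G] {x : MonoidAlgebra R G} (hx : IsClassElt x)
    (y : MonoidAlgebra R G) : x * y = y * x := by
  refine gaExt fun g => ?_
  rw [coeff_mul_univ, coeff_mul_univ]
  refine Fintype.sum_equiv ((Equiv.inv G).trans (Equiv.mulRight g)) _ _ fun a => ?_
  simp only [Equiv.trans_apply, Equiv.inv_apply, Equiv.coe_mulRight]
  rw [mul_comm, ← hx a g⁻¹]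
  congr 2
  group

theorem IsClassElt.map {x : MonoidAlgebra R G} (hx : IsClassElt x) (f : R →+* S) :
    IsClassElt (mapRingHom G f x) := fun g h => by
  simp only [coeff_mapRingHom, hx g h]

theorem isClassElt_gaOfFun [Finite G] {f : G → R} (hf : ∀ g h : G, f (h * g * h⁻¹) = f g) :
    IsClassElt (gaOfFun f) := hf

/-- The class sum of `g`. -/
noncomputable def classSum (R : Type*) [CommRing R] [Finite G] (g : G) : MonoidAlgebra R G :=
  gaOfFun (Set.indicator {x | IsConj g x} 1)

theorem coeff_classSum [Finite G] (g x : G) [Decidable (IsConj g x)] :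
    (classSum R g).coeff x = if IsConj g x then 1 else 0 := by
  unfold classSum
  rw [coeff_gaOfFun]
  by_cases h : IsConj g x
  · rw [if_pos h, Set.indicator_of_mem (by exact h), Pi.one_apply]
  · rw [if_neg h, Set.indicator_of_notMem (by exact h)]

theorem isConj_conj_iff (g x h : G) : IsConj g (h * x * h⁻¹) ↔ IsConj g x :=
  ⟨fun hc => hc.trans (isConj_iff.2 ⟨h⁻¹, by group⟩),
    fun hc => hc.trans (isConj_iff.2 ⟨h, rfl⟩)⟩

theorem isClassElt_classSum [Finite G] (g : G) : IsClassElt (classSum R g) := fun x h => by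
  classical
  simp only [coeff_classSum]
  exact if_congr (isConj_conj_iff g x h) rfl rfl

theorem map_classSum [Finite G] (f : R →+* S) (g : G) :
    mapRingHom G f (classSum R g) = classSum S g := by
  classical
  refine gaExt fun x => ?_
  simp only [coeff_mapRingHom, coeff_classSum]
  split_ifs <;> simp

theorem classSum_eq_finsum [Finite G] (g : G) :
    (∑ᶠ x ∈ ConjClasses.carrier (ConjClasses.mk g), single x (1 : R)) = classSum R g := by
  classical
  haveI := Fintype.ofFinite G
  refine gaExt fun y => ?_
  rw [finsum_mem_eq_toFinset_sum, MonoidAlgebra.coeff_sum, coeff_classSum]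
  simp only [Finset.sum_apply', MonoidAlgebra.coeff_single, Finsupp.single_apply]
  rw [Finset.sum_ite_eq']
  refine if_congr ?_ rfl rfl
  rw [Set.mem_toFinset, ConjClasses.mem_carrier_iff_mk_eq, ConjClasses.mk_eq_mk_iff_isConj]
  exact ⟨IsConj.symm, IsConj.symm⟩

/-- Truncation of an element to the centraliser of a subgroup. -/
noncomputable def brTrunc [Finite G] (P : Subgroup G) (x : MonoidAlgebra R G) :
    MonoidAlgebra R G :=
  gaOfFun (Set.indicator (Subgroup.centralizer (P : Set G) : Set G) x.coeff)

theorem coeff_brTrunc [Finite G] (P : Subgroup G) (x : MonoidAlgebra R G) (g : G)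
    [Decidable (g ∈ Subgroup.centralizer (P : Set G))] :
    (brTrunc P x).coeff g =
      if g ∈ Subgroup.centralizer (P : Set G) then x.coeff g else 0 := by
  simp [brTrunc, Set.indicator_apply]

theorem brTrunc_add [Finite G] (P : Subgroup G) (x y : MonoidAlgebra R G) :
    brTrunc P (x + y) = brTrunc P x + brTrunc P y := by
  classical
  refine gaExt fun g => ?_
  simp only [coeff_brTrunc, MonoidAlgebra.coeff_add, Finsupp.add_apply]
  split_ifs <;> simp

theorem brTrunc_smul [Finite G] (P : Subgroup G) (c : R) (x : MonoidAlgebra R G) :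
    brTrunc P (c • x) = c • brTrunc P x := by
  classical
  refine gaExt fun g => ?_
  simp only [coeff_brTrunc, MonoidAlgebra.coeff_smul, Finsupp.smul_apply]
  split_ifs <;> simp

theorem brTrunc_one [Finite G] (P : Subgroup G) :
    brTrunc P (1 : MonoidAlgebra R G) = 1 := by
  classical
  refine gaExt fun g => ?_
  rw [coeff_brTrunc]
  split_ifs with h
  · rfl
  · have : (1 : G) ≠ g := fun h' => h (h' ▸ (Subgroup.centralizer (P : Set G)).one_mem)
    simp [MonoidAlgebra.one_def, Finsupp.single_apply, this]

/-- A `p`-group acting on a finite type: an invariant sum in characteristic `p` is the sum over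
the fixed points. -/
theorem sum_eq_sum_fixed {p : ℕ} [Fact p.Prime] [CharP R p] {P α : Type*} [Group P]
    (hP : IsPGroup p P) [MulAction P α] [Fintype α] (f : α → R)
    (hf : ∀ (u : P) (a : α), f (u • a) = f a)
    [DecidablePred (· ∈ MulAction.fixedPoints P α)] :
    ∑ a, f a = ∑ a ∈ Finset.univ.filter (· ∈ MulAction.fixedPoints P α), f a := by
  classical
  rw [← Finset.sum_fiberwise_of_maps_to (g := f) (t := Finset.univ.image f)
      (fun a _ => Finset.mem_image_of_mem f (Finset.mem_univ a)),
    ← Finset.sum_fiberwise_of_maps_to (g := f) (t := Finset.univ.image f)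
      (fun a _ => Finset.mem_image_of_mem f (Finset.mem_univ a))]
  refine Finset.sum_congr rfl fun v _ => ?_
  rw [Finset.sum_congr rfl (fun a ha => (Finset.mem_filter.1 ha).2), Finset.sum_const,
    Finset.sum_congr rfl (fun a ha => (Finset.mem_filter.1 ha).2), Finset.sum_const,
    nsmul_eq_mul, nsmul_eq_mul]
  congr 1
  let T : SubMulAction P α := ⟨{a | f a = v}, fun u a ha => (hf u a).trans ha⟩
  have hc : (Nat.card T : R) = (Nat.card (MulAction.fixedPoints P T) : R) :=
    (CharP.natCast_eq_natCast R p).2 (hP.card_modEq_card_fixedPoints (α := T))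
  have e1 : Nat.card T = (Finset.univ.filter fun a => f a = v).card := by
    rw [← Nat.card_eq_finsetCard]
    exact Nat.card_congr
      { toFun := fun a => ⟨a.1, Finset.mem_filter.2 ⟨Finset.mem_univ _, a.2⟩⟩
        invFun := fun a => ⟨a.1, (Finset.mem_filter.1 a.2).2⟩
        left_inv := fun _ => rfl
        right_inv := fun _ => rfl }
  have e2 : Nat.card (MulAction.fixedPoints P T) =
      ((Finset.univ.filter (· ∈ MulAction.fixedPoints P α)).filter fun a => f a = v).card := by
    rw [← Nat.card_eq_finsetCard]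
    exact Nat.card_congr
      { toFun := fun a => ⟨a.1.1, by
          simp only [Finset.mem_filter, Finset.mem_univ, true_and]
          exact ⟨fun u => congrArg Subtype.val (a.2 u), a.1.2⟩⟩
        invFun := fun a => ⟨⟨a.1, (Finset.mem_filter.1 a.2).2⟩, fun u => Subtype.ext
          ((Finset.mem_filter.1 (Finset.mem_filter.1 a.2).1).2 u)⟩
        left_inv := fun _ => rfl
        right_inv := fun _ => rfl }
  rw [← e1, ← e2, hc]

/-- Coefficients invariant under conjugation by a subgroup. -/
def IsInvElt (P : Subgroup G) (x : MonoidAlgebra R G) : Prop :=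
  ∀ u ∈ P, ∀ g, x.coeff (u * g * u⁻¹) = x.coeff g

theorem IsClassElt.isInvElt {x : MonoidAlgebra R G} (hx : IsClassElt x) (P : Subgroup G) :
    IsInvElt P x := fun u _ g => hx g u

/-- The Brauer map is multiplicative in characteristic `p`. -/
theorem brTrunc_mul [Fintype G] {p : ℕ} [Fact p.Prime] [CharP R p] {P : Subgroup G}
    (hP : IsPGroup p P) {x y : MonoidAlgebra R G} (hx : IsInvElt P x) (hy : IsInvElt P y) :
    brTrunc P (x * y) = brTrunc P x * brTrunc P y := by
  classical
  refine gaExt fun c => ?_
  rw [coeff_brTrunc, coeff_mul_univ (brTrunc P x), coeff_mul_univ]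
  split_ifs with hc
  · let _ : MulAction P G := MulAction.compHom G
      (ConjAct.toConjAct.toMonoidHom.comp P.subtype)
    have hsmul : ∀ (u : P) (a : G), u • a = (u : G) * a * (u : G)⁻¹ := fun u a =>
      ConjAct.smul_def (ConjAct.toConjAct (u : G)) a
    rw [sum_eq_sum_fixed hP (fun a => x.coeff a * y.coeff (a⁻¹ * c))]
    · rw [Finset.sum_filter]
      refine Finset.sum_congr rfl fun a _ => ?_
      rw [coeff_brTrunc, coeff_brTrunc]
      have hfix : a ∈ MulAction.fixedPoints P G ↔ a ∈ Subgroup.centralizer (P : Set G) := by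
        simp only [MulAction.mem_fixedPoints, Subgroup.mem_centralizer_iff, hsmul, Subtype.forall,
          mul_inv_eq_iff_eq_mul]
        rfl
      by_cases ha : a ∈ Subgroup.centralizer (P : Set G)
      · rw [if_pos (hfix.2 ha), if_pos ha,
          if_pos (mul_mem (inv_mem ha) hc)]
      · rw [if_neg (hfix.not.2 ha), if_neg ha, zero_mul]
    · intro u a
      rw [hsmul, hx u u.2 a]
      congr 1
      rw [← hy u u.2 (a⁻¹ * c)]
      congr 1
      have : (u : G) * c = c * u := (Subgroup.mem_centralizer_iff.1 hc) u u.2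
      rw [mul_inv_rev, mul_inv_rev, inv_inv]
      calc (u : G) * (a⁻¹ * (u : G)⁻¹) * c = u * a⁻¹ * ((u : G)⁻¹ * c) := by group
        _ = u * a⁻¹ * (c * (u : G)⁻¹) := by
          rw [← eq_mul_inv_iff_mul_eq.2 (show (u : G)⁻¹ * c * u = c by
            rw [mul_assoc, ← this, inv_mul_cancel_left])]
        _ = u * (a⁻¹ * c) * (u : G)⁻¹ := by group
  · symm
    refine Finset.sum_eq_zero fun a _ => ?_
    rw [coeff_brTrunc, coeff_brTrunc]
    by_cases ha : a ∈ Subgroup.centralizer (P : Set G)
    · rw [if_pos ha, if_neg (fun h => hc (by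
        have := mul_mem ha h
        rwa [mul_inv_cancel_left] at this)), mul_zero]
    · rw [if_neg ha, zero_mul]

theorem brTrunc_pow [Fintype G] {p : ℕ} [Fact p.Prime] [CharP R p] {P : Subgroup G}
    (hP : IsPGroup p P) {x : MonoidAlgebra R G} (hx : IsClassElt x) (n : ℕ) :
    brTrunc P (x ^ n) = brTrunc P x ^ n := by
  induction n with
  | zero => simpa using brTrunc_one P
  | succ n ih =>
    rw [pow_succ, brTrunc_mul hP (IsClassElt.isInvElt (IsClassElt.pow hx n) P)
      (IsClassElt.isInvElt hx P), ih, pow_succ]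

end Cfsg.Agent.Blocks
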