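/-
The local ring of the algebraic integers at a modular maximal ideal, as a subring of ℂ.
-/
import Cfsg.Prelude.Def_Blocks
import Mathlib.RingTheory.LocalRing.Basic
import Mathlib.RingTheory.LocalRing.ResidueField.Basic
import Mathlib.RingTheory.IntegralClosure.IsIntegralClosure.Basic
import Mathlib.Algebra.CharP.Basic
import Mathlib.Algebra.CharP.Lemmas
import Mathlib.RingTheory.RootsOfUnity.Basic

set_option linter.unusedSectionVars false

namespace Cfsg.Agent.Blocks

open Cfsg

variable {p : ℕ} {M : Ideal AlgInt}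

theorem IsPModular.prime (hM : IsPModular p M) : p.Prime := hM.1

theorem IsPModular.isPrime (hM : IsPModular p M) : M.IsPrime := hM.2.1.isPrime

theorem IsPModular.one_notMem (hM : IsPModular p M) : (1 : AlgInt) ∉ M := fun h =>
  hM.2.1.ne_top (M.eq_top_iff_one.2 h)

theorem IsPModular.natCast_mem_iff (hM : IsPModular p M) (n : ℕ) :
    (n : AlgInt) ∈ M ↔ p ∣ n := by
  refine ⟨fun hn => ?_, ?_⟩
  · by_contra hp
    have hco : Nat.Coprime n p := ((hM.1.coprime_iff_not_dvd).2 hp).symm
    have hb := Nat.gcd_eq_gcd_ab n p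
    rw [hco.gcd_eq_one] at hb
    apply IsPModular.one_notMem hM
    have h2 : (1 : AlgInt) =
        (n : AlgInt) * (Nat.gcdA n p : AlgInt) + (p : AlgInt) * (Nat.gcdB n p : AlgInt) := by
      have := congrArg (fun z : ℤ => (z : AlgInt)) hb
      push_cast at this
      exact this
    rw [h2]
    exact M.add_mem (M.mul_mem_right _ hn) (M.mul_mem_right _ hM.2.2)
  · rintro ⟨c, rfl⟩
    push_cast
    exact M.mul_mem_right _ hM.2.2

theorem coe_ne_zero_of_notMem {b : AlgInt} (hb : b ∉ M) : (b : ℂ) ≠ 0 := fun h =>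
  hb (by
    have : b = 0 := Subtype.ext h
    rw [this]; exact M.zero_mem)

/-- An integral complex number, as an element of `AlgInt`. -/
def toAlgInt (z : ℂ) (hz : IsIntegral ℤ z) : AlgInt := ⟨z, hz⟩

theorem isIntegral_coe (a : AlgInt) : IsIntegral ℤ (a : ℂ) := a.2

/-- The localisation of the algebraic integers at `M`, as a subring of `ℂ`. -/
def locRing (M : Ideal AlgInt) [M.IsPrime] : Subring ℂ where
  carrier := {z | MemLocalRing M z}
  one_mem' := ⟨1, 1, fun h => Ideal.IsPrime.ne_top inferInstance (M.eq_top_iff_one.2 h), by simp⟩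
  zero_mem' := ⟨0, 1, fun h => Ideal.IsPrime.ne_top inferInstance (M.eq_top_iff_one.2 h), by simp⟩
  mul_mem' := by
    rintro _ _ ⟨a, b, hb, rfl⟩ ⟨c, d, hd, rfl⟩
    exact ⟨a * c, b * d, fun h => (Ideal.IsPrime.mem_or_mem inferInstance h).elim hb hd, by
      push_cast; rw [div_mul_div_comm]⟩
  add_mem' := by
    rintro _ _ ⟨a, b, hb, rfl⟩ ⟨c, d, hd, rfl⟩
    refine ⟨a * d + b * c, b * d, fun h => (Ideal.IsPrime.mem_or_mem inferInstance h).elim hb hd, ?_⟩
    have := coe_ne_zero_of_notMem hb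
    have := coe_ne_zero_of_notMem hd
    push_cast; field_simp
  neg_mem' := by
    rintro _ ⟨a, b, hb, rfl⟩
    exact ⟨-a, b, hb, by push_cast; rw [neg_div]⟩

section

variable [M.IsPrime]

theorem one_notMem_of_isPrime : (1 : AlgInt) ∉ M :=
  fun h => Ideal.IsPrime.ne_top inferInstance (M.eq_top_iff_one.2 h)

theorem mem_locRing {z : ℂ} : z ∈ locRing M ↔ MemLocalRing M z := Iff.rfl

theorem memLocalRing_coe (a : AlgInt) : MemLocalRing M (a : ℂ) :=
  ⟨a, 1, one_notMem_of_isPrime, by simp⟩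

theorem mem_locRing_of_isIntegral {z : ℂ} (hz : IsIntegral ℤ z) : z ∈ locRing M :=
  memLocalRing_coe (⟨z, hz⟩ : AlgInt)

theorem MemLocalIdeal.memLocalRing {z : ℂ} (hz : MemLocalIdeal M z) : MemLocalRing M z := by
  obtain ⟨a, b, -, hb, rfl⟩ := hz
  exact ⟨a, b, hb, rfl⟩

theorem memLocalIdeal_zero : MemLocalIdeal M 0 :=
  ⟨0, 1, M.zero_mem, one_notMem_of_isPrime, by simp⟩

theorem MemLocalIdeal.add {x y : ℂ} (hx : MemLocalIdeal M x) (hy : MemLocalIdeal M y) :
    MemLocalIdeal M (x + y) := by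
  obtain ⟨a, b, ha, hb, rfl⟩ := hx
  obtain ⟨c, d, hc, hd, rfl⟩ := hy
  refine ⟨a * d + b * c, b * d, M.add_mem (M.mul_mem_right _ ha) (M.mul_mem_left _ hc),
    fun h => (Ideal.IsPrime.mem_or_mem inferInstance h).elim hb hd, ?_⟩
  have := coe_ne_zero_of_notMem hb
  have := coe_ne_zero_of_notMem hd
  push_cast; field_simp

theorem MemLocalIdeal.neg {x : ℂ} (hx : MemLocalIdeal M x) : MemLocalIdeal M (-x) := by
  obtain ⟨a, b, ha, hb, rfl⟩ := hx
  exact ⟨-a, b, M.neg_mem ha, hb, by push_cast; rw [neg_div]⟩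

theorem MemLocalIdeal.sub {x y : ℂ} (hx : MemLocalIdeal M x) (hy : MemLocalIdeal M y) :
    MemLocalIdeal M (x - y) := by
  rw [sub_eq_add_neg]; exact MemLocalIdeal.add hx (MemLocalIdeal.neg hy)

theorem MemLocalIdeal.mul_left {x y : ℂ} (hx : MemLocalRing M x) (hy : MemLocalIdeal M y) :
    MemLocalIdeal M (x * y) := by
  obtain ⟨a, b, hb, rfl⟩ := hx
  obtain ⟨c, d, hc, hd, rfl⟩ := hy
  exact ⟨a * c, b * d, M.mul_mem_left _ hc,
    fun h => (Ideal.IsPrime.mem_or_mem inferInstance h).elim hb hd, by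
      push_cast; rw [div_mul_div_comm]⟩

theorem MemLocalIdeal.mul_right {x y : ℂ} (hx : MemLocalIdeal M x) (hy : MemLocalRing M y) :
    MemLocalIdeal M (x * y) := by
  rw [mul_comm]; exact MemLocalIdeal.mul_left hy hx

theorem memLocalIdeal_sum {ι : Type*} (s : Finset ι) (f : ι → ℂ)
    (h : ∀ i ∈ s, MemLocalIdeal M (f i)) : MemLocalIdeal M (∑ i ∈ s, f i) :=
  Finset.sum_induction f (MemLocalIdeal M) (fun _ _ => MemLocalIdeal.add) memLocalIdeal_zero h

theorem memLocalRing_sum {ι : Type*} (s : Finset ι) (f : ι → ℂ)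
    (h : ∀ i ∈ s, MemLocalRing M (f i)) : MemLocalRing M (∑ i ∈ s, f i) :=
  (locRing M).sum_mem h

/-- For an algebraic integer, lying in the local ideal is lying in `M`. -/
theorem memLocalIdeal_coe_iff (a : AlgInt) : MemLocalIdeal M (a : ℂ) ↔ a ∈ M := by
  refine ⟨?_, fun h => ⟨a, 1, h, one_notMem_of_isPrime, by simp⟩⟩
  rintro ⟨c, d, hc, hd, h⟩
  have h2 : a * d = c := Subtype.ext (by
    push_cast; rw [← h, div_mul_cancel₀ _ (coe_ne_zero_of_notMem hd)])
  exact (Ideal.IsPrime.mem_or_mem inferInstance (h2 ▸ hc)).resolve_right hd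

theorem not_memLocalIdeal_one : ¬ MemLocalIdeal M (1 : ℂ) := fun h =>
  one_notMem_of_isPrime ((memLocalIdeal_coe_iff (M := M) 1).1 (by simpa using h))

theorem memLocalIdeal_iff_not_unit {z : ℂ} (hz : MemLocalRing M z) :
    MemLocalIdeal M z ↔ ¬ ∃ w, MemLocalRing M w ∧ z * w = 1 := by
  constructor
  · rintro h ⟨w, hw, hzw⟩
    exact not_memLocalIdeal_one (M := M) (hzw ▸ MemLocalIdeal.mul_right h hw)
  · intro h
    obtain ⟨a, b, hb, rfl⟩ := hz
    by_cases ha : a ∈ M
    · exact ⟨a, b, ha, hb, rfl⟩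
    · refine absurd ⟨(b : ℂ) / a, ⟨b, a, ha, rfl⟩, ?_⟩ h
      have := coe_ne_zero_of_notMem hb
      have := coe_ne_zero_of_notMem ha
      field_simp

theorem memLocalRing_inv {z : ℂ} (hz : MemLocalRing M z) (hu : ¬ MemLocalIdeal M z) :
    MemLocalRing M z⁻¹ := by
  obtain ⟨w, hw, hzw⟩ := not_not.1 ((memLocalIdeal_iff_not_unit hz).not.1 hu)
  rwa [inv_eq_of_mul_eq_one_right hzw]

instance locRing_isLocalRing : IsLocalRing (locRing M) := by
  refine IsLocalRing.of_nonunits_add fun x y hx hy => ?_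
  simp only [mem_nonunits_iff] at hx hy ⊢
  have key : ∀ z : locRing M, ¬ IsUnit z ↔ MemLocalIdeal M (z : ℂ) := by
    intro z
    rw [memLocalIdeal_iff_not_unit z.2]
    apply not_congr
    constructor
    · intro h
      obtain ⟨w, hw⟩ := h.exists_right_inv
      exact ⟨w, w.2, by simpa using congrArg Subtype.val hw⟩
    · rintro ⟨w, hw, h⟩
      exact IsUnit.of_mul_eq_one ⟨w, hw⟩ (Subtype.ext h)
  rw [key] at hx hy ⊢
  exact MemLocalIdeal.add hx hy

theorem mem_maximalIdeal_locRing {z : locRing M} :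
    z ∈ IsLocalRing.maximalIdeal (locRing M) ↔ MemLocalIdeal M (z : ℂ) := by
  rw [IsLocalRing.mem_maximalIdeal, mem_nonunits_iff, memLocalIdeal_iff_not_unit z.2]
  apply not_congr
  constructor
  · intro h
    obtain ⟨w, hw⟩ := h.exists_right_inv
    exact ⟨w, w.2, by simpa using congrArg Subtype.val hw⟩
  · rintro ⟨w, hw, h⟩
    exact IsUnit.of_mul_eq_one ⟨w, hw⟩ (Subtype.ext h)

/-- The residue field at `M`. -/
abbrev resField (M : Ideal AlgInt) [M.IsPrime] := IsLocalRing.ResidueField (locRing M)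

/-- Reduction modulo the local ideal. -/
noncomputable def res (M : Ideal AlgInt) [M.IsPrime] : locRing M →+* resField M :=
  IsLocalRing.residue (locRing M)

theorem res_eq_zero_iff {z : locRing M} : res M z = 0 ↔ MemLocalIdeal M (z : ℂ) := by
  rw [res, IsLocalRing.residue_eq_zero_iff, mem_maximalIdeal_locRing]

theorem res_eq_res_iff {x y : locRing M} : res M x = res M y ↔ MemLocalIdeal M ((x : ℂ) - y) := by
  rw [← sub_eq_zero, ← map_sub, res_eq_zero_iff]; rfl

theorem res_surjective : Function.Surjective (res M) := IsLocalRing.residue_surjective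

end

section Modular

theorem natCast_memLocalIdeal_iff (hM : IsPModular p M) (n : ℕ) :
    MemLocalIdeal M (n : ℂ) ↔ p ∣ n := by
  haveI := IsPModular.isPrime hM
  rw [← IsPModular.natCast_mem_iff hM n, ← memLocalIdeal_coe_iff]
  simp

theorem resField_charP [M.IsPrime] (hM : IsPModular p M) : CharP (resField M) p where
  cast_eq_zero_iff n := by
    rw [← map_natCast (res M), res_eq_zero_iff, ← natCast_memLocalIdeal_iff hM n]
    simp

theorem inv_natCast_memLocalRing (hM : IsPModular p M) {n : ℕ} (hn : ¬ p ∣ n) :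
    MemLocalRing M ((n : ℂ)⁻¹) := by
  haveI := IsPModular.isPrime hM
  exact memLocalRing_inv (natCast_mem (locRing M) n) ((natCast_memLocalIdeal_iff hM n).not.2 hn)

/-- A quotient of nonzero naturals is locally integral iff the `p`-exponents allow it. -/
theorem memLocalRing_natDiv (hM : IsPModular p M) {m n : ℕ}
    (h : m.factorization p ≤ n.factorization p) :
    MemLocalRing M ((n : ℂ) / (m : ℂ)) := by
  haveI := IsPModular.isPrime hM
  rcases eq_or_ne m 0 with rfl | hm
  · simpa using (mem_locRing.1 (locRing M).zero_mem)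
  rcases eq_or_ne n 0 with rfl | hn
  · simpa using (mem_locRing.1 (locRing M).zero_mem)
  have e1 : m = p ^ m.factorization p * (m / p ^ m.factorization p) :=
    (Nat.ordProj_mul_ordCompl_eq_self m p).symm
  have e2 : n = p ^ n.factorization p * (n / p ^ n.factorization p) :=
    (Nat.ordProj_mul_ordCompl_eq_self n p).symm
  have hp0 : (p : ℂ) ≠ 0 := Nat.cast_ne_zero.2 hM.1.ne_zero
  have key : (n : ℂ) / m = (p : ℂ) ^ (n.factorization p - m.factorization p) *
      ((n / p ^ n.factorization p : ℕ) : ℂ) * ((m / p ^ m.factorization p : ℕ) : ℂ)⁻¹ := by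
    conv_lhs => rw [e1, e2]
    simp only [Nat.cast_mul, Nat.cast_pow]
    rw [show (p : ℂ) ^ n.factorization p =
      (p : ℂ) ^ (n.factorization p - m.factorization p) * (p : ℂ) ^ m.factorization p by
        rw [← pow_add, Nat.sub_add_cancel h]]
    have : (p : ℂ) ^ m.factorization p ≠ 0 := pow_ne_zero _ hp0
    rw [div_eq_mul_inv, mul_inv]
    field_simp
  rw [key]
  exact (locRing M).mul_mem ((locRing M).mul_mem ((locRing M).pow_mem (natCast_mem (locRing M) p) _)
    (natCast_mem (locRing M) _)) (inv_natCast_memLocalRing hM (Nat.not_dvd_ordCompl hM.1 hm))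

theorem memLocalIdeal_natDiv (hM : IsPModular p M) {m n : ℕ}
    (h : m.factorization p < n.factorization p) :
    MemLocalIdeal M ((n : ℂ) / (m : ℂ)) := by
  haveI := IsPModular.isPrime hM
  have hn : n ≠ 0 := by rintro rfl; simp at h
  have hdvd : p ∣ n := Nat.dvd_of_factorization_pos (by omega)
  obtain ⟨c, rfl⟩ := hdvd
  have hc : c ≠ 0 := right_ne_zero_of_mul hn
  have : m.factorization p ≤ c.factorization p := by
    rw [Nat.factorization_mul hM.1.ne_zero hc] at h
    simp [hM.1.factorization_self] at h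
    omega
  rw [Nat.cast_mul, mul_div_assoc]
  exact MemLocalIdeal.mul_right ((natCast_memLocalIdeal_iff hM p).2 dvd_rfl)
    (memLocalRing_natDiv hM this)

theorem not_memLocalRing_natDiv (hM : IsPModular p M) {m n : ℕ} (hm : m ≠ 0) (hn : n ≠ 0)
    (h : n.factorization p < m.factorization p) :
    ¬ MemLocalRing M ((n : ℂ) / (m : ℂ)) := by
  haveI := IsPModular.isPrime hM
  intro hr
  have := MemLocalIdeal.mul_right (memLocalIdeal_natDiv hM h) hr
  rw [div_mul_div_cancel₀ (Nat.cast_ne_zero.2 hn), div_self (Nat.cast_ne_zero.2 hm)] at this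
  exact not_memLocalIdeal_one this

theorem memLocalRing_natDiv_iff (hM : IsPModular p M) {m n : ℕ} (hm : m ≠ 0) (hn : n ≠ 0) :
    MemLocalRing M ((n : ℂ) / (m : ℂ)) ↔ m.factorization p ≤ n.factorization p :=
  ⟨fun h => not_lt.1 fun hlt => not_memLocalRing_natDiv hM hm hn hlt h, memLocalRing_natDiv hM⟩

theorem not_memLocalIdeal_natDiv (hM : IsPModular p M) {m n : ℕ} (hm : m ≠ 0) (hn : n ≠ 0)
    (h : n.factorization p ≤ m.factorization p) :
    ¬ MemLocalIdeal M ((n : ℂ) / (m : ℂ)) := by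
  haveI := IsPModular.isPrime hM
  intro hr
  have := MemLocalIdeal.mul_right hr (memLocalRing_natDiv hM h)
  rw [div_mul_div_cancel₀ (Nat.cast_ne_zero.2 hm), div_self (Nat.cast_ne_zero.2 hn)] at this
  exact not_memLocalIdeal_one this

/-- Roots of unity of `p`-power order are congruent to `1`. -/
theorem sub_one_mem_of_pow_eq_one (hM : IsPModular p M) {ζ : AlgInt} {k : ℕ}
    (h : ζ ^ p ^ k = 1) : ζ - 1 ∈ M := by
  haveI := IsPModular.isPrime hM
  haveI : CharP (AlgInt ⧸ M) p := ⟨fun n => by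
    rw [← map_natCast (Ideal.Quotient.mk M), Ideal.Quotient.eq_zero_iff_mem,
      IsPModular.natCast_mem_iff hM]⟩
  haveI := Fact.mk hM.1
  haveI : ExpChar (AlgInt ⧸ M) p := ExpChar.prime hM.1
  rw [← Ideal.Quotient.eq_zero_iff_mem, map_sub, map_one]
  refine IsReduced.eq_zero _ ⟨p ^ k, ?_⟩
  rw [sub_pow_char_pow, one_pow, ← map_pow, h, map_one, sub_self]

/-- A complex root of unity of `p`-power order is congruent to `1` modulo the local ideal. -/
theorem memLocalIdeal_sub_one_of_pow_eq_one (hM : IsPModular p M) {z : ℂ} {k : ℕ}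
    (h : z ^ p ^ k = 1) : MemLocalIdeal M (z - 1) := by
  haveI := IsPModular.isPrime hM
  have hz : IsIntegral ℤ z :=
    IsIntegral.of_pow (pow_pos hM.1.pos k) (by rw [h]; exact isIntegral_one)
  have h2 : (⟨z, hz⟩ : AlgInt) ^ p ^ k = 1 := Subtype.ext (by simpa using h)
  have := (memLocalIdeal_coe_iff (M := M) _).2 (sub_one_mem_of_pow_eq_one hM h2)
  simpa using this

/-- Roots of unity of order prime to `p` are distinct modulo `M`. -/
theorem eq_of_sub_mem_of_pow_eq_one (hM : IsPModular p M) {a b : AlgInt} {m : ℕ}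
    (hm : ¬ p ∣ m) (ha : a ^ m = 1) (hb : b ^ m = 1) (h : a - b ∈ M) : a = b := by
  haveI := IsPModular.isPrime hM
  by_contra hne
  have h0 : (∑ i ∈ Finset.range m, a ^ i * b ^ (m - 1 - i)) * (a - b) = 0 := by
    rw [geom_sum₂_mul, ha, hb, sub_self]
  rcases mul_eq_zero.1 h0 with h1 | h1
  · have h2 := congrArg (Ideal.Quotient.mk M) h1
    have hab : Ideal.Quotient.mk M a = Ideal.Quotient.mk M b := (Ideal.Quotient.eq).2 h
    have hm0 : m ≠ 0 := fun h => hm (h ▸ dvd_zero p)
    rw [map_sum, map_zero] at h2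
    simp only [map_mul, map_pow, hab] at h2
    rw [Finset.sum_congr rfl (fun i hi => by
      rw [← pow_add, show i + (m - 1 - i) = m - 1 by
        have := Finset.mem_range.1 hi; omega])] at h2
    rw [Finset.sum_const, Finset.card_range, nsmul_eq_mul, ← map_pow, ← map_natCast (Ideal.Quotient.mk M),
      ← map_mul, Ideal.Quotient.eq_zero_iff_mem] at h2
    rcases Ideal.IsPrime.mem_or_mem inferInstance h2 with h3 | h3
    · exact hm ((IsPModular.natCast_mem_iff hM m).1 h3)
    · apply IsPModular.one_notMem hM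
      rw [← hb, show m = m - 1 + 1 by omega, pow_succ]
      exact M.mul_mem_right _ h3
  · exact hne (sub_eq_zero.1 h1)

end Modular

end Cfsg.Agent.Blocks
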