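/-
Central characters on class elements of the group algebra, block idempotents, Osima's theorem,
defect classes.
-/
import Cfsg.Agent.Lib.Char.Basic
import Cfsg.Agent.Lib.Blocks.LocalRing
import Cfsg.Agent.Lib.Blocks.GroupRing
import Mathlib.RingTheory.IntegralClosure.IsIntegralClosure.Basic
import Mathlib.RingTheory.Finiteness.Basic
import Mathlib.Algebra.Polynomial.AlgebraMap
import Mathlib.GroupTheory.GroupAction.ConjAct

set_option linter.unusedSectionVars false

namespace Cfsg.Agent.Blocks

open Cfsg MonoidAlgebra Cfsg.Agent.Char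
open scoped ComplexConjugate

universe u

variable {G : Type u} [Group G]

/-! ## Values of irreducible characters -/

theorem irr_isCharacter (χ : IrrCharacter G) : IsCharacter G (χ : G → ℂ) :=
  IsIrrCharacter.isCharacter χ.2

theorem irr_conj_invariant (χ : IrrCharacter G) (g h : G) :
    (χ : G → ℂ) (h * g * h⁻¹) = (χ : G → ℂ) g :=
  IsCharacter.isClassFunction (irr_isCharacter χ) g h

theorem irr_isConj (χ : IrrCharacter G) {g h : G} (hgh : IsConj g h) :
    (χ : G → ℂ) h = (χ : G → ℂ) g := by
  obtain ⟨c, rfl⟩ := isConj_iff.1 hgh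
  exact irr_conj_invariant χ g c

theorem irr_inv [Finite G] (χ : IrrCharacter G) (g : G) :
    (χ : G → ℂ) g⁻¹ = conj ((χ : G → ℂ) g) :=
  IsCharacter.inv (irr_isCharacter χ) g

theorem exists_deg (χ : IrrCharacter G) : ∃ n : ℕ, 0 < n ∧ (χ : G → ℂ) 1 = n := by
  obtain ⟨n, ρ, hρ, h⟩ := χ.2
  refine ⟨n, ?_, ?_⟩
  · simpa using finrank_pos_of_irreducible ρ
  · rw [← h, Representation.char_one]; simp

theorem irr_one_eq_charDegree (χ : IrrCharacter G) :
    (χ : G → ℂ) 1 = (charDegree (χ : G → ℂ) : ℂ) := by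
  obtain ⟨n, -, hn⟩ := exists_deg χ
  simp [charDegree, hn]

theorem charDegree_pos (χ : IrrCharacter G) : 0 < charDegree (χ : G → ℂ) := by
  obtain ⟨n, hn, h⟩ := exists_deg χ
  simpa [charDegree, h] using hn

theorem irr_one_ne_zero (χ : IrrCharacter G) : (χ : G → ℂ) 1 ≠ 0 := by
  rw [irr_one_eq_charDegree]
  exact Nat.cast_ne_zero.2 (charDegree_pos χ).ne'

theorem conj_irr_one (χ : IrrCharacter G) : conj ((χ : G → ℂ) 1) = (χ : G → ℂ) 1 := by
  rw [irr_one_eq_charDegree, map_natCast]

theorem irr_isIntegral [Finite G] (χ : IrrCharacter G) (g : G) :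
    IsIntegral ℤ ((χ : G → ℂ) g) := by
  obtain ⟨n, ρ, -, h⟩ := χ.2
  obtain ⟨L, -, h2, h3, -⟩ := exists_eigenvalues ρ g
  have := h3 1
  simp only [pow_one, Multiset.map_id'] at this
  rw [← h, this]
  refine Multiset.sum_induction _ L (fun a b => IsIntegral.add) isIntegral_zero fun z hz => ?_
  exact IsIntegral.of_pow (isOfFinOrder_of_finite g).orderOf_pos (h2 z hz ▸ isIntegral_one)

/-! ## Central characters -/

variable [Fintype G]

/-- The central character of `χ` extended linearly to the group algebra. -/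
noncomputable def omega (χ : IrrCharacter G) (x : MonoidAlgebra ℂ G) : ℂ :=
  (∑ g : G, x.coeff g * (χ : G → ℂ) g) / (χ : G → ℂ) 1

theorem asAlgebraHom_eq_sum {n : ℕ} (ρ : Representation ℂ G (Fin n → ℂ))
    (x : MonoidAlgebra ℂ G) : ρ.asAlgebraHom x = ∑ g : G, x.coeff g • ρ g := by
  conv_lhs => rw [← MonoidAlgebra.sum_coeff_single x]
  rw [Finsupp.sum_fintype _ _ (by simp), map_sum]
  simp

/-- In an irreducible representation a class element acts as its central character. -/
theorem asAlgebraHom_classElt {n : ℕ} (ρ : Representation ℂ G (Fin n → ℂ)) (hρ : ρ.IsIrreducible)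
    {x : MonoidAlgebra ℂ G} (hx : IsClassElt x) :
    ρ.asAlgebraHom x = omega ⟨ρ.character, n, ρ, hρ, rfl⟩ x • LinearMap.id := by
  have hcomm : ∀ g v, ρ.asAlgebraHom x (ρ g v) = ρ g (ρ.asAlgebraHom x v) := fun g v => by
    rw [← ρ.asAlgebraHom_of g, ← Module.End.mul_apply, ← Module.End.mul_apply, ← map_mul,
      ← map_mul, IsClassElt.comm hx]
  obtain ⟨c, hc⟩ := schur_scalar ρ _ hcomm
  have hn : (n : ℂ) ≠ 0 :=
    Nat.cast_ne_zero.2 (by simpa using (finrank_pos_of_irreducible ρ).ne')
  have ht := congrArg (LinearMap.trace ℂ _) hc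
  rw [asAlgebraHom_eq_sum, map_sum] at ht
  simp only [map_smul, smul_eq_mul, LinearMap.trace_id, Module.finrank_pi, Fintype.card_fin] at ht
  rw [hc]
  congr 1
  simp only [omega, Representation.char_one, Module.finrank_pi, Fintype.card_fin]
  rw [eq_div_iff hn, ← ht]
  rfl

theorem exists_rep_scalar (χ : IrrCharacter G) :
    ∃ (n : ℕ) (ρ : Representation ℂ G (Fin n → ℂ)), 0 < n ∧
      ∀ x : MonoidAlgebra ℂ G, IsClassElt x →
        ρ.asAlgebraHom x = algebraMap ℂ (Module.End ℂ (Fin n → ℂ)) (omega χ x) := by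
  obtain ⟨f, hf⟩ := χ
  obtain ⟨n, ρ, hρ, rfl⟩ := hf
  refine ⟨n, ρ, by simpa using finrank_pos_of_irreducible ρ, fun x hx => ?_⟩
  rw [asAlgebraHom_classElt ρ hρ hx, Algebra.algebraMap_eq_smul_one, Module.End.one_eq_id]

theorem algebraMap_end_injective {n : ℕ} (hn : 0 < n) :
    Function.Injective (algebraMap ℂ (Module.End ℂ (Fin n → ℂ))) := by
  haveI : Nonempty (Fin n) := ⟨⟨0, hn⟩⟩
  exact (algebraMap ℂ (Module.End ℂ (Fin n → ℂ))).injective

theorem omega_mul (χ : IrrCharacter G) {x y : MonoidAlgebra ℂ G} (hx : IsClassElt x)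
    (hy : IsClassElt y) : omega χ (x * y) = omega χ x * omega χ y := by
  obtain ⟨n, ρ, hn, h⟩ := exists_rep_scalar χ
  refine algebraMap_end_injective hn ?_
  rw [map_mul, ← h _ (IsClassElt.mul hx hy), ← h _ hx, ← h _ hy, map_mul]

theorem omega_add (χ : IrrCharacter G) (x y : MonoidAlgebra ℂ G) :
    omega χ (x + y) = omega χ x + omega χ y := by
  simp [omega, add_mul, Finset.sum_add_distrib, add_div]

theorem omega_smul (χ : IrrCharacter G) (c : ℂ) (x : MonoidAlgebra ℂ G) :
    omega χ (c • x) = c * omega χ x := by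
  simp [omega, mul_assoc, ← Finset.mul_sum, mul_div_assoc]

theorem omega_zero (χ : IrrCharacter G) : omega χ (0 : MonoidAlgebra ℂ G) = 0 := by simp [omega]

theorem omega_sub (χ : IrrCharacter G) (x y : MonoidAlgebra ℂ G) :
    omega χ (x - y) = omega χ x - omega χ y := by
  simp [omega, sub_mul, Finset.sum_sub_distrib, sub_div]

theorem omega_sum {ι : Type*} (χ : IrrCharacter G) (s : Finset ι)
    (f : ι → MonoidAlgebra ℂ G) : omega χ (∑ i ∈ s, f i) = ∑ i ∈ s, omega χ (f i) :=
  map_sum (AddMonoidHom.mk' (omega χ) (omega_add χ)) f s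

theorem omega_one (χ : IrrCharacter G) : omega χ (1 : MonoidAlgebra ℂ G) = 1 := by
  classical
  simp [omega, MonoidAlgebra.one_def, Finsupp.single_apply, irr_one_ne_zero χ]

theorem omega_pow (χ : IrrCharacter G) {x : MonoidAlgebra ℂ G} (hx : IsClassElt x) (k : ℕ) :
    omega χ (x ^ k) = omega χ x ^ k := by
  induction k with
  | zero => simp [omega_one]
  | succ k ih => rw [pow_succ, omega_mul χ (IsClassElt.pow hx k) hx, ih, pow_succ]

theorem card_isConj_eq_index (g : G) :
    Nat.card {x : G // IsConj g x} = (Subgroup.centralizer ({g} : Set G)).index := by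
  have h1 : {x : G | IsConj g x} = MulAction.orbit (ConjAct G) g := by
    ext x
    rw [ConjAct.mem_orbit_conjAct]
    exact ⟨IsConj.symm, IsConj.symm⟩
  have h2 : (Subgroup.centralizer ({g} : Set G)).index =
      (MulAction.stabilizer (ConjAct G) g).index := by
    rw [Subgroup.centralizer_eq_comap_stabilizer]
    exact Subgroup.index_comap_of_surjective _ ConjAct.toConjAct.surjective
  rw [h2, MulAction.index_stabilizer, ← h1]
  exact Nat.card_coe_set_eq _

theorem omega_classSum (χ : IrrCharacter G) (g : G) :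
    omega χ (classSum ℂ g) = centralChar (χ : G → ℂ) g := by
  classical
  simp only [omega, centralChar, coeff_classSum, ite_mul, one_mul, zero_mul]
  rw [← Finset.sum_filter, Finset.sum_congr rfl (fun x hx => irr_isConj χ (Finset.mem_filter.1 hx).2),
    Finset.sum_const, nsmul_eq_mul, ← card_isConj_eq_index, Nat.card_eq_fintype_card,
    Fintype.card_subtype]

theorem omega_classSum_isIntegral (χ : IrrCharacter G) (g : G) :
    IsIntegral ℤ (omega χ (classSum ℂ g)) := by
  obtain ⟨n, ρ, hn, h⟩ := exists_rep_scalar χ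
  haveI : Module.Finite ℤ (MonoidAlgebra ℤ G) :=
    Module.Finite.equiv ((Finsupp.linearEquivFunOnFinite ℤ ℤ G).symm.trans
      (MonoidAlgebra.coeffLinearEquiv ℤ).symm)
  have h1 : IsIntegral ℤ (classSum ℤ g) := IsIntegral.of_finite ℤ _
  have h2 := h1.map (((ρ.asAlgebraHom : MonoidAlgebra ℂ G →+* Module.End ℂ (Fin n → ℂ)).comp
    (mapRingHom G (Int.castRingHom ℂ))).toIntAlgHom)
  have h3 : IsIntegral ℤ (algebraMap ℂ (Module.End ℂ (Fin n → ℂ)) (omega χ (classSum ℂ g))) := by
    rw [← h _ (isClassElt_classSum g), ← map_classSum (Int.castRingHom ℂ)]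
    exact h2
  exact (isIntegral_algHom_iff ((algebraMap ℂ (Module.End ℂ (Fin n → ℂ))).toIntAlgHom)
    (algebraMap_end_injective hn)).1 h3

theorem centralChar_isIntegral (χ : IrrCharacter G) (g : G) :
    IsIntegral ℤ (centralChar (χ : G → ℂ) g) :=
  omega_classSum χ g ▸ omega_classSum_isIntegral χ g

/-- A class element is determined by its central characters. -/
theorem classElt_eq_zero {x : MonoidAlgebra ℂ G} (hx : IsClassElt x)
    (h : ∀ χ : IrrCharacter G, omega χ x = 0) : x = 0 := by
  classical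
  let T : ∀ (V : Type u) [AddCommGroup V] [Module ℂ V], Representation ℂ G V → Module.End ℂ V :=
    fun V _ _ ρ => ∑ g : G, x.coeff g • ρ g
  have key : ∀ (V : Type u) [AddCommGroup V] [Module ℂ V] [FiniteDimensional ℂ V]
      (ρ : Representation ℂ G V), T V ρ = 0 := by
    intro V _ _ _ ρ
    refine rep_induction (G := G) (P := fun U _ _ _ τ => T U τ = 0) ?_ ?_ ?_ V ρ
    · intro U _ _ _ _ τ
      exact Subsingleton.elim _ _
    · intro U _ _ _ τ _
      have hirr : (coordRep τ).IsIrreducible := isIrreducible_of_equiv (transportEquiv _ _)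
      have h0 := asAlgebraHom_classElt (coordRep τ) hirr hx
      rw [h, zero_smul, asAlgebraHom_eq_sum] at h0
      refine LinearMap.ext fun v => ?_
      apply (Module.finBasis ℂ U).equivFun.injective
      have h1 := LinearMap.congr_fun h0 ((Module.finBasis ℂ U).equivFun v)
      simp only [LinearMap.sum_apply, LinearMap.smul_apply, coordRep, transport_apply,
        LinearEquiv.symm_apply_apply, LinearMap.zero_apply] at h1
      simp only [T, LinearMap.sum_apply, LinearMap.smul_apply, map_sum, map_smul,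
        LinearMap.zero_apply, map_zero]
      exact h1
    · intro U _ _ _ τ a b hab ha hb
      refine eq_zero_of_split hab ?_ ?_
      · intro v hv
        have := congrArg Subtype.val (LinearMap.congr_fun ha ⟨v, hv⟩)
        simpa [T, Subrepresentation.toRepresentation, Submodule.coe_sum] using this
      · intro v hv
        have := congrArg Subtype.val (LinearMap.congr_fun hb ⟨v, hv⟩)
        simpa [T, Subrepresentation.toRepresentation, Submodule.coe_sum] using this
  let ρ : Representation ℂ G (G → ℂ) :=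
    { toFun := fun g => LinearMap.funLeft ℂ ℂ (fun a => g⁻¹ * a)
      map_one' := by ext f a; simp [LinearMap.funLeft]
      map_mul' := fun g g' => by ext f a; simp [LinearMap.funLeft, mul_assoc] }
  refine gaExt fun g => ?_
  have := congrFun (LinearMap.congr_fun (key _ ρ) (Pi.single 1 1)) g
  simp only [T, ρ, LinearMap.sum_apply, LinearMap.smul_apply, Finset.sum_apply, Pi.smul_apply,
    MonoidHom.coe_mk, OneHom.coe_mk, LinearMap.funLeft_apply, Pi.single_apply, smul_eq_mul,
    LinearMap.zero_apply, Pi.zero_apply, inv_mul_eq_one, mul_ite, mul_one, mul_zero] at this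
  rw [Finset.sum_ite_eq' Finset.univ g] at this
  simpa using this

theorem classElt_ext {x y : MonoidAlgebra ℂ G} (hx : IsClassElt x) (hy : IsClassElt y)
    (h : ∀ χ : IrrCharacter G, omega χ x = omega χ y) : x = y :=
  sub_eq_zero.1 (classElt_eq_zero (IsClassElt.sub hx hy) fun χ => by rw [omega_sub, h, sub_self])

/-! ## Block idempotents -/

/-- The sum of the central idempotents of the members of `B`. -/
noncomputable def blockElt (B : Set (IrrCharacter G)) : MonoidAlgebra ℂ G := gaOfFun (blockCoeff B)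

theorem coeff_blockElt (B : Set (IrrCharacter G)) (g : G) :
    (blockElt B).coeff g = blockCoeff B g := rfl

theorem blockCoeff_eq_sum (B : Set (IrrCharacter G)) [DecidablePred (· ∈ B)] (g : G) :
    blockCoeff B g = (Nat.card G : ℂ)⁻¹ *
      ∑ χ ∈ Finset.univ.filter (· ∈ B), (χ : G → ℂ) 1 * conj ((χ : G → ℂ) g) := by
  rw [blockCoeff, finsum_mem_eq_finite_toFinset_sum _ (Set.toFinite B)]
  congr 2
  ext χ
  simp

theorem isClassElt_blockElt (B : Set (IrrCharacter G)) : IsClassElt (blockElt B) := fun g h => by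
  classical
  simp only [coeff_blockElt, blockCoeff_eq_sum, irr_conj_invariant]

theorem omega_blockElt (B : Set (IrrCharacter G)) [DecidablePred (· ∈ B)] (ψ : IrrCharacter G) :
    omega ψ (blockElt B) = if ψ ∈ B then 1 else 0 := by
  classical
  have horth : ∀ χ : IrrCharacter G, (Nat.card G : ℂ)⁻¹ *
      ∑ g : G, conj ((χ : G → ℂ) g) * (ψ : G → ℂ) g = if ψ = χ then 1 else 0 := fun χ => by
    have := classInner_irr ψ.2 χ.2
    simp only [Cfsg.classInner, Subtype.coe_inj] at this
    rw [← this]
    simp only [mul_comm]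
  simp only [omega, coeff_blockElt, blockCoeff_eq_sum, Finset.mul_sum, Finset.sum_mul]
  rw [Finset.sum_comm]
  have h2 : ∀ χ : IrrCharacter G,
      (∑ g : G, (Nat.card G : ℂ)⁻¹ * ((χ : G → ℂ) 1 * conj ((χ : G → ℂ) g)) * (ψ : G → ℂ) g) =
        (χ : G → ℂ) 1 * ((Nat.card G : ℂ)⁻¹ *
          ∑ g : G, conj ((χ : G → ℂ) g) * (ψ : G → ℂ) g) := fun χ => by
    simp only [Finset.mul_sum]
    exact Finset.sum_congr rfl fun g _ => by ring
  simp only [h2, horth, mul_ite, mul_one, mul_zero]
  rw [Finset.sum_ite_eq]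
  simp only [Finset.mem_filter, Finset.mem_univ, true_and]
  split_ifs <;> simp [irr_one_ne_zero]

theorem blockElt_idem (B : Set (IrrCharacter G)) : blockElt B * blockElt B = blockElt B := by
  classical
  refine classElt_ext (IsClassElt.mul (isClassElt_blockElt B) (isClassElt_blockElt B))
    (isClassElt_blockElt B) fun χ => ?_
  rw [omega_mul χ (isClassElt_blockElt B) (isClassElt_blockElt B), omega_blockElt]
  split_ifs <;> simp

theorem blockElt_univ : blockElt (Set.univ : Set (IrrCharacter G)) = 1 := by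
  classical
  refine classElt_ext (isClassElt_blockElt _) IsClassElt.one fun χ => ?_
  rw [omega_blockElt, omega_one, if_pos (Set.mem_univ χ)]

theorem blockElt_mul_of_disjoint {A B : Set (IrrCharacter G)} (h : Disjoint A B) :
    blockElt A * blockElt B = 0 := by
  classical
  refine classElt_ext (IsClassElt.mul (isClassElt_blockElt A) (isClassElt_blockElt B))
    IsClassElt.zero fun χ => ?_
  rw [omega_mul χ (isClassElt_blockElt A) (isClassElt_blockElt B), omega_blockElt, omega_blockElt,
    omega_zero]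
  by_cases h1 : χ ∈ A
  · simp [Set.disjoint_left.1 h h1]
  · simp [h1]

/-- A class element is the combination of primitive idempotents weighted by central characters. -/
theorem classElt_eq_sum {x : MonoidAlgebra ℂ G} (hx : IsClassElt x) :
    x = ∑ χ : IrrCharacter G, omega χ x • blockElt {χ} := by
  classical
  refine classElt_ext hx (IsClassElt.sum _ _ fun χ _ => IsClassElt.smul (isClassElt_blockElt _) _)
    fun ψ => ?_
  rw [omega_sum, Finset.sum_eq_single ψ]
  · rw [omega_smul, omega_blockElt, if_pos (Set.mem_singleton ψ), mul_one]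
  · intro b _ hb
    rw [omega_smul, omega_blockElt, if_neg (fun h => hb (Set.mem_singleton_iff.1 h).symm), mul_zero]
  · simp

/-- Column orthogonality at the identity. -/
theorem sum_irr_one_mul (g : G) [Decidable (g = 1)] :
    ∑ χ : IrrCharacter G, (χ : G → ℂ) 1 * conj ((χ : G → ℂ) g) =
      if g = 1 then (Nat.card G : ℂ) else 0 := by
  classical
  have h := congrArg (fun x : MonoidAlgebra ℂ G => x.coeff g) (blockElt_univ (G := G))
  simp only [coeff_blockElt, blockCoeff_eq_sum, Set.mem_univ, Finset.filter_true,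
    MonoidAlgebra.one_def, MonoidAlgebra.coeff_single, Finsupp.single_apply] at h
  have hG : (Nat.card G : ℂ) ≠ 0 := Nat.cast_ne_zero.2 Nat.card_pos.ne'
  rw [← mul_inv_cancel_left₀ hG (∑ χ : IrrCharacter G, _), h]
  by_cases h' : g = 1
  · subst h'; simp
  · simp [h', Ne.symm h']

end Cfsg.Agent.Blocks
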