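/-
Blocks as classes of congruent central characters: Osima's theorem, block idempotents over the
local ring and over the residue field, defect classes.
-/
import Cfsg.Agent.Lib.Blocks.Center

set_option linter.unusedSectionVars false

namespace Cfsg.Agent.Blocks

open Cfsg MonoidAlgebra

universe u

variable {G : Type u} [Group G] {M : Ideal AlgInt} [M.IsPrime]

/-! ## Basic facts about blocks -/

theorem sameBlock_refl (χ : G → ℂ) : SameBlock M χ χ := fun g => by
  rw [sub_self]; exact memLocalIdeal_zero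

theorem sameBlock_symm {χ ψ : G → ℂ} (h : SameBlock M χ ψ) : SameBlock M ψ χ := fun g => by
  simpa using MemLocalIdeal.neg (h g)

theorem sameBlock_trans {χ ψ φ : G → ℂ} (h : SameBlock M χ ψ) (h' : SameBlock M ψ φ) :
    SameBlock M χ φ := fun g => by
  simpa using MemLocalIdeal.add (h g) (h' g)

theorem sameBlock_congr_left {χ ψ φ : G → ℂ} (h : SameBlock M χ ψ) :
    SameBlock M χ φ ↔ SameBlock M ψ φ :=
  ⟨sameBlock_trans (sameBlock_symm h), sameBlock_trans h⟩

theorem mem_blockOf {χ : G → ℂ} {ψ : IrrCharacter G} :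
    ψ ∈ blockOf M χ ↔ SameBlock M χ (ψ : G → ℂ) := Iff.rfl

theorem self_mem_blockOf (χ : IrrCharacter G) : χ ∈ blockOf M (χ : G → ℂ) := sameBlock_refl _

theorem isPBlock_blockOf (χ : IrrCharacter G) : IsPBlock M (blockOf M (χ : G → ℂ)) := ⟨χ, rfl⟩

theorem isPBlock_eq_blockOf {B : Set (IrrCharacter G)} (hB : IsPBlock M B) {χ : IrrCharacter G}
    (hχ : χ ∈ B) : B = blockOf M (χ : G → ℂ) := by
  obtain ⟨ψ, rfl⟩ := hB
  ext φ
  exact sameBlock_congr_left hχ

theorem isPBlock_nonempty {B : Set (IrrCharacter G)} (hB : IsPBlock M B) : B.Nonempty := by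
  obtain ⟨ψ, rfl⟩ := hB
  exact ⟨ψ, self_mem_blockOf ψ⟩

theorem isPBlock_sameBlock {B : Set (IrrCharacter G)} (hB : IsPBlock M B) {χ ψ : IrrCharacter G}
    (hχ : χ ∈ B) (hψ : ψ ∈ B) : SameBlock M (χ : G → ℂ) (ψ : G → ℂ) := by
  rw [isPBlock_eq_blockOf hB hχ] at hψ
  exact hψ

theorem isPBlock_mem_of_sameBlock {B : Set (IrrCharacter G)} (hB : IsPBlock M B)
    {χ ψ : IrrCharacter G} (hχ : χ ∈ B) (h : SameBlock M (χ : G → ℂ) (ψ : G → ℂ)) : ψ ∈ B := by
  rw [isPBlock_eq_blockOf hB hχ]
  exact h

theorem isPBlock_eq_of_mem {B B' : Set (IrrCharacter G)} (hB : IsPBlock M B)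
    (hB' : IsPBlock M B') {χ : IrrCharacter G} (h : χ ∈ B) (h' : χ ∈ B') : B = B' := by
  rw [isPBlock_eq_blockOf hB h, isPBlock_eq_blockOf hB' h']

theorem isPBlock_disjoint {B B' : Set (IrrCharacter G)} (hB : IsPBlock M B)
    (hB' : IsPBlock M B') (hne : B ≠ B') : Disjoint B B' :=
  Set.disjoint_left.2 fun _ h h' => hne (isPBlock_eq_of_mem hB hB' h h')

theorem principal_mem_principalBlock [Finite G] :
    Cfsg.Agent.Char.principal G ∈ principalBlock M G :=
  sameBlock_refl _

theorem isPBlock_principalBlock (M : Ideal AlgInt) [M.IsPrime] (G : Type u) [Group G] :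
    IsPBlock M (principalBlock M G) :=
  ⟨Cfsg.Agent.Char.principal G, rfl⟩

/-! ## The group algebra over the local ring -/

variable [Fintype G]

/-- The inclusion of the group algebra over the local ring into the complex group algebra. -/
noncomputable def toC : MonoidAlgebra (locRing M) G →+* MonoidAlgebra ℂ G :=
  mapRingHom G (locRing M).subtype

@[simp] theorem coeff_toC (x : MonoidAlgebra (locRing M) G) (g : G) :
    (toC x).coeff g = (x.coeff g : ℂ) := by
  simp [toC]

theorem toC_injective : Function.Injective (toC (M := M) (G := G)) := fun x y h =>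
  gaExt fun g => Subtype.ext (by
    simpa using congrArg (fun z : MonoidAlgebra ℂ G => z.coeff g) h)

theorem toC_classSum (g : G) : toC (classSum (locRing M) g) = classSum ℂ g := map_classSum _ g

theorem IsClassElt.toC {x : MonoidAlgebra (locRing M) G} (hx : IsClassElt x) :
    IsClassElt (Cfsg.Agent.Blocks.toC x) := IsClassElt.map hx _

theorem toC_smul (c : locRing M) (x : MonoidAlgebra (locRing M) G) :
    toC (c • x) = (c : ℂ) • toC x :=
  gaExt fun g => by simp

/-- Reduction of group algebra elements modulo the local ideal. -/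
noncomputable def resG : MonoidAlgebra (locRing M) G →+* MonoidAlgebra (resField M) G :=
  mapRingHom G (res M)

@[simp] theorem coeff_resG (x : MonoidAlgebra (locRing M) G) (g : G) :
    (resG x).coeff g = res M (x.coeff g) := by
  simp [resG]

theorem resG_classSum (g : G) : resG (classSum (locRing M) g) = classSum (resField M) g :=
  map_classSum _ g

theorem resG_smul (c : locRing M) (x : MonoidAlgebra (locRing M) G) :
    resG (c • x) = res M c • resG x :=
  gaExt fun g => by simp

/-- A class element is a combination of class sums. -/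
theorem classElt_eq_sum_classSum {R : Type*} [CommRing R] [Fintype (ConjClasses G)]
    {x : MonoidAlgebra R G} (hx : IsClassElt x) :
    x = ∑ C : ConjClasses G, x.coeff C.out • classSum R C.out := by
  classical
  refine gaExt fun g => ?_
  rw [MonoidAlgebra.coeff_sum, Finset.sum_apply']
  rw [Finset.sum_eq_single (ConjClasses.mk g)]
  · have h : IsConj (ConjClasses.mk g).out g :=
      ConjClasses.mk_eq_mk_iff_isConj.1 (Quotient.out_eq _)
    rw [MonoidAlgebra.coeff_smul, Finsupp.smul_apply, coeff_classSum, if_pos h, smul_eq_mul,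
      mul_one]
    obtain ⟨c, hc⟩ := isConj_iff.1 h
    conv_lhs => rw [← hc, hx]
  · intro C _ hC
    rw [MonoidAlgebra.coeff_smul, Finsupp.smul_apply, coeff_classSum, if_neg, smul_eq_mul,
      mul_zero]
    exact fun h => hC (by rw [← Quotient.out_eq C]; exact ConjClasses.mk_eq_mk_iff_isConj.2 h)
  · simp

/-- The central character on class elements over the local ring. -/
noncomputable def omegaR (χ : IrrCharacter G) (x : MonoidAlgebra (locRing M) G) : ℂ :=
  omega χ (toC x)

theorem omegaR_classSum (χ : IrrCharacter G) (g : G) :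
    omegaR χ (classSum (locRing M) g) = centralChar (χ : G → ℂ) g := by
  rw [omegaR, toC_classSum, omega_classSum]

theorem centralChar_memLocalRing (χ : IrrCharacter G) (g : G) :
    MemLocalRing M (centralChar (χ : G → ℂ) g) :=
  mem_locRing_of_isIntegral (centralChar_isIntegral χ g)

theorem omegaR_eq_sum [Fintype (ConjClasses G)] (χ : IrrCharacter G)
    {x : MonoidAlgebra (locRing M) G} (hx : IsClassElt x) :
    omegaR χ x = ∑ C : ConjClasses G, (x.coeff C.out : ℂ) * centralChar (χ : G → ℂ) C.out := by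
  conv_lhs => rw [classElt_eq_sum_classSum hx]
  rw [omegaR, map_sum, omega_sum]
  refine Finset.sum_congr rfl fun C _ => ?_
  rw [toC_smul, omega_smul, toC_classSum, omega_classSum]

theorem omegaR_memLocalRing (χ : IrrCharacter G) {x : MonoidAlgebra (locRing M) G}
    (hx : IsClassElt x) : MemLocalRing M (omegaR χ x) := by
  classical
  haveI : Finite (ConjClasses G) := Finite.of_surjective _ ConjClasses.mk_surjective
  haveI : Fintype (ConjClasses G) := Fintype.ofFinite _
  rw [omegaR_eq_sum χ hx]
  exact memLocalRing_sum _ _ fun C _ => (locRing M).mul_mem (x.coeff C.out).2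
    (centralChar_memLocalRing χ C.out)

theorem omegaR_congr {χ ψ : IrrCharacter G} (h : SameBlock M (χ : G → ℂ) (ψ : G → ℂ))
    {x : MonoidAlgebra (locRing M) G} (hx : IsClassElt x) :
    MemLocalIdeal M (omegaR χ x - omegaR ψ x) := by
  classical
  haveI : Finite (ConjClasses G) := Finite.of_surjective _ ConjClasses.mk_surjective
  haveI : Fintype (ConjClasses G) := Fintype.ofFinite _
  rw [omegaR_eq_sum χ hx, omegaR_eq_sum ψ hx, ← Finset.sum_sub_distrib]
  refine memLocalIdeal_sum _ _ fun C _ => ?_
  rw [← mul_sub]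
  exact MemLocalIdeal.mul_left (x.coeff C.out).2 (h C.out)

theorem omegaR_add (χ : IrrCharacter G) (x y : MonoidAlgebra (locRing M) G) :
    omegaR χ (x + y) = omegaR χ x + omegaR χ y := by rw [omegaR, map_add, omega_add]; rfl

theorem omegaR_sub (χ : IrrCharacter G) (x y : MonoidAlgebra (locRing M) G) :
    omegaR χ (x - y) = omegaR χ x - omegaR χ y := by rw [omegaR, map_sub, omega_sub]; rfl

theorem omegaR_mul (χ : IrrCharacter G) {x y : MonoidAlgebra (locRing M) G} (hx : IsClassElt x)
    (hy : IsClassElt y) : omegaR χ (x * y) = omegaR χ x * omegaR χ y := by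
  rw [omegaR, map_mul, omega_mul χ (IsClassElt.toC hx) (IsClassElt.toC hy)]; rfl

theorem omegaR_one (χ : IrrCharacter G) : omegaR χ (1 : MonoidAlgebra (locRing M) G) = 1 := by
  rw [omegaR, map_one, omega_one]

theorem omegaR_smul (χ : IrrCharacter G) (c : locRing M) (x : MonoidAlgebra (locRing M) G) :
    omegaR χ (c • x) = (c : ℂ) * omegaR χ x := by
  rw [omegaR, toC_smul, omega_smul]; rfl

theorem classEltR_eq_zero {x : MonoidAlgebra (locRing M) G} (hx : IsClassElt x)
    (h : ∀ χ : IrrCharacter G, omegaR χ x = 0) : x = 0 :=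
  toC_injective (by rw [map_zero]; exact classElt_eq_zero (IsClassElt.toC hx) h)

/-! ## Osima's theorem -/

theorem exists_separating (B : Set (IrrCharacter G)) (hB : IsPBlock M B)
    (s : Finset (IrrCharacter G)) (hs : ∀ χ ∈ s, χ ∉ B) :
    ∃ z : MonoidAlgebra (locRing M) G, IsClassElt z ∧ (∀ χ ∈ s, omegaR χ z = 0) ∧
      ∀ ψ ∈ B, ¬ MemLocalIdeal M (omegaR ψ z) := by
  classical
  induction s using Finset.induction with
  | empty => exact ⟨1, IsClassElt.one, by simp, fun ψ _ => by
      rw [omegaR_one]; exact not_memLocalIdeal_one⟩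
  | insert χ s hχs ih =>
    obtain ⟨z, hz, hz0, hzB⟩ := ih fun φ hφ => hs φ (Finset.mem_insert_of_mem hφ)
    obtain ⟨ψ₀, hψ₀⟩ := isPBlock_nonempty hB
    have hne : ¬ SameBlock M (χ : G → ℂ) (ψ₀ : G → ℂ) := fun h =>
      hs χ (Finset.mem_insert_self _ _) (isPBlock_mem_of_sameBlock hB hψ₀ (sameBlock_symm h))
    obtain ⟨g, hg⟩ := not_forall.1 hne
    let c : locRing M := ⟨centralChar (χ : G → ℂ) g, centralChar_memLocalRing χ g⟩
    let w := classSum (locRing M) g - c • (1 : MonoidAlgebra (locRing M) G)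
    have hw : IsClassElt w :=
      IsClassElt.sub (isClassElt_classSum g) (IsClassElt.smul IsClassElt.one c)
    have hwo : ∀ φ : IrrCharacter G,
        omegaR φ w = centralChar (φ : G → ℂ) g - centralChar (χ : G → ℂ) g := fun φ => by
      simp only [w, c, omegaR_sub, omegaR_smul, omegaR_classSum, omegaR_one, mul_one]
    refine ⟨z * w, IsClassElt.mul hz hw, fun φ hφ => ?_, fun ψ hψ h => ?_⟩
    · rw [omegaR_mul φ hz hw]
      rcases Finset.mem_insert.1 hφ with rfl | hφ
      · rw [hwo, sub_self, mul_zero]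
      · rw [hz0 φ hφ, zero_mul]
    · rw [omegaR_mul ψ hz hw, hwo] at h
      have hu : MemLocalRing M (omegaR ψ z)⁻¹ :=
        memLocalRing_inv (omegaR_memLocalRing ψ hz) (hzB ψ hψ)
      have h0 : omegaR ψ z ≠ 0 := fun h0 => hzB ψ hψ (h0 ▸ memLocalIdeal_zero)
      have h1 := MemLocalIdeal.mul_left hu h
      rw [inv_mul_cancel_left₀ h0] at h1
      refine hg ?_
      have := MemLocalIdeal.sub (isPBlock_sameBlock hB hψ hψ₀ g) h1
      simpa using this

/-- Osima: the block idempotent has coefficients in the local ring. -/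
theorem exists_blockEltR (B : Set (IrrCharacter G)) (hB : IsPBlock M B) :
    ∃ e : MonoidAlgebra (locRing M) G, IsClassElt e ∧ toC e = blockElt B := by
  classical
  obtain ⟨z, hz, hz0, hzB⟩ := exists_separating B hB (Finset.univ.filter fun χ => χ ∉ B)
    (fun χ hχ => (Finset.mem_filter.1 hχ).2)
  have key : ∀ t : Finset (IrrCharacter G), ∃ w : MonoidAlgebra (locRing M) G, IsClassElt w ∧
      (∀ ψ ∈ t, omegaR ψ w = 0) ∧
      ∀ χ, χ ∉ B → omegaR χ w = ∏ ψ ∈ t, - omegaR ψ z := by
    intro t
    induction t using Finset.induction with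
    | empty => exact ⟨1, IsClassElt.one, by simp, fun χ _ => by simp [omegaR_one]⟩
    | insert ψ t hψt ih =>
      obtain ⟨w, hw, hw0, hwχ⟩ := ih
      let c : locRing M := ⟨omegaR ψ z, omegaR_memLocalRing ψ hz⟩
      have hv : IsClassElt (z - c • (1 : MonoidAlgebra (locRing M) G)) :=
        IsClassElt.sub hz (IsClassElt.smul IsClassElt.one c)
      refine ⟨w * (z - c • 1), IsClassElt.mul hw hv, fun φ hφ => ?_, fun χ hχ => ?_⟩
      · rw [omegaR_mul φ hw hv]
        rcases Finset.mem_insert.1 hφ with rfl | hφ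
        · simp [c, omegaR_sub, omegaR_smul, omegaR_one]
        · rw [hw0 φ hφ, zero_mul]
      · rw [omegaR_mul χ hw hv, hwχ χ hχ, Finset.prod_insert hψt, omegaR_sub, omegaR_smul,
          omegaR_one, hz0 χ (Finset.mem_filter.2 ⟨Finset.mem_univ _, hχ⟩)]
        simp only [c, zero_sub, mul_one]
        ring
  obtain ⟨w, hw, hw0, hwχ⟩ := key (Finset.univ.filter fun χ => χ ∈ B)
  set d : ℂ := ∏ ψ ∈ Finset.univ.filter (fun χ => χ ∈ B), - omegaR ψ z with hd
  have hd0 : d ≠ 0 := Finset.prod_ne_zero_iff.2 fun ψ hψ h =>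
    hzB ψ (Finset.mem_filter.1 hψ).2 (by rw [neg_eq_zero] at h; rw [h]; exact memLocalIdeal_zero)
  have hdi : d⁻¹ ∈ locRing M := by
    rw [hd, ← Finset.prod_inv_distrib]
    refine (locRing M).prod_mem fun ψ hψ => ?_
    rw [inv_neg]
    exact (locRing M).neg_mem
      (memLocalRing_inv (omegaR_memLocalRing ψ hz) (hzB ψ (Finset.mem_filter.1 hψ).2))
  let e := (1 : MonoidAlgebra (locRing M) G) - (⟨d⁻¹, hdi⟩ : locRing M) • w
  have he : IsClassElt e := IsClassElt.sub IsClassElt.one (IsClassElt.smul hw _)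
  refine ⟨e, he, classElt_ext (IsClassElt.toC he) (isClassElt_blockElt B) fun χ => ?_⟩
  rw [show omega χ (toC e) = omegaR χ e from rfl, omega_blockElt]
  simp only [e, omegaR_sub, omegaR_smul, omegaR_one]
  by_cases hχ : χ ∈ B
  · rw [hw0 χ (Finset.mem_filter.2 ⟨Finset.mem_univ _, hχ⟩), mul_zero, sub_zero, if_pos hχ]
  · rw [hwχ χ hχ, inv_mul_cancel₀ hd0, sub_self, if_neg hχ]

theorem blockCoeff_memLocalRing {B : Set (IrrCharacter G)} (hB : IsPBlock M B) (g : G) :
    MemLocalRing M (blockCoeff B g) := by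
  obtain ⟨e, -, he⟩ := exists_blockEltR B hB
  rw [← coeff_blockElt, ← he, coeff_toC]
  exact (e.coeff g).2

/-- The element of the group algebra over the local ring with coefficients `blockCoeff B`
(zero where these are not locally integral). -/
noncomputable def blockEltR (M : Ideal AlgInt) [M.IsPrime] (B : Set (IrrCharacter G)) :
    MonoidAlgebra (locRing M) G :=
  gaOfFun fun g => by
    classical exact if h : MemLocalRing M (blockCoeff B g) then ⟨blockCoeff B g, h⟩ else 0

theorem toC_blockEltR_of_mem {B : Set (IrrCharacter G)}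
    (h : ∀ g, MemLocalRing M (blockCoeff B g)) : toC (blockEltR M B) = blockElt B := by
  classical
  refine gaExt fun g => ?_
  simp [blockEltR, coeff_blockElt, h g]

theorem toC_blockEltR {B : Set (IrrCharacter G)} (hB : IsPBlock M B) :
    toC (blockEltR M B) = blockElt B :=
  toC_blockEltR_of_mem (blockCoeff_memLocalRing hB)

theorem coeff_blockEltR {B : Set (IrrCharacter G)} (hB : IsPBlock M B) (g : G) :
    ((blockEltR M B).coeff g : ℂ) = blockCoeff B g := by
  rw [← coeff_toC, toC_blockEltR hB, coeff_blockElt]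

theorem isClassElt_blockEltR (B : Set (IrrCharacter G)) : IsClassElt (blockEltR M B) := by
  classical
  intro g h
  have := isClassElt_blockElt B g h
  simp only [coeff_blockElt] at this
  simp only [blockEltR, coeff_gaOfFun, this]

theorem omegaR_blockEltR {B : Set (IrrCharacter G)} (hB : IsPBlock M B) (ψ : IrrCharacter G)
    [DecidablePred (· ∈ B)] : omegaR ψ (blockEltR M B) = if ψ ∈ B then 1 else 0 := by
  rw [omegaR, toC_blockEltR hB, omega_blockElt]

theorem blockEltR_idem {B : Set (IrrCharacter G)} (hB : IsPBlock M B) :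
    blockEltR M B * blockEltR M B = blockEltR M B :=
  toC_injective (by rw [map_mul, toC_blockEltR hB, blockElt_idem])

theorem blockEltR_mul_of_ne {B B' : Set (IrrCharacter G)} (hB : IsPBlock M B)
    (hB' : IsPBlock M B') (hne : B ≠ B') : blockEltR M B * blockEltR M B' = 0 :=
  toC_injective (by
    rw [map_mul, toC_blockEltR hB, toC_blockEltR hB', map_zero,
      blockElt_mul_of_disjoint (isPBlock_disjoint hB hB' hne)])

/-- The set of blocks, as a finset. -/
noncomputable def blocks (M : Ideal AlgInt) [M.IsPrime] (G : Type u) [Group G] [Fintype G] :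
    Finset (Set (IrrCharacter G)) := by
  classical exact Finset.univ.image fun χ : IrrCharacter G => blockOf M (χ : G → ℂ)

theorem mem_blocks {B : Set (IrrCharacter G)} : B ∈ blocks M G ↔ IsPBlock M B := by
  classical
  simp [blocks, IsPBlock, eq_comm]

theorem sum_blockEltR : ∑ B ∈ blocks M G, blockEltR M B = 1 := by
  classical
  refine sub_eq_zero.1 (classEltR_eq_zero (IsClassElt.sub
    (IsClassElt.sum _ _ fun B _ => isClassElt_blockEltR B) IsClassElt.one) fun χ => ?_)
  rw [omegaR_sub, omegaR_one, omegaR, map_sum, omega_sum, sub_eq_zero]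
  rw [Finset.sum_eq_single (blockOf M (χ : G → ℂ))]
  · rw [toC_blockEltR (isPBlock_blockOf χ), omega_blockElt, if_pos (self_mem_blockOf χ)]
  · intro B hB hne
    rw [toC_blockEltR (mem_blocks.1 hB), omega_blockElt, if_neg]
    exact fun h => hne (isPBlock_eq_blockOf (mem_blocks.1 hB) h)
  · exact fun h => absurd (mem_blocks.2 (isPBlock_blockOf χ)) h

theorem blockOf_subset_of_coeff {A : Set (IrrCharacter G)}
    (hA : ∀ g, MemLocalRing M (blockCoeff A g)) {χ : IrrCharacter G} (hχ : χ ∈ A) :
    blockOf M (χ : G → ℂ) ⊆ A := by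
  classical
  intro ψ hψ
  by_contra h
  have := omegaR_congr (show SameBlock M (χ : G → ℂ) (ψ : G → ℂ) from hψ)
    (isClassElt_blockEltR A)
  simp only [omegaR, toC_blockEltR_of_mem hA, omega_blockElt, if_pos hχ, if_neg h, sub_zero]
    at this
  exact not_memLocalIdeal_one this

/-! ## Nilpotency modulo the local ideal -/

theorem isNilpotent_resG {x : MonoidAlgebra (locRing M) G} (hx : IsClassElt x)
    (h : ∀ χ : IrrCharacter G, MemLocalIdeal M (omegaR χ x)) : IsNilpotent (resG x) := by
  classical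
  have key : ∀ s : Finset (IrrCharacter G), ∃ w : MonoidAlgebra (locRing M) G, IsClassElt w ∧
      (∀ χ ∈ s, omegaR χ w = 0) ∧ resG w = resG x ^ s.card := by
    intro s
    induction s using Finset.induction with
    | empty => exact ⟨1, IsClassElt.one, by simp, by simp⟩
    | insert ψ s hψs ih =>
      obtain ⟨w, hw, hw0, hwr⟩ := ih
      let c : locRing M := ⟨omegaR ψ x, omegaR_memLocalRing ψ hx⟩
      have hv : IsClassElt (x - c • (1 : MonoidAlgebra (locRing M) G)) :=
        IsClassElt.sub hx (IsClassElt.smul IsClassElt.one c)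
      refine ⟨w * (x - c • 1), IsClassElt.mul hw hv, fun φ hφ => ?_, ?_⟩
      · rw [omegaR_mul φ hw hv]
        rcases Finset.mem_insert.1 hφ with rfl | hφ
        · simp [c, omegaR_sub, omegaR_smul, omegaR_one]
        · rw [hw0 φ hφ, zero_mul]
      · rw [map_mul, map_sub, resG_smul, res_eq_zero_iff.2 (by exact h ψ), zero_smul, sub_zero,
          hwr, Finset.card_insert_of_notMem hψs, pow_succ]
  obtain ⟨w, hw, hw0, hwr⟩ := key Finset.univ
  exact ⟨_, by rw [← hwr, classEltR_eq_zero hw fun χ => hw0 χ (Finset.mem_univ χ), map_zero]⟩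

/-! ## Defect classes -/

theorem exists_defectClass {B : Set (IrrCharacter G)} (hB : IsPBlock M B) :
    ∃ g : G, IsDefectClass M B g := by
  classical
  haveI : Finite (ConjClasses G) := Finite.of_surjective _ ConjClasses.mk_surjective
  haveI : Fintype (ConjClasses G) := Fintype.ofFinite _
  obtain ⟨χ, hχ⟩ := isPBlock_nonempty hB
  have h1 := omegaR_blockEltR hB χ
  rw [if_pos hχ, omegaR_eq_sum χ (isClassElt_blockEltR B)] at h1
  by_contra hc
  push Not at hc
  refine not_memLocalIdeal_one (M := M) ?_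
  rw [← h1]
  refine memLocalIdeal_sum _ _ fun C _ => ?_
  rw [coeff_blockEltR hB]
  by_cases ha : MemLocalIdeal M (blockCoeff B C.out)
  · exact MemLocalIdeal.mul_right ha (centralChar_memLocalRing χ C.out)
  · by_cases hb : MemLocalIdeal M (centralChar (χ : G → ℂ) C.out)
    · exact MemLocalIdeal.mul_left (blockCoeff_memLocalRing hB _) hb
    · refine absurd ⟨blockCoeff_memLocalRing hB _, ha, fun ψ hψ h => hb ?_⟩ (hc C.out)
      simpa using MemLocalIdeal.add (isPBlock_sameBlock hB hχ hψ C.out) h

theorem centralChar_not_mem_of_isDefectClass {B : Set (IrrCharacter G)} {g : G}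
    (hg : IsDefectClass M B g) {χ : IrrCharacter G} (hχ : χ ∈ B) :
    ¬ MemLocalIdeal M (centralChar (χ : G → ℂ) g) := hg.2.2 χ hχ

end Cfsg.Agent.Blocks
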