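/-
Idempotents modulo `M` as sums of block idempotents; the Brauer image of a block idempotent in
the centraliser of a `p`-subgroup.
-/
import Cfsg.Agent.Lib.Blocks.Block

set_option linter.unusedSectionVars false
set_option linter.style.haveILetI false

namespace Cfsg.Agent.Blocks

open Cfsg MonoidAlgebra

universe u

variable {G : Type u} [Group G] [Fintype G] {p : ℕ} {M : Ideal AlgInt} [M.IsPrime]

/-- The blocks whose central character takes the value one modulo `M` on `x`. -/
noncomputable def unitBlocks (M : Ideal AlgInt) [M.IsPrime] (x : MonoidAlgebra (locRing M) G) :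
    Finset (Set (IrrCharacter G)) := by
  classical
  exact (blocks M G).filter fun B => ∀ χ ∈ B, MemLocalIdeal M (omegaR χ x - 1)

theorem mem_unitBlocks {x : MonoidAlgebra (locRing M) G} {B : Set (IrrCharacter G)} :
    B ∈ unitBlocks M x ↔ IsPBlock M B ∧ ∀ χ ∈ B, MemLocalIdeal M (omegaR χ x - 1) := by
  classical
  simp [unitBlocks, mem_blocks]

theorem memLocalIdeal_mul_cases {a b : ℂ} (ha : MemLocalRing M a) (hb : MemLocalRing M b)
    (h : MemLocalIdeal M (a * b)) : MemLocalIdeal M a ∨ MemLocalIdeal M b := by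
  by_contra hc
  push Not at hc
  have h1 := MemLocalIdeal.mul_left ((locRing M).mul_mem (memLocalRing_inv ha hc.1)
    (memLocalRing_inv hb hc.2)) h
  have ha0 : a ≠ 0 := fun h0 => hc.1 (by rw [h0]; exact memLocalIdeal_zero)
  have hb0 : b ≠ 0 := fun h0 => hc.2 (by rw [h0]; exact memLocalIdeal_zero)
  rw [mul_mul_mul_comm, inv_mul_cancel₀ ha0, inv_mul_cancel₀ hb0, one_mul] at h1
  exact not_memLocalIdeal_one h1

theorem omegaR_zero_or_one {x : MonoidAlgebra (locRing M) G} (hx : IsClassElt x)
    (hid : resG x * resG x = resG x) (χ : IrrCharacter G) :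
    MemLocalIdeal M (omegaR χ x) ∨ MemLocalIdeal M (omegaR χ x - 1) := by
  classical
  haveI : Finite (ConjClasses G) := Finite.of_surjective _ ConjClasses.mk_surjective
  haveI : Fintype (ConjClasses G) := Fintype.ofFinite _
  have hd : IsClassElt (x * x - x) := IsClassElt.sub (IsClassElt.mul hx hx) hx
  have h0 : resG (x * x - x) = 0 := by rw [map_sub, map_mul, hid, sub_self]
  have h1 : MemLocalIdeal M (omegaR χ (x * x - x)) := by
    rw [omegaR_eq_sum χ hd]
    refine memLocalIdeal_sum _ _ fun C _ => MemLocalIdeal.mul_right (res_eq_zero_iff.1 ?_)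
      (centralChar_memLocalRing χ C.out)
    rw [← coeff_resG, h0]; simp
  rw [omegaR_sub, omegaR_mul χ hx hx] at h1
  refine memLocalIdeal_mul_cases (omegaR_memLocalRing χ hx)
    ((locRing M).sub_mem (omegaR_memLocalRing χ hx) (locRing M).one_mem) ?_
  rwa [mul_sub, mul_one]

theorem eq_of_idem_of_isNilpotent_sub {A : Type*} [Ring A] {e f : A} (he : e * e = e)
    (hf : f * f = f) (hc : e * f = f * e) (h : IsNilpotent (e - f)) : e = f := by
  obtain ⟨n, hn⟩ := h
  have h3 : (e - f) ^ 3 = e - f := by
    have e1 : (e - f) ^ 2 = e + f - 2 • (e * f) := by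
      rw [pow_two, sub_mul, mul_sub, mul_sub, he, hf, ← hc, two_smul]
      abel
    rw [pow_succ, e1, sub_mul, add_mul, mul_sub, mul_sub, he, hf, ← hc, smul_mul_assoc, mul_sub,
      mul_assoc e f f, hf, show e * f * e = e * f by rw [mul_assoc, ← hc, ← mul_assoc, he]]
    simp only [smul_sub, two_smul]
    abel
  have h4 : ∀ k : ℕ, (e - f) ^ (2 * k + 1) = e - f := by
    intro k
    induction k with
    | zero => simp
    | succ k ih =>
      rw [show 2 * (k + 1) + 1 = 2 * k + 1 + 2 by ring, pow_add, ih, ← pow_succ', h3]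
  have h5 := h4 n
  rw [pow_succ, two_mul, pow_add, hn, zero_mul, zero_mul] at h5
  exact sub_eq_zero.1 h5.symm

theorem omegaR_sum_blockEltR (S : Finset (Set (IrrCharacter G))) (hS : ∀ B ∈ S, IsPBlock M B)
    (χ : IrrCharacter G) [Decidable (blockOf M (χ : G → ℂ) ∈ S)] :
    omegaR χ (∑ B ∈ S, blockEltR M B) = if blockOf M (χ : G → ℂ) ∈ S then 1 else 0 := by
  classical
  rw [omegaR, map_sum, omega_sum]
  have h : ∀ B ∈ S, omega χ (toC (blockEltR M B)) = if blockOf M (χ : G → ℂ) = B then 1 else 0 := by
    intro B hB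
    rw [toC_blockEltR (hS B hB), omega_blockElt]
    refine if_congr ⟨fun h => (isPBlock_eq_blockOf (hS B hB) h).symm, fun h => ?_⟩ rfl rfl
    rw [← h]; exact self_mem_blockOf χ
  rw [Finset.sum_congr rfl h]
  simp only [Finset.sum_ite_eq]
  by_cases hm : blockOf M (χ : G → ℂ) ∈ S <;> simp [hm]

theorem sum_blockEltR_idem (S : Finset (Set (IrrCharacter G))) (hS : ∀ B ∈ S, IsPBlock M B) :
    (∑ B ∈ S, blockEltR M B) * (∑ B ∈ S, blockEltR M B) = ∑ B ∈ S, blockEltR M B := by
  classical
  rw [Finset.sum_mul]
  refine Finset.sum_congr rfl fun B hB => ?_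
  rw [Finset.mul_sum, Finset.sum_eq_single B]
  · exact blockEltR_idem (hS B hB)
  · intro B' hB' hne
    exact blockEltR_mul_of_ne (hS B hB) (hS B' hB') hne.symm
  · exact fun h => absurd hB h

/-- An idempotent class element modulo `M` is the sum of the block idempotents on which its
central character is one. -/
theorem resG_eq_sum_blocks {x : MonoidAlgebra (locRing M) G} (hx : IsClassElt x)
    (hid : resG x * resG x = resG x) :
    resG x = resG (∑ B ∈ unitBlocks M x, blockEltR M B) := by
  classical
  have hS : ∀ B ∈ unitBlocks M x, IsPBlock M B := fun B hB => (mem_unitBlocks.1 hB).1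
  have hf : IsClassElt (∑ B ∈ unitBlocks M x, blockEltR M B) :=
    IsClassElt.sum _ _ fun B _ => isClassElt_blockEltR B
  refine eq_of_idem_of_isNilpotent_sub hid (by rw [← map_mul, sum_blockEltR_idem _ hS])
    (by rw [← map_mul, ← map_mul, IsClassElt.comm hx]) ?_
  rw [← map_sub]
  refine isNilpotent_resG (IsClassElt.sub hx hf) fun χ => ?_
  rw [omegaR_sub, omegaR_sum_blockEltR _ hS]
  split_ifs with hmem
  · exact (mem_unitBlocks.1 hmem).2 χ (self_mem_blockOf χ)
  · rw [sub_zero]
    refine (omegaR_zero_or_one hx hid χ).resolve_right fun h1 => hmem (mem_unitBlocks.2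
      ⟨isPBlock_blockOf χ, fun ψ hψ => ?_⟩)
    have h2 := MemLocalIdeal.add (omegaR_congr (sameBlock_symm hψ) hx) h1
    simpa using h2

/-- Restriction of coefficients to a subgroup. -/
noncomputable def restrictElt {R : Type*} [CommRing R] (H : Subgroup G) (x : MonoidAlgebra R G) :
    MonoidAlgebra R H :=
  gaOfFun fun h : H => x.coeff (h : G)

theorem coeff_restrictElt {R : Type*} [CommRing R] (H : Subgroup G) (x : MonoidAlgebra R G)
    (h : H) : (restrictElt H x).coeff h = x.coeff (h : G) := rfl

theorem IsClassElt.restrictElt {R : Type*} [CommRing R] {x : MonoidAlgebra R G} (hx : IsClassElt x)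
    (H : Subgroup G) : IsClassElt (Cfsg.Agent.Blocks.restrictElt H x) := fun h k => by
  simp only [coeff_restrictElt, Subgroup.coe_mul, Subgroup.coe_inv]
  exact hx _ _

theorem resG_restrictElt (H : Subgroup G) [Fintype H] (x : MonoidAlgebra (locRing M) G) :
    resG (restrictElt H x) = restrictElt H (resG x) :=
  gaExt fun h => by simp [coeff_restrictElt]

/-- Restriction to a centraliser is multiplicative in characteristic `p`. -/
theorem restrictElt_mul {R : Type*} [CommRing R] [Fact p.Prime] [CharP R p] {P : Subgroup G}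
    (hP : IsPGroup p P) [Fintype (Subgroup.centralizer (P : Set G))] {x y : MonoidAlgebra R G}
    (hx : IsInvElt P x) (hy : IsInvElt P y) :
    restrictElt (Subgroup.centralizer (P : Set G)) (x * y) =
      restrictElt (Subgroup.centralizer (P : Set G)) x *
        restrictElt (Subgroup.centralizer (P : Set G)) y := by
  classical
  refine gaExt fun c => ?_
  have h := congrArg (fun z : MonoidAlgebra R G => z.coeff (c : G)) (brTrunc_mul hP hx hy)
  simp only [coeff_brTrunc, if_pos c.2, coeff_mul_univ (brTrunc P x)] at h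
  rw [coeff_restrictElt, h, coeff_mul_univ]
  simp only [coeff_restrictElt, Subgroup.coe_mul, Subgroup.coe_inv]
  symm
  refine Finset.sum_bij_ne_zero (fun a _ _ => (a : G)) (fun _ _ _ => Finset.mem_univ _)
    (fun a _ _ b _ _ hab => Subtype.ext hab) ?_ ?_
  · intro b _ hb
    have hbC : b ∈ Subgroup.centralizer (P : Set G) := by
      by_contra hc
      rw [if_neg hc, zero_mul] at hb
      exact hb rfl
    refine ⟨⟨b, hbC⟩, Finset.mem_univ _, ?_, rfl⟩
    rwa [if_pos hbC, if_pos (mul_mem (inv_mem hbC) c.2)] at hb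
  · intro a _ _
    rw [if_pos a.2, if_pos (mul_mem (inv_mem a.2) c.2)]

theorem resG_restrict_blockEltR_idem (hM : IsPModular p M) {B : Set (IrrCharacter G)}
    (hB : IsPBlock M B) {P : Subgroup G} (hP : IsPGroup p P)
    [Fintype (Subgroup.centralizer (P : Set G))] :
    resG (restrictElt (Subgroup.centralizer (P : Set G)) (blockEltR M B)) *
      resG (restrictElt (Subgroup.centralizer (P : Set G)) (blockEltR M B)) =
      resG (restrictElt (Subgroup.centralizer (P : Set G)) (blockEltR M B)) := by
  haveI := Fact.mk hM.1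
  haveI : CharP (resField M) p := resField_charP hM
  have hcl : IsClassElt (resG (blockEltR M B)) := IsClassElt.map (isClassElt_blockEltR B) _
  rw [resG_restrictElt, ← restrictElt_mul hP (IsClassElt.isInvElt hcl P)
    (IsClassElt.isInvElt hcl P), ← map_mul, blockEltR_idem hB]

end Cfsg.Agent.Blocks
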