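/-
Matrices commuting with a permutation: orbit-wise twisted sums.
-/
import Mathlib.GroupTheory.Perm.Cycle.Basic
import Mathlib.Dynamics.PeriodicPts.Lemmas
import Mathlib.LinearAlgebra.Matrix.Trace
import Mathlib.Data.Matrix.Mul
import Mathlib.Algebra.BigOperators.Intervals
import Mathlib.Data.Fintype.Sigma

namespace Cfsg.Agent.Blocks.Orbit

open Equiv Finset

variable {X : Type*} [Fintype X] (σ : Perm X)

/-- A chosen representative of the orbit of a point. -/
noncomputable def rep (i : X) : X := (Quotient.mk (Perm.SameCycle.setoid σ) i).out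

theorem rep_sameCycle (i : X) : σ.SameCycle (rep σ i) i :=
  Quotient.eq.1 (Quotient.out_eq (Quotient.mk (Perm.SameCycle.setoid σ) i))

theorem rep_eq_of_sameCycle {i j : X} (h : σ.SameCycle i j) : rep σ i = rep σ j := by
  unfold rep
  exact congrArg _ (Quotient.sound h)

/-- The chosen representatives. -/
abbrev Reps := {i : X // rep σ i = i}

/-- The length of an orbit. -/
noncomputable def per (i : X) : ℕ := Function.minimalPeriod σ i

theorem isPeriodicPt_per (i : X) : (σ ^ per σ i) i = i := by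
  rw [← Equiv.Perm.iterate_eq_pow]
  exact Function.isPeriodicPt_minimalPeriod σ i

theorem per_pos (i : X) : 0 < per σ i := by
  refine Function.minimalPeriod_pos_of_mem_periodicPts ?_
  exact Function.Injective.mem_periodicPts σ.injective i

theorem pow_per_mul (i : X) (k : ℕ) : (σ ^ (per σ i * k)) i = i := by
  induction k with
  | zero => simp
  | succ k ih => rw [Nat.mul_succ, pow_add, Perm.mul_apply, isPeriodicPt_per, ih]

theorem pow_mod_per (i : X) (k : ℕ) : (σ ^ (k % per σ i)) i = (σ ^ k) i := by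
  conv_rhs => rw [← Nat.mod_add_div k (per σ i), pow_add, Perm.mul_apply, pow_per_mul]

theorem per_dvd {i : X} {n : ℕ} (h : (σ ^ n) i = i) : per σ i ∣ n := by
  refine Function.IsPeriodicPt.minimalPeriod_dvd ?_
  rw [Function.IsPeriodicPt, Function.IsFixedPt, Equiv.Perm.iterate_eq_pow]
  exact h

theorem pow_injOn_per {i : X} {k l : ℕ} (hk : k < per σ i) (hl : l < per σ i)
    (h : (σ ^ k) i = (σ ^ l) i) : k = l := by
  rw [← Equiv.Perm.iterate_eq_pow, ← Equiv.Perm.iterate_eq_pow] at h
  exact Function.iterate_injOn_Iio_minimalPeriod hk hl h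

theorem exists_pow_rep (i : X) : ∃ k < per σ (rep σ i), (σ ^ k) (rep σ i) = i := by
  obtain ⟨k, hk⟩ := Equiv.Perm.SameCycle.exists_nat_pow_eq (rep_sameCycle σ i)
  exact ⟨k % per σ (rep σ i), Nat.mod_lt _ (per_pos σ _), by rw [pow_mod_per, hk]⟩

theorem rep_pow (o : Reps σ) (k : ℕ) : rep σ ((σ ^ k) (o : X)) = o := by
  conv_rhs => rw [← o.2]
  refine rep_eq_of_sameCycle σ ?_
  exact ⟨-(k : ℤ), by rw [← zpow_natCast σ k, ← Perm.mul_apply, ← zpow_add, neg_add_cancel, zpow_zero]; rfl⟩

/-- A sum over the space is a sum over orbits. -/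
theorem sum_orbit {A : Type*} [AddCommMonoid A] [Fintype (Reps σ)] (f : X → A) :
    ∑ i, f i = ∑ o : Reps σ, ∑ k ∈ range (per σ o), f ((σ ^ k) (o : X)) := by
  classical
  rw [Finset.sum_sigma' univ (fun o : Reps σ => range (per σ o))
    (fun o k => f ((σ ^ k) (o : X)))]
  symm
  refine Finset.sum_bij (fun x _ => (σ ^ x.2) (x.1 : X)) (fun _ _ => mem_univ _) ?_ ?_
    (fun _ _ => rfl)
  · rintro ⟨o, k⟩ hk ⟨o', k'⟩ hk' h
    simp only [mem_sigma, mem_univ, mem_range, true_and] at hk hk'
    simp only at h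
    have ho : o = o' := Subtype.ext (by rw [← rep_pow σ o k, h, rep_pow σ o' k'])
    subst ho
    rw [pow_injOn_per σ hk hk' h]
  · intro i _
    obtain ⟨k, hk, h⟩ := exists_pow_rep σ i
    exact ⟨⟨⟨rep σ i, rep_eq_of_sameCycle σ (rep_sameCycle σ i)⟩, k⟩, by simp [hk], h⟩

theorem sum_range_shift {A : Type*} [AddCommMonoid A] {L : ℕ} (f : ℕ → A)
    (hf : ∀ k, f (k + L) = f k) (a : ℕ) : ∑ k ∈ range L, f (k + a) = ∑ k ∈ range L, f k := by
  induction a with
  | zero => rfl
  | succ a ih =>
    rw [← ih]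
    rcases Nat.eq_zero_or_pos L with rfl | hL
    · simp
    obtain ⟨n, rfl⟩ := Nat.exists_eq_succ_of_ne_zero hL.ne'
    rw [sum_range_succ, sum_range_succ' (fun k => f (k + a))]
    have h1 : f (n + (a + 1)) = f a := by
      rw [show n + (a + 1) = a + n.succ by omega, hf]
    rw [h1]
    congr 1
    · refine sum_congr rfl fun k _ => ?_
      congr 1
      omega
    · rw [Nat.zero_add]

/-- Invariance of a matrix under the permutation. -/
def IsInvMat {A : Type*} (E : Matrix X X A) : Prop := ∀ i j, E (σ i) (σ j) = E i j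

theorem IsInvMat.pow {A : Type*} {E : Matrix X X A} (h : IsInvMat σ E) (k : ℕ) (i j : X) :
    E ((σ ^ k) i) ((σ ^ k) j) = E i j := by
  induction k with
  | zero => simp
  | succ k ih => rw [pow_succ', Perm.mul_apply, Perm.mul_apply, h, ih]

variable {A : Type*} [CommRing A]

/-- Twisted sum over the orbit of the column index. -/
noncomputable def twist (ζ : A) (E : Matrix X X A) (i j : X) : A :=
  ∑ k ∈ range (per σ j), E i ((σ ^ k) j) * ζ ^ k

theorem twist_periodic {ζ : A} {j : X} (hj : ζ ^ per σ j = 1) (E : Matrix X X A) (i : X) (k : ℕ) :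
    E i ((σ ^ (k + per σ j)) j) * ζ ^ (k + per σ j) = E i ((σ ^ k) j) * ζ ^ k := by
  rw [pow_add, Perm.mul_apply, isPeriodicPt_per, pow_add ζ, hj, mul_one]

theorem twist_shift {ζ : A} {j : X} (hj : ζ ^ per σ j = 1) {E : Matrix X X A}
    (hE : IsInvMat σ E) (i : X) (l : ℕ) :
    ∑ k ∈ range (per σ j), E ((σ ^ l) i) ((σ ^ k) j) * ζ ^ k = ζ ^ l * twist σ ζ E i j := by
  rw [← sum_range_shift _ (twist_periodic σ hj E ((σ ^ l) i)) l, twist, mul_sum]
  refine sum_congr rfl fun k _ => ?_
  rw [Nat.add_comm k l, pow_add σ, Perm.mul_apply, IsInvMat.pow σ hE, pow_add ζ]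
  ring

/-- Twisting is multiplicative, before restricting the middle index. -/
theorem twist_mul [Fintype (Reps σ)] {ζ : A} {j : X} (hj : ζ ^ per σ j = 1)
    (E E' : Matrix X X A) (hE' : IsInvMat σ E') (i : X) :
    twist σ ζ (E * E') i j = ∑ o : Reps σ, twist σ ζ E i o * twist σ ζ E' o j := by
  have h1 : ∀ k, (E * E') i ((σ ^ k) j) =
      ∑ o : Reps σ, ∑ l ∈ range (per σ o), E i ((σ ^ l) o) * E' ((σ ^ l) o) ((σ ^ k) j) :=
    fun k => by rw [Matrix.mul_apply, sum_orbit σ]
  conv_lhs => rw [twist]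
  simp only [h1, sum_mul]
  rw [sum_comm]
  refine sum_congr rfl fun o _ => ?_
  rw [sum_comm, twist, sum_mul]
  refine sum_congr rfl fun l _ => ?_
  simp only [mul_assoc]
  rw [← mul_sum, twist_shift σ hj hE']

/-- The twisted sum into a column whose orbit the twist kills vanishes. -/
theorem twist_eq_zero [IsDomain A] {ζ : A} {i j : X} (hj : ζ ^ per σ j = 1)
    (hi : ζ ^ per σ i ≠ 1) {E : Matrix X X A} (hE : IsInvMat σ E) : twist σ ζ E i j = 0 := by
  have h := twist_shift σ hj hE i (per σ i)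
  rw [isPeriodicPt_per] at h
  have h2 : (ζ ^ per σ i - 1) * twist σ ζ E i j = 0 := by
    rw [sub_mul, one_mul, ← h]
    simp [twist]
  exact (mul_eq_zero.1 h2).resolve_left (sub_ne_zero.2 hi)

theorem twist_one [DecidableEq X] {ζ : A} (o o' : Reps σ) [Decidable (o = o')] :
    twist σ ζ (1 : Matrix X X A) o o' = if o = o' then 1 else 0 := by
  unfold twist
  split_ifs with h
  · subst h
    rw [sum_eq_single 0]
    · rw [pow_zero σ, Perm.one_apply, Matrix.one_apply_eq, pow_zero, mul_one]
    · intro k hk hk0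
      rw [Matrix.one_apply_ne, zero_mul]
      intro heq
      exact hk0 (pow_injOn_per σ (mem_range.1 hk) (per_pos σ _) (by simpa using heq.symm))
    · exact fun hh => absurd (mem_range.2 (per_pos σ _)) hh
  · refine sum_eq_zero fun k _ => ?_
    rw [Matrix.one_apply_ne, zero_mul]
    exact fun heq => h (Subtype.ext (by rw [← o.2, heq, rep_pow]))

end Cfsg.Agent.Blocks.Orbit
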