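/-
The trace lemma: for an idempotent matrix over the local ring commuting with a permutation `σ` of
`p`-power order, the trace of its product with `σ` is the rank modulo `M` of its restriction to
the fixed points.
-/
import Cfsg.Agent.Lib.Blocks.LocalRing
import Cfsg.Agent.Lib.Blocks.OrbitSum
import Mathlib.LinearAlgebra.Matrix.Rank
import Mathlib.LinearAlgebra.Trace
import Mathlib.RingTheory.RootsOfUnity.PrimitiveRoots
import Mathlib.RingTheory.RootsOfUnity.Complex

set_option linter.unusedSectionVars false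
set_option linter.style.haveILetI false

namespace Cfsg.Agent.Blocks

open Cfsg Matrix

variable {M : Ideal AlgInt} [M.IsPrime]

/-! ## Ranks of idempotents -/

theorem natTrace_eq_rank {K n : Type*} [Field K] [Fintype n] [DecidableEq n] {E : Matrix n n K}
    (hE : E * E = E) : (E.rank : K) = E.trace := by
  have h2 : E.mulVecLin.comp E.mulVecLin = E.mulVecLin := by
    rw [← Matrix.mulVecLin_mul, hE]
  have hproj : LinearMap.IsProj (LinearMap.range E.mulVecLin) E.mulVecLin := by
    refine ⟨fun x => LinearMap.mem_range_self _ x, ?_⟩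
    rintro _ ⟨y, rfl⟩
    exact LinearMap.congr_fun h2 y
  rw [← Matrix.trace_toLin'_eq E, Matrix.toLin'_apply', hproj.trace]
  rfl

theorem rank_add_rank_one_sub {K n : Type*} [Field K] [Fintype n] [DecidableEq n] {E : Matrix n n K}
    (hE : E * E = E) : E.rank + (1 - E).rank = Fintype.card n := by
  have h2 : E.mulVecLin.comp E.mulVecLin = E.mulVecLin := by
    rw [← Matrix.mulVecLin_mul, hE]
  have hk : LinearMap.ker E.mulVecLin = LinearMap.range (1 - E).mulVecLin := by
    ext x
    simp only [LinearMap.mem_ker, LinearMap.mem_range, Matrix.mulVecLin_apply]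
    refine ⟨fun hx => ⟨x, by rw [sub_mulVec, one_mulVec, hx, sub_zero]⟩, ?_⟩
    rintro ⟨y, rfl⟩
    rw [mulVec_mulVec, mul_sub, mul_one, hE, sub_self, zero_mulVec]
  have := LinearMap.finrank_range_add_finrank_ker E.mulVecLin
  rw [hk, Module.finrank_pi] at this
  exact this

theorem exists_rank_factor {K n : Type*} [Field K] [Fintype n] [DecidableEq n] (E : Matrix n n K) :
    ∃ (B : Matrix (Fin E.rank) n K) (C : Matrix n (Fin E.rank) K), B * E * C = 1 := by
  obtain ⟨e⟩ : Nonempty ((Fin E.rank → K) ≃ₗ[K] LinearMap.range E.mulVecLin) :=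
    FiniteDimensional.nonempty_linearEquiv_of_finrank_eq (by rw [Module.finrank_fin_fun]; rfl)
  obtain ⟨c, hc⟩ := E.mulVecLin.rangeRestrict.exists_rightInverse_of_surjective
    (LinearMap.range_rangeRestrict _)
  let j : (Fin E.rank → K) →ₗ[K] (n → K) :=
    (LinearMap.range E.mulVecLin).subtype.comp e.toLinearMap
  obtain ⟨b, hb⟩ := j.exists_leftInverse_of_injective (LinearMap.ker_eq_bot.2
    ((Submodule.subtype_injective _).comp e.injective))
  refine ⟨LinearMap.toMatrix' b, LinearMap.toMatrix' (c.comp e.toLinearMap), ?_⟩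
  have h1 : E.mulVecLin.comp (c.comp e.toLinearMap) = j := by
    refine LinearMap.ext fun x => ?_
    exact congrArg Subtype.val (LinearMap.congr_fun hc (e x))
  have hE' : LinearMap.toMatrix' E.mulVecLin = E := LinearMap.toMatrix'_toLin' E
  calc LinearMap.toMatrix' b * E * LinearMap.toMatrix' (c.comp e.toLinearMap)
      = LinearMap.toMatrix' b * (LinearMap.toMatrix' E.mulVecLin *
          LinearMap.toMatrix' (c.comp e.toLinearMap)) := by rw [hE', Matrix.mul_assoc]
    _ = 1 := by
      rw [← LinearMap.toMatrix'_comp, ← LinearMap.toMatrix'_comp, h1, hb, LinearMap.toMatrix'_id]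

theorem rank_res_le {n : Type*} [Fintype n] [DecidableEq n] (E : Matrix n n (locRing M)) :
    (E.map (res M)).rank ≤ (E.map (locRing M).subtype).rank := by
  obtain ⟨B, C, h⟩ := exists_rank_factor (E.map (res M))
  choose b hb using fun i j => res_surjective (M := M) (B i j)
  choose c hc using fun i j => res_surjective (M := M) (C i j)
  let B' : Matrix (Fin (E.map (res M)).rank) n (locRing M) := Matrix.of b
  let C' : Matrix n (Fin (E.map (res M)).rank) (locRing M) := Matrix.of c
  have hB' : B'.map (res M) = B := by ext i j; exact hb i j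
  have hC' : C'.map (res M) = C := by ext i j; exact hc i j
  have h1 : res M (B' * E * C').det = 1 := by
    rw [RingHom.map_det, RingHom.mapMatrix_apply, Matrix.map_mul, Matrix.map_mul, hB', hC', h,
      Matrix.det_one]
  have h2 : ((B' * E * C').map (locRing M).subtype).det ≠ 0 := by
    show (RingHom.mapMatrix (locRing M).subtype (B' * E * C')).det ≠ 0
    rw [← RingHom.map_det]
    intro h0
    have : (B' * E * C').det = 0 := Subtype.ext h0
    rw [this, map_zero] at h1
    exact zero_ne_one h1
  have h3 : ((B' * E * C').map (locRing M).subtype).rank = (E.map (res M)).rank := by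
    rw [Matrix.rank_of_isUnit _ ((Matrix.isUnit_iff_isUnit_det _).2 (isUnit_iff_ne_zero.2 h2)),
      Fintype.card_fin]
  rw [← h3, Matrix.map_mul, Matrix.map_mul]
  exact le_trans (Matrix.rank_mul_le_left _ _) (Matrix.rank_mul_le_right _ _)

/-- The trace of an idempotent over the local ring is its rank modulo `M`. -/
theorem trace_idem_eq_rank_res {n : Type*} [Fintype n] [DecidableEq n]
    {E : Matrix n n (locRing M)} (hE : E * E = E) :
    ((E.trace : locRing M) : ℂ) = ((E.map (res M)).rank : ℂ) := by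
  have hC : E.map (locRing M).subtype * E.map (locRing M).subtype = E.map (locRing M).subtype := by
    rw [← Matrix.map_mul, hE]
  have hF : E.map (res M) * E.map (res M) = E.map (res M) := by rw [← Matrix.map_mul, hE]
  have e1 := rank_add_rank_one_sub hC
  have e2 := rank_add_rank_one_sub hF
  have hm : ∀ {S : Type} [CommRing S] (f : locRing M →+* S), (1 - E).map f = 1 - E.map f :=
    fun f => by ext i j; simp [Matrix.one_apply, apply_ite f]
  have l1 := rank_res_le E
  have l2 := rank_res_le (1 - E)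
  rw [hm, hm] at l2
  have : (E.map (res M)).rank = (E.map (locRing M).subtype).rank := by omega
  rw [this, natTrace_eq_rank hC]
  simp [Matrix.trace]

theorem sum_subtype_univ {n A : Type*} [Fintype n] [AddCommMonoid A] (P : n → Prop)
    [DecidablePred P] (f : n → A) :
    ∑ i : {i // P i}, f i = ∑ i ∈ Finset.univ.filter P, f i := by
  rw [← Finset.sum_subtype_eq_sum_filter, Finset.subtype_univ]

/-- Rank of an idempotent with a vanishing off-diagonal block. -/
theorem rank_triangular {K n : Type*} [Field K] [Fintype n] [DecidableEq n] (P : n → Prop)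
    [DecidablePred P] {E : Matrix n n K} (hE : E * E = E)
    (h0 : ∀ i j, P i → ¬ P j → E i j = 0) :
    E.rank = (E.submatrix (fun i : {i // P i} => (i : n)) (fun i : {i // P i} => (i : n))).rank +
      (E.submatrix (fun i : {i // ¬ P i} => (i : n)) (fun i : {i // ¬ P i} => (i : n))).rank := by
  set A := E.submatrix (fun i : {i // P i} => (i : n)) (fun i : {i // P i} => (i : n))
  set D := E.submatrix (fun i : {i // ¬ P i} => (i : n)) (fun i : {i // ¬ P i} => (i : n))
  let π : (n → K) →ₗ[K] ({i // P i} → K) := LinearMap.funLeft K K (fun i => (i : n))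
  let ρ : (n → K) →ₗ[K] ({i // ¬ P i} → K) := LinearMap.funLeft K K (fun i => (i : n))
  have hπ : ∀ x, π (E *ᵥ x) = A *ᵥ π x := fun x => funext fun i => by
    simp only [π, LinearMap.funLeft_apply, mulVec, dotProduct, A, submatrix_apply]
    symm
    exact (sum_subtype_univ _ (fun j => E i j * x j)).trans
      (Finset.sum_filter_of_ne fun j _ hj => by
        by_contra hc; exact hj (by rw [h0 i j i.2 hc, zero_mul]))
  have hρ : ∀ x, π x = 0 → ρ (E *ᵥ x) = D *ᵥ ρ x := fun x hx => funext fun i => by
    simp only [ρ, LinearMap.funLeft_apply, mulVec, dotProduct, D, submatrix_apply]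
    symm
    exact (sum_subtype_univ _ (fun j => E i j * x j)).trans
      (Finset.sum_filter_of_ne fun j _ hj => fun hc => hj (by
        have := congrFun hx ⟨j, hc⟩
        simp only [π, LinearMap.funLeft_apply, Pi.zero_apply] at this
        rw [this, mul_zero]))
  let g : LinearMap.range E.mulVecLin →ₗ[K] ({i // P i} → K) :=
    π.comp (LinearMap.range E.mulVecLin).subtype
  have hg : LinearMap.range g = LinearMap.range A.mulVecLin := by
    ext y
    constructor
    · rintro ⟨⟨_, x, rfl⟩, rfl⟩
      exact ⟨π x, (hπ x).symm⟩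
    · rintro ⟨a, rfl⟩
      let x : n → K := fun i => if h : P i then a ⟨i, h⟩ else 0
      have hx : π x = a := funext fun i => by simp [π, x, i.2]
      exact ⟨⟨E *ᵥ x, x, rfl⟩, by
        show π (E *ᵥ x) = _
        rw [hπ, hx]; rfl⟩
  have hker : Module.finrank K (LinearMap.ker g) = D.rank := by
    let f : LinearMap.ker g →ₗ[K] ({i // ¬ P i} → K) :=
      (ρ.comp (LinearMap.range E.mulVecLin).subtype).comp (LinearMap.ker g).subtype
    have hinj : Function.Injective f := by
      intro v w hvw
      have hv : π (v : n → K) = π (w : n → K) :=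
        (show g v = g w from by rw [LinearMap.mem_ker.1 v.2, LinearMap.mem_ker.1 w.2])
      refine Subtype.ext (Subtype.ext (funext fun i => ?_))
      by_cases hi : P i
      · exact congrFun hv ⟨i, hi⟩
      · exact congrFun hvw ⟨i, hi⟩
    rw [← LinearMap.finrank_range_of_inj hinj]
    suffices hr : LinearMap.range f = LinearMap.range D.mulVecLin by rw [hr]; rfl
    · ext y
      constructor
      · rintro ⟨⟨⟨_, x, rfl⟩, hx⟩, rfl⟩
        have hπx : π (E *ᵥ x) = 0 := LinearMap.mem_ker.1 hx
        refine ⟨ρ (E *ᵥ x), ?_⟩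
        show D *ᵥ ρ (E *ᵥ x) = ρ (E *ᵥ x)
        rw [← hρ _ hπx, mulVec_mulVec, hE]
      · rintro ⟨b, rfl⟩
        let x : n → K := fun i => if h : P i then 0 else b ⟨i, h⟩
        have hx : π x = 0 := funext fun i => by simp [π, x, i.2]
        have hb : ρ x = b := funext fun i => by simp [ρ, x, i.2]
        refine ⟨⟨⟨E *ᵥ x, x, rfl⟩, ?_⟩, ?_⟩
        · show π (E *ᵥ x) = 0
          rw [hπ, hx, mulVec_zero]
        · show ρ (E *ᵥ x) = _
          rw [hρ _ hx, hb]; rfl
  have := LinearMap.finrank_range_add_finrank_ker g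
  rw [hg, hker] at this
  exact this.symm

/-! ## Roots of unity in the local ring -/

theorem exists_primitiveRoot (n : ℕ) (hn : 0 < n) :
    ∃ ζ : locRing M, IsPrimitiveRoot ζ n := by
  have h := Complex.isPrimitiveRoot_exp n hn.ne'
  refine ⟨⟨_, mem_locRing_of_isIntegral (IsIntegral.of_pow hn (h.pow_eq_one.symm ▸ isIntegral_one))⟩, ?_⟩
  exact IsPrimitiveRoot.of_map_of_injective (f := (locRing M).subtype) h Subtype.val_injective

theorem mem_roots_iff {n : ℕ} (hn : 0 < n) {x : locRing M} :
    x ∈ Polynomial.nthRootsFinset n (1 : locRing M) ↔ x ^ n = 1 :=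
  Polynomial.mem_nthRootsFinset hn 1

theorem sum_roots_pow (n : ℕ) (hn : 0 < n) (j : ℕ) :
    ∑ ζ ∈ Polynomial.nthRootsFinset n (1 : locRing M), ζ ^ j = if n ∣ j then (n : locRing M) else 0 := by
  classical
  obtain ⟨η, hη⟩ := exists_primitiveRoot (M := M) n hn
  have himg : Polynomial.nthRootsFinset n (1 : locRing M) =
      (Finset.range n).image (fun i => η ^ i) := by
    ext x
    rw [mem_roots_iff hn, Finset.mem_image]
    constructor
    · intro hx
      haveI : NeZero n := ⟨hn.ne'⟩
      obtain ⟨i, hi, h⟩ := hη.eq_pow_of_pow_eq_one hx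
      exact ⟨i, Finset.mem_range.2 hi, h⟩
    · rintro ⟨i, -, rfl⟩
      rw [← pow_mul, mul_comm, pow_mul, hη.pow_eq_one, one_pow]
  rw [himg, Finset.sum_image (fun a ha b hb h => hη.pow_inj (Finset.mem_range.1 ha)
    (Finset.mem_range.1 hb) h)]
  split_ifs with hdvd
  · have : η ^ j = 1 := (hη.pow_eq_one_iff_dvd j).2 hdvd
    rw [Finset.sum_congr rfl (fun i _ => by rw [← pow_mul, mul_comm, pow_mul, this, one_pow])]
    simp
  · have hne : η ^ j - 1 ≠ 0 := sub_ne_zero.2 fun h => hdvd ((hη.pow_eq_one_iff_dvd j).1 h)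
    refine (mul_eq_zero.1 ?_).resolve_right hne
    rw [Finset.sum_congr rfl (fun i _ => by rw [← pow_mul, mul_comm, pow_mul]),
      geom_sum_mul, ← pow_mul, mul_comm, pow_mul, hη.pow_eq_one, one_pow, sub_self]

theorem res_eq_one_of_pow {p k : ℕ} (hM : IsPModular p M) {ζ : locRing M} (h : ζ ^ p ^ k = 1) :
    res M ζ = 1 := by
  rw [← map_one (res M), res_eq_res_iff]
  exact memLocalIdeal_sub_one_of_pow_eq_one hM (by simpa using congrArg Subtype.val h)

/-! ## The trace lemma -/

variable {X : Type*} [Fintype X] [DecidableEq X]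

open Cfsg.Agent.Blocks.Orbit

/-- Restriction of a matrix modulo `M` to the fixed points of `σ`. -/
noncomputable def fixRes (σ : Equiv.Perm X) (E : Matrix X X (locRing M)) :
    Matrix {i : X // σ i = i} {i : X // σ i = i} (resField M) :=
  Matrix.of fun i j => res M (E i j)

theorem per_eq_one {σ : Equiv.Perm X} {i : X} (h : σ i = i) : per σ i = 1 :=
  Nat.dvd_one.1 (per_dvd σ (by simpa using h))

theorem prime_dvd_per {p k : ℕ} (hp : p.Prime) {σ : Equiv.Perm X} (hσ : σ ^ p ^ k = 1) {i : X}
    (hi : σ i ≠ i) : p ∣ per σ i := by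
  have h : per σ i ∣ p ^ k := per_dvd σ (by rw [hσ]; rfl)
  obtain ⟨j, -, hj⟩ := (Nat.dvd_prime_pow hp).1 h
  rcases j with _ | j
  · refine absurd ?_ hi
    have := isPeriodicPt_per σ i
    rwa [hj, pow_zero, pow_one] at this
  · exact hj ▸ dvd_pow_self p (Nat.succ_ne_zero j)

/-- Ranks of principal submatrices on equivalent predicates. -/
theorem rank_restrict_congr {K n : Type*} [Field K] [Fintype n] (N : Matrix n n K)
    {P Q : n → Prop} [Fintype {x // P x}] [Fintype {x // Q x}] (h : ∀ x, P x ↔ Q x) :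
    (N.submatrix (fun o : {x // P x} => (o : n)) (fun o : {x // P x} => (o : n))).rank =
      (N.submatrix (fun o : {x // Q x} => (o : n)) (fun o : {x // Q x} => (o : n))).rank :=
  by
  have h2 : (N.submatrix (fun o : {x // Q x} => (o : n)) (fun o : {x // Q x} => (o : n))).submatrix
      (Equiv.subtypeEquivRight h) (Equiv.subtypeEquivRight h) =
      N.submatrix (fun o : {x // P x} => (o : n)) (fun o : {x // P x} => (o : n)) := by
    ext a b; rfl
  rw [← h2, Matrix.rank_submatrix]

theorem per_dvd_pow {q : ℕ} {σ : Equiv.Perm X} (hσ : σ ^ q = 1) (i : X) : per σ i ∣ q :=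
  per_dvd σ (by rw [hσ]; rfl)

/-- The twisted matrix on the orbits with trivial twist. -/
noncomputable def twistMat (σ : Equiv.Perm X) (E : Matrix X X (locRing M)) (ζ : locRing M) :
    Matrix {o : Reps σ // ζ ^ per σ (o : X) = 1} {o : Reps σ // ζ ^ per σ (o : X) = 1} (locRing M) :=
  Matrix.of fun o o' => twist σ ζ E ((o : Reps σ) : X) ((o' : Reps σ) : X)

theorem twistMat_idem {σ : Equiv.Perm X} {E : Matrix X X (locRing M)} (hE : E * E = E)
    (hinv : IsInvMat σ E) (ζ : locRing M) : twistMat σ E ζ * twistMat σ E ζ = twistMat σ E ζ := by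
  classical
  ext o o'
  refine congrArg Subtype.val ?_
  have hm := twist_mul σ o'.2 E E hinv ((o : Reps σ) : X)
  rw [hE] at hm
  rw [Matrix.mul_apply]
  refine Eq.trans ?_ hm.symm
  simp only [twistMat, Matrix.of_apply]
  rw [sum_subtype_univ (fun l : Reps σ => ζ ^ per σ (l : X) = 1)
    (fun l : Reps σ => twist σ ζ E ((o : Reps σ) : X) (l : X) *
      twist σ ζ E (l : X) ((o' : Reps σ) : X))]
  refine Finset.sum_filter_of_ne fun l _ hl => ?_
  by_contra hc
  exact hl (by rw [twist_eq_zero σ o'.2 hc hinv, mul_zero])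

theorem sum_diag_eq_sum_twist {q : ℕ} (hq : 0 < q) {σ : Equiv.Perm X} (hσ : σ ^ q = 1)
    {E : Matrix X X (locRing M)} (hinv : IsInvMat σ E) :
    (∑ j, E (σ j) j : locRing M) =
      ∑ ζ ∈ Polynomial.nthRootsFinset q (1 : locRing M), ζ * (twistMat σ E ζ).trace := by
  classical
  have h1 : ∀ ζ : locRing M, (twistMat σ E ζ).trace = ∑ o : Reps σ,
      if ζ ^ per σ (o : X) = 1 then twist σ ζ E o o else 0 := fun ζ => by
    rw [← Finset.sum_filter, ← sum_subtype_univ]
    rfl
  simp only [h1, Finset.mul_sum, mul_ite, mul_zero]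
  rw [Finset.sum_comm, sum_orbit σ]
  refine Finset.sum_congr rfl fun o _ => ?_
  have hLpos : 0 < per σ (o : X) := per_pos σ _
  have hfil : (Polynomial.nthRootsFinset q (1 : locRing M)).filter
      (fun ζ => ζ ^ per σ (o : X) = 1) =
        Polynomial.nthRootsFinset (per σ (o : X)) (1 : locRing M) := by
    ext ζ
    rw [Finset.mem_filter, mem_roots_iff hq, mem_roots_iff hLpos]
    refine ⟨fun h => h.2, fun h => ⟨?_, h⟩⟩
    obtain ⟨c, hc⟩ := per_dvd_pow hσ (o : X)
    rw [hc, pow_mul, h, one_pow]
  rw [← Finset.sum_filter, hfil]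
  simp only [twist, Finset.mul_sum]
  rw [Finset.sum_comm]
  have h2 : ∀ i ∈ Finset.range (per σ (o : X)),
      ∑ ζ ∈ Polynomial.nthRootsFinset (per σ (o : X)) (1 : locRing M),
        ζ * (E o ((σ ^ i) (o : X)) * ζ ^ i) =
        if i = per σ (o : X) - 1 then E o ((σ ^ i) (o : X)) * (per σ (o : X) : locRing M) else 0 := by
    intro i hi
    rw [Finset.sum_congr rfl (fun ζ _ => show ζ * (E o ((σ ^ i) (o : X)) * ζ ^ i) =
      E o ((σ ^ i) (o : X)) * ζ ^ (i + 1) by rw [pow_succ]; ring), ← Finset.mul_sum,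
      sum_roots_pow _ hLpos]
    have hiL : i < per σ (o : X) := Finset.mem_range.1 hi
    have hdi : per σ (o : X) ∣ i + 1 ↔ i = per σ (o : X) - 1 := by
      constructor
      · intro h
        have := Nat.le_of_dvd (Nat.succ_pos i) h
        omega
      · intro h
        rw [h, Nat.sub_add_cancel hLpos]
    simp only [hdi, mul_ite, mul_zero]
  rw [Finset.sum_congr rfl h2, Finset.sum_ite_eq' (Finset.range _) (per σ (o : X) - 1),
    if_pos (Finset.mem_range.2 (Nat.sub_one_lt hLpos.ne'))]
  rw [← hinv (o : X) ((σ ^ (per σ (o : X) - 1)) (o : X)), ← Equiv.Perm.mul_apply σ (σ ^ _),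
    ← pow_succ', Nat.sub_add_cancel hLpos, isPeriodicPt_per]
  have h3 : ∀ i ∈ Finset.range (per σ (o : X)),
      E (σ ((σ ^ i) (o : X))) ((σ ^ i) (o : X)) = E (σ o) o := by
    intro i _
    rw [← Equiv.Perm.mul_apply σ (σ ^ i), ← pow_succ', pow_succ, Equiv.Perm.mul_apply,
      IsInvMat.pow σ hinv i]
  rw [Finset.sum_congr rfl h3, Finset.sum_const, Finset.card_range, nsmul_eq_mul, mul_comm]

/-- The twisted matrix reduced modulo `M`. -/
noncomputable def redMat (σ : Equiv.Perm X) (E : Matrix X X (locRing M)) :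
    Matrix (Reps σ) (Reps σ) (resField M) :=
  Matrix.of fun o o' => ∑ i ∈ Finset.range (per σ (o' : X)), res M (E o ((σ ^ i) (o' : X)))

theorem map_twistMat {p k : ℕ} (hM : IsPModular p M) (σ : Equiv.Perm X)
    (E : Matrix X X (locRing M)) {ζ : locRing M} (hζ : ζ ^ p ^ k = 1) :
    (twistMat σ E ζ).map (res M) =
      (redMat σ E).submatrix
        (fun o : {o : Reps σ // ζ ^ per σ (o : X) = 1} => (o : Reps σ))
        (fun o : {o : Reps σ // ζ ^ per σ (o : X) = 1} => (o : Reps σ)) := by
  ext o o'
  simp only [twistMat, redMat, twist, Matrix.map_apply, Matrix.of_apply, submatrix_apply, map_sum,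
    map_mul, map_pow, res_eq_one_of_pow hM hζ, one_pow, mul_one]

/-- The rank contributed by the moving orbits for a twist. -/
noncomputable def movingRank (σ : Equiv.Perm X) (E : Matrix X X (locRing M)) (ζ : locRing M) : ℕ :=
  ((redMat σ E).submatrix
    (fun o : {o : Reps σ // σ (o : X) ≠ o ∧ ζ ^ per σ (o : X) = 1} => (o : Reps σ))
    (fun o : {o : Reps σ // σ (o : X) ≠ o ∧ ζ ^ per σ (o : X) = 1} => (o : Reps σ))).rank

theorem rank_twistMat_of_ne_one {p k : ℕ} (hM : IsPModular p M) (σ : Equiv.Perm X)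
    (E : Matrix X X (locRing M)) {ζ : locRing M} (hζ : ζ ^ p ^ k = 1) (h1 : ζ ≠ 1) :
    ((twistMat σ E ζ).map (res M)).rank = movingRank σ E ζ := by
  rw [map_twistMat hM σ E hζ]
  unfold movingRank
  exact rank_restrict_congr _ fun o => ⟨fun h => ⟨fun hf => h1 (by
    rw [per_eq_one hf, pow_one] at h; exact h), h⟩, fun h => h.2⟩

theorem rank_twistMat_one {p k : ℕ} (hM : IsPModular p M) {σ : Equiv.Perm X}
    (hσ : σ ^ p ^ k = 1) {E : Matrix X X (locRing M)} (hE : E * E = E) (hinv : IsInvMat σ E) :
    ((twistMat σ E 1).map (res M)).rank = movingRank σ E 1 + (fixRes σ E).rank := by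
  classical
  have hN := map_twistMat hM (k := k) σ E (one_pow (p ^ k) : (1 : locRing M) ^ p ^ k = 1)
  let eall : {o : Reps σ // (1 : locRing M) ^ per σ (o : X) = 1} ≃ Reps σ :=
    Equiv.subtypeUnivEquiv fun _ => one_pow _
  have hNN : redMat σ E * redMat σ E = redMat σ E := by
    have h2 := congrArg (fun A => A.map (res M)) (twistMat_idem hE hinv (1 : locRing M))
    simp only [Matrix.map_mul, hN] at h2
    ext a b
    have h3 := congrFun (congrFun h2 (eall.symm a)) (eall.symm b)
    rw [Matrix.mul_apply] at h3 ⊢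
    simp only [submatrix_apply] at h3
    rw [← Equiv.sum_comp eall]
    exact h3
  rw [hN, show (redMat σ E).submatrix
    (fun o : {o : Reps σ // (1 : locRing M) ^ per σ (o : X) = 1} => (o : Reps σ))
    (fun o : {o : Reps σ // (1 : locRing M) ^ per σ (o : X) = 1} => (o : Reps σ)) =
      (redMat σ E).submatrix eall eall from Matrix.ext fun _ _ => rfl,
    Matrix.rank_submatrix (redMat σ E) eall eall,
    rank_triangular (fun o : Reps σ => σ (o : X) = o) hNN, Nat.add_comm]
  · congr 1
    · unfold movingRank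
      exact rank_restrict_congr _ fun o => by simp
    · have hrep : ∀ i : X, σ i = i → rep σ i = i := by
        intro i hi
        obtain ⟨n, -, hn'⟩ := exists_pow_rep σ i
        have h1 : (σ ^ n) i = i := by
          rw [← Equiv.Perm.iterate_eq_pow]; exact Function.iterate_fixed hi n
        exact (σ ^ n).injective (hn'.trans h1.symm)
      let e2 : {o : Reps σ // σ (o : X) = o} ≃ {i : X // σ i = i} :=
        { toFun := fun o => ⟨((o : Reps σ) : X), o.2⟩
          invFun := fun i => ⟨⟨i, hrep i i.2⟩, i.2⟩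
          left_inv := fun _ => rfl
          right_inv := fun _ => rfl }
      rw [← Matrix.rank_submatrix (fixRes σ E) e2 e2]
      congr 1
      ext o o'
      simp only [redMat, fixRes, submatrix_apply, Matrix.of_apply, per_eq_one o'.2,
        Finset.sum_range_one, pow_zero, Equiv.Perm.one_apply]
      rfl
  · intro o o' ho ho'
    simp only [redMat, Matrix.of_apply]
    haveI : CharP (resField M) p := resField_charP hM
    rw [Finset.sum_congr rfl (fun i _ => show res M (E o ((σ ^ i) (o' : X))) = res M (E o o') by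
      rw [← IsInvMat.pow σ hinv i (o : X) (o' : X), ← Equiv.Perm.iterate_eq_pow σ i,
        Function.iterate_fixed (show σ (o : X) = o from ho) i]),
      Finset.sum_const, nsmul_eq_mul, Finset.card_range]
    rw [(CharP.cast_eq_zero_iff (resField M) p _).2 (prime_dvd_per hM.1 hσ ho'), zero_mul]

theorem sum_movingRank {p k : ℕ} (hM : IsPModular p M) {σ : Equiv.Perm X} (hσ : σ ^ p ^ k = 1)
    (E : Matrix X X (locRing M)) :
    ∑ ζ ∈ Polynomial.nthRootsFinset (p ^ k) (1 : locRing M),
      (ζ : ℂ) * (movingRank σ E ζ : ℂ) = 0 := by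
  classical
  have hp := hM.1
  have hq : 0 < p ^ k := pow_pos hp.pos k
  by_cases hk : k = 0
  · refine Finset.sum_eq_zero fun ζ _ => ?_
    have hempty : IsEmpty {o : Reps σ // σ (o : X) ≠ o ∧ ζ ^ per σ (o : X) = 1} := by
      refine ⟨fun o => o.2.1 ?_⟩
      have hσ1 : σ = 1 := by simpa [hk] using hσ
      have h2 : ∀ x : X, σ x = x := fun x => by rw [hσ1]; rfl
      exact h2 _
    have : movingRank σ E ζ = 0 :=
      Nat.le_zero.1 ((Matrix.rank_le_card_width _).trans (by simp))
    rw [this, Nat.cast_zero, mul_zero]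
  obtain ⟨ω, hω⟩ := exists_primitiveRoot (M := M) p hp.pos
  have hωq : ω ^ p ^ k = 1 := (hω.pow_eq_one_iff_dvd _).2 (dvd_pow_self p hk)
  have hD : ∀ ζ : locRing M, movingRank σ E (ζ * ω) = movingRank σ E ζ := by
    intro ζ
    unfold movingRank
    exact rank_restrict_congr _ fun o => and_congr_right fun ho => by
      rw [mul_pow, (hω.pow_eq_one_iff_dvd _).2 (prime_dvd_per hp hσ ho), mul_one]
  set μ := Polynomial.nthRootsFinset (p ^ k) (1 : locRing M) with hμ
  set S : ℂ := ∑ ζ ∈ μ, (ζ : ℂ) * (movingRank σ E ζ : ℂ) with hS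
  have hω0 : ω ≠ 0 := hω.ne_zero hp.ne_zero
  have himg : μ.image (fun ζ => ζ * ω) = μ := by
    refine Finset.eq_of_subset_of_card_le (fun x hx => ?_) (le_of_eq ?_)
    · obtain ⟨ζ, hζ, rfl⟩ := Finset.mem_image.1 hx
      rw [hμ, mem_roots_iff hq] at hζ ⊢
      rw [mul_pow, hζ, hωq, one_mul]
    · rw [Finset.card_image_of_injective _ (mul_left_injective₀ hω0)]
  have : S = S * (ω : ℂ) := by
    conv_lhs => rw [hS, ← himg, Finset.sum_image ((mul_left_injective₀ hω0).injOn)]
    rw [hS, Finset.sum_mul]
    refine Finset.sum_congr rfl fun ζ _ => ?_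
    rw [hD]
    push_cast
    ring
  have h4 : S * ((ω : ℂ) - 1) = 0 := by rw [mul_sub, mul_one, ← this, sub_self]
  refine (mul_eq_zero.1 h4).resolve_right (sub_ne_zero.2 fun h => ?_)
  exact hω.ne_one hp.one_lt (Subtype.ext (by simpa using h))

theorem trace_perm {p k : ℕ} (hM : IsPModular p M) {σ : Equiv.Perm X} (hσ : σ ^ p ^ k = 1)
    {E : Matrix X X (locRing M)} (hE : E * E = E) (hinv : IsInvMat σ E) :
    ((∑ j, E (σ j) j : locRing M) : ℂ) = ((fixRes σ E).rank : ℂ) := by
  classical
  have hq : 0 < p ^ k := pow_pos hM.1.pos k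
  rw [sum_diag_eq_sum_twist hq hσ hinv]
  push_cast
  have hone : (1 : locRing M) ∈ Polynomial.nthRootsFinset (p ^ k) (1 : locRing M) :=
    (mem_roots_iff hq).2 (one_pow _)
  rw [Finset.sum_congr rfl fun (ζ : locRing M) hζ => show (ζ : ℂ) * ((twistMat σ E ζ).trace : ℂ) =
      (ζ : ℂ) * (movingRank σ E ζ : ℂ) + if ζ = 1 then ((fixRes σ E).rank : ℂ) else 0 by
    rw [trace_idem_eq_rank_res (twistMat_idem hE hinv ζ)]
    split_ifs with h1
    · subst h1
      rw [rank_twistMat_one hM hσ hE hinv]
      push_cast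
      ring
    · rw [rank_twistMat_of_ne_one hM σ E ((mem_roots_iff hq).1 hζ) h1, add_zero]]
  rw [Finset.sum_add_distrib, Finset.sum_ite_eq' _ (1 : locRing M), if_pos hone,
    sum_movingRank hM hσ E, zero_add]

end Cfsg.Agent.Blocks
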