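/-
The trace lemma twisted by a commuting matrix of finite order prime to `p`.
-/
import Cfsg.Agent.Lib.Blocks.PermTrace

set_option linter.unusedSectionVars false
set_option linter.style.haveILetI false

namespace Cfsg.Agent.Blocks

open Cfsg Matrix Cfsg.Agent.Blocks.Orbit

variable {M : Ideal AlgInt} [M.IsPrime] {p k : ℕ}
variable {X : Type*} [Fintype X] [DecidableEq X] {σ : Equiv.Perm X}

theorem IsInvMat.one : IsInvMat σ (1 : Matrix X X (locRing M)) := fun i j => by
  simp [Matrix.one_apply]

theorem IsInvMat.mul {A B : Matrix X X (locRing M)} (hA : IsInvMat σ A) (hB : IsInvMat σ B) :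
    IsInvMat σ (A * B) := fun i j => by
  rw [Matrix.mul_apply, Matrix.mul_apply]
  symm
  exact Fintype.sum_equiv σ _ _ fun l => by rw [hA, hB]

theorem IsInvMat.smul {A : Matrix X X (locRing M)} (hA : IsInvMat σ A) (c : locRing M) :
    IsInvMat σ (c • A) := fun i j => by simp [hA i j]

theorem IsInvMat.sum {ι : Type*} (s : Finset ι) (f : ι → Matrix X X (locRing M))
    (h : ∀ i ∈ s, IsInvMat σ (f i)) : IsInvMat σ (∑ i ∈ s, f i) := fun a b => by
  simp only [Matrix.sum_apply]
  exact Finset.sum_congr rfl fun i hi => h i hi a b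

theorem IsInvMat.powMat {A : Matrix X X (locRing M)} (hA : IsInvMat σ A) (n : ℕ) :
    IsInvMat σ (A ^ n) := by
  induction n with
  | zero => rw [pow_zero]; exact IsInvMat.one
  | succ n ih => rw [pow_succ]; exact IsInvMat.mul ih hA

theorem fixRes_mul (hM : IsPModular p M) (hσ : σ ^ p ^ k = 1) {A B : Matrix X X (locRing M)}
    (hA : IsInvMat σ A) (hB : IsInvMat σ B) : fixRes σ (A * B) = fixRes σ A * fixRes σ B := by
  classical
  haveI : CharP (resField M) p := resField_charP hM
  ext a b
  simp only [fixRes, Matrix.of_apply, Matrix.mul_apply, map_sum, map_mul]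
  rw [sum_subtype_univ (fun j : X => σ j = j)
    (fun j => res M (A a j) * res M (B j b))]
  rw [sum_orbit σ, ← Finset.sum_filter_add_sum_filter_not Finset.univ
    (fun o : Reps σ => σ (o : X) = o)]
  have h2 : ∀ o ∈ Finset.univ.filter (fun o : Reps σ => ¬ σ (o : X) = o),
      ∑ i ∈ Finset.range (per σ (o : X)),
        res M (A a ((σ ^ i) (o : X))) * res M (B ((σ ^ i) (o : X)) b) = 0 := by
    intro o ho
    have ha : ∀ i : ℕ, (σ ^ i) (a : X) = a := fun i => by
      rw [← Equiv.Perm.iterate_eq_pow]; exact Function.iterate_fixed a.2 i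
    have hb : ∀ i : ℕ, (σ ^ i) (b : X) = b := fun i => by
      rw [← Equiv.Perm.iterate_eq_pow]; exact Function.iterate_fixed b.2 i
    rw [Finset.sum_congr rfl (fun i _ => show res M (A a ((σ ^ i) (o : X))) *
        res M (B ((σ ^ i) (o : X)) b) = res M (A a o) * res M (B o b) by
      rw [← IsInvMat.pow σ hA i (a : X) o, ha, ← IsInvMat.pow σ hB i (o : X) b, hb]),
      Finset.sum_const, Finset.card_range, nsmul_eq_mul,
      (CharP.cast_eq_zero_iff (resField M) p _).2
        (prime_dvd_per hM.1 hσ (Finset.mem_filter.1 ho).2), zero_mul]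
  rw [Finset.sum_eq_zero h2, add_zero]
  refine Finset.sum_bij (fun o _ => (o : X)) ?_ ?_ ?_ ?_
  · intro o ho
    exact Finset.mem_filter.2 ⟨Finset.mem_univ _, (Finset.mem_filter.1 ho).2⟩
  · intro o _ o' _ h
    exact Subtype.ext h
  · intro i hi
    have hfix := (Finset.mem_filter.1 hi).2
    have hrep : rep σ i = i := by
      obtain ⟨n, -, hn'⟩ := exists_pow_rep σ i
      have h1 : (σ ^ n) i = i := by
        rw [← Equiv.Perm.iterate_eq_pow]; exact Function.iterate_fixed hfix n
      exact (σ ^ n).injective (hn'.trans h1.symm)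
    exact ⟨⟨i, hrep⟩, Finset.mem_filter.2 ⟨Finset.mem_univ _, hfix⟩, rfl⟩
  · intro o ho
    rw [per_eq_one (Finset.mem_filter.1 ho).2, Finset.sum_range_one, pow_zero,
      Equiv.Perm.one_apply]

theorem fixRes_pow (hM : IsPModular p M) (hσ : σ ^ p ^ k = 1) {A : Matrix X X (locRing M)}
    (hA : IsInvMat σ A) (n : ℕ) : fixRes σ (A ^ n) = fixRes σ A ^ n := by
  induction n with
  | zero =>
    ext a b
    simp only [fixRes, Matrix.of_apply, pow_zero, Matrix.one_apply, Subtype.coe_inj]
    split_ifs <;> simp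
  | succ n ih => rw [pow_succ, fixRes_mul hM hσ (IsInvMat.powMat hA n) hA, ih, pow_succ]

theorem fixRes_smul_sum {ι : Type*} (s : Finset ι) (c : locRing M)
    (f : ι → Matrix X X (locRing M)) :
    fixRes σ (c • ∑ i ∈ s, f i) = res M c • ∑ i ∈ s, fixRes σ (f i) := by
  ext a b
  simp [fixRes, Matrix.sum_apply, map_sum, Finset.mul_sum]

theorem fixRes_smul (c : locRing M) (A : Matrix X X (locRing M)) :
    fixRes σ (c • A) = res M c • fixRes σ A := by
  ext a b
  simp [fixRes]

/-- The averaged projection attached to a root of unity `η` and a matrix `Y` with `Y ^ m = 1`. -/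
noncomputable def eigProj (m : ℕ) (c η : locRing M) (Y : Matrix X X (locRing M)) :
    Matrix X X (locRing M) :=
  c • ∑ i ∈ Finset.range m, η ^ i • Y ^ i

theorem mul_eigProj {m : ℕ} (hm : 0 < m) (c : locRing M) {η : locRing M} (hη : η ^ m = 1)
    {Y : Matrix X X (locRing M)} (hY : Y ^ m = 1) :
    Y * eigProj m c η Y = η ^ (m - 1) • eigProj m c η Y := by
  unfold eigProj
  rw [Matrix.mul_smul, smul_comm (η ^ (m - 1)) c]
  congr 1
  rw [Finset.mul_sum, Finset.smul_sum]
  refine Eq.trans (Finset.sum_congr rfl fun i _ => ?_)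
    ((sum_range_shift (L := m) (fun i => η ^ (m - 1) • (η ^ i • Y ^ i)) (fun i => by
    rw [pow_add, pow_add, hη, hY, mul_one, mul_one]) 1))
  rw [Matrix.mul_smul, ← pow_succ', smul_smul, ← pow_add, show m - 1 + (i + 1) = m + i by omega,
    pow_add η, hη, one_mul]

theorem eigProj_idem {m : ℕ} (hm : 0 < m) {c : locRing M} (hc : c * (m : locRing M) = 1)
    {η : locRing M} (hη : η ^ m = 1) {Y : Matrix X X (locRing M)} (hY : Y ^ m = 1) :
    eigProj m c η Y * eigProj m c η Y = eigProj m c η Y := by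
  have hpow : ∀ i : ℕ, Y ^ i * eigProj m c η Y = (η ^ (m - 1)) ^ i • eigProj m c η Y := by
    intro i
    induction i with
    | zero => simp
    | succ i ih =>
      rw [pow_succ', Matrix.mul_assoc, ih, Matrix.mul_smul, mul_eigProj hm c hη hY, smul_smul,
        pow_succ]
  conv_lhs => arg 1; unfold eigProj
  rw [Matrix.smul_mul, Finset.sum_mul,
    Finset.sum_congr rfl (fun i _ => show η ^ i • Y ^ i * eigProj m c η Y = eigProj m c η Y by
      rw [Matrix.smul_mul, hpow, smul_smul, ← mul_pow, ← pow_succ',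
        Nat.sub_add_cancel hm, hη, one_pow, one_smul]),
    Finset.sum_const, Finset.card_range, ← Nat.cast_smul_eq_nsmul (locRing M), smul_smul, hc,
    one_smul]

theorem sum_eigProj {m : ℕ} (hm : 0 < m) {c : locRing M} (hc : c * (m : locRing M) = 1)
    {Y : Matrix X X (locRing M)} (hY : Y ^ m = 1) :
    ∑ η ∈ Polynomial.nthRootsFinset m (1 : locRing M), η ^ (m - 1) • eigProj m c η Y = Y := by
  unfold eigProj
  simp only [Finset.smul_sum, smul_smul]
  rw [Finset.sum_comm]
  have h1 : ∀ i : ℕ, ∑ η ∈ Polynomial.nthRootsFinset m (1 : locRing M),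
      η ^ (m - 1) * (c * η ^ i) = c * if m ∣ m - 1 + i then (m : locRing M) else 0 := fun i => by
    rw [← sum_roots_pow m hm, Finset.mul_sum]
    exact Finset.sum_congr rfl fun η _ => by rw [pow_add]; ring
  simp only [← Finset.sum_smul, h1]
  rw [Finset.sum_eq_single (1 % m)]
  · rw [if_pos, hc, one_smul]
    · rcases Nat.lt_or_ge 1 m with h1 | h1
      · rw [Nat.mod_eq_of_lt h1, pow_one]
      · have : m = 1 := by omega
        subst this
        rw [Nat.mod_self, pow_zero]
        simpa using hY.symm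
    · rcases Nat.lt_or_ge 1 m with h1 | h1
      · rw [Nat.mod_eq_of_lt h1, Nat.sub_add_cancel (by omega : 1 ≤ m)]
      · have : m = 1 := by omega
        subst this
        exact one_dvd _
  · intro i hi hne
    rw [if_neg, mul_zero, zero_smul]
    intro hdvd
    apply hne
    have him : i < m := Finset.mem_range.1 hi
    rcases Nat.lt_or_ge 1 m with h1 | h1
    · rw [Nat.mod_eq_of_lt h1]
      rcases Nat.eq_zero_or_pos i with rfl | hi0
      · have := Nat.le_of_dvd (by omega) hdvd
        omega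
      · have h2 : m ∣ i - 1 := by
          have := Nat.dvd_sub hdvd (dvd_refl m)
          rwa [show m - 1 + i - m = i - 1 by omega] at this
        have := Nat.eq_zero_of_dvd_of_lt h2 (by omega)
        omega
    · have : m = 1 := by omega
      subst this
      omega
  · intro h
    exact absurd (Finset.mem_range.2 (Nat.mod_lt _ hm)) h

/-- Data for the twisted trace lemma. -/
structure TraceDatum (M : Ideal AlgInt) [M.IsPrime] (σ : Equiv.Perm X)
    (E Y : Matrix X X (locRing M)) (m : ℕ) : Prop where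
  idem : E * E = E
  invE : IsInvMat σ E
  invY : IsInvMat σ Y
  pow_eq : Y ^ m = 1
  comm : Commute Y E

theorem trace_perm_twist (hM : IsPModular p M) (hσ : σ ^ p ^ k = 1)
    {E Y : Matrix X X (locRing M)} {m : ℕ} (hm : ¬ p ∣ m) {c : locRing M}
    (hc : c * (m : locRing M) = 1) (h : TraceDatum M σ E Y m) :
    ((∑ j, (Y * E) (σ j) j : locRing M) : ℂ) =
      ∑ η ∈ Polynomial.nthRootsFinset m (1 : locRing M), (η : ℂ) ^ (m - 1) *
        ((res M c • (∑ i ∈ Finset.range m, res M η ^ i • fixRes σ Y ^ i) * fixRes σ E).rank : ℂ) := by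
  classical
  have hm0 : 0 < m := Nat.pos_of_ne_zero fun h0 => hm (h0 ▸ dvd_zero p)
  have key : ∀ η ∈ Polynomial.nthRootsFinset m (1 : locRing M),
      ((∑ j, (eigProj m c η Y * E) (σ j) j : locRing M) : ℂ) =
        ((res M c • (∑ i ∈ Finset.range m, res M η ^ i • fixRes σ Y ^ i) * fixRes σ E).rank : ℂ) := by
    intro η hη
    have hη' : η ^ m = 1 := (mem_roots_iff hm0).1 hη
    have hinv : IsInvMat σ (eigProj m c η Y) :=
      IsInvMat.smul (IsInvMat.sum _ _ fun i _ => IsInvMat.smul (IsInvMat.powMat h.invY i) _) c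
    have hcomm : Commute (eigProj m c η Y) E :=
      Commute.smul_left (Commute.sum_left _ _ _ fun i _ =>
        Commute.smul_left (h.comm.pow_left i) _) c
    have hidem : eigProj m c η Y * E * (eigProj m c η Y * E) = eigProj m c η Y * E := by
      rw [Matrix.mul_assoc, ← Matrix.mul_assoc E, ← hcomm.eq, Matrix.mul_assoc, h.idem,
        ← Matrix.mul_assoc, eigProj_idem hm0 hc hη' h.pow_eq]
    rw [trace_perm hM hσ hidem (IsInvMat.mul hinv h.invE), fixRes_mul hM hσ hinv h.invE]
    congr 4
    unfold eigProj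
    rw [fixRes_smul_sum]
    congr 1
    refine Finset.sum_congr rfl fun i _ => ?_
    rw [fixRes_smul, fixRes_pow hM hσ h.invY, map_pow]
  have h1 : Y * E = ∑ η ∈ Polynomial.nthRootsFinset m (1 : locRing M),
      η ^ (m - 1) • (eigProj m c η Y * E) := by
    conv_lhs => rw [← sum_eigProj hm0 hc h.pow_eq, Finset.sum_mul]
    exact Finset.sum_congr rfl fun η _ => Matrix.smul_mul _ _ _
  rw [h1]
  simp only [Matrix.sum_apply, Matrix.smul_apply, smul_eq_mul]
  rw [Finset.sum_comm]
  simp only [← Finset.mul_sum]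
  push_cast
  refine Finset.sum_congr rfl fun η hη => ?_
  rw [← key η hη]
  push_cast
  rfl

variable {X' : Type*} [Fintype X'] [DecidableEq X'] {σ' : Equiv.Perm X'} {k' : ℕ}

/-- Two data with the same restriction to the fixed points modulo `M` have the same trace. -/
theorem trace_perm_congr (hM : IsPModular p M) (hσ : σ ^ p ^ k = 1) (hσ' : σ' ^ p ^ k' = 1)
    {E Y : Matrix X X (locRing M)} {E' Y' : Matrix X' X' (locRing M)} {m : ℕ} (hm : ¬ p ∣ m)
    (h : TraceDatum M σ E Y m) (h' : TraceDatum M σ' E' Y' m)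
    (e : {i // σ i = i} ≃ {i // σ' i = i})
    (hE : fixRes σ E = (fixRes σ' E').submatrix e e)
    (hY : fixRes σ Y = (fixRes σ' Y').submatrix e e) :
    ((∑ j, (Y * E) (σ j) j : locRing M) : ℂ) = ((∑ j, (Y' * E') (σ' j) j : locRing M) : ℂ) := by
  classical
  let c : locRing M := ⟨(m : ℂ)⁻¹, inv_natCast_memLocalRing hM hm⟩
  have hm0 : m ≠ 0 := fun h0 => hm (h0 ▸ dvd_zero p)
  have hc : c * (m : locRing M) = 1 := Subtype.ext (by
    show (m : ℂ)⁻¹ * ((m : locRing M) : ℂ) = 1
    simp [hm0])
  rw [trace_perm_twist hM hσ hm hc h, trace_perm_twist hM hσ' hm hc h']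
  refine Finset.sum_congr rfl fun η _ => ?_
  congr 2
  have hpow : ∀ i : ℕ, fixRes σ Y ^ i = (fixRes σ' Y' ^ i).submatrix e e := by
    intro i
    induction i with
    | zero => rw [pow_zero, pow_zero, Matrix.submatrix_one_equiv]
    | succ i ih => rw [pow_succ, pow_succ, ih, hY, Matrix.submatrix_mul_equiv]
  rw [show res M c • (∑ i ∈ Finset.range m, res M η ^ i • fixRes σ Y ^ i) =
      (res M c • ∑ i ∈ Finset.range m, res M η ^ i • fixRes σ' Y' ^ i).submatrix e e by
    ext a b
    simp [Matrix.sum_apply, hpow], hE, Matrix.submatrix_mul_equiv, Matrix.rank_submatrix]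

/-- A datum with vanishing restriction to the fixed points has zero trace. -/
theorem trace_perm_eq_zero (hM : IsPModular p M) (hσ : σ ^ p ^ k = 1)
    {E Y : Matrix X X (locRing M)} {m : ℕ} (hm : ¬ p ∣ m) (h : TraceDatum M σ E Y m)
    (hE : fixRes σ E = 0) : ((∑ j, (Y * E) (σ j) j : locRing M) : ℂ) = 0 := by
  let c : locRing M := ⟨(m : ℂ)⁻¹, inv_natCast_memLocalRing hM hm⟩
  have hm0 : m ≠ 0 := fun h0 => hm (h0 ▸ dvd_zero p)
  have hc : c * (m : locRing M) = 1 := Subtype.ext (by
    show (m : ℂ)⁻¹ * ((m : locRing M) : ℂ) = 1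
    simp [hm0])
  rw [trace_perm_twist hM hσ hm hc h]
  refine Finset.sum_eq_zero fun η _ => ?_
  rw [hE, Matrix.mul_zero, Matrix.rank_zero, Nat.cast_zero, mul_zero]

end Cfsg.Agent.Blocks
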