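/-
Block orthogonality and the local formula (second main theorem).
-/
import Cfsg.Agent.Lib.Blocks.PermTraceTwist
import Cfsg.Agent.Lib.Blocks.LocalIdem
import Mathlib.GroupTheory.Perm.Basic

set_option linter.unusedSectionVars false
set_option linter.style.haveILetI false

namespace Cfsg.Agent.Blocks

open Cfsg MonoidAlgebra Cfsg.Agent.Char Cfsg.Agent.Blocks.Orbit
open scoped ComplexConjugate

universe u

variable {G : Type u} [Group G] [Fintype G] {p : ℕ} {M : Ideal AlgInt} [M.IsPrime]

/-- Averaging a character value over a conjugacy class times a fixed element. -/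
theorem irr_sum_conj_mul (χ : IrrCharacter G) (g h : G) :
    ∑ j : G, (χ : G → ℂ) (j⁻¹ * g * j * h) =
      (Nat.card G : ℂ) * (χ : G → ℂ) g * (χ : G → ℂ) h / (χ : G → ℂ) 1 := by
  obtain ⟨f, n, ρ, hρ, rfl⟩ := χ
  have hn : (n : ℂ) ≠ 0 :=
    Nat.cast_ne_zero.2 (by simpa using (finrank_pos_of_irreducible ρ).ne')
  let T : Module.End ℂ (Fin n → ℂ) := ∑ j : G, ρ (j⁻¹ * g * j)
  have hT : ∀ k v, T (ρ k v) = ρ k (T v) := by
    intro k v
    simp only [T, LinearMap.sum_apply, map_sum]
    refine Fintype.sum_equiv (Equiv.mulRight k) _ _ fun j => ?_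
    rw [← Module.End.mul_apply, ← map_mul, ← Module.End.mul_apply, ← map_mul, Equiv.coe_mulRight]
    congr 2
    group
  obtain ⟨c, hc⟩ := schur_scalar ρ T hT
  have h1 : ∀ k : G, ∑ j : G, ρ.character (j⁻¹ * g * j * k) = c * ρ.character k := by
    intro k
    have h2 : ∑ j : G, ρ (j⁻¹ * g * j * k) = c • ρ k := by
      simp only [map_mul ρ (_ * _) k, ← Finset.sum_mul]
      rw [show (∑ j : G, ρ (j⁻¹ * g * j)) = T from rfl, hc]
      rfl
    simp only [Representation.character]
    rw [← map_sum, h2, map_smul, smul_eq_mul]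
  have h3 := h1 1
  simp only [mul_one, Representation.char_one, Module.finrank_pi, Fintype.card_fin] at h3
  have h4 : ∀ j : G, ρ.character (j⁻¹ * g * j) = ρ.character g := fun j => by
    have := Representation.char_conj ρ g j⁻¹
    rwa [inv_inv] at this
  simp only [h4, Finset.sum_const, Finset.card_univ, nsmul_eq_mul,
    ← Nat.card_eq_fintype_card] at h3
  show ∑ j : G, ρ.character (j⁻¹ * g * j * h) = _
  rw [h1 h, h3]
  simp only [Representation.char_one, Module.finrank_pi, Fintype.card_fin]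
  field_simp

/-! ## Matrices on the group -/

variable [DecidableEq G]

/-- Right multiplication by a class element, as a matrix. -/
noncomputable def mulMat (x : MonoidAlgebra (locRing M) G) : Matrix G G (locRing M) :=
  Matrix.of fun w v => x.coeff (v⁻¹ * w)

theorem mulMat_mul (x y : MonoidAlgebra (locRing M) G) :
    mulMat (y * x) = mulMat x * mulMat y := by
  ext w v
  refine congrArg Subtype.val ?_
  simp only [mulMat, Matrix.of_apply, Matrix.mul_apply, coeff_mul_univ]
  refine Fintype.sum_equiv (Equiv.mulLeft v) _ _ fun a => ?_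
  simp only [Equiv.coe_mulLeft]
  rw [mul_comm, mul_inv_rev, mul_assoc, ← mul_assoc v⁻¹, inv_mul_cancel, one_mul]

/-- The permutation `v ↦ a v b⁻¹`. -/
def shiftPerm (a b : G) : Equiv.Perm G := (Equiv.mulLeft a).trans (Equiv.mulRight b⁻¹)

theorem shiftPerm_apply (a b v : G) : shiftPerm a b v = a * v * b⁻¹ := rfl

theorem shiftPerm_pow (a b v : G) (n : ℕ) :
    (shiftPerm a b ^ n) v = a ^ n * v * (b ^ n)⁻¹ := by
  induction n with
  | zero => simp
  | succ n ih =>
    rw [pow_succ' (shiftPerm a b), Equiv.Perm.mul_apply, ih, shiftPerm_apply, pow_succ' a,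
      pow_succ' b, mul_inv_rev]
    simp only [mul_assoc]

theorem isInvMat_mulMat {x : MonoidAlgebra (locRing M) G} (hx : IsClassElt x) (a b : G) :
    IsInvMat (shiftPerm a b) (mulMat x) := fun i j => by
  simp only [mulMat, Matrix.of_apply, shiftPerm_apply]
  rw [show (a * j * b⁻¹)⁻¹ * (a * i * b⁻¹) = b * (j⁻¹ * i) * b⁻¹ by group]
  exact hx _ _

/-- A permutation as a matrix. -/
def permMat (π : Equiv.Perm G) : Matrix G G (locRing M) :=
  Matrix.of fun w v => if w = π v then 1 else 0

theorem permMat_mul_apply (π : Equiv.Perm G) (A : Matrix G G (locRing M)) (i j : G) :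
    ((permMat π * A : Matrix G G (locRing M))) i j = A (π.symm i) j := by
  rw [Matrix.mul_apply, Finset.sum_eq_single (π.symm i)]
  · simp [permMat]
  · intro l _ hl
    simp only [permMat, Matrix.of_apply]
    rw [if_neg, zero_mul]
    intro h
    exact hl (by rw [h, Equiv.symm_apply_apply])
  · simp

theorem mul_permMat_apply (π : Equiv.Perm G) (A : Matrix G G (locRing M)) (i j : G) :
    ((A * permMat π : Matrix G G (locRing M))) i j = A i (π j) := by
  rw [Matrix.mul_apply, Finset.sum_eq_single (π j)]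
  · simp [permMat]
  · intro l _ hl
    simp only [permMat, Matrix.of_apply]
    rw [if_neg hl, mul_zero]
  · simp

theorem permMat_one : permMat (M := M) (1 : Equiv.Perm G) = 1 := by
  refine Matrix.ext fun w v => ?_
  simp only [permMat, Matrix.of_apply, Matrix.one_apply, Equiv.Perm.one_apply]
  exact if_congr Iff.rfl rfl rfl

theorem permMat_pow (π : Equiv.Perm G) (n : ℕ) :
    permMat (M := M) π ^ n = permMat (π ^ n) := by
  induction n with
  | zero => rw [pow_zero, pow_zero, permMat_one]
  | succ n ih =>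
    rw [pow_succ' _ n, ih, pow_succ' π n]
    ext i j
    refine congrArg Subtype.val ?_
    rw [permMat_mul_apply]
    simp only [permMat, Matrix.of_apply, Equiv.Perm.mul_apply]
    refine if_congr ?_ rfl rfl
    rw [Equiv.symm_apply_eq]

theorem traceDatum_mulMat {x : MonoidAlgebra (locRing M) G} (hx : IsClassElt x)
    (hid : x * x = x) {a b y z : G} (hay : Commute a y) (hbz : Commute b z) {m : ℕ}
    (hy : y ^ m = 1) (hz : z ^ m = 1) :
    TraceDatum M (shiftPerm a b) (mulMat x) (permMat (shiftPerm y z)) m where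
  idem := by rw [← mulMat_mul, hid]
  invE := isInvMat_mulMat hx a b
  invY := fun i j => by
    simp only [permMat, Matrix.of_apply]
    refine if_congr ?_ rfl rfl
    simp only [shiftPerm_apply]
    constructor
    · intro h
      have h2 : y * (a * j * b⁻¹) * z⁻¹ = a * (y * j * z⁻¹) * b⁻¹ := by
        rw [← mul_assoc y, ← mul_assoc y, ← hay.eq]
        simp only [mul_assoc]
        congr 3
        rw [← mul_inv_rev, ← mul_inv_rev, hbz.eq]
      rw [h2] at h
      exact mul_left_cancel (mul_right_cancel h)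
    · intro h
      rw [h]
      simp only [mul_assoc]
      rw [← mul_assoc y a, ← hay.eq, mul_assoc]
      congr 3
      rw [← mul_inv_rev, ← mul_inv_rev, hbz.eq]
  pow_eq := by
    rw [permMat_pow, ← permMat_one]
    congr 1
    ext v
    rw [shiftPerm_pow, hy, hz]
    simp
  comm := by
    refine Matrix.ext fun i j => ?_
    rw [permMat_mul_apply, mul_permMat_apply]
    simp only [mulMat, Matrix.of_apply]
    rw [show shiftPerm y z j = y * j * z⁻¹ from rfl,
      show (shiftPerm y z).symm i = y⁻¹ * i * z from by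
        rw [Equiv.symm_apply_eq, shiftPerm_apply]; group,
      show (y * j * z⁻¹)⁻¹ * i = z * (j⁻¹ * (y⁻¹ * i * z)) * z⁻¹ by group]
    exact (hx _ _).symm

theorem sum_mulMat {B : Set (IrrCharacter G)} {x : MonoidAlgebra (locRing M) G}
    (hx : toC x = blockElt B) (a b y z : G) [DecidablePred (· ∈ B)] :
    ((∑ j, (permMat (shiftPerm y z) * mulMat x : Matrix G G (locRing M)) (shiftPerm a b j) j : locRing M) : ℂ) =
      ∑ χ ∈ Finset.univ.filter (· ∈ B),
        conj ((χ : G → ℂ) (y⁻¹ * a) * (χ : G → ℂ) (b⁻¹ * z)) := by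
  push_cast
  have h1 : ∀ j, ((permMat (shiftPerm y z) * mulMat x : Matrix G G (locRing M)) (shiftPerm a b j) j : ℂ) =
      blockCoeff B (j⁻¹ * (y⁻¹ * a) * j * (b⁻¹ * z)) := fun j => by
    rw [permMat_mul_apply, show (shiftPerm y z).symm (shiftPerm a b j) = y⁻¹ * a * j * b⁻¹ * z from by
        rw [Equiv.symm_apply_eq, shiftPerm_apply, shiftPerm_apply]; group]
    simp only [mulMat, Matrix.of_apply]
    rw [← coeff_toC, hx, coeff_blockElt]
    congr 1
    simp only [mul_assoc]
  simp only [h1, blockCoeff_eq_sum, Finset.mul_sum]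
  rw [Finset.sum_comm]
  refine Finset.sum_congr rfl fun χ _ => ?_
  rw [← Finset.mul_sum, ← Finset.mul_sum, ← map_sum, irr_sum_conj_mul]
  have hG : (Nat.card G : ℂ) ≠ 0 := Nat.cast_ne_zero.2 Nat.card_pos.ne'
  have h1' := irr_one_ne_zero χ
  simp only [map_div₀, map_mul, map_natCast, conj_irr_one]
  field_simp

/-- The sum `Σ_{χ ∈ B} χ(g) * conj (χ h)`. -/
noncomputable def blockPair (B : Set (IrrCharacter G)) (g h : G) : ℂ := by
  classical
  exact ∑ χ ∈ Finset.univ.filter (· ∈ B), (χ : G → ℂ) g * conj ((χ : G → ℂ) h)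

theorem blockPair_eq_finsum (B : Set (IrrCharacter G)) (g h : G) :
    blockPair B g h = ∑ᶠ χ ∈ B, (χ : G → ℂ) g * conj ((χ : G → ℂ) h) := by
  classical
  rw [finsum_mem_eq_finite_toFinset_sum _ (Set.toFinite B)]
  unfold blockPair
  exact Finset.sum_congr (by ext χ; simp) fun _ _ => rfl

theorem blockPair_eq_trace {B : Set (IrrCharacter G)} (hB : IsPBlock M B) (a b u w : G)
    (hau : Commute a u) (hbw : Commute b w) :
    blockPair B (a * u) (b * w) =
      conj ((∑ j, (permMat (shiftPerm u⁻¹ w⁻¹) * mulMat (blockEltR M B) : Matrix G G (locRing M)) (shiftPerm a b j) j :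
        locRing M) : ℂ) := by
  classical
  rw [sum_mulMat (toC_blockEltR hB), map_sum]
  unfold blockPair
  refine Finset.sum_congr rfl fun χ _ => ?_
  rw [Complex.conj_conj, inv_inv, ← hau.eq, ← irr_inv χ (b * w), hbw.eq, mul_inv_rev]

/-- A `p`-element with a witnessing exponent. -/
theorem shiftPerm_pow_eq_one {a b : G} {i j : ℕ} (ha : orderOf a = p ^ i) (hb : orderOf b = p ^ j) :
    shiftPerm a b ^ p ^ (i + j) = 1 := by
  ext v
  rw [shiftPerm_pow, orderOf_dvd_iff_pow_eq_one.1 (ha ▸ pow_dvd_pow p (Nat.le_add_right i j)),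
    orderOf_dvd_iff_pow_eq_one.1 (hb ▸ pow_dvd_pow p (Nat.le_add_left j i))]
  simp

theorem not_dvd_mul_orders (hM : IsPModular p M) {u w : G} (hu : ¬ p ∣ orderOf u)
    (hw : ¬ p ∣ orderOf w) : ¬ p ∣ orderOf u * orderOf w :=
  fun h => (hM.1.dvd_mul.1 h).elim hu hw

/-- If no fixed point carries a unit coefficient, the block pairing vanishes. -/
theorem blockPair_eq_zero (hM : IsPModular p M) {B : Set (IrrCharacter G)} (hB : IsPBlock M B)
    {a b u w : G} (ha : ∃ i, orderOf a = p ^ i) (hb : ∃ i, orderOf b = p ^ i) (hau : Commute a u)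
    (hbw : Commute b w) (hu : ¬ p ∣ orderOf u) (hw : ¬ p ∣ orderOf w)
    (h : ∀ v x : G, a * v = v * b → Commute b x → MemLocalIdeal M (blockCoeff B x)) :
    blockPair B (a * u) (b * w) = 0 := by
  classical
  obtain ⟨i, ha⟩ := ha
  obtain ⟨j, hb⟩ := hb
  rw [blockPair_eq_trace hB a b u w hau hbw, trace_perm_eq_zero hM (shiftPerm_pow_eq_one ha hb)
    (not_dvd_mul_orders hM hu hw)
    (traceDatum_mulMat (isClassElt_blockEltR B) (blockEltR_idem hB) hau.inv_right hbw.inv_right
      (by rw [inv_pow, pow_mul, pow_orderOf_eq_one, one_pow, inv_one])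
      (by rw [inv_pow, mul_comm, pow_mul, pow_orderOf_eq_one, one_pow, inv_one])) ?_, map_zero]
  refine Matrix.ext fun s t => ?_
  simp only [fixRes, Matrix.of_apply, mulMat, Matrix.zero_apply, res_eq_zero_iff,
    coeff_blockEltR hB]
  have hs : a * (s : G) = s * b := mul_inv_eq_iff_eq_mul.1 s.2
  have ht : a * (t : G) = t * b := mul_inv_eq_iff_eq_mul.1 t.2
  refine h t _ ht ?_
  show b * ((t : G)⁻¹ * s) = (t : G)⁻¹ * s * b
  have hb1 : b = (t : G)⁻¹ * a * t := by rw [mul_assoc, ht, inv_mul_cancel_left]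
  rw [mul_assoc _ (s : G) b, ← hs]
  nth_rw 1 [hb1]
  group

/-- Block orthogonality. -/
theorem blockPair_eq_zero_of_not_isConj (hM : IsPModular p M) {B : Set (IrrCharacter G)}
    (hB : IsPBlock M B) {a b u w : G} (ha : ∃ i, orderOf a = p ^ i) (hb : ∃ i, orderOf b = p ^ i)
    (hau : Commute a u) (hbw : Commute b w) (hu : ¬ p ∣ orderOf u) (hw : ¬ p ∣ orderOf w)
    (hab : ¬ IsConj a b) : blockPair B (a * u) (b * w) = 0 :=
  blockPair_eq_zero hM hB ha hb hau hbw hu hw fun v _ hv _ =>
    absurd (isConj_iff.2 ⟨v⁻¹, by rw [inv_inv, mul_assoc, hv, inv_mul_cancel_left]⟩) hab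

/-- The local formula: on the section of a `p`-element `a` the pairing is that of the blocks of
the centraliser occurring in the Brauer image of the block idempotent. -/
theorem blockPair_local (hM : IsPModular p M) {B : Set (IrrCharacter G)} (hB : IsPBlock M B)
    (a : G) (ha : ∃ i, orderOf a = p ^ i) (C : Subgroup G)
    (hC : C = Subgroup.centralizer (Subgroup.zpowers a : Set G)) [Fintype C] [DecidableEq C]
    (u w : C) (hu : ¬ p ∣ orderOf u) (hw : ¬ p ∣ orderOf w) :
    blockPair B (a * u) (a * w) =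
      ∑ b ∈ unitBlocks M (restrictElt C (blockEltR M B)), blockPair b u w := by
  classical
  obtain ⟨i, hai⟩ := ha
  haveI := Fact.mk hM.1
  have hcomm : ∀ c : C, Commute a (c : G) :=
    fun c => (Subgroup.mem_centralizer_iff.1 (hC ▸ c.2)) a (Subgroup.mem_zpowers a)
  have hmem : ∀ g : G, Commute a g → g ∈ C := by
    intro g hg
    rw [hC]
    refine Subgroup.mem_centralizer_iff.2 fun q hq => ?_
    obtain ⟨n, rfl⟩ := Subgroup.mem_zpowers_iff.1 hq
    exact (hg.zpow_left n).eq
  have hP : IsPGroup p (Subgroup.zpowers a) :=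
    IsPGroup.of_card (n := i) (by rw [Nat.card_zpowers, hai])
  set x := restrictElt C (blockEltR M B) with hx
  set f := ∑ b ∈ unitBlocks M x, blockEltR M b with hf
  have hxid : resG x * resG x = resG x := by
    subst hC
    exact resG_restrict_blockEltR_idem hM hB hP
  have hres : resG x = resG f :=
    resG_eq_sum_blocks (IsClassElt.restrictElt (isClassElt_blockEltR B) C) hxid
  have hfid : f * f = f := sum_blockEltR_idem _ fun b hb => (mem_unitBlocks.1 hb).1
  have hu' : ¬ p ∣ orderOf (u : G) := by rwa [Subgroup.orderOf_coe]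
  have hw' : ¬ p ∣ orderOf (w : G) := by rwa [Subgroup.orderOf_coe]
  set m := orderOf u * orderOf w with hm
  have hmp : ¬ p ∣ m := not_dvd_mul_orders hM hu hw
  have hum : (u⁻¹) ^ m = 1 := by rw [inv_pow, hm, pow_mul, pow_orderOf_eq_one, one_pow, inv_one]
  have hwm : (w⁻¹) ^ m = 1 := by
    rw [inv_pow, hm, mul_comm, pow_mul, pow_orderOf_eq_one, one_pow, inv_one]
  have hum' : ((u : G)⁻¹) ^ m = 1 := by
    simpa using congrArg Subtype.val hum
  have hwm' : ((w : G)⁻¹) ^ m = 1 := by
    simpa using congrArg Subtype.val hwm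
  have hσ' : (1 : Equiv.Perm C) ^ p ^ 0 = 1 := one_pow _
  have hsP : shiftPerm (1 : C) 1 = 1 := by ext v; simp [shiftPerm_apply]
  have hright : ∑ b ∈ unitBlocks M x, blockPair b u w =
      conj ((∑ j, (permMat (shiftPerm u⁻¹ w⁻¹) * mulMat f : Matrix C C (locRing M)) (shiftPerm (1 : C) 1 j) j :
        locRing M) : ℂ) := by
    have h1 : ∀ b ∈ unitBlocks M x, blockPair b u w =
        conj ((∑ j, (permMat (shiftPerm u⁻¹ w⁻¹) * mulMat (blockEltR M b) : Matrix C C (locRing M))
          (shiftPerm (1 : C) 1 j) j : locRing M) : ℂ) := fun b hb => by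
      rw [← blockPair_eq_trace (mem_unitBlocks.1 hb).1 1 1 u w (Commute.one_left u)
        (Commute.one_left w), one_mul, one_mul]
    rw [Finset.sum_congr rfl h1, ← map_sum]
    congr 1
    push_cast
    rw [Finset.sum_comm]
    refine Finset.sum_congr rfl fun j _ => ?_
    simp only [permMat_mul_apply, mulMat, Matrix.of_apply, hf, MonoidAlgebra.coeff_sum,
      Finset.sum_apply']
    push_cast
    rfl
  rw [hright, blockPair_eq_trace hB a a (u : G) (w : G) (hcomm u) (hcomm w)]
  congr 1
  refine trace_perm_congr (k' := 0) hM (shiftPerm_pow_eq_one hai hai)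
    (by rw [hsP]; exact one_pow _) hmp
    (traceDatum_mulMat (isClassElt_blockEltR B) (blockEltR_idem hB) (hcomm u).inv_right
      (hcomm w).inv_right hum' hwm')
    (traceDatum_mulMat (IsClassElt.sum _ _ fun b _ => isClassElt_blockEltR b) hfid
      (Commute.one_left _) (Commute.one_left _) hum hwm)
    { toFun := fun v => ⟨⟨v.1, hmem v.1 (mul_inv_eq_iff_eq_mul.1 v.2)⟩, by simp [shiftPerm_apply]⟩
      invFun := fun v => ⟨v.1.1, mul_inv_eq_iff_eq_mul.2 (hcomm v.1)⟩
      left_inv := fun _ => rfl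
      right_inv := fun _ => rfl } ?_ ?_
  · refine Matrix.ext fun s t => ?_
    have h1 := congrArg (fun z : MonoidAlgebra (resField M) C => z.coeff
      (⟨(t : G), hmem t (mul_inv_eq_iff_eq_mul.1 t.2)⟩⁻¹ *
        ⟨(s : G), hmem s (mul_inv_eq_iff_eq_mul.1 s.2)⟩)) hres
    simp only [coeff_resG, hx, coeff_restrictElt, Subgroup.coe_mul, Subgroup.coe_inv] at h1
    exact h1
  · refine Matrix.ext fun s t => ?_
    simp only [fixRes, Matrix.of_apply, permMat, shiftPerm_apply]
    show res (M := M) _ = res (M := M) _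
    refine congrArg _ (if_congr ?_ rfl rfl)
    rw [Subtype.ext_iff]
    exact Iff.rfl

end Cfsg.Agent.Blocks
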