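/-
A class sum whose class misses the centraliser of a normal `p`-subgroup is nilpotent in
characteristic `p`.
-/
import Cfsg.Agent.Lib.Blocks.GroupRing
import Mathlib.GroupTheory.QuotientGroup.Basic
import Mathlib.Algebra.Algebra.ZMod
import Mathlib.Data.ZMod.Basic
import Mathlib.GroupTheory.OrderOfElement

namespace Cfsg.Agent.Blocks

open MonoidAlgebra

variable {G : Type*} [Group G] [Fintype G] {p : ℕ} [Fact p.Prime]

/-- A class sum kills every vector fixed by a normal `p`-subgroup it does not centralise. -/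
theorem classSum_mul_eq_zero_of_fixed {R : Type*} [CommRing R] [CharP R p] (N : Subgroup G)
    (hN : IsPGroup p N) (g : G)
    (hg : ∀ x : G, IsConj g x → x ∉ Subgroup.centralizer (N : Set G))
    [hnorm : N.Normal] {v : MonoidAlgebra R G} (hv : ∀ n ∈ N, single n (1 : R) * v = v) :
    classSum R g * v = 0 := by
  classical
  have hv' : ∀ n ∈ N, ∀ a : G, v.coeff (n * a) = v.coeff a := fun n hn a => by
    have h := congrArg (fun z : MonoidAlgebra R G => z.coeff (n * a)) (hv n hn)
    rw [coeff_single_mul_eq_mul_coeff (m₂ := a) (by intro m' _; constructor <;> simp)] at h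
    · simpa using h.symm
  refine gaExt fun c => ?_
  rw [coeff_mul_univ]
  let _ : MulAction N G := MulAction.compHom G (ConjAct.toConjAct.toMonoidHom.comp N.subtype)
  have hsmul : ∀ (u : N) (a : G), u • a = (u : G) * a * (u : G)⁻¹ := fun u a =>
    ConjAct.smul_def (ConjAct.toConjAct (u : G)) a
  rw [sum_eq_sum_fixed hN (fun a => (classSum R g).coeff a * v.coeff (a⁻¹ * c))]
  · simp only [MonoidAlgebra.coeff_zero, Finsupp.coe_zero, Pi.zero_apply]
    refine Finset.sum_eq_zero fun a ha => ?_
    rw [coeff_classSum, if_neg, zero_mul]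
    intro hga
    refine hg a hga (Subgroup.mem_centralizer_iff.2 fun u hu => ?_)
    have := (Finset.mem_filter.1 ha).2 ⟨u, hu⟩
    rw [hsmul] at this
    exact mul_inv_eq_iff_eq_mul.1 this
  · intro u a
    rw [hsmul, isClassElt_classSum g a u]
    congr 1
    have h1 : ((u : G) * a * (u : G)⁻¹)⁻¹ * c =
        (u : G) * ((a⁻¹ * (u : G)⁻¹ * a) * (a⁻¹ * c)) := by group
    rw [h1, hv' _ u.2]
    refine hv' _ ?_ _
    have := hnorm.conj_mem _ (inv_mem u.2) a⁻¹
    rwa [inv_inv] at this

theorem classSum_isNilpotent_zmod (N : Subgroup G) [hnorm : N.Normal]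
    (hN : IsPGroup p N) (g : G)
    (hg : ∀ x : G, IsConj g x → x ∉ Subgroup.centralizer (N : Set G)) :
    IsNilpotent (classSum (ZMod p) g) := by
  classical
  haveI : Finite (MonoidAlgebra (ZMod p) G) :=
    Finite.of_injective (fun x => (⇑x.coeff : G → ZMod p)) fun x y h => gaExt (congrFun h)
  set K := classSum (ZMod p) g with hK
  let S : AddSubgroup (MonoidAlgebra (ZMod p) G) :=
    { carrier := {v | ∃ k : ℕ, K ^ k * v = 0}
      zero_mem' := ⟨0, by simp⟩
      add_mem' := by
        rintro a b ⟨i, hi⟩ ⟨j, hj⟩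
        refine ⟨i + j, ?_⟩
        rw [mul_add]
        nth_rw 1 [add_comm i j]
        rw [pow_add, pow_add, mul_assoc, mul_assoc, hi, hj, mul_zero, mul_zero, add_zero]
      neg_mem' := by
        rintro a ⟨i, hi⟩
        exact ⟨i, by rw [mul_neg, hi, neg_zero]⟩ }
  have hcomm : ∀ (n : G) (v : MonoidAlgebra (ZMod p) G) (k : ℕ),
      K ^ k * (single n 1 * v) = single n 1 * (K ^ k * v) := fun n v k => by
    rw [← mul_assoc, IsClassElt.comm (IsClassElt.pow (isClassElt_classSum g) k), mul_assoc]
  let L : N →* AddMonoid.End (MonoidAlgebra (ZMod p) G) :=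
    { toFun := fun n => AddMonoidHom.mulLeft (single (n : G) 1)
      map_one' := by
        refine AddMonoidHom.ext fun v => ?_
        show single ((1 : N) : G) (1 : ZMod p) * v = v
        rw [OneMemClass.coe_one, ← MonoidAlgebra.one_def, one_mul]
      map_mul' := fun a b => by
        refine AddMonoidHom.ext fun v => ?_
        show single ((a * b : N) : G) (1 : ZMod p) * v = single (a : G) 1 * (single (b : G) 1 * v)
        rw [← mul_assoc, single_mul_single, one_mul]; rfl }
  have hSinv : ∀ (n : N) (v : MonoidAlgebra (ZMod p) G), v ∈ S → L n v ∈ S := by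
    rintro n v ⟨k, hk⟩
    exact ⟨k, by
      show K ^ k * (single (n : G) 1 * v) = 0
      rw [hcomm, hk, mul_zero]⟩
  let _ : SMul N (MonoidAlgebra (ZMod p) G ⧸ S) :=
    ⟨fun n => QuotientAddGroup.map S S (L n) (fun v hv => hSinv n v hv)⟩
  let _ : MulAction N (MonoidAlgebra (ZMod p) G ⧸ S) :=
    { one_smul := fun q => by
        induction q using QuotientAddGroup.induction_on with
        | _ v => show ((L 1 v : _) : MonoidAlgebra (ZMod p) G ⧸ S) = _; rw [map_one]; rfl
      mul_smul := fun a b q => by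
        induction q using QuotientAddGroup.induction_on with
        | _ v =>
          show ((L (a * b) v : _) : MonoidAlgebra (ZMod p) G ⧸ S) = ((L a (L b v) : _) :
            MonoidAlgebra (ZMod p) G ⧸ S)
          rw [map_mul]; rfl }
  by_cases hS : (1 : MonoidAlgebra (ZMod p) G) ∈ S
  · obtain ⟨k, hk⟩ := hS
    exact ⟨k, by simpa using hk⟩
  exfalso
  have hpdvd : p ∣ Nat.card (MonoidAlgebra (ZMod p) G ⧸ S) := by
    let o : MonoidAlgebra (ZMod p) G ⧸ S := ((1 : MonoidAlgebra (ZMod p) G) :
      MonoidAlgebra (ZMod p) G ⧸ S)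
    have ho : o ≠ 0 := fun h => hS ((QuotientAddGroup.eq_zero_iff _).1 h)
    have hpo : p • o = 0 := by
      show ((p • (1 : MonoidAlgebra (ZMod p) G) : _) : MonoidAlgebra (ZMod p) G ⧸ S) = 0
      rw [show (p • (1 : MonoidAlgebra (ZMod p) G)) = 0 from by
        rw [nsmul_one, MonoidAlgebra.natCast_def, ZMod.natCast_self, single_zero]]
      rfl
    have := addOrderOf_dvd_natCard o
    rwa [addOrderOf_eq_prime hpo ho] at this
  have h0 : (0 : MonoidAlgebra (ZMod p) G ⧸ S) ∈
      MulAction.fixedPoints N (MonoidAlgebra (ZMod p) G ⧸ S) := fun n => map_zero _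
  obtain ⟨b, hb, hb0⟩ := hN.exists_fixed_point_of_prime_dvd_card_of_fixed_point
    (MonoidAlgebra (ZMod p) G ⧸ S) hpdvd h0
  induction b using QuotientAddGroup.induction_on with
  | _ v =>
    have hv : ∀ n : N, L n v - v ∈ S := fun n => (QuotientAddGroup.eq_iff_sub_mem).1 (hb n)
    choose k hk using hv
    obtain ⟨m, hm⟩ : ∃ m, ∀ n : N, k n ≤ m :=
      ⟨Finset.univ.sup k, fun n => Finset.le_sup (Finset.mem_univ n)⟩
    have hw : ∀ n ∈ N, single n 1 * (K ^ m * v) = K ^ m * v := fun n hn => by
      rw [← hcomm, ← sub_eq_zero, ← mul_sub, ← Nat.sub_add_cancel (hm ⟨n, hn⟩), pow_add,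
        mul_assoc]
      have := hk ⟨n, hn⟩
      replace this : K ^ k ⟨n, hn⟩ * (single n 1 * v - v) = 0 := this
      rw [this, mul_zero]
    have hz := classSum_mul_eq_zero_of_fixed N hN g hg hw
    refine hb0 ((QuotientAddGroup.eq_zero_iff v).2 ?_).symm
    show ∃ j : ℕ, K ^ j * v = 0
    exact ⟨1 + m, by rw [pow_add, pow_one, mul_assoc, hz]⟩

theorem classSum_isNilpotent {R : Type*} [CommRing R] [CharP R p] (N : Subgroup G) [N.Normal]
    (hN : IsPGroup p N) (g : G)
    (hg : ∀ x : G, IsConj g x → x ∉ Subgroup.centralizer (N : Set G)) :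
    IsNilpotent (classSum R g) := by
  obtain ⟨k, hk⟩ := classSum_isNilpotent_zmod N hN g hg
  refine ⟨k, ?_⟩
  rw [← map_classSum (ZMod.castHom dvd_rfl R) g, ← map_pow, hk, map_zero]

end Cfsg.Agent.Blocks
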