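/-
The min-max theorem, defect groups, and the number of blocks of a given defect.
-/
import Cfsg.Agent.Lib.Blocks.Block
import Cfsg.Agent.Lib.Blocks.Nilpotent
import Cfsg.Prelude.Def_Solvable
import Mathlib.GroupTheory.Sylow

set_option linter.unusedSectionVars false
set_option linter.style.haveILetI false

namespace Cfsg.Agent.Blocks

open Cfsg MonoidAlgebra

universe u

variable {G : Type u} [Group G] [Fintype G] {p : ℕ} {M : Ideal AlgInt} [M.IsPrime]

/-- If the idempotent coefficient at `h` and the central character at `g` are units, every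
`p`-subgroup centralising `h` centralises some conjugate of `g`. -/
theorem exists_conj_mem_centralizer (hM : IsPModular p M) {B : Set (IrrCharacter G)}
    (hB : IsPBlock M B) {χ : IrrCharacter G} (hχ : χ ∈ B) {g h : G}
    (hg : ¬ MemLocalIdeal M (centralChar (χ : G → ℂ) g))
    (hh : ¬ MemLocalIdeal M (blockCoeff B h)) {P : Subgroup G} (hP : IsPGroup p P)
    (hPh : h ∈ Subgroup.centralizer (P : Set G)) :
    ∃ x : G, IsConj g x ∧ x ∈ Subgroup.centralizer (P : Set G) := by
  classical
  by_contra hc
  push Not at hc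
  haveI := Fact.mk hM.1
  haveI : CharP (resField M) p := resField_charP hM
  set e := blockEltR M B with he
  have hecl : IsClassElt e := isClassElt_blockEltR B
  let c : locRing M := ⟨centralChar (χ : G → ℂ) g, centralChar_memLocalRing χ g⟩
  let K := classSum (locRing M) g
  have hN : IsNilpotent (resG (e * K - c • e)) := by
    refine isNilpotent_resG (IsClassElt.sub (IsClassElt.mul hecl (isClassElt_classSum g))
      (IsClassElt.smul hecl c)) fun ψ => ?_
    rw [omegaR_sub, omegaR_mul ψ hecl (isClassElt_classSum g), omegaR_smul, omegaR_classSum,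
      he, omegaR_blockEltR hB]
    by_cases hψ : ψ ∈ B
    · rw [if_pos hψ, one_mul, mul_one]
      exact isPBlock_sameBlock hB hψ hχ g
    · simpa [hψ] using memLocalIdeal_zero (M := M)
  obtain ⟨n, hn⟩ := hN
  have hK : brTrunc P (classSum (resField M) g) = 0 := by
    refine gaExt fun x => ?_
    rw [coeff_brTrunc, coeff_classSum, MonoidAlgebra.coeff_zero, Finsupp.coe_zero, Pi.zero_apply]
    by_cases hx : x ∈ Subgroup.centralizer (P : Set G)
    · rw [if_pos hx, if_neg fun hgx => hc x hgx hx]
    · rw [if_neg hx]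
  set E := resG e with hE
  have hEcl : IsClassElt E := IsClassElt.map hecl _
  have hKcl : IsClassElt (classSum (resField M) g) := isClassElt_classSum g
  have hb : brTrunc P (E * classSum (resField M) g - res M c • E) =
      (- res M c) • brTrunc P E := by
    rw [sub_eq_add_neg, ← neg_smul, brTrunc_add, brTrunc_smul,
      brTrunc_mul hP (IsClassElt.isInvElt hEcl P) (IsClassElt.isInvElt hKcl P), hK, mul_zero,
      zero_add]
  have hb2 : ((- res M c) • brTrunc P E) ^ (n + 1) = 0 := by
    rw [← hb, ← brTrunc_pow hP (IsClassElt.sub (IsClassElt.mul hEcl hKcl)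
      (IsClassElt.smul hEcl _))]
    have : (resG (e * K - c • e)) ^ (n + 1) = 0 := by rw [pow_succ, hn, zero_mul]
    rw [map_sub, map_mul, resG_classSum, resG_smul] at this
    rw [this]
    exact gaExt fun x => by simp [coeff_brTrunc]
  have hidem : ∀ k : ℕ, (brTrunc P E) ^ (k + 1) = brTrunc P E := by
    intro k
    rw [← brTrunc_pow hP hEcl]
    congr 1
    induction k with
    | zero => rw [pow_one]
    | succ k ih => rw [pow_succ, ih, hE, ← map_mul, he, blockEltR_idem hB]
  rw [smul_pow, hidem] at hb2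
  have hcne : (- res M c) ^ (n + 1) ≠ 0 :=
    pow_ne_zero _ (neg_ne_zero.2 fun h0 => hg (res_eq_zero_iff.1 h0))
  have hzero : brTrunc P E = 0 := by
    rw [← one_smul (resField M) (brTrunc P E), ← inv_mul_cancel₀ hcne, mul_smul, hb2, smul_zero]
  have := congrArg (fun z : MonoidAlgebra (resField M) G => z.coeff h) hzero
  simp only [coeff_brTrunc, if_pos hPh, hE, coeff_resG, MonoidAlgebra.coeff_zero, Finsupp.coe_zero,
    Pi.zero_apply, res_eq_zero_iff, he, coeff_blockEltR hB] at this
  exact hh this

/-- A Sylow subgroup of a centraliser, as a subgroup of the group. -/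
noncomputable def sylowImage {g : G} (P : Sylow p (Subgroup.centralizer ({g} : Set G))) :
    Subgroup G :=
  (P : Subgroup (Subgroup.centralizer ({g} : Set G))).map
    (Subgroup.centralizer ({g} : Set G)).subtype

theorem isPGroup_sylowImage {g : G} (P : Sylow p (Subgroup.centralizer ({g} : Set G))) :
    IsPGroup p (sylowImage P) := P.isPGroup'.map _

theorem sylowImage_le {g : G} (P : Sylow p (Subgroup.centralizer ({g} : Set G))) :
    sylowImage P ≤ Subgroup.centralizer ({g} : Set G) := Subgroup.map_subtype_le _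

theorem mem_centralizer_of_le {g : G} {Q : Subgroup G}
    (hQ : Q ≤ Subgroup.centralizer ({g} : Set G)) : g ∈ Subgroup.centralizer (Q : Set G) :=
  Subgroup.mem_centralizer_iff.2 fun _ hu =>
    ((Subgroup.mem_centralizer_iff.1 (hQ hu)) g rfl).symm

theorem le_centralizer_singleton {g : G} {Q : Subgroup G}
    (hg : g ∈ Subgroup.centralizer (Q : Set G)) : Q ≤ Subgroup.centralizer ({g} : Set G) :=
  fun u hu => Subgroup.mem_centralizer_iff.2 fun y hy => by
    rw [Set.mem_singleton_iff.1 hy]
    exact ((Subgroup.mem_centralizer_iff.1 hg) u hu).symm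

theorem card_sylowImage {g : G} [Fact p.Prime]
    (P : Sylow p (Subgroup.centralizer ({g} : Set G))) :
    Nat.card (sylowImage P) =
      p ^ (Nat.card (Subgroup.centralizer ({g} : Set G))).factorization p := by
  rw [sylowImage, Subgroup.card_map_of_injective Subtype.val_injective, Sylow.card_eq_multiplicity]

/-- A `p`-subgroup of a centraliser lies in some Sylow subgroup of it. -/
theorem exists_sylowImage_ge {g : G} {Q : Subgroup G} (hQ : IsPGroup p Q)
    (hle : Q ≤ Subgroup.centralizer ({g} : Set G)) :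
    ∃ P : Sylow p (Subgroup.centralizer ({g} : Set G)), Q ≤ sylowImage P := by
  obtain ⟨P, hP⟩ := IsPGroup.exists_le_sylow (P := Q.subgroupOf (Subgroup.centralizer ({g} : Set G)))
    (hQ.comap_of_injective _ Subtype.val_injective)
  exact ⟨P, fun u hu => ⟨⟨u, hle hu⟩, hP hu, rfl⟩⟩

theorem isConj_centralizer_map {g x : G} (hx : IsConj g x) :
    ∃ c : G, (Subgroup.centralizer ({g} : Set G)).map (MulAut.conj c).toMonoidHom =
      Subgroup.centralizer ({x} : Set G) := by
  obtain ⟨c, rfl⟩ := isConj_iff.1 hx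
  refine ⟨c, le_antisymm ?_ fun u hu => ?_⟩
  · rintro _ ⟨u, hu, rfl⟩
    have h' := Subgroup.mem_centralizer_iff.1 hu g rfl
    refine Subgroup.mem_centralizer_iff.2 fun y hy => ?_
    rw [Set.mem_singleton_iff.1 hy]
    simp only [MulEquiv.coe_toMonoidHom, MulAut.conj_apply]
    calc c * g * c⁻¹ * (c * u * c⁻¹) = c * (g * u) * c⁻¹ := by group
      _ = c * (u * g) * c⁻¹ := by rw [h']
      _ = c * u * c⁻¹ * (c * g * c⁻¹) := by group
  · have h' := Subgroup.mem_centralizer_iff.1 hu (c * g * c⁻¹) rfl
    refine ⟨c⁻¹ * u * c, Subgroup.mem_centralizer_iff.2 fun y hy => ?_, by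
      simp [mul_assoc]⟩
    rw [Set.mem_singleton_iff.1 hy]
    calc g * (c⁻¹ * u * c) = c⁻¹ * (c * g * c⁻¹ * u) * c := by group
      _ = c⁻¹ * (u * (c * g * c⁻¹)) * c := by rw [h']
      _ = c⁻¹ * u * c * g := by group

/-- A `p`-subgroup centralising a conjugate of `g` is conjugate into any Sylow subgroup of
`C(g)`. -/
theorem exists_conj_le_sylowImage [Fact p.Prime] {g x : G} (hx : IsConj g x) {Q : Subgroup G}
    (hQ : IsPGroup p Q) (hxQ : x ∈ Subgroup.centralizer (Q : Set G))
    (D : Sylow p (Subgroup.centralizer ({g} : Set G))) :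
    ∃ y : G, Q ≤ (sylowImage D).map (MulAut.conj y).toMonoidHom := by
  obtain ⟨c, rfl⟩ := isConj_iff.1 hx
  have hle : Q.map (MulAut.conj c⁻¹).toMonoidHom ≤ Subgroup.centralizer ({g} : Set G) := by
    rintro _ ⟨u, hu, rfl⟩
    have h' := (Subgroup.mem_centralizer_iff.1 hxQ) u hu
    refine Subgroup.mem_centralizer_iff.2 fun z hz => ?_
    rw [Set.mem_singleton_iff.1 hz]
    simp only [MulEquiv.coe_toMonoidHom, MulAut.conj_apply, inv_inv]
    calc g * (c⁻¹ * u * c) = c⁻¹ * (c * g * c⁻¹ * u) * c := by group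
      _ = c⁻¹ * (u * (c * g * c⁻¹)) * c := by rw [h']
      _ = c⁻¹ * u * c * g := by group
  obtain ⟨P, hP⟩ := exists_sylowImage_ge (hQ.map _) hle
  obtain ⟨z, hz⟩ := MulAction.exists_smul_eq (Subgroup.centralizer ({g} : Set G)) D P
  refine ⟨c * (z : G), fun u hu => ?_⟩
  obtain ⟨w, hw, hwu⟩ := hP ⟨u, hu, rfl⟩
  rw [← hz, SetLike.mem_coe, Sylow.coe_subgroup_smul] at hw
  obtain ⟨v, hv, hvw⟩ := hw
  refine ⟨(v : G), ⟨v, hv, rfl⟩, ?_⟩
  have h1 := congrArg Subtype.val hvw
  simp only [MulDistribMulAction.toMonoidEnd_apply, MulDistribMulAction.toMonoidHom_apply,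
    MulAut.smul_def, MulAut.conj_apply, Subgroup.coe_mul, Subgroup.coe_inv] at h1
  simp only [MulEquiv.coe_toMonoidHom, MulAut.conj_apply, Subgroup.coe_subtype, inv_inv] at hwu ⊢
  calc c * (z : G) * v * (c * (z : G))⁻¹ = c * ((z : G) * v * (z : G)⁻¹) * c⁻¹ := by group
    _ = c * (c⁻¹ * u * c) * c⁻¹ := by rw [h1, hwu]
    _ = u := by group

/-- Min-max, lower part: classes with a unit idempotent coefficient. -/
theorem exists_conj_le_of_coeff (hM : IsPModular p M) {B : Set (IrrCharacter G)}
    (hB : IsPBlock M B) {g h : G} (hg : IsDefectClass M B g)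
    (hh : ¬ MemLocalIdeal M (blockCoeff B h))
    (D : Sylow p (Subgroup.centralizer ({g} : Set G))) {Q : Subgroup G} (hQ : IsPGroup p Q)
    (hhQ : h ∈ Subgroup.centralizer (Q : Set G)) :
    ∃ y : G, Q ≤ (sylowImage D).map (MulAut.conj y).toMonoidHom := by
  haveI := Fact.mk hM.1
  obtain ⟨χ, hχ⟩ := isPBlock_nonempty hB
  obtain ⟨x, hgx, hx⟩ := exists_conj_mem_centralizer hM hB hχ (hg.2.2 χ hχ) hh hQ hhQ
  exact exists_conj_le_sylowImage hgx hQ hx D

/-- Min-max, upper part: classes with a unit central character meet the centraliser of a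
defect group. -/
theorem exists_conj_centralizing_defect (hM : IsPModular p M) {B : Set (IrrCharacter G)}
    (hB : IsPBlock M B) {g h : G} (hg : IsDefectClass M B g) {χ : IrrCharacter G} (hχ : χ ∈ B)
    (hh : ¬ MemLocalIdeal M (centralChar (χ : G → ℂ) h))
    (D : Sylow p (Subgroup.centralizer ({g} : Set G))) :
    ∃ x : G, IsConj h x ∧ x ∈ Subgroup.centralizer (sylowImage D : Set G) :=
  exists_conj_mem_centralizer hM hB hχ hh hg.2.1 (isPGroup_sylowImage D)
    (mem_centralizer_of_le (sylowImage_le D))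

/-- The exponent of `p` in the order of the centraliser: the defect of a class. -/
noncomputable def classExp (p : ℕ) (g : G) : ℕ :=
  (Nat.card (Subgroup.centralizer ({g} : Set G))).factorization p

theorem classExp_le_of_mem_centralizer [Fact p.Prime] {g x : G} (hgx : IsConj g x) {h : G}
    (P : Sylow p (Subgroup.centralizer ({h} : Set G)))
    (hx : x ∈ Subgroup.centralizer (sylowImage P : Set G)) : classExp p h ≤ classExp p g := by
  obtain ⟨D⟩ : Nonempty (Sylow p (Subgroup.centralizer ({g} : Set G))) := inferInstance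
  obtain ⟨y, hy⟩ := exists_conj_le_sylowImage hgx (isPGroup_sylowImage P) hx D
  have h1 := Subgroup.card_le_of_le hy
  rw [Subgroup.card_map_of_injective (MulAut.conj y).injective, card_sylowImage,
    card_sylowImage] at h1
  exact (Nat.pow_le_pow_iff_right (Fact.out : p.Prime).one_lt).1 h1

theorem classExp_le (hM : IsPModular p M) {B : Set (IrrCharacter G)} (hB : IsPBlock M B)
    {χ : IrrCharacter G} (hχ : χ ∈ B) {g h : G}
    (hg : ¬ MemLocalIdeal M (centralChar (χ : G → ℂ) g))
    (hh : ¬ MemLocalIdeal M (blockCoeff B h)) : classExp p h ≤ classExp p g := by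
  haveI := Fact.mk hM.1
  obtain ⟨P⟩ : Nonempty (Sylow p (Subgroup.centralizer ({h} : Set G))) := inferInstance
  obtain ⟨x, hgx, hx⟩ := exists_conj_mem_centralizer hM hB hχ hg hh (isPGroup_sylowImage P)
    (mem_centralizer_of_le (sylowImage_le P))
  exact classExp_le_of_mem_centralizer hgx P hx

theorem classExp_eq_of_units (hM : IsPModular p M) {B : Set (IrrCharacter G)}
    (hB : IsPBlock M B) {χ : IrrCharacter G} (hχ : χ ∈ B) {g h : G} (hg : IsDefectClass M B g)
    (h1 : ¬ MemLocalIdeal M (blockCoeff B h))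
    (h2 : ¬ MemLocalIdeal M (centralChar (χ : G → ℂ) h)) : classExp p h = classExp p g :=
  le_antisymm (classExp_le hM hB hχ (hg.2.2 χ hχ) h1) (classExp_le hM hB hχ h2 hg.2.1)

/-- Any two defect groups of a block are conjugate. -/
theorem defectGroup_conj (hM : IsPModular p M) {B : Set (IrrCharacter G)} (hB : IsPBlock M B)
    {D E : Subgroup G} (hD : IsDefectGroup p M B D) (hE : IsDefectGroup p M B E) :
    ∃ y : G, D = E.map (MulAut.conj y).toMonoidHom := by
  haveI := Fact.mk hM.1
  obtain ⟨g, hg, P, rfl⟩ := hD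
  obtain ⟨h, hh, Q, rfl⟩ := hE
  obtain ⟨χ, hχ⟩ := isPBlock_nonempty hB
  obtain ⟨y, hy⟩ := exists_conj_le_of_coeff hM hB hh hg.2.1 Q (isPGroup_sylowImage P)
    (mem_centralizer_of_le (sylowImage_le P))
  refine ⟨y, Subgroup.eq_of_le_of_card_ge hy ?_⟩
  show Nat.card ((sylowImage Q).map (MulAut.conj y).toMonoidHom) ≤ Nat.card (sylowImage P)
  rw [Subgroup.card_map_of_injective (MulAut.conj y).injective, card_sylowImage, card_sylowImage]
  exact le_of_eq (congrArg (p ^ ·) (classExp_eq_of_units hM hB hχ hg hh.2.1 (hh.2.2 χ hχ)))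

theorem centralizer_normal_of_normal (N : Subgroup G) [hn : N.Normal] :
    (Subgroup.centralizer (N : Set G)).Normal := by
  refine ⟨fun a ha c => Subgroup.mem_centralizer_iff.2 fun u hu => ?_⟩
  have h1 : c⁻¹ * u * c ∈ N := by
    have := hn.conj_mem u hu c⁻¹
    rwa [inv_inv] at this
  have h' := Subgroup.mem_centralizer_iff.1 ha _ h1
  calc u * (c * a * c⁻¹) = c * (c⁻¹ * u * c * a) * c⁻¹ := by group
    _ = c * (a * (c⁻¹ * u * c)) * c⁻¹ := by rw [h']
    _ = c * a * c⁻¹ * u := by group

/-- A class with a unit central character centralises every normal `p`-subgroup. -/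
theorem mem_centralizer_of_not_memLocalIdeal (hM : IsPModular p M) (N : Subgroup G) [N.Normal]
    (hN : IsPGroup p N) {χ : IrrCharacter G} {g : G}
    (hg : ¬ MemLocalIdeal M (centralChar (χ : G → ℂ) g)) :
    g ∈ Subgroup.centralizer (N : Set G) := by
  classical
  haveI := Fact.mk hM.1
  haveI : CharP (resField M) p := resField_charP hM
  haveI := centralizer_normal_of_normal N
  by_contra hgN
  have hnil := classSum_isNilpotent (R := resField M) N hN g fun x hx hxN => by
    obtain ⟨c, hc⟩ := isConj_iff.1 hx.symm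
    exact hgN (hc ▸ (inferInstance : (Subgroup.centralizer (N : Set G)).Normal).conj_mem x hxN c)
  obtain ⟨k, hk⟩ := hnil
  apply hg
  rw [← resG_classSum, ← map_pow] at hk
  have hcl : IsClassElt ((classSum (locRing M) g) ^ k) := IsClassElt.pow (isClassElt_classSum g) k
  haveI : Finite (ConjClasses G) := Finite.of_surjective _ ConjClasses.mk_surjective
  haveI : Fintype (ConjClasses G) := Fintype.ofFinite _
  have h1 : MemLocalIdeal M (omegaR χ ((classSum (locRing M) g) ^ k)) := by
    rw [omegaR_eq_sum χ hcl]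
    refine memLocalIdeal_sum _ _ fun C _ => MemLocalIdeal.mul_right (res_eq_zero_iff.1 ?_)
      (centralChar_memLocalRing χ C.out)
    rw [← coeff_resG, hk]; simp
  have h2 : ∀ j : ℕ, omegaR χ ((classSum (locRing M) g) ^ j) = centralChar (χ : G → ℂ) g ^ j := by
    intro j
    induction j with
    | zero => simp [omegaR_one]
    | succ j ih => rw [pow_succ, omegaR_mul χ (IsClassElt.pow (isClassElt_classSum g) j)
        (isClassElt_classSum g), ih, omegaR_classSum, pow_succ]
  rw [h2] at h1
  by_contra hng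
  have h4 := MemLocalIdeal.mul_left ((locRing M).pow_mem
    (memLocalRing_inv (centralChar_memLocalRing χ g) hng) k) h1
  have h0 : centralChar (χ : G → ℂ) g ≠ 0 := fun h0 => hng (by rw [h0]; exact memLocalIdeal_zero)
  rw [← mul_pow, inv_mul_cancel₀ h0, one_pow] at h4
  exact not_memLocalIdeal_one h4

theorem le_defectGroup_of_normal (hM : IsPModular p M) {B : Set (IrrCharacter G)}
    (hB : IsPBlock M B) {D : Subgroup G} (hD : IsDefectGroup p M B D) (N : Subgroup G) [N.Normal]
    (hN : IsPGroup p N) : N ≤ D := by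
  haveI := Fact.mk hM.1
  obtain ⟨g, hg, P, rfl⟩ := hD
  obtain ⟨χ, hχ⟩ := isPBlock_nonempty hB
  have hgN := mem_centralizer_of_not_memLocalIdeal hM N hN (hg.2.2 χ hχ)
  have hp' : IsPGroup p (N.subgroupOf (Subgroup.centralizer ({g} : Set G))) :=
    hN.comap_of_injective _ Subtype.val_injective
  have hle : N.subgroupOf (Subgroup.centralizer ({g} : Set G)) ≤
      (P : Subgroup (Subgroup.centralizer ({g} : Set G))) :=
    hp'.le_sylow_of_normal P
  intro u hu
  exact ⟨⟨u, le_centralizer_singleton hgN hu⟩, hle hu, rfl⟩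

end Cfsg.Agent.Blocks
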