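/-
p-parts of elements; block parts of class functions on p-sections.
-/
import Cfsg.Agent.Lib.Blocks.BlockOrth
import Cfsg.Agent.Lib.Blocks.MinMax
import Cfsg.Agent.Lib.Transfer.Basic

set_option linter.unusedSectionVars false
set_option linter.style.haveILetI false

namespace Cfsg.Agent.Blocks

open Cfsg Cfsg.Agent.Char
open scoped ComplexConjugate

universe u

variable {G : Type u} [Group G] [Fintype G] {p : ℕ} {M : Ideal AlgInt} [M.IsPrime]

/-! ## p-parts -/

theorem exists_isPPart (hp : p.Prime) (g : G) : ∃ x, IsPPart p g x := by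
  haveI := Fact.mk hp
  obtain ⟨u, v, huv, hu, hv, hk, hv'⟩ := Cfsg.Agent.PBasic.exists_pPart_mul (p := p) g
  refine ⟨u, v, huv, ?_, hk, (Nat.Prime.coprime_iff_not_dvd hp).1 hv'.symm⟩
  obtain ⟨i, rfl⟩ := Subgroup.mem_zpowers_iff.1 hu
  obtain ⟨j, rfl⟩ := Subgroup.mem_zpowers_iff.1 hv
  exact ((Commute.refl g).zpow_left i).zpow_right j

theorem isPPart_unique (hp : p.Prime) {g x x' : G} (h : IsPPart p g x) (h' : IsPPart p g x') :
    x = x' := by
  obtain ⟨y, rfl, hc, ⟨k, hk⟩, hy⟩ := h
  obtain ⟨y', he, hc', ⟨k', hk'⟩, hy'⟩ := h'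
  have hco : Nat.Coprime (p ^ (k + k')) (orderOf y * orderOf y') :=
    (Nat.Coprime.mul_right ((hp.coprime_iff_not_dvd).2 hy)
      ((hp.coprime_iff_not_dvd).2 hy')).pow_left _
  obtain ⟨e, he1, he2⟩ := Nat.chineseRemainder hco 1 0
  have key : ∀ {u v : G} {i : ℕ}, Commute u v → orderOf u = p ^ i → i ≤ k + k' →
      orderOf v ∣ orderOf y * orderOf y' → (u * v) ^ e = u := by
    intro u v i huv hu hi hv
    have h1 : u ^ e = u := by
      conv_rhs => rw [← pow_one u]
      rw [pow_eq_pow_iff_modEq, hu]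
      exact he1.of_dvd (pow_dvd_pow p hi)
    have h2 : v ^ e = 1 := orderOf_dvd_iff_pow_eq_one.1 (hv.trans (Nat.modEq_zero_iff_dvd.1 he2))
    rw [huv.mul_pow, h1, h2, mul_one]
  have h1 := key hc hk (Nat.le_add_right _ _) (dvd_mul_right _ _)
  have h2 := key hc' hk' (Nat.le_add_left _ _) (dvd_mul_left _ _)
  rw [he] at h2
  exact h1.symm.trans h2

theorem isPPart_one_iff (hp : p.Prime) {g : G} : IsPPart p g 1 ↔ ¬ p ∣ orderOf g := by
  refine ⟨?_, fun h => ⟨g, one_mul g, Commute.one_left g, ⟨0, by simp⟩, h⟩⟩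
  rintro ⟨y, rfl, -, -, hy⟩
  rwa [one_mul]

theorem IsPPart.inv {g x : G} (h : IsPPart p g x) : IsPPart p g⁻¹ x⁻¹ := by
  obtain ⟨y, rfl, hc, hk, hy⟩ := h
  refine ⟨y⁻¹, ?_, hc.inv_inv, by simpa using hk, by simpa using hy⟩
  rw [hc.eq, mul_inv_rev]

theorem IsPPart.conj {g x : G} (h : IsPPart p g x) (c : G) :
    IsPPart p (c * g * c⁻¹) (c * x * c⁻¹) := by
  obtain ⟨y, rfl, hc, hk, hy⟩ := h
  refine ⟨c * y * c⁻¹, by group, ?_, ?_, ?_⟩
  · show c * x * c⁻¹ * (c * y * c⁻¹) = c * y * c⁻¹ * (c * x * c⁻¹)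
    calc c * x * c⁻¹ * (c * y * c⁻¹) = c * (x * y) * c⁻¹ := by group
      _ = c * (y * x) * c⁻¹ := by rw [hc.eq]
      _ = _ := by group
  · rwa [← MulAut.conj_apply, MulEquiv.orderOf_eq]
  · rwa [← MulAut.conj_apply, MulEquiv.orderOf_eq]

theorem isConj_isPPart {g h : G} (hgh : IsConj g h) {x : G} (hx : IsPPart p g x) :
    ∃ y, IsPPart p h y ∧ IsConj x y := by
  obtain ⟨c, rfl⟩ := isConj_iff.1 hgh
  exact ⟨_, IsPPart.conj hx c, isConj_iff.2 ⟨c, rfl⟩⟩

/-- Block orthogonality in terms of p-parts. -/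
theorem blockPair_eq_zero_of_pPart (hM : IsPModular p M) {B : Set (IrrCharacter G)}
    (hB : IsPBlock M B) {g h x y : G} (hg : IsPPart p g x) (hh : IsPPart p h y)
    (hxy : ¬ IsConj x y) : blockPair B g h = 0 := by
  classical
  obtain ⟨u, rfl, hc, hk, hu⟩ := hg
  obtain ⟨w, rfl, hc', hk', hw⟩ := hh
  exact blockPair_eq_zero_of_not_isConj hM hB hk hk' hc hc' hu hw hxy

theorem blockPair_conj (B : Set (IrrCharacter G)) (g h : G) :
    conj (blockPair B g h) = blockPair B h g := by
  classical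
  unfold blockPair
  rw [map_sum]
  exact Finset.sum_congr rfl fun χ _ => by rw [map_mul, Complex.conj_conj, mul_comm]

/-! ## Block parts -/

theorem blockPart_eq_sum (B : Set (IrrCharacter G)) [DecidablePred (· ∈ B)] (f : G → ℂ) (g : G) :
    blockPart B f g =
      ∑ χ ∈ Finset.univ.filter (· ∈ B), classInner f (χ : G → ℂ) * (χ : G → ℂ) g := by
  unfold blockPart
  rw [finsum_mem_eq_finite_toFinset_sum _ (Set.toFinite B)]
  refine Finset.sum_congr (by ext χ; simp) fun χ _ => ?_
  congr 1
  unfold classInner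
  congr 1
  exact Finset.sum_congr (by ext; simp) fun _ _ => rfl

theorem blockPart_eq_pair (B : Set (IrrCharacter G)) (f : G → ℂ) (g : G) :
    blockPart B f g = (Nat.card G : ℂ)⁻¹ * ∑ x, f x * blockPair B g x := by
  classical
  rw [blockPart_eq_sum]
  unfold blockPair classInner
  simp only [Finset.mul_sum, Finset.sum_mul]
  rw [Finset.sum_comm]
  exact Finset.sum_congr rfl fun x _ => Finset.sum_congr rfl fun χ _ => by ring

/-- The block part of a function vanishes on a p-section on which the function vanishes. -/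
theorem blockPart_eq_zero (hM : IsPModular p M) {B : Set (IrrCharacter G)} (hB : IsPBlock M B)
    (f : G → ℂ) {x g a : G} (hga : IsPPart p g a) (hxa : IsConj x a)
    (hf : ∀ u z : G, IsPPart p u z → IsConj x z → f u = 0) : blockPart B f g = 0 := by
  rw [blockPart_eq_pair, Finset.sum_eq_zero, mul_zero]
  intro u _
  obtain ⟨z, hz⟩ := exists_isPPart hM.1 u
  by_cases hxz : IsConj x z
  · rw [hf u z hz hxz, zero_mul]
  · rw [blockPair_eq_zero_of_pPart hM hB hga hz fun h => hxz (hxa.trans h), mul_zero]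

/-- The inner product of a function with a member of a block, recovered from the block part. -/
theorem classInner_blockPart (B : Set (IrrCharacter G)) [DecidablePred (· ∈ B)] (f : G → ℂ)
    (χ : IrrCharacter G) :
    classInner (blockPart B f) (χ : G → ℂ) = if χ ∈ B then classInner f (χ : G → ℂ) else 0 := by
  classical
  have h : blockPart B f =
      ∑ ψ : IrrCharacter G, (if ψ ∈ B then classInner f (ψ : G → ℂ) else 0) • (ψ : G → ℂ) := by
    funext g
    rw [blockPart_eq_sum, Finset.sum_apply, Finset.sum_filter]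
    exact Finset.sum_congr rfl fun ψ _ => by simp [ite_mul]
  rw [h, classInner_combination]

/-- Characters in different blocks are orthogonal on the p-regular elements. -/
theorem sum_regular_eq_zero (hM : IsPModular p M) {χ ψ : IrrCharacter G}
    (h : ¬ SameBlock M (χ : G → ℂ) (ψ : G → ℂ)) [DecidablePred fun x : G => ¬ p ∣ orderOf x] :
    ∑ x ∈ Finset.univ.filter (fun x : G => ¬ p ∣ orderOf x),
      (χ : G → ℂ) x * conj ((ψ : G → ℂ) x) = 0 := by
  classical
  set B := blockOf M (ψ : G → ℂ) with hB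
  have hBB : IsPBlock M B := isPBlock_blockOf ψ
  have hχ : χ ∉ B := fun hc => h (sameBlock_symm hc)
  set f : G → ℂ := fun x => if ¬ p ∣ orderOf x then (χ : G → ℂ) x else 0 with hf
  have h0 : blockPart B f = 0 := by
    funext g
    obtain ⟨a, ha⟩ := exists_isPPart hM.1 g
    by_cases ha1 : IsConj (1 : G) a
    · have hreg : IsPPart p g 1 := by rwa [isConj_one_right.1 ha1] at ha
      have h1 : blockPart B (χ : G → ℂ) g = 0 := by
        rw [blockPart_eq_sum]
        refine Finset.sum_eq_zero fun φ hφ => ?_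
        rw [classInner_irr_of_ne χ.2 φ.2 (fun e => hχ ?_), zero_mul]
        rw [Finset.mem_filter] at hφ
        rw [Subtype.ext e]; exact hφ.2
      rw [blockPart_eq_pair] at h1 ⊢
      rw [Pi.zero_apply, ← h1]
      congr 1
      refine Finset.sum_congr rfl fun x _ => ?_
      simp only [hf]
      by_cases hx : ¬ p ∣ orderOf x
      · rw [if_pos hx]
      · rw [if_neg hx, zero_mul]
        obtain ⟨b, hb⟩ := exists_isPPart hM.1 x
        rw [blockPair_eq_zero_of_pPart hM hBB hreg hb fun hc => hx ?_, mul_zero]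
        rw [isConj_one_right.1 hc] at hb
        exact (isPPart_one_iff hM.1).1 hb
    · rw [Pi.zero_apply, blockPart_eq_zero hM hBB f ha (IsConj.refl a)]
      intro u z huz hz
      simp only [hf]
      rw [if_neg]
      intro hu
      have := isPPart_unique hM.1 huz ((isPPart_one_iff hM.1).2 hu)
      subst this
      exact ha1 hz.symm
  have h2 := classInner_blockPart B f ψ
  rw [h0, if_pos (show ψ ∈ B from self_mem_blockOf ψ), classInner_zero_left] at h2
  unfold classInner at h2
  have hG : (Nat.card G : ℂ)⁻¹ ≠ 0 := inv_ne_zero (Nat.cast_ne_zero.2 Nat.card_pos.ne')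
  rw [Finset.sum_filter]
  have h3 := (mul_eq_zero.1 h2.symm).resolve_left hG
  refine Eq.trans ?_ h3
  exact Finset.sum_congr rfl fun x _ => by simp only [hf]; split_ifs <;> simp

/-! ## Defect groups under conjugation, vanishing off defect sections -/

theorem card_centralizer_conj (g c : G) :
    Nat.card (Subgroup.centralizer ({c * g * c⁻¹} : Set G)) =
      Nat.card (Subgroup.centralizer ({g} : Set G)) := by
  obtain ⟨d, hd⟩ := isConj_centralizer_map (g := g) (x := c * g * c⁻¹) (isConj_iff.2 ⟨c, rfl⟩)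
  rw [← hd, Subgroup.card_map_of_injective (MulAut.conj d).injective]

theorem blockCoeff_isConj (B : Set (IrrCharacter G)) {g h : G} (hgh : IsConj g h) :
    blockCoeff B g = blockCoeff B h := by
  classical
  simp only [blockCoeff_eq_sum]
  congr 1
  exact Finset.sum_congr rfl fun χ _ => by rw [irr_isConj χ hgh]

theorem centralChar_isConj (χ : IrrCharacter G) {g h : G} (hgh : IsConj g h) :
    centralChar (χ : G → ℂ) g = centralChar (χ : G → ℂ) h := by
  obtain ⟨c, rfl⟩ := isConj_iff.1 hgh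
  unfold centralChar
  rw [irr_isConj χ hgh]
  congr 3
  have h1 := (Subgroup.centralizer ({g} : Set G)).card_mul_index
  have h2 := (Subgroup.centralizer ({c * g * c⁻¹} : Set G)).card_mul_index
  rw [card_centralizer_conj, ← h1] at h2
  exact mod_cast (Nat.eq_of_mul_eq_mul_left Nat.card_pos h2).symm

theorem IsDefectClass.of_isConj {B : Set (IrrCharacter G)} {g h : G}
    (hg : IsDefectClass M B g) (hgh : IsConj g h) : IsDefectClass M B h := by
  obtain ⟨h1, h2, h3⟩ := hg
  refine ⟨?_, ?_, fun χ hχ => ?_⟩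
  · rwa [← blockCoeff_isConj B hgh]
  · rwa [← blockCoeff_isConj B hgh]
  · rw [← centralChar_isConj χ hgh]; exact h3 χ hχ

theorem IsDefectGroup.map_conj [Fact p.Prime] {B : Set (IrrCharacter G)} {D : Subgroup G}
    (hD : IsDefectGroup p M B D) (c : G) :
    IsDefectGroup p M B (D.map (MulAut.conj c).toMonoidHom) := by
  obtain ⟨g, hg, P, rfl⟩ := hD
  refine ⟨c * g * c⁻¹, IsDefectClass.of_isConj hg (isConj_iff.2 ⟨c, rfl⟩), ?_⟩
  have hle : (sylowImage P).map (MulAut.conj c).toMonoidHom ≤
      Subgroup.centralizer ({c * g * c⁻¹} : Set G) := by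
    rintro _ ⟨u, hu, rfl⟩
    have h' := Subgroup.mem_centralizer_iff.1 (sylowImage_le P hu) g rfl
    refine Subgroup.mem_centralizer_iff.2 fun z hz => ?_
    rw [Set.mem_singleton_iff.1 hz]
    simp only [MulEquiv.coe_toMonoidHom, MulAut.conj_apply]
    calc c * g * c⁻¹ * (c * u * c⁻¹) = c * (g * u) * c⁻¹ := by group
      _ = c * (u * g) * c⁻¹ := by rw [h']
      _ = c * u * c⁻¹ * (c * g * c⁻¹) := by group
  obtain ⟨Q, hQ⟩ := exists_sylowImage_ge ((isPGroup_sylowImage P).map _) hle
  refine ⟨Q, (Subgroup.eq_of_le_of_card_ge hQ ?_)⟩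
  rw [Subgroup.card_map_of_injective (f := (MulAut.conj c).toMonoidHom) (MulAut.conj c).injective]
  show Nat.card (sylowImage Q) ≤ Nat.card (sylowImage P)
  rw [card_sylowImage, card_sylowImage,
    card_centralizer_conj]

theorem exists_isDefectGroup [Fact p.Prime] {B : Set (IrrCharacter G)} (hB : IsPBlock M B) :
    ∃ D : Subgroup G, IsDefectGroup p M B D := by
  obtain ⟨g, hg⟩ := exists_defectClass hB
  obtain ⟨P⟩ : Nonempty (Sylow p (Subgroup.centralizer ({g} : Set G))) := inferInstance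
  exact ⟨_, g, hg, P, rfl⟩

/-- If a p-element lies in no defect group, the pairing vanishes on its section. -/
theorem blockPair_eq_zero_of_notMem_defect (hM : IsPModular p M) {B : Set (IrrCharacter G)}
    (hB : IsPBlock M B) {a u : G} (ha : ∃ i, orderOf a = p ^ i) (hau : Commute a u)
    (hu : ¬ p ∣ orderOf u) (hD : ∀ D : Subgroup G, IsDefectGroup p M B D → a ∉ D) (h : G) :
    blockPair B (a * u) h = 0 := by
  classical
  haveI := Fact.mk hM.1
  obtain ⟨b, w, rfl, hbw, hb, hw⟩ := exists_isPPart hM.1 h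
  refine blockPair_eq_zero hM hB ha hb hau hbw hu hw fun v z hv hz => ?_
  by_contra hzu
  obtain ⟨i, hi⟩ := hb
  have hP : IsPGroup p (Subgroup.zpowers b) :=
    IsPGroup.of_card (n := i) (by rw [Nat.card_zpowers, hi])
  have hzC : z ∈ Subgroup.centralizer (Subgroup.zpowers b : Set G) := by
    refine Subgroup.mem_centralizer_iff.2 fun q hq => ?_
    obtain ⟨n, rfl⟩ := Subgroup.mem_zpowers_iff.1 hq
    exact (hz.zpow_left n).eq
  obtain ⟨g, hg⟩ := exists_defectClass hB
  obtain ⟨P⟩ : Nonempty (Sylow p (Subgroup.centralizer ({g} : Set G))) := inferInstance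
  obtain ⟨y, hy⟩ := exists_conj_le_of_coeff hM hB hg hzu P hP hzC
  have hD0 : IsDefectGroup p M B (sylowImage P) := ⟨g, hg, P, rfl⟩
  refine hD _ (IsDefectGroup.map_conj (IsDefectGroup.map_conj hD0 y) v) ?_
  refine ⟨b, hy (Subgroup.mem_zpowers b), ?_⟩
  simp only [MulEquiv.coe_toMonoidHom, MulAut.conj_apply]
  rw [← hv, mul_inv_cancel_right]

/-- Characters of the block vanish off the defect sections. -/
theorem irr_eq_zero_of_notMem_defect (hM : IsPModular p M) {B : Set (IrrCharacter G)}
    (hB : IsPBlock M B) {χ : IrrCharacter G} (hχ : χ ∈ B) {g a : G} (hga : IsPPart p g a)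
    (hD : ∀ D : Subgroup G, IsDefectGroup p M B D → a ∉ D) : (χ : G → ℂ) g = 0 := by
  classical
  obtain ⟨u, rfl, hau, ha, hu⟩ := hga
  let c : IrrCharacter G → ℂ := fun φ => if φ ∈ B then conj ((φ : G → ℂ) (a * u)) else 0
  have h0 : ∑ φ, c φ • (φ : G → ℂ) = 0 := by
    funext h
    rw [Finset.sum_apply, Pi.zero_apply]
    have := blockPair_eq_zero_of_notMem_defect hM hB ha hau hu hD h
    rw [← map_eq_zero (starRingEnd ℂ), blockPair_conj] at this
    rw [← this]
    unfold blockPair
    rw [Finset.sum_filter]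
    exact Finset.sum_congr rfl fun φ _ => by
      simp only [c, Pi.smul_apply, smul_eq_mul]
      split_ifs <;> ring
  have h1 := classInner_combination c χ
  rw [h0, classInner_zero_left] at h1
  simp only [c, if_pos hχ] at h1
  exact (map_eq_zero (starRingEnd ℂ)).1 h1.symm

end Cfsg.Agent.Blocks
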