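/-
Degrees in a block: defect groups have order `p ^ defect`; height zero criteria; the matrix of
central characters at the classes of a given defect.
-/
import Cfsg.Agent.Lib.Blocks.Section
import Cfsg.Agent.Lib.Char.Integral

set_option linter.unusedSectionVars false
set_option linter.style.haveILetI false

namespace Cfsg.Agent.Blocks

open Cfsg Cfsg.Agent.Char
open scoped ComplexConjugate

universe u

variable {G : Type u} [Group G] [Fintype G] {p : ℕ} {M : Ideal AlgInt} [M.IsPrime]

theorem irr_memLocalRing (χ : IrrCharacter G) (g : G) : MemLocalRing M ((χ : G → ℂ) g) :=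
  mem_locRing_of_isIntegral (irr_isIntegral χ g)

theorem conj_irr_memLocalRing (χ : IrrCharacter G) (g : G) :
    MemLocalRing M (conj ((χ : G → ℂ) g)) := by
  rw [← irr_inv χ g]; exact irr_memLocalRing χ g⁻¹

theorem centralizer_singleton_inv (g : G) :
    Subgroup.centralizer ({g⁻¹} : Set G) = Subgroup.centralizer ({g} : Set G) := by
  ext x
  simp only [Subgroup.mem_centralizer_iff, Set.mem_singleton_iff, forall_eq]
  exact ⟨fun h => by simpa using (Commute.inv_left (h : Commute g⁻¹ x)).eq,
    fun h => (Commute.inv_left (h : Commute g x)).eq⟩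

theorem index_centralizer_factorization (g : G) :
    (Subgroup.centralizer ({g} : Set G)).index.factorization p =
      (Nat.card G).factorization p - classExp p g := by
  have h := (Subgroup.centralizer ({g} : Set G)).card_mul_index
  rw [← h, Nat.factorization_mul Nat.card_pos.ne' Subgroup.index_ne_zero_of_finite]
  simp [classExp]

theorem classExp_le_card (g : G) : classExp p g ≤ (Nat.card G).factorization p := by
  have h := (Subgroup.centralizer ({g} : Set G)).card_mul_index
  rw [← h, Nat.factorization_mul Nat.card_pos.ne' Subgroup.index_ne_zero_of_finite]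
  simp [classExp]

theorem centralChar_mem_of_lt (hM : IsPModular p M) (χ : IrrCharacter G) (g : G)
    (h : (charDegree (χ : G → ℂ)).factorization p <
      (Subgroup.centralizer ({g} : Set G)).index.factorization p) :
    MemLocalIdeal M (centralChar (χ : G → ℂ) g) := by
  rw [centralChar, irr_one_eq_charDegree χ, mul_comm, mul_div_assoc]
  exact MemLocalIdeal.mul_left (irr_memLocalRing χ g) (memLocalIdeal_natDiv hM h)

theorem irr_mem_of_lt (hM : IsPModular p M) (χ : IrrCharacter G) (g : G)
    (h : (Subgroup.centralizer ({g} : Set G)).index.factorization p <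
      (charDegree (χ : G → ℂ)).factorization p) :
    MemLocalIdeal M ((χ : G → ℂ) g) := by
  have hi : ((Subgroup.centralizer ({g} : Set G)).index : ℂ) ≠ 0 :=
    Nat.cast_ne_zero.2 Subgroup.index_ne_zero_of_finite
  have he : (χ : G → ℂ) g = ((charDegree (χ : G → ℂ) : ℂ) /
      (Subgroup.centralizer ({g} : Set G)).index) * centralChar (χ : G → ℂ) g := by
    have := Nat.cast_ne_zero (R := ℂ).2 (charDegree_pos χ).ne'
    rw [centralChar, irr_one_eq_charDegree χ]
    field_simp
  rw [he]
  exact MemLocalIdeal.mul_right (memLocalIdeal_natDiv hM h) (centralChar_memLocalRing χ g)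

/-- The block idempotent is supported on p-regular elements. -/
theorem blockCoeff_eq_zero_of_singular (hM : IsPModular p M) {B : Set (IrrCharacter G)}
    (hB : IsPBlock M B) {g : G} (hg : p ∣ orderOf g) : blockCoeff B g = 0 := by
  classical
  obtain ⟨b, hb⟩ := exists_isPPart hM.1 g
  have h := blockPair_eq_zero_of_pPart hM hB
    ((isPPart_one_iff hM.1).2 (by simpa using hM.1.ne_one)) hb (g := (1 : G)) fun h => by
      rw [isConj_one_right.1 h] at hb
      exact (isPPart_one_iff hM.1).1 hb hg
  rw [blockPair_eq_finsum] at h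
  rw [blockCoeff, h, mul_zero]

theorem IsDefectClass.not_dvd_orderOf (hM : IsPModular p M) {B : Set (IrrCharacter G)}
    (hB : IsPBlock M B) {g : G} (hg : IsDefectClass M B g) : ¬ p ∣ orderOf g := fun h =>
  hg.2.1 (by rw [blockCoeff_eq_zero_of_singular hM hB h]; exact memLocalIdeal_zero)

theorem exists_sum_subgroup_eq (P : Subgroup G) [Fintype P] (χ : IrrCharacter G) :
    ∃ m : ℕ, ∑ x : P, (χ : G → ℂ) x = (Nat.card P : ℂ) * m := by
  obtain ⟨m, hm⟩ := IsCharacter.exists_classInner_nat
    (IsCharacter.restrict (irr_isCharacter χ) P) (isCharacter_one (G := P))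
  refine ⟨m, ?_⟩
  rw [← hm, classInner, ← mul_assoc, mul_inv_cancel₀ (Nat.cast_ne_zero.2 Nat.card_pos.ne'),
    one_mul]
  simp

/-- A regular value of the idempotent through the multiplicities on a Sylow subgroup. -/
theorem blockCoeff_eq_regular (hM : IsPModular p M) {B : Set (IrrCharacter G)}
    (hB : IsPBlock M B) {P : Subgroup G} [Fintype P] (hP : IsPGroup p P) {k : G}
    (hk : ¬ p ∣ orderOf k) (m : IrrCharacter G → ℕ)
    (hm : ∀ χ : IrrCharacter G, ∑ x : P, (χ : G → ℂ) x = (Nat.card P : ℂ) * m χ)
    [DecidablePred (· ∈ B)] :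
    blockCoeff B k = ((Nat.card P : ℂ) / Nat.card G) *
      ∑ χ ∈ Finset.univ.filter (· ∈ B), conj ((χ : G → ℂ) k) * m χ := by
  classical
  haveI := Fact.mk hM.1
  have h1 : ∑ x : P, blockPair B (x : G) k = blockPair B 1 k := by
    refine (Finset.sum_eq_single (1 : P) (fun x _ hx => ?_) (by simp)).trans (by simp)
    obtain ⟨i, hi⟩ := (IsPGroup.iff_orderOf).1 hP x
    refine blockPair_eq_zero_of_pPart hM hB (g := (x : G)) (x := (x : G)) ?_
      ((isPPart_one_iff hM.1).2 hk) fun h => hx (Subtype.ext (isConj_one_left.1 h))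
    refine ⟨1, mul_one _, Commute.one_right _, ⟨i, by rwa [Subgroup.orderOf_coe]⟩, ?_⟩
    simpa using hM.1.ne_one
  have h2 : blockCoeff B k = (Nat.card G : ℂ)⁻¹ * blockPair B 1 k := by
    rw [blockPair_eq_finsum, blockCoeff]
  rw [h2, ← h1]
  unfold blockPair
  rw [Finset.sum_comm, div_eq_mul_inv, mul_comm (Nat.card P : ℂ), mul_assoc]
  congr 1
  rw [Finset.mul_sum]
  refine Finset.sum_congr (by congr) fun χ _ => ?_
  rw [← Finset.sum_mul, hm]
  ring

/-- A unit idempotent coefficient at a regular element gives a unit character value. -/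
theorem exists_unit_value (hM : IsPModular p M) {B : Set (IrrCharacter G)}
    (hB : IsPBlock M B) {k : G} (hk : ¬ MemLocalIdeal M (blockCoeff B k)) :
    ∃ χ ∈ B, ¬ MemLocalIdeal M ((χ : G → ℂ) k⁻¹) := by
  classical
  haveI := Fact.mk hM.1
  by_contra hne
  push Not at hne
  have hkr : ¬ p ∣ orderOf k := fun h =>
    hk (by rw [blockCoeff_eq_zero_of_singular hM hB h]; exact memLocalIdeal_zero)
  obtain ⟨P⟩ : Nonempty (Sylow p G) := inferInstance
  choose m hm using exists_sum_subgroup_eq (P : Subgroup G)
  refine hk ?_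
  rw [blockCoeff_eq_regular hM hB P.isPGroup' hkr m hm]
  refine MemLocalIdeal.mul_left ?_ (memLocalIdeal_sum _ _ fun χ hχ => ?_)
  · refine memLocalRing_natDiv hM (le_of_eq ?_)
    rw [Sylow.card_eq_multiplicity, hM.1.factorization_pow, Finsupp.single_eq_same]
  · rw [← irr_inv]
    exact MemLocalIdeal.mul_right (hne χ (Finset.mem_filter.1 hχ).2)
      (mem_locRing.1 (natCast_mem (locRing M) _))

theorem le_degExp (hM : IsPModular p M) {g : G} {χ : IrrCharacter G}
    (hg : ¬ MemLocalIdeal M (centralChar (χ : G → ℂ) g)) :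
    (Nat.card G).factorization p - classExp p g ≤ (charDegree (χ : G → ℂ)).factorization p := by
  rw [← index_centralizer_factorization]
  exact not_lt.1 fun h => hg (centralChar_mem_of_lt hM χ g h)

theorem exists_degExp_le (hM : IsPModular p M) {B : Set (IrrCharacter G)}
    (hB : IsPBlock M B) {g : G} (hg : IsDefectClass M B g) :
    ∃ χ ∈ B, (charDegree (χ : G → ℂ)).factorization p ≤
      (Nat.card G).factorization p - classExp p g := by
  obtain ⟨χ, hχ, hu⟩ := exists_unit_value hM hB hg.2.1
  refine ⟨χ, hχ, ?_⟩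
  have he : classExp p g⁻¹ = classExp p g := by rw [classExp, centralizer_singleton_inv]; rfl
  rw [← he, ← index_centralizer_factorization]
  exact not_lt.1 fun h => hu (irr_mem_of_lt hM χ g⁻¹ h)

theorem sInf_degExp_eq (hM : IsPModular p M) {B : Set (IrrCharacter G)}
    (hB : IsPBlock M B) {g : G} (hg : IsDefectClass M B g) :
    sInf ((fun χ : IrrCharacter G => (charDegree (χ : G → ℂ)).factorization p) '' B) =
      (Nat.card G).factorization p - classExp p g := by
  obtain ⟨χ, hχ, hle⟩ := exists_degExp_le hM hB hg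
  refine le_antisymm ((Nat.sInf_le (Set.mem_image_of_mem _ hχ)).trans hle) ?_
  refine le_csInf ⟨_, Set.mem_image_of_mem _ hχ⟩ ?_
  rintro _ ⟨ψ, hψ, rfl⟩
  exact le_degExp hM (hg.2.2 ψ hψ)

/-- The defect of a block is the defect of its defect classes. -/
theorem blockDefect_eq_classExp (hM : IsPModular p M) {B : Set (IrrCharacter G)}
    (hB : IsPBlock M B) {g : G} (hg : IsDefectClass M B g) :
    blockDefect p B = classExp p g := by
  have := classExp_le_card (p := p) g
  rw [blockDefect, sInf_degExp_eq hM hB hg]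
  omega

theorem card_defectGroup (hM : IsPModular p M) {B : Set (IrrCharacter G)}
    (hB : IsPBlock M B) {D : Subgroup G} (hD : IsDefectGroup p M B D) :
    Nat.card D = p ^ blockDefect p B := by
  haveI := Fact.mk hM.1
  obtain ⟨g, hg, P, rfl⟩ := hD
  rw [blockDefect_eq_classExp hM hB hg]
  exact card_sylowImage P

theorem blockDefect_le (B : Set (IrrCharacter G)) :
    blockDefect p B ≤ (Nat.card G).factorization p := Nat.sub_le _ _

theorem sInf_degExp_eq' (hM : IsPModular p M) {B : Set (IrrCharacter G)} (hB : IsPBlock M B) :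
    sInf ((fun χ : IrrCharacter G => (charDegree (χ : G → ℂ)).factorization p) '' B) =
      (Nat.card G).factorization p - blockDefect p B := by
  obtain ⟨g, hg⟩ := exists_defectClass hB
  rw [blockDefect_eq_classExp hM hB hg, sInf_degExp_eq hM hB hg]

theorem degExp_ge (hM : IsPModular p M) {B : Set (IrrCharacter G)} (hB : IsPBlock M B)
    {χ : IrrCharacter G} (hχ : χ ∈ B) :
    (Nat.card G).factorization p - blockDefect p B ≤
      (charDegree (χ : G → ℂ)).factorization p := by
  rw [← sInf_degExp_eq' hM hB]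
  exact Nat.sInf_le (Set.mem_image_of_mem _ hχ)

theorem blockHeight_eq_zero_iff (hM : IsPModular p M) {B : Set (IrrCharacter G)}
    (hB : IsPBlock M B) {χ : IrrCharacter G} (hχ : χ ∈ B) :
    blockHeight p B (χ : G → ℂ) = 0 ↔
      (charDegree (χ : G → ℂ)).factorization p = (Nat.card G).factorization p - blockDefect p B := by
  have := degExp_ge hM hB hχ
  rw [blockHeight, sInf_degExp_eq' hM hB]
  omega

theorem exists_heightZero (hM : IsPModular p M) {B : Set (IrrCharacter G)} (hB : IsPBlock M B) :
    ∃ χ ∈ B, blockHeight p B (χ : G → ℂ) = 0 := by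
  obtain ⟨g, hg⟩ := exists_defectClass hB
  obtain ⟨χ, hχ, hle⟩ := exists_degExp_le hM hB hg
  refine ⟨χ, hχ, (blockHeight_eq_zero_iff hM hB hχ).2 (le_antisymm ?_ (degExp_ge hM hB hχ))⟩
  rwa [blockDefect_eq_classExp hM hB hg]

/-- Height zero characters are exactly those with unit values on a defect class. -/
theorem irr_defectClass_unit_iff (hM : IsPModular p M) {B : Set (IrrCharacter G)}
    (hB : IsPBlock M B) {χ : IrrCharacter G} (hχ : χ ∈ B) {g : G} (hg : IsDefectClass M B g) :
    ¬ MemLocalIdeal M ((χ : G → ℂ) g) ↔ blockHeight p B (χ : G → ℂ) = 0 := by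
  rw [blockHeight_eq_zero_iff hM hB hχ, blockDefect_eq_classExp hM hB hg,
    ← index_centralizer_factorization]
  have hge : (Subgroup.centralizer ({g} : Set G)).index.factorization p ≤
      (charDegree (χ : G → ℂ)).factorization p :=
    not_lt.1 fun h => hg.2.2 χ hχ (centralChar_mem_of_lt hM χ g h)
  refine ⟨fun hu => le_antisymm (not_lt.1 fun h => hu (irr_mem_of_lt hM χ g h)) hge,
    fun he hmem => hg.2.2 χ hχ ?_⟩
  rw [centralChar, irr_one_eq_charDegree χ, mul_comm, mul_div_assoc]
  exact MemLocalIdeal.mul_right hmem (memLocalRing_natDiv hM he.le)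

/-! ## Classes of a given defect separate the blocks -/

theorem blockOf_eq_iff (χ ψ : IrrCharacter G) :
    blockOf M (χ : G → ℂ) = blockOf M (ψ : G → ℂ) ↔ SameBlock M (χ : G → ℂ) (ψ : G → ℂ) :=
  ⟨fun h => by have := self_mem_blockOf (M := M) ψ; rwa [← h] at this,
    fun h => Set.ext fun φ => ⟨fun h' => sameBlock_trans (sameBlock_symm h) h',
      fun h' => sameBlock_trans h h'⟩⟩

/-- The value at a block idempotent of a central character only involves the regular classes of
defect between the two block defects. -/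
theorem omegaR_blockEltR_sub_mem (hM : IsPModular p M) [Fintype (ConjClasses G)]
    {B : Set (IrrCharacter G)} (hB : IsPBlock M B) (ψ : IrrCharacter G)
    (q : ConjClasses G → Prop) [DecidablePred q]
    (hq : ∀ C : ConjClasses G, ¬ p ∣ orderOf C.out → classExp p C.out ≤ blockDefect p B →
      blockDefect p (blockOf M (ψ : G → ℂ)) ≤ classExp p C.out → q C) :
    MemLocalIdeal M (omegaR ψ (blockEltR M B) -
      ∑ C ∈ Finset.univ.filter q, blockCoeff B C.out * centralChar (ψ : G → ℂ) C.out) := by
  rw [omegaR_eq_sum ψ (isClassElt_blockEltR B)]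
  simp only [coeff_blockEltR hB]
  rw [← Finset.sum_filter_add_sum_filter_not Finset.univ q, add_sub_cancel_left]
  refine memLocalIdeal_sum _ _ fun C hC => ?_
  by_contra hne
  have hc : ¬ MemLocalIdeal M (blockCoeff B C.out) := fun h =>
    hne (MemLocalIdeal.mul_right h (centralChar_memLocalRing ψ _))
  have hw : ¬ MemLocalIdeal M (centralChar (ψ : G → ℂ) C.out) := fun h =>
    hne (MemLocalIdeal.mul_left (blockCoeff_memLocalRing hB _) h)
  refine (Finset.mem_filter.1 hC).2 (hq C ?_ ?_ ?_)
  · exact fun h => hc (by rw [blockCoeff_eq_zero_of_singular hM hB h]; exact memLocalIdeal_zero)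
  · obtain ⟨g, hg⟩ := exists_defectClass hB
    obtain ⟨χ, hχ⟩ := isPBlock_nonempty hB
    rw [blockDefect_eq_classExp hM hB hg]
    exact classExp_le hM hB hχ (hg.2.2 χ hχ) hc
  · have hψ := isPBlock_blockOf (M := M) ψ
    obtain ⟨g, hg⟩ := exists_defectClass hψ
    rw [blockDefect_eq_classExp hM hψ hg]
    exact classExp_le hM hψ (self_mem_blockOf ψ) hw hg.2.1

/-- A family of blocks whose mutual pairings only see the classes in `q` has at most as many
members as `q`. -/
theorem card_blocks_le (hM : IsPModular p M) [Fintype (ConjClasses G)]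
    (r : ℕ → Prop) (q : ConjClasses G → Prop) [DecidablePred q]
    (hq : ∀ C : ConjClasses G, ∀ d d', r d → r d' → ¬ p ∣ orderOf C.out → classExp p C.out ≤ d →
      d' ≤ classExp p C.out → q C) :
    Nat.card {B : Set (IrrCharacter G) // IsPBlock M B ∧ r (blockDefect p B)} ≤
      Nat.card {C : ConjClasses G // q C} := by
  classical
  let T := {B : Set (IrrCharacter G) // IsPBlock M B ∧ r (blockDefect p B)}
  haveI : Fintype T := Fintype.ofFinite T
  have hnc : ∀ B : T, ∃ χ, χ ∈ B.1 := fun B => isPBlock_nonempty B.2.1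
  choose c hc using hnc
  let v : T → ({C : ConjClasses G // q C} → resField M) := fun B C =>
    res M ⟨centralChar (c B : G → ℂ) C.1.out, centralChar_memLocalRing _ _⟩
  have key : ∀ A B : T, ∑ C : {C : ConjClasses G // q C},
      res M ⟨blockCoeff A.1 C.1.out, blockCoeff_memLocalRing A.2.1 _⟩ * v B C =
        if B = A then 1 else 0 := by
    intro A B
    have hdef : blockOf M (c B : G → ℂ) = B.1 := (isPBlock_eq_blockOf B.2.1 (hc B)).symm
    have h := omegaR_blockEltR_sub_mem hM A.2.1 (c B) q
      (fun C h1 h2 h3 => hq C _ _ A.2.2 (hdef ▸ B.2.2) h1 h2 h3)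
    rw [omegaR_blockEltR A.2.1, Finset.sum_subtype (p := q) _ (fun C => by simp)] at h
    simp only [v, ← map_mul, ← map_sum]
    have e : (if B = A then 1 else 0 : resField M) =
        res M (if B = A then 1 else 0 : locRing M) := by split_ifs <;> simp
    rw [e, res_eq_res_iff]
    have e2 : ((if B = A then 1 else 0 : locRing M) : ℂ) = if c B ∈ A.1 then (1 : ℂ) else 0 := by
      have : c B ∈ A.1 ↔ B = A := ⟨fun hm => Subtype.ext
        (isPBlock_eq_of_mem B.2.1 A.2.1 (hc B) hm), fun e => e ▸ hc B⟩
      split_ifs with h1 h2 h2 <;> simp_all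
    have := MemLocalIdeal.neg h
    rw [neg_sub] at this
    rw [e2]
    simpa using this
  have hli : LinearIndependent (resField M) v := by
    rw [Fintype.linearIndependent_iff]
    intro g hg A
    have h0 : ∑ C : {C : ConjClasses G // q C},
        res M ⟨blockCoeff A.1 C.1.out, blockCoeff_memLocalRing A.2.1 _⟩ *
          (∑ B, g B • v B) C = 0 := by
      rw [hg]; simp
    simp only [Finset.sum_apply, Pi.smul_apply, smul_eq_mul, Finset.mul_sum] at h0
    rw [Finset.sum_comm] at h0
    have h1 : ∀ B : T, ∑ C : {C : ConjClasses G // q C},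
        res M ⟨blockCoeff A.1 C.1.out, blockCoeff_memLocalRing A.2.1 _⟩ * (g B * v B C) =
          g B * if B = A then 1 else 0 := fun B => by
      rw [← key A B, Finset.mul_sum]
      exact Finset.sum_congr rfl fun C _ => by ring
    rw [Finset.sum_congr rfl fun B _ => h1 B] at h0
    rw [Finset.sum_eq_single A (fun B _ hB => by rw [if_neg hB, mul_zero])
      (fun h => absurd (Finset.mem_univ A) h), if_pos rfl, mul_one] at h0
    exact h0
  have := hli.fintype_card_le_finrank
  rw [Module.finrank_pi] at this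
  simpa [T, ← Nat.card_eq_fintype_card] using this

/-- Blocks of equal defect are separated by the regular classes of that defect. -/
theorem sameBlock_iff_defectClasses (hM : IsPModular p M) {d : ℕ} (χ ψ : IrrCharacter G)
    (hχ : blockDefect p (blockOf M (χ : G → ℂ)) = d)
    (hψ : blockDefect p (blockOf M (ψ : G → ℂ)) = d) :
    SameBlock M (χ : G → ℂ) (ψ : G → ℂ) ↔ ∀ x : G, ¬ p ∣ orderOf x → classExp p x = d →
      MemLocalIdeal M (centralChar (χ : G → ℂ) x - centralChar (ψ : G → ℂ) x) := by
  classical
  refine ⟨fun h x _ _ => h x, fun h => ?_⟩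
  haveI : Finite (ConjClasses G) := Finite.of_surjective _ ConjClasses.mk_surjective
  haveI : Fintype (ConjClasses G) := Fintype.ofFinite _
  set B := blockOf M (χ : G → ℂ) with hB
  have hBB : IsPBlock M B := isPBlock_blockOf χ
  let q : ConjClasses G → Prop := fun C => ¬ p ∣ orderOf C.out ∧ classExp p C.out = d
  have h1 := omegaR_blockEltR_sub_mem hM hBB χ q fun C a b c => ⟨a, by rw [hχ] at b c; omega⟩
  have h2 := omegaR_blockEltR_sub_mem hM hBB ψ q fun C a b c => ⟨a, by rw [hχ] at b; rw [hψ] at c; omega⟩
  have h3 : MemLocalIdeal M (∑ C ∈ Finset.univ.filter q,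
      blockCoeff B C.out * centralChar (χ : G → ℂ) C.out -
      ∑ C ∈ Finset.univ.filter q, blockCoeff B C.out * centralChar (ψ : G → ℂ) C.out) := by
    rw [← Finset.sum_sub_distrib]
    refine memLocalIdeal_sum _ _ fun C hC => ?_
    rw [← mul_sub]
    exact MemLocalIdeal.mul_left (blockCoeff_memLocalRing hBB _)
      (h _ (Finset.mem_filter.1 hC).2.1 (Finset.mem_filter.1 hC).2.2)
  have h4 := MemLocalIdeal.sub (MemLocalIdeal.add h1 h3) h2
  rw [omegaR_blockEltR hBB, omegaR_blockEltR hBB, if_pos (self_mem_blockOf χ)] at h4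
  by_contra hn
  rw [if_neg (show ψ ∉ B from hn)] at h4
  exact not_memLocalIdeal_one (M := M) (by simpa using h4)

/-! ## Degrees -/

theorem charDegree_dvd_card (χ : IrrCharacter G) : charDegree (χ : G → ℂ) ∣ Nat.card G :=
  degree_dvd_card χ.2 (irr_one_eq_charDegree χ)

theorem degExp_le_card (χ : IrrCharacter G) :
    (charDegree (χ : G → ℂ)).factorization p ≤ (Nat.card G).factorization p :=
  (Nat.factorization_le_iff_dvd (charDegree_pos χ).ne' Nat.card_pos.ne').2
    (charDegree_dvd_card χ) p

/-- A character of full `p`-part of the degree is alone in its block. -/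
theorem blockOf_eq_singleton (hM : IsPModular p M) (χ : IrrCharacter G)
    (h : (charDegree (χ : G → ℂ)).factorization p = (Nat.card G).factorization p) :
    blockOf M (χ : G → ℂ) = {χ} := by
  classical
  refine Set.Subset.antisymm ?_ (Set.singleton_subset_iff.2 (self_mem_blockOf χ))
  refine blockOf_subset_of_coeff (fun g => ?_) rfl
  rw [blockCoeff, finsum_mem_singleton, irr_one_eq_charDegree, ← mul_assoc, mul_comm _
    (charDegree (χ : G → ℂ) : ℂ), ← div_eq_mul_inv]
  exact mem_locRing.1 ((locRing M).mul_mem (memLocalRing_natDiv hM h.ge)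
    (conj_irr_memLocalRing χ g))

/-- A character alone in its block has degree of full `p`-part. -/
theorem degExp_of_singleton (hM : IsPModular p M) (χ : IrrCharacter G)
    (h : blockOf M (χ : G → ℂ) = {χ}) :
    (charDegree (χ : G → ℂ)).factorization p = (Nat.card G).factorization p := by
  classical
  haveI := Fact.mk hM.1
  obtain ⟨P⟩ : Nonempty (Sylow p G) := inferInstance
  obtain ⟨m, hm⟩ := exists_sum_subgroup_eq (P : Subgroup G) χ
  have hB : IsPBlock M ({χ} : Set (IrrCharacter G)) := h ▸ isPBlock_blockOf χ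
  have h1 : ∀ x : (P : Subgroup G), x ≠ 1 → (χ : G → ℂ) x = 0 := by
    intro x hx
    obtain ⟨i, hi⟩ := (IsPGroup.iff_orderOf).1 P.isPGroup' x
    have hz := blockPair_eq_zero_of_pPart hM hB
      ((isPPart_one_iff hM.1).2 (by simpa using hM.1.ne_one) : IsPPart p (1 : G) 1)
      (h := (x : G)) (y := (x : G)) ⟨1, mul_one _, Commute.one_right _,
        ⟨i, by rwa [Subgroup.orderOf_coe]⟩, by simpa using hM.1.ne_one⟩
      fun hc => hx (Subtype.ext (isConj_one_right.1 hc))
    rw [blockPair_eq_finsum, finsum_mem_singleton] at hz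
    exact (map_eq_zero (starRingEnd ℂ)).1 ((mul_eq_zero.1 hz).resolve_left (irr_one_ne_zero χ))
  rw [Finset.sum_eq_single (1 : (P : Subgroup G)) (fun x _ hx => h1 x hx) (by simp),
    Subgroup.coe_one, irr_one_eq_charDegree, ← Nat.cast_mul, Nat.cast_inj] at hm
  refine le_antisymm (degExp_le_card χ) ?_
  refine (hM.1.pow_dvd_iff_le_factorization (charDegree_pos χ).ne').1 ?_
  rw [hm, Sylow.card_eq_multiplicity]
  exact dvd_mul_right _ _

/-- The exact power of `p` in the sum of the squared degrees of a block. -/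
theorem sum_sq_factorization (hM : IsPModular p M) {B : Set (IrrCharacter G)}
    (hB : IsPBlock M B) [DecidablePred (· ∈ B)] :
    (∑ χ ∈ Finset.univ.filter (· ∈ B), charDegree (χ : G → ℂ) ^ 2).factorization p =
      2 * (Nat.card G).factorization p - blockDefect p B := by
  classical
  haveI := Fact.mk hM.1
  obtain ⟨P⟩ : Nonempty (Sylow p G) := inferInstance
  choose m hm using exists_sum_subgroup_eq (P : Subgroup G)
  obtain ⟨g, hg⟩ := exists_defectClass hB
  obtain ⟨χ₀, hχ₀⟩ := isPBlock_nonempty hB
  set S := ∑ χ ∈ Finset.univ.filter (· ∈ B), charDegree (χ : G → ℂ) * m χ with hS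
  set i := (Subgroup.centralizer ({g⁻¹} : Set G)).index with hi
  have hi0 : (i : ℂ) ≠ 0 := Nat.cast_ne_zero.2 Subgroup.index_ne_zero_of_finite
  have hivp : i.factorization p = (Nat.card G).factorization p - blockDefect p B := by
    rw [hi, centralizer_singleton_inv, index_centralizer_factorization,
      blockDefect_eq_classExp hM hB hg]
  have hP : (Nat.card (P : Subgroup G)).factorization p = (Nat.card G).factorization p := by
    rw [Sylow.card_eq_multiplicity, hM.1.factorization_pow, Finsupp.single_eq_same]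
  -- the squared degrees
  have hsq : (∑ χ ∈ Finset.univ.filter (· ∈ B), charDegree (χ : G → ℂ) ^ 2 : ℕ) =
      Nat.card (P : Subgroup G) * S := by
    have h1 := blockCoeff_eq_regular hM hB (k := (1 : G)) P.isPGroup'
      (by simpa using hM.1.ne_one) m hm
    rw [blockCoeff_eq_sum] at h1
    have hG : (Nat.card G : ℂ) ≠ 0 := Nat.cast_ne_zero.2 Nat.card_pos.ne'
    simp only [irr_one_eq_charDegree, map_natCast] at h1
    rw [div_eq_inv_mul, mul_assoc] at h1
    have h2 := mul_left_cancel₀ (inv_ne_zero hG) h1
    rw [hS, ← Nat.cast_inj (R := ℂ)]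
    push_cast
    simpa [pow_two] using h2
  -- the reduced sum is a unit
  have hSu : ¬ MemLocalIdeal M ((S : ℂ) / i) := by
    intro hmem
    refine hg.2.1 ?_
    rw [blockCoeff_eq_regular hM hB P.isPGroup' (IsDefectClass.not_dvd_orderOf hM hB hg) m hm]
    refine MemLocalIdeal.mul_left (memLocalRing_natDiv hM hP.ge) ?_
    have key : ∑ χ ∈ Finset.univ.filter (· ∈ B), conj ((χ : G → ℂ) g) * m χ =
        centralChar (χ₀ : G → ℂ) g⁻¹ * ((S : ℂ) / i) +
          ∑ χ ∈ Finset.univ.filter (· ∈ B), ((charDegree (χ : G → ℂ) : ℂ) / i * m χ) *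
            (centralChar (χ : G → ℂ) g⁻¹ - centralChar (χ₀ : G → ℂ) g⁻¹) := by
      rw [hS, Nat.cast_sum, Finset.sum_div, Finset.mul_sum, ← Finset.sum_add_distrib]
      refine Finset.sum_congr rfl fun χ _ => ?_
      have hd : (charDegree (χ : G → ℂ) : ℂ) ≠ 0 :=
        Nat.cast_ne_zero.2 (charDegree_pos χ).ne'
      rw [Nat.cast_mul, ← irr_inv χ g]
      simp only [centralChar, irr_one_eq_charDegree χ, ← hi]
      field_simp
      ring
    rw [key]
    refine MemLocalIdeal.add (MemLocalIdeal.mul_left (centralChar_memLocalRing _ _) hmem)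
      (memLocalIdeal_sum _ _ fun χ hχ => MemLocalIdeal.mul_left ?_ ?_)
    · refine mem_locRing.1 ((locRing M).mul_mem (memLocalRing_natDiv hM ?_)
        (natCast_mem (locRing M) _))
      rw [hivp]
      exact degExp_ge hM hB (Finset.mem_filter.1 hχ).2
    · exact isPBlock_sameBlock hB (Finset.mem_filter.1 hχ).2 hχ₀ _
  have hS0 : S ≠ 0 := fun h0 => hSu (by rw [h0]; simpa using memLocalIdeal_zero (M := M))
  have hle : i.factorization p ≤ S.factorization p := by
    refine (hM.1.pow_dvd_iff_le_factorization hS0).1 ?_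
    refine Finset.dvd_sum fun χ hχ => Dvd.dvd.mul_right ?_ _
    refine (hM.1.pow_dvd_iff_le_factorization (charDegree_pos χ).ne').2 ?_
    rw [hivp]
    exact degExp_ge hM hB (Finset.mem_filter.1 hχ).2
  have hSv : S.factorization p = i.factorization p :=
    le_antisymm (not_lt.1 fun h => hSu (memLocalIdeal_natDiv hM h)) hle
  rw [hsq, Nat.factorization_mul Nat.card_pos.ne' hS0, Finsupp.add_apply, hP, hSv, hivp]
  have := blockDefect_le (p := p) B
  omega

end Cfsg.Agent.Blocks
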