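/-
Character values modulo `M` only depend on the p-regular part.
-/
import Cfsg.Agent.Lib.Blocks.Degree

set_option linter.unusedSectionVars false
set_option linter.style.haveILetI false

namespace Cfsg.Agent.Blocks

open Cfsg Cfsg.Agent.Char

universe u

variable {G : Type u} [Group G] [Fintype G] {p : ℕ} {M : Ideal AlgInt} [M.IsPrime]

theorem memLocalIdeal_multiset_sum (s : Multiset ℂ) (h : ∀ z ∈ s, MemLocalIdeal M z) :
    MemLocalIdeal M s.sum :=
  Multiset.sum_induction (MemLocalIdeal M) s (fun _ _ => MemLocalIdeal.add) memLocalIdeal_zero h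

/-- A character is congruent modulo `M` at an element and at its p-regular part. -/
theorem char_congr_regular (hM : IsPModular p M) {χ : G → ℂ} (hχ : IsCharacter G χ) {x y : G}
    (hc : Commute x y) {k : ℕ} (hx : orderOf x = p ^ k) (hy : ¬ p ∣ orderOf y) :
    MemLocalIdeal M (χ (x * y) - χ y) := by
  obtain ⟨n, ρ, rfl⟩ := hχ
  obtain ⟨L, -, h2, h3, -⟩ := exists_eigenvalues ρ (x * y)
  obtain ⟨e0, he1, he2⟩ := Nat.chineseRemainder
    (((hM.1.coprime_iff_not_dvd).2 hy).pow_left k) 0 1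
  set e := e0 + p ^ k * orderOf y with he
  have hepos : 1 ≤ e := (Nat.one_le_iff_ne_zero.2
    (mul_ne_zero (pow_ne_zero k hM.1.ne_zero) (orderOf_pos y).ne')).trans (Nat.le_add_left _ _)
  have hxe : x ^ e = 1 := orderOf_dvd_iff_pow_eq_one.1 (hx ▸
    dvd_add (Nat.modEq_zero_iff_dvd.1 he1) (dvd_mul_right _ _))
  have hm1 : orderOf y ∣ e - 1 := by
    refine (Nat.modEq_iff_dvd' hepos).1 ?_
    have : e0 + p ^ k * orderOf y ≡ 1 + 0 [MOD orderOf y] :=
      he2.add (Nat.modEq_zero_iff_dvd.2 (dvd_mul_left _ _))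
    simpa [he] using this.symm
  have hye : y ^ e = y := by
    rw [← Nat.sub_add_cancel hepos, pow_succ, orderOf_dvd_iff_pow_eq_one.1 hm1, one_mul]
  have hval : ρ.character y = (L.map fun z => z ^ e).sum := by
    rw [← h3 e, hc.mul_pow, hxe, hye, one_mul]
  have hval1 : ρ.character (x * y) = L.sum := by
    rw [← pow_one (x * y), h3 1]; simp
  have hord : orderOf (x * y) ∣ (e - 1) * p ^ k := by
    refine orderOf_dvd_iff_pow_eq_one.2 ?_
    rw [hc.mul_pow, orderOf_dvd_iff_pow_eq_one.1 (hx ▸ dvd_mul_left _ _),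
      orderOf_dvd_iff_pow_eq_one.1 (hm1.mul_right _), one_mul]
  show MemLocalIdeal M (ρ.character (x * y) - ρ.character y)
  rw [hval, hval1]
  nth_rw 1 [show L = L.map fun z => z from (Multiset.map_id' L).symm]
  rw [← Multiset.sum_map_sub]
  refine memLocalIdeal_multiset_sum _ fun w hw => ?_
  obtain ⟨z, hz, rfl⟩ := Multiset.mem_map.1 hw
  have hint : IsIntegral ℤ z :=
    IsIntegral.of_pow (orderOf_pos (x * y)) (by rw [h2 z hz]; exact isIntegral_one)
  have h1 : (z ^ (e - 1)) ^ p ^ k = 1 := by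
    obtain ⟨c, hc'⟩ := hord
    rw [← pow_mul, hc', pow_mul, h2 z hz, one_pow]
  have h4 := MemLocalIdeal.mul_left (mem_locRing_of_isIntegral hint)
    (MemLocalIdeal.neg (memLocalIdeal_sub_one_of_pow_eq_one hM h1))
  have h5 : z * -(z ^ (e - 1) - 1) = z - z ^ e := by
    rw [neg_sub, mul_sub, mul_one, ← pow_succ', Nat.sub_add_cancel hepos]
  rwa [h5] at h4

end Cfsg.Agent.Blocks
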