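/-
Blocks stable under inversion of the regular classes; the prime two.
-/
import Cfsg.Agent.Lib.Blocks.Degree

set_option linter.unusedSectionVars false
set_option linter.style.haveILetI false

namespace Cfsg.Agent.Blocks

open Cfsg Cfsg.Agent.Char
open scoped ComplexConjugate

universe u

variable {G : Type u} [Group G] [Fintype G] {p : ℕ} {M : Ideal AlgInt} [M.IsPrime]

/-- The complex conjugate of an irreducible character. -/
noncomputable def conjIrr (χ : IrrCharacter G) : IrrCharacter G :=
  ⟨fun g => conj ((χ : G → ℂ) g), IsIrrCharacter.conj χ.2⟩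

theorem conjIrr_apply (χ : IrrCharacter G) (g : G) :
    (conjIrr χ : G → ℂ) g = conj ((χ : G → ℂ) g) := rfl

theorem conjIrr_conjIrr (χ : IrrCharacter G) : conjIrr (conjIrr χ) = χ :=
  Subtype.ext (funext fun _ => Complex.conj_conj _)

theorem conjIrr_injective : Function.Injective (conjIrr (G := G)) :=
  (Function.LeftInverse.injective conjIrr_conjIrr)

theorem charDegree_conjIrr (χ : IrrCharacter G) :
    charDegree (conjIrr χ : G → ℂ) = charDegree (χ : G → ℂ) := by
  simp [charDegree, conjIrr_apply, conj_irr_one]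

theorem centralChar_conjIrr (χ : IrrCharacter G) (g : G) :
    centralChar (conjIrr χ : G → ℂ) g = centralChar (χ : G → ℂ) g⁻¹ := by
  simp only [centralChar, centralizer_singleton_inv, conjIrr_apply, irr_inv, conj_irr_one]

theorem sameBlock_conjIrr {χ ψ : IrrCharacter G} (h : SameBlock M (χ : G → ℂ) (ψ : G → ℂ)) :
    SameBlock M (conjIrr χ : G → ℂ) (conjIrr ψ : G → ℂ) := fun g => by
  simpa only [centralChar_conjIrr] using h g⁻¹

theorem conjIrr_mem {B : Set (IrrCharacter G)} (hB : IsPBlock M B) {χ : IrrCharacter G}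
    (hχ : χ ∈ B) (h : conjIrr χ ∈ B) {ψ : IrrCharacter G} (hψ : ψ ∈ B) : conjIrr ψ ∈ B :=
  isPBlock_mem_of_sameBlock hB h (sameBlock_conjIrr (isPBlock_sameBlock hB hχ hψ))

/-- The idempotent coefficients follow a permutation of the block. -/
theorem blockCoeff_eq_of_perm (B : Set (IrrCharacter G)) (f : IrrCharacter G → IrrCharacter G)
    (hmaps : ∀ χ ∈ B, f χ ∈ B) (hinj : Set.InjOn f B) {g g' : G}
    (h1 : ∀ χ ∈ B, (f χ : G → ℂ) 1 = (χ : G → ℂ) 1)
    (h2 : ∀ χ ∈ B, (f χ : G → ℂ) g = (χ : G → ℂ) g') : blockCoeff B g' = blockCoeff B g := by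
  classical
  have himg : (Finset.univ.filter (· ∈ B)).image f = Finset.univ.filter (· ∈ B) := by
    refine Finset.eq_of_subset_of_card_le (fun x hx => ?_) ?_
    · obtain ⟨y, hy, rfl⟩ := Finset.mem_image.1 hx
      exact Finset.mem_filter.2 ⟨Finset.mem_univ _, hmaps y (Finset.mem_filter.1 hy).2⟩
    · rw [Finset.card_image_of_injOn fun x hx y hy => hinj (Finset.mem_filter.1 hx).2
        (Finset.mem_filter.1 hy).2]
  simp only [blockCoeff_eq_sum]
  congr 1
  conv_rhs => rw [← himg]
  rw [Finset.sum_image fun x hx y hy => hinj (Finset.mem_filter.1 hx).2 (Finset.mem_filter.1 hy).2]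
  refine Finset.sum_congr rfl fun χ hχ => ?_
  rw [h1 χ (Finset.mem_filter.1 hχ).2, h2 χ (Finset.mem_filter.1 hχ).2]

theorem blockCoeff_one_unit (hM : IsPModular p M) {B : Set (IrrCharacter G)} (hB : IsPBlock M B)
    (hd : blockDefect p B = (Nat.card G).factorization p) :
    ¬ MemLocalIdeal M (blockCoeff B 1) := by
  classical
  have h := sum_sq_factorization hM hB
  have he : blockCoeff B 1 =
      ((∑ χ ∈ Finset.univ.filter (· ∈ B), charDegree (χ : G → ℂ) ^ 2 : ℕ) : ℂ) /
        (Nat.card G : ℂ) := by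
    rw [blockCoeff_eq_sum, div_eq_inv_mul, Nat.cast_sum]
    congr 1
    exact Finset.sum_congr rfl fun χ _ => by
      rw [conj_irr_one, irr_one_eq_charDegree, Nat.cast_pow, pow_two]
  rw [he]
  refine not_memLocalIdeal_natDiv hM Nat.card_pos.ne' ?_ (by rw [h, hd]; omega)
  obtain ⟨χ, hχ⟩ := isPBlock_nonempty hB
  exact (Finset.sum_pos (fun ψ _ => pow_pos (charDegree_pos ψ) 2)
    ⟨χ, Finset.mem_filter.2 ⟨Finset.mem_univ _, hχ⟩⟩).ne'

/-- For `p = 2` a block of full defect stable under inversion is principal. -/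
theorem principal_of_inv_stable (hM : IsPModular 2 M) {B : Set (IrrCharacter G)}
    (hB : IsPBlock M B) (hd : blockDefect 2 B = (Nat.card G).factorization 2)
    (hinv : ∀ g : G, ¬ 2 ∣ orderOf g → blockCoeff B g⁻¹ = blockCoeff B g) :
    B = principalBlock M G := by
  classical
  haveI : CharP (resField M) 2 := resField_charP hM
  refine isPBlock_eq_of_mem hB (isPBlock_principalBlock M G) (χ := principal G) ?_
    principal_mem_principalBlock
  by_contra hn
  have h := omegaR_blockEltR hB (principal G)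
  rw [if_neg hn, omegaR, toC_blockEltR hB, omega] at h
  simp only [coeff_blockElt, show ∀ x : G, (principal G : G → ℂ) x = 1 from fun _ => rfl, mul_one,
    div_one] at h
  have hr : ∀ g : G, MemLocalRing M (blockCoeff B g) := blockCoeff_memLocalRing hB
  let f : G → resField M := fun g => res M ⟨blockCoeff B g, hr g⟩
  have hsum : ∑ g : G, f g = 0 := by
    simp only [f, ← map_sum]
    rw [res_eq_zero_iff]
    push_cast
    rw [h]
    exact memLocalIdeal_zero
  have hpair : ∑ g ∈ Finset.univ.erase (1 : G), f g = 0 := by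
    refine Finset.sum_involution (fun g _ => g⁻¹) (fun g _ => ?_) (fun g hg hne => ?_)
      (fun g hg => by simpa using hg) (fun g _ => inv_inv g)
    · have he : f g⁻¹ = f g := by
        by_cases hs : 2 ∣ orderOf g
        · simp only [f, blockCoeff_eq_zero_of_singular hM hB hs,
            blockCoeff_eq_zero_of_singular hM hB (g := g⁻¹) (by rwa [orderOf_inv])]
        · simp only [f, hinv g hs]
      rw [he, CharTwo.add_self_eq_zero]
    · intro hgi
      refine hne ?_
      have h2 : g ^ 2 = 1 := by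
        rw [pow_two]
        conv_lhs => arg 1; rw [← hgi]
        rw [inv_mul_cancel]
      have hg1 : g ≠ 1 := (Finset.mem_erase.1 hg).1
      have ho : orderOf g = 2 := orderOf_eq_prime h2 hg1
      simp only [f, blockCoeff_eq_zero_of_singular hM hB (g := g) (by rw [ho])]
      exact map_zero _
  rw [← Finset.add_sum_erase _ _ (Finset.mem_univ (1 : G)), hpair, add_zero] at hsum
  exact blockCoeff_one_unit hM hB hd (res_eq_zero_iff.1 hsum)

theorem blockDefect_eq_top_of_odd_degree (hM : IsPModular p M) {χ : IrrCharacter G}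
    (hχ : ¬ p ∣ charDegree (χ : G → ℂ)) :
    blockDefect p (blockOf M (χ : G → ℂ)) = (Nat.card G).factorization p := by
  have h1 := degExp_ge hM (isPBlock_blockOf χ) (self_mem_blockOf χ)
  rw [Nat.factorization_eq_zero_of_not_dvd hχ] at h1
  have := blockDefect_le (p := p) (blockOf M (χ : G → ℂ))
  omega

theorem real_odd_mem_principal (hM : IsPModular 2 M) {χ : IrrCharacter G}
    (hr : ∀ g : G, conj ((χ : G → ℂ) g) = (χ : G → ℂ) g)
    (ho : ¬ 2 ∣ charDegree (χ : G → ℂ)) : χ ∈ principalBlock M G := by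
  have hB : IsPBlock M (blockOf M (χ : G → ℂ)) := isPBlock_blockOf χ
  have hc : conjIrr χ = χ := Subtype.ext (funext hr)
  have hmem : conjIrr χ ∈ blockOf M (χ : G → ℂ) := by rw [hc]; exact self_mem_blockOf χ
  have h := principal_of_inv_stable hM hB (blockDefect_eq_top_of_odd_degree hM ho) fun g _ =>
    blockCoeff_eq_of_perm _ conjIrr (fun ψ hψ => conjIrr_mem hB (self_mem_blockOf χ) hmem hψ)
      conjIrr_injective.injOn (fun ψ _ => by rw [conjIrr_apply, conj_irr_one])
      (fun ψ _ => by rw [conjIrr_apply, irr_inv])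
  rw [← h]
  exact self_mem_blockOf χ

end Cfsg.Agent.Blocks
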