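/-
Induced blocks through the Brauer map: blocks from multiplicative functionals, induced and
Brauer central characters, defect groups of induced blocks.
-/
import Cfsg.Agent.Lib.Blocks.Congr
import Cfsg.Agent.Lib.Blocks.Real

set_option linter.unusedSectionVars false
set_option linter.style.haveILetI false

namespace Cfsg.Agent.Blocks

open Cfsg MonoidAlgebra

universe u

variable {G : Type u} [Group G] [Fintype G] {p : ℕ} {M : Ideal AlgInt} [M.IsPrime]

/-! ## Functionals -/

theorem omegaR_mem_of_resG_eq_zero (χ : IrrCharacter G) {x : MonoidAlgebra (locRing M) G}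
    (hx : IsClassElt x) (h : resG x = 0) : MemLocalIdeal M (omegaR χ x) := by
  classical
  haveI : Finite (ConjClasses G) := Finite.of_surjective _ ConjClasses.mk_surjective
  haveI : Fintype (ConjClasses G) := Fintype.ofFinite _
  rw [omegaR_eq_sum χ hx]
  refine memLocalIdeal_sum _ _ fun C _ => MemLocalIdeal.mul_right (res_eq_zero_iff.1 ?_)
    (centralChar_memLocalRing χ C.out)
  rw [← coeff_resG, h]; simp

theorem memLocalIdeal_of_pow {a : ℂ} (ha : MemLocalRing M a) :
    ∀ {n : ℕ}, MemLocalIdeal M (a ^ n) → MemLocalIdeal M a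
  | 0, h => absurd (by simpa using h) (not_memLocalIdeal_one (M := M))
  | n + 1, h => (memLocalIdeal_mul_cases ((locRing M).pow_mem ha n) ha (by rwa [← pow_succ])).elim
      (memLocalIdeal_of_pow ha) id

theorem mem_of_omegaR_blockEltR {B : Set (IrrCharacter G)} (hB : IsPBlock M B) {χ : IrrCharacter G}
    (h : ¬ MemLocalIdeal M (omegaR χ (blockEltR M B))) : χ ∈ B := by
  classical
  by_contra hn
  rw [omegaR_blockEltR hB, if_neg hn] at h
  exact h memLocalIdeal_zero

/-- A functional on the class elements which is multiplicative modulo `M` is congruent to the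
central character of a block. -/
theorem exists_block_of_functional (φ : MonoidAlgebra (locRing M) G → ℂ)
    (hmem : ∀ x, IsClassElt x → MemLocalRing M (φ x))
    (hadd : ∀ x y, φ (x + y) = φ x + φ y)
    (hsmul : ∀ (c : locRing M) x, φ (c • x) = (c : ℂ) * φ x)
    (hone : φ 1 = 1)
    (hmul : ∀ x y, IsClassElt x → IsClassElt y → MemLocalIdeal M (φ (x * y) - φ x * φ y))
    (hres : ∀ x, IsClassElt x → resG x = 0 → MemLocalIdeal M (φ x)) :
    ∃ B, IsPBlock M B ∧
      ∀ χ ∈ B, ∀ x, IsClassElt x → MemLocalIdeal M (φ x - omegaR χ x) := by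
  classical
  let F : MonoidAlgebra (locRing M) G →+ ℂ := AddMonoidHom.mk' φ hadd
  have hsum : ∑ B ∈ blocks M G, φ (blockEltR M B) = 1 := by
    rw [← hone, ← sum_blockEltR (M := M) (G := G)]
    exact (map_sum F _ _).symm
  obtain ⟨B, hBm, hBu⟩ : ∃ B ∈ blocks M G, ¬ MemLocalIdeal M (φ (blockEltR M B)) := by
    by_contra hne
    push Not at hne
    exact not_memLocalIdeal_one (M := M) (hsum ▸ memLocalIdeal_sum _ _ hne)
  have hB : IsPBlock M B := mem_blocks.1 hBm
  have he := isClassElt_blockEltR (M := M) B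
  refine ⟨B, hB, fun χ hχ x hx => ?_⟩
  let c : locRing M := ⟨omegaR χ x, omegaR_memLocalRing χ hx⟩
  have hv : IsClassElt (x - c • (1 : MonoidAlgebra (locRing M) G)) :=
    IsClassElt.sub hx (IsClassElt.smul IsClassElt.one c)
  set y := blockEltR M B * (x - c • 1) with hy
  have hycl : IsClassElt y := IsClassElt.mul he hv
  obtain ⟨n, hn⟩ := isNilpotent_resG hycl fun ψ => by
    rw [hy, omegaR_mul ψ he hv, omegaR_blockEltR hB]
    split_ifs with hψ
    · rw [one_mul, omegaR_sub, omegaR_smul, omegaR_one, mul_one]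
      exact omegaR_congr (isPBlock_sameBlock hB hψ hχ) hx
    · rw [zero_mul]; exact memLocalIdeal_zero
  have hpow : ∀ k : ℕ, MemLocalIdeal M (φ (y ^ k) - φ y ^ k) := by
    intro k
    induction k with
    | zero => rw [pow_zero, pow_zero, hone, sub_self]; exact memLocalIdeal_zero
    | succ k ih =>
      have h1 := MemLocalIdeal.add (hmul _ _ (IsClassElt.pow hycl k) hycl)
        (MemLocalIdeal.mul_right ih (hmem y hycl))
      rw [← pow_succ] at h1
      convert h1 using 1
      rw [pow_succ (φ y)]
      ring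
  have h2 : MemLocalIdeal M (φ y ^ n) := by
    have := MemLocalIdeal.sub (hres _ (IsClassElt.pow hycl n) (by rw [map_pow, hn])) (hpow n)
    simpa using this
  have h3 : MemLocalIdeal M (φ y) := memLocalIdeal_of_pow (hmem y hycl) h2
  have h4 : MemLocalIdeal M (φ (blockEltR M B) * φ (x - c • 1)) := by
    have := MemLocalIdeal.sub h3 (hmul _ _ he hv)
    rw [← hy] at this
    simpa using this
  have h5 := (memLocalIdeal_mul_cases (hmem _ he) (hmem _ hv) h4).resolve_left hBu
  have h6 : φ (x - c • (1 : MonoidAlgebra (locRing M) G)) = φ x - omegaR χ x := by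
    have := map_sub F x (c • (1 : MonoidAlgebra (locRing M) G))
    simp only [F, AddMonoidHom.mk'_apply, hsmul, hone, mul_one] at this
    exact this
  rwa [h6] at h5

/-! ## Restriction to a subgroup and the Brauer map -/

variable {R : Type*} [CommRing R]

theorem restrictElt_add (H : Subgroup G) (x y : MonoidAlgebra R G) :
    restrictElt H (x + y) = restrictElt H x + restrictElt H y :=
  gaExt fun h => by simp [coeff_restrictElt]

theorem restrictElt_smul (H : Subgroup G) (c : R) (x : MonoidAlgebra R G) :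
    restrictElt H (c • x) = c • restrictElt H x :=
  gaExt fun h => by simp [coeff_restrictElt]

theorem restrictElt_one (H : Subgroup G) [Fintype H] :
    restrictElt H (1 : MonoidAlgebra R G) = 1 := by
  classical
  refine gaExt fun h => ?_
  simp only [coeff_restrictElt, MonoidAlgebra.one_def, MonoidAlgebra.coeff_single,
    Finsupp.single_apply]
  exact if_congr ⟨fun e => Subtype.ext e, fun e => congrArg Subtype.val e⟩ rfl rfl

theorem restrictElt_mul_of_support (H : Subgroup G) [Fintype H] {x y : MonoidAlgebra R G}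
    (hx : ∀ g, g ∉ H → x.coeff g = 0) :
    restrictElt H (x * y) = restrictElt H x * restrictElt H y := by
  classical
  refine gaExt fun c => ?_
  rw [coeff_restrictElt, coeff_mul_univ, coeff_mul_univ]
  simp only [coeff_restrictElt, Subgroup.coe_mul, Subgroup.coe_inv]
  symm
  refine Finset.sum_bij_ne_zero (fun a _ _ => (a : G)) (fun _ _ _ => Finset.mem_univ _)
    (fun a _ _ b _ _ hab => Subtype.ext hab) ?_ (fun _ _ _ => rfl)
  intro b _ hb
  have hbH : b ∈ H := by
    by_contra hc
    rw [hx b hc, zero_mul] at hb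
    exact hb rfl
  exact ⟨⟨b, hbH⟩, Finset.mem_univ _, hb, rfl⟩

/-- The Brauer map into the group algebra of a subgroup containing the centraliser. -/
noncomputable def pushElt (P H : Subgroup G) (x : MonoidAlgebra R G) : MonoidAlgebra R H :=
  restrictElt H (brTrunc P x)

theorem coeff_pushElt (P H : Subgroup G) (x : MonoidAlgebra R G) (h : H)
    [Decidable ((h : G) ∈ Subgroup.centralizer (P : Set G))] :
    (pushElt P H x).coeff h =
      if (h : G) ∈ Subgroup.centralizer (P : Set G) then x.coeff (h : G) else 0 := by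
  rw [pushElt, coeff_restrictElt, coeff_brTrunc]

theorem pushElt_add (P H : Subgroup G) (x y : MonoidAlgebra R G) :
    pushElt P H (x + y) = pushElt P H x + pushElt P H y := by
  rw [pushElt, brTrunc_add, restrictElt_add]; rfl

theorem pushElt_smul (P H : Subgroup G) (c : R) (x : MonoidAlgebra R G) :
    pushElt P H (c • x) = c • pushElt P H x := by
  rw [pushElt, brTrunc_smul, restrictElt_smul]; rfl

theorem pushElt_one (P H : Subgroup G) [Fintype H] :
    pushElt P H (1 : MonoidAlgebra R G) = 1 := by rw [pushElt, brTrunc_one, restrictElt_one]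

theorem mem_centralizer_conj {P : Subgroup G} {k g : G}
    (hk : k ∈ Subgroup.normalizer (P : Set G)) (hg : g ∈ Subgroup.centralizer (P : Set G)) :
    k * g * k⁻¹ ∈ Subgroup.centralizer (P : Set G) := by
  refine Subgroup.mem_centralizer_iff.2 fun u hu => ?_
  have hu' : k⁻¹ * u * k ∈ P := by
    have := (Subgroup.mem_normalizer_iff.1 (inv_mem hk) u).1 hu
    simpa using this
  have h := Subgroup.mem_centralizer_iff.1 hg _ hu'
  calc u * (k * g * k⁻¹) = k * (k⁻¹ * u * k * g) * k⁻¹ := by group
    _ = k * (g * (k⁻¹ * u * k)) * k⁻¹ := by rw [h]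
    _ = k * g * k⁻¹ * u := by group

theorem mem_centralizer_conj_iff {P : Subgroup G} {k g : G}
    (hk : k ∈ Subgroup.normalizer (P : Set G)) :
    k * g * k⁻¹ ∈ Subgroup.centralizer (P : Set G) ↔ g ∈ Subgroup.centralizer (P : Set G) :=
  ⟨fun h => by simpa [mul_assoc] using mem_centralizer_conj (inv_mem hk) h,
    mem_centralizer_conj hk⟩

theorem IsClassElt.pushElt {P H : Subgroup G} (hN : H ≤ Subgroup.normalizer (P : Set G))
    {x : MonoidAlgebra R G} (hx : IsClassElt x) :
    IsClassElt (Cfsg.Agent.Blocks.pushElt P H x) := fun h k => by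
  classical
  simp only [coeff_pushElt, Subgroup.coe_mul, Subgroup.coe_inv]
  rw [hx]
  exact if_congr (mem_centralizer_conj_iff (hN k.2)) rfl rfl

theorem resG_pushElt (P H : Subgroup G) [Fintype H] (x : MonoidAlgebra (locRing M) G) :
    resG (pushElt P H x) = pushElt P H (resG x) := by
  classical
  refine gaExt fun h => ?_
  simp only [coeff_resG, coeff_pushElt]
  split_ifs <;> simp

theorem pushElt_mul [Fact p.Prime] [CharP R p] {P H : Subgroup G} [Fintype H] (hP : IsPGroup p P)
    (hC : Subgroup.centralizer (P : Set G) ≤ H) {x y : MonoidAlgebra R G} (hx : IsClassElt x)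
    (hy : IsClassElt y) : pushElt P H (x * y) = pushElt P H x * pushElt P H y := by
  classical
  rw [pushElt, brTrunc_mul hP (IsClassElt.isInvElt hx P) (IsClassElt.isInvElt hy P),
    restrictElt_mul_of_support]
  · rfl
  · intro g hg
    rw [coeff_brTrunc, if_neg fun h => hg (hC h)]

theorem omega_eq_sum_div (χ : IrrCharacter G) (x : MonoidAlgebra (locRing M) G) :
    omegaR χ x = (∑ g : G, (x.coeff g : ℂ) * (χ : G → ℂ) g) / (χ : G → ℂ) 1 := by
  rw [omegaR, omega]
  simp only [coeff_toC]

theorem brauerCentralChar_eq (P H : Subgroup G) [Fintype H] (ξ : IrrCharacter H) (g : G) :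
    brauerCentralChar P H (ξ : H → ℂ) g =
      omegaR ξ (pushElt P H (classSum (locRing M) g)) := by
  classical
  rw [brauerCentralChar, omega_eq_sum_div, finsum_mem_eq_finite_toFinset_sum _ (Set.toFinite _),
    Finset.sum_div]
  symm
  refine (Finset.sum_subset (Finset.subset_univ _) ?_).symm.trans (Finset.sum_congr rfl ?_)
  · intro h _ hh
    simp only [Set.Finite.mem_toFinset, Set.mem_ofPred_eq, not_and] at hh
    rw [coeff_pushElt, coeff_classSum]
    split_ifs with h1 h2 <;> first | exact absurd h1 (hh h2) | simp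
  · intro h hh
    rw [Set.Finite.mem_toFinset] at hh
    rw [coeff_pushElt, coeff_classSum, if_pos hh.2, if_pos hh.1]
    simp

theorem inducedCentralChar_eq (H : Subgroup G) [Fintype H] (ξ : IrrCharacter H) (g : G) :
    inducedCentralChar H (ξ : H → ℂ) g =
      omegaR ξ (restrictElt H (classSum (locRing M) g)) := by
  classical
  rw [inducedCentralChar, omega_eq_sum_div, finsum_mem_eq_finite_toFinset_sum _ (Set.toFinite _),
    Finset.sum_div]
  symm
  refine (Finset.sum_subset (Finset.subset_univ _) ?_).symm.trans (Finset.sum_congr rfl ?_)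
  · intro h _ hh
    rw [Set.Finite.mem_toFinset, Set.mem_ofPred_eq] at hh
    rw [coeff_restrictElt, coeff_classSum, if_neg hh]
    simp
  · intro h hh
    rw [Set.Finite.mem_toFinset] at hh
    rw [coeff_restrictElt, coeff_classSum, if_pos (show IsConj g (h : G) from hh)]
    simp

/-- For `P ≤ H ≤ N(P)` restriction and Brauer map agree under every central character of `H`. -/
theorem omegaR_restrict_sub_push (hM : IsPModular p M) {P H : Subgroup G} [Fintype H]
    (hP : IsPGroup p P) (hPH : P ≤ H) (hN : H ≤ Subgroup.normalizer (P : Set G))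
    (ξ : IrrCharacter H) {x : MonoidAlgebra (locRing M) G} (hx : IsClassElt x) :
    MemLocalIdeal M (omegaR ξ (restrictElt H x) - omegaR ξ (pushElt P H x)) := by
  classical
  haveI : Finite (ConjClasses H) := Finite.of_surjective _ ConjClasses.mk_surjective
  haveI : Fintype (ConjClasses H) := Fintype.ofFinite _
  rw [omegaR_eq_sum ξ (IsClassElt.restrictElt hx H), omegaR_eq_sum ξ (IsClassElt.pushElt hN hx),
    ← Finset.sum_sub_distrib]
  refine memLocalIdeal_sum _ _ fun C _ => ?_
  rw [← sub_mul, coeff_restrictElt, coeff_pushElt]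
  split_ifs with hc
  · simpa using memLocalIdeal_zero (M := M)
  · refine MemLocalIdeal.mul_left ((locRing M).sub_mem (Subtype.prop _) (Subtype.prop _)) ?_
    haveI : (P.subgroupOf H).Normal := ⟨fun n hn k => Subgroup.mem_subgroupOf.2 <| by
      simpa using (Subgroup.mem_normalizer_iff.1 (hN k.2) n).1 (Subgroup.mem_subgroupOf.1 hn)⟩
    by_contra hu
    have h1 := mem_centralizer_of_not_memLocalIdeal hM (P.subgroupOf H)
      (hP.comap_of_injective _ Subtype.val_injective) hu
    refine hc (Subgroup.mem_centralizer_iff.2 fun u hu' => ?_)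
    exact congrArg Subtype.val
      (Subgroup.mem_centralizer_iff.1 h1 ⟨u, hPH hu'⟩ (Subgroup.mem_subgroupOf.2 hu'))

theorem inducedCentralChar_sub_brauer (hM : IsPModular p M) {P H : Subgroup G} [Fintype H]
    (hP : IsPGroup p P) (hPH : P ≤ H) (hN : H ≤ Subgroup.normalizer (P : Set G))
    (ξ : IrrCharacter H) (g : G) :
    MemLocalIdeal M (inducedCentralChar H (ξ : H → ℂ) g - brauerCentralChar P H (ξ : H → ℂ) g) := by
  rw [inducedCentralChar_eq (M := M), brauerCentralChar_eq (M := M)]
  exact omegaR_restrict_sub_push hM hP hPH hN ξ (isClassElt_classSum g)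

/-- The induced central character is congruent to the block's on every class element. -/
theorem isInducedBlock_omegaR {H : Subgroup G} [Fintype H] {b : Set (IrrCharacter H)}
    {B : Set (IrrCharacter G)} (h : IsInducedBlock M H b B) {ξ : IrrCharacter H} (hξ : ξ ∈ b)
    {χ : IrrCharacter G} (hχ : χ ∈ B) {x : MonoidAlgebra (locRing M) G} (hx : IsClassElt x) :
    MemLocalIdeal M (omegaR ξ (restrictElt H x) - omegaR χ x) := by
  classical
  haveI : Finite (ConjClasses G) := Finite.of_surjective _ ConjClasses.mk_surjective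
  haveI : Fintype (ConjClasses G) := Fintype.ofFinite _
  let F : MonoidAlgebra (locRing M) G →+ ℂ := AddMonoidHom.mk'
    (fun y => omegaR ξ (restrictElt H y)) fun a b => by rw [restrictElt_add, omegaR_add]
  have h1 : omegaR ξ (restrictElt H x) = ∑ C : ConjClasses G,
      (x.coeff C.out : ℂ) * inducedCentralChar H (ξ : H → ℂ) C.out := by
    conv_lhs => rw [classElt_eq_sum_classSum hx]
    refine (map_sum F _ _).trans (Finset.sum_congr rfl fun C _ => ?_)
    simp only [F, AddMonoidHom.mk'_apply, restrictElt_smul, omegaR_smul,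
      ← inducedCentralChar_eq]
  rw [h1, omegaR_eq_sum χ hx, ← Finset.sum_sub_distrib]
  refine memLocalIdeal_sum _ _ fun C _ => ?_
  rw [← mul_sub]
  exact MemLocalIdeal.mul_left (x.coeff C.out).2 (h.2.2 ξ hξ χ hχ C.out)

theorem isInducedBlock_of_functional (hM : IsPModular p M) {P H : Subgroup G} [Fintype H]
    (hP : IsPGroup p P) (hPH : P ≤ H) (hN : H ≤ Subgroup.normalizer (P : Set G))
    {b : Set (IrrCharacter H)} (hb : IsPBlock M b) {B : Set (IrrCharacter G)} (hB : IsPBlock M B)
    {ξ : IrrCharacter H} (hξ : ξ ∈ b)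
    (hcong : ∀ χ ∈ B, ∀ x : MonoidAlgebra (locRing M) G, IsClassElt x →
      MemLocalIdeal M (omegaR ξ (pushElt P H x) - omegaR χ x)) :
    IsInducedBlock M H b B := by
  refine ⟨hb, hB, fun η hη χ hχ g => ?_⟩
  have h1 := inducedCentralChar_sub_brauer hM hP hPH hN η g
  have h2 := omegaR_congr (isPBlock_sameBlock hb hη hξ)
    (IsClassElt.pushElt hN (isClassElt_classSum (R := locRing M) g))
  have h3 := hcong χ hχ _ (isClassElt_classSum g)
  rw [omegaR_classSum] at h3
  have := MemLocalIdeal.add (MemLocalIdeal.add h1 h2) h3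
  convert this using 1
  rw [brauerCentralChar_eq (M := M)]
  ring

/-- Between `P C(P)` and `N(P)` every block induces. -/
theorem exists_isInducedBlock (hM : IsPModular p M) {P H : Subgroup G} [Fintype H]
    (hP : IsPGroup p P) (hPH : P ≤ H) (hC : Subgroup.centralizer (P : Set G) ≤ H)
    (hN : H ≤ Subgroup.normalizer (P : Set G)) {b : Set (IrrCharacter H)} (hb : IsPBlock M b) :
    ∃ B, IsInducedBlock M H b B := by
  classical
  haveI := Fact.mk hM.1
  haveI : CharP (resField M) p := resField_charP hM
  obtain ⟨ξ, hξ⟩ := isPBlock_nonempty hb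
  obtain ⟨B, hB, hcong⟩ := exists_block_of_functional (M := M) (fun x : MonoidAlgebra (locRing M) G => omegaR ξ (pushElt P H x))
    (fun x hx => omegaR_memLocalRing ξ (IsClassElt.pushElt hN hx))
    (fun x y => by rw [pushElt_add, omegaR_add])
    (fun c x => by rw [pushElt_smul, omegaR_smul])
    (by rw [pushElt_one, omegaR_one])
    (fun x y hx hy => by
      rw [← omegaR_mul ξ (IsClassElt.pushElt hN hx) (IsClassElt.pushElt hN hy), ← omegaR_sub]
      refine omegaR_mem_of_resG_eq_zero ξ (IsClassElt.sub (IsClassElt.pushElt hN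
        (IsClassElt.mul hx hy)) (IsClassElt.mul (IsClassElt.pushElt hN hx)
        (IsClassElt.pushElt hN hy))) ?_
      have hxr : IsClassElt (resG x) := IsClassElt.map hx _
      have hyr : IsClassElt (resG y) := IsClassElt.map hy _
      rw [map_sub, map_mul, resG_pushElt, resG_pushElt, resG_pushElt, map_mul,
        pushElt_mul hP hC hxr hyr, sub_self])
    (fun x hx h => omegaR_mem_of_resG_eq_zero ξ (IsClassElt.pushElt hN hx) (by
      rw [resG_pushElt, h]
      exact gaExt fun k => by simp [coeff_pushElt]))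
  exact ⟨B, isInducedBlock_of_functional hM hP hPH hN hb hB hξ hcong⟩

/-! ## Defect groups and the classes meeting a centraliser -/

theorem exists_unit_coeff_centralizing_iff (hM : IsPModular p M) {B : Set (IrrCharacter G)}
    (hB : IsPBlock M B) {D : Subgroup G} (hD : IsDefectGroup p M B D) {P : Subgroup G}
    (hP : IsPGroup p P) :
    (∃ g : G, MemLocalRing M (blockCoeff B g) ∧ ¬ MemLocalIdeal M (blockCoeff B g) ∧
      ∃ c : G, IsConj g c ∧ c ∈ Subgroup.centralizer (P : Set G)) ↔
      ∃ x : G, P.map (MulAut.conj x).toMonoidHom ≤ D := by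
  haveI := Fact.mk hM.1
  obtain ⟨d, hd, Q, rfl⟩ := hD
  constructor
  · rintro ⟨g, -, hg, c, hgc, hc⟩
    obtain ⟨y, hy⟩ := exists_conj_le_of_coeff hM hB hd
      (by rwa [← blockCoeff_isConj B hgc]) Q hP hc
    refine ⟨y⁻¹, ?_⟩
    rintro _ ⟨u, hu, rfl⟩
    obtain ⟨v, hv, hvu⟩ := hy hu
    simp only [MulEquiv.coe_toMonoidHom, MulAut.conj_apply] at hvu ⊢
    rw [← hvu, show y⁻¹ * (y * v * y⁻¹) * y⁻¹⁻¹ = v by group]
    exact hv
  · rintro ⟨x, hx⟩
    refine ⟨d, hd.1, hd.2.1, x⁻¹ * d * x, isConj_iff.2 ⟨x⁻¹, by rw [inv_inv]⟩, ?_⟩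
    refine Subgroup.mem_centralizer_iff.2 fun u hu => ?_
    have h1 := Subgroup.mem_centralizer_iff.1
      (sylowImage_le Q (hx ⟨u, hu, rfl⟩)) d rfl
    simp only [MulEquiv.coe_toMonoidHom, MulAut.conj_apply] at h1
    calc u * (x⁻¹ * d * x) = x⁻¹ * (x * u * x⁻¹ * d) * x := by group
      _ = x⁻¹ * (d * (x * u * x⁻¹)) * x := by rw [h1]
      _ = x⁻¹ * d * x * u := by group

/-- Blocks of `H` inducing `B` exist exactly when `P` is in a defect group of `B`. -/
theorem exists_inducing_iff (hM : IsPModular p M) {P H : Subgroup G} [Fintype H]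
    (hP : IsPGroup p P) (hPH : P ≤ H) (hC : Subgroup.centralizer (P : Set G) ≤ H)
    (hN : H ≤ Subgroup.normalizer (P : Set G)) {B : Set (IrrCharacter G)} (hB : IsPBlock M B)
    {D : Subgroup G} (hD : IsDefectGroup p M B D) :
    (∃ b, IsInducedBlock M H b B) ↔ ∃ x : G, P.map (MulAut.conj x).toMonoidHom ≤ D := by
  classical
  haveI := Fact.mk hM.1
  haveI : CharP (resField M) p := resField_charP hM
  rw [← exists_unit_coeff_centralizing_iff hM hB hD hP]
  have he := isClassElt_blockEltR (M := M) B
  obtain ⟨χ, hχ⟩ := isPBlock_nonempty hB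
  constructor
  · rintro ⟨b, hb⟩
    obtain ⟨ξ, hξ⟩ := isPBlock_nonempty hb.1
    have h1 := MemLocalIdeal.sub (isInducedBlock_omegaR hb hξ hχ he)
      (omegaR_restrict_sub_push hM hP hPH hN ξ he)
    rw [omegaR_blockEltR hB, if_pos hχ] at h1
    by_contra hne
    have h0 : MemLocalIdeal M (omegaR ξ (pushElt P H (blockEltR M B))) := by
      refine omegaR_mem_of_resG_eq_zero ξ (IsClassElt.pushElt hN he) (gaExt fun h => ?_)
      rw [coeff_resG, coeff_pushElt]
      split_ifs with hc
      · rw [res_eq_zero_iff.2]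
        · simp
        · rw [coeff_blockEltR hB]
          by_contra hu
          exact hne ⟨h, blockCoeff_memLocalRing hB _, hu, h, IsConj.refl _, hc⟩
      · simp
    exact not_memLocalIdeal_one (M := M) (by
      have := MemLocalIdeal.sub h0 h1
      ring_nf at this
      simpa using this)
  · rintro ⟨g, -, hgu, c, hgc, hc⟩
    set x := pushElt P H (blockEltR M B) with hx
    have hid : resG x * resG x = resG x := by
      have her : IsClassElt (resG (blockEltR M B)) := IsClassElt.map he _
      rw [hx, resG_pushElt, ← pushElt_mul hP hC her her, ← map_mul, blockEltR_idem hB]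
    have heq := resG_eq_sum_blocks (IsClassElt.pushElt hN he) hid
    have hne : (unitBlocks M x).Nonempty := by
      refine Finset.nonempty_iff_ne_empty.2 fun h0 => ?_
      rw [h0, Finset.sum_empty, map_zero] at heq
      have := congrArg (fun z : MonoidAlgebra (resField M) H => z.coeff ⟨c, hC hc⟩) heq
      simp only [coeff_resG, coeff_pushElt, if_pos hc, MonoidAlgebra.coeff_zero,
        Finsupp.zero_apply] at this
      rw [res_eq_zero_iff, coeff_blockEltR hB, ← blockCoeff_isConj B hgc] at this
      exact hgu this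
    obtain ⟨b, hb⟩ := hne
    obtain ⟨hbb, hbu⟩ := mem_unitBlocks.1 hb
    obtain ⟨ξ, hξ⟩ := isPBlock_nonempty hbb
    obtain ⟨B', hind⟩ := exists_isInducedBlock hM hP hPH hC hN hbb
    refine ⟨b, ?_⟩
    obtain ⟨χ', hχ'⟩ := isPBlock_nonempty hind.2.1
    have h1 := MemLocalIdeal.sub (isInducedBlock_omegaR hind hξ hχ' he)
      (omegaR_restrict_sub_push hM hP hPH hN ξ he)
    rw [← hx] at h1
    have h2 := MemLocalIdeal.sub (hbu ξ hξ) h1
    have h3 : χ' ∈ B := mem_of_omegaR_blockEltR hB fun hmem => not_memLocalIdeal_one (M := M) (by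
      have := MemLocalIdeal.sub hmem h2
      simpa using this)
    rwa [← isPBlock_eq_of_mem hind.2.1 hB hχ' h3]

/-- A defect group of an inducing block lies in a defect group of the induced block. -/
theorem defectGroup_le_of_induced (hM : IsPModular p M) {H : Subgroup G} [Fintype H]
    {b : Set (IrrCharacter H)} {B : Set (IrrCharacter G)} (hind : IsInducedBlock M H b B)
    {D : Subgroup H} (hD : IsDefectGroup p M b D) :
    ∃ E : Subgroup G, IsDefectGroup p M B E ∧ D.map H.subtype ≤ E := by
  classical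
  haveI := Fact.mk hM.1
  haveI : Finite (ConjClasses H) := Finite.of_surjective _ ConjClasses.mk_surjective
  haveI : Fintype (ConjClasses H) := Fintype.ofFinite _
  obtain ⟨hb, hB, -⟩ := id hind
  obtain ⟨ξ, hξ⟩ := isPBlock_nonempty hb
  obtain ⟨χ, hχ⟩ := isPBlock_nonempty hB
  have he := isClassElt_blockEltR (M := M) B
  obtain ⟨d, hd, Q, rfl⟩ := hD
  have h1 := isInducedBlock_omegaR hind hξ hχ he
  rw [omegaR_blockEltR hB, if_pos hχ, omegaR_eq_sum ξ (IsClassElt.restrictElt he H)] at h1
  obtain ⟨C, hC1, hC2⟩ : ∃ C : ConjClasses H, ¬ MemLocalIdeal M (blockCoeff B (C.out : G)) ∧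
      ¬ MemLocalIdeal M (centralChar (ξ : H → ℂ) C.out) := by
    by_contra hne
    push Not at hne
    refine not_memLocalIdeal_one (M := M) ?_
    have h2 : MemLocalIdeal M (∑ C : ConjClasses H,
        ((restrictElt H (blockEltR M B)).coeff C.out : ℂ) * centralChar (ξ : H → ℂ) C.out) := by
      refine memLocalIdeal_sum _ _ fun C _ => ?_
      rw [coeff_restrictElt, coeff_blockEltR hB]
      by_cases hc : MemLocalIdeal M (blockCoeff B (C.out : G))
      · exact MemLocalIdeal.mul_right hc (centralChar_memLocalRing _ _)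
      · exact MemLocalIdeal.mul_left (blockCoeff_memLocalRing hB _) (hne C hc)
    have := MemLocalIdeal.sub h2 h1
    simpa using this
  obtain ⟨y, hyc, hy⟩ := exists_conj_centralizing_defect hM hb hd hξ hC2 Q
  obtain ⟨E, hE⟩ := exists_isDefectGroup (p := p) hB
  set P := (sylowImage Q).map H.subtype with hP
  have hPg : IsPGroup p P := (isPGroup_sylowImage Q).map _
  obtain ⟨x, hx⟩ := (exists_unit_coeff_centralizing_iff hM hB hE hPg).1
    ⟨(C.out : G), blockCoeff_memLocalRing hB _, hC1, (y : G),
      by obtain ⟨k, hk⟩ := isConj_iff.1 hyc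
         exact isConj_iff.2 ⟨(k : G), by rw [← hk]; rfl⟩,
      Subgroup.mem_centralizer_iff.2 fun u hu => by
        obtain ⟨v, hv, rfl⟩ := hu
        exact congrArg Subtype.val (Subgroup.mem_centralizer_iff.1 hy v hv)⟩
  refine ⟨_, IsDefectGroup.map_conj hE x⁻¹, fun u hu => ⟨x * u * x⁻¹, hx ⟨u, hu, rfl⟩, ?_⟩⟩
  simp [mul_assoc]

end Cfsg.Agent.Blocks
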