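/-
Sections of elements with unit central character; defect groups of inducing blocks.
-/
import Cfsg.Agent.Lib.Blocks.Induced

set_option linter.unusedSectionVars false
set_option linter.style.haveILetI false

namespace Cfsg.Agent.Blocks

open Cfsg MonoidAlgebra

universe u

variable {G : Type u} [Group G] [Fintype G] {p : ℕ} {M : Ideal AlgInt} [M.IsPrime]

theorem IsPPart.mem_zpowers (hp : p.Prime) {g x : G} (h : IsPPart p g x) :
    x ∈ Subgroup.zpowers g := by
  haveI := Fact.mk hp
  obtain ⟨u, v, huv, hu, hv, hk, hv'⟩ := Cfsg.Agent.PBasic.exists_pPart_mul (p := p) g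
  have h' : IsPPart p g u := by
    refine ⟨v, huv, ?_, hk, (Nat.Prime.coprime_iff_not_dvd hp).1 hv'.symm⟩
    obtain ⟨i, rfl⟩ := Subgroup.mem_zpowers_iff.1 hu
    obtain ⟨j, rfl⟩ := Subgroup.mem_zpowers_iff.1 hv
    exact ((Commute.refl g).zpow_left i).zpow_right j
  rwa [isPPart_unique hp h h']

theorem IsPPart.coe {H : Subgroup G} {g x : H} (h : IsPPart p g x) :
    IsPPart p (g : G) (x : G) := by
  obtain ⟨y, rfl, hc, ⟨k, hk⟩, hy⟩ := h
  refine ⟨y, rfl, congrArg Subtype.val hc.eq, ⟨k, by rwa [Subgroup.orderOf_coe]⟩, ?_⟩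
  rwa [Subgroup.orderOf_coe]

theorem IsPPart.of_coe {H : Subgroup G} {g x : H} (h : IsPPart p (g : G) (x : G)) :
    IsPPart p g x := by
  obtain ⟨y, hy, hc, ⟨k, hk⟩, hy'⟩ := h
  have hyH : y ∈ H := by
    rw [← inv_mul_cancel_left (x : G) y, hy]
    exact mul_mem (inv_mem x.2) g.2
  refine ⟨⟨y, hyH⟩, Subtype.ext hy, Subtype.ext hc.eq,
    ⟨k, by rwa [← Subgroup.orderOf_coe]⟩, ?_⟩
  rwa [← Subgroup.orderOf_coe]

theorem isPGroup_defectGroup {B : Set (IrrCharacter G)} {D : Subgroup G}
    (hD : IsDefectGroup p M B D) : IsPGroup p D := by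
  obtain ⟨g, -, P, rfl⟩ := hD
  exact isPGroup_sylowImage P

/-- In `D C(D)` the defect groups of a block inducing a block with defect group `D` equal `D`. -/
theorem defectGroup_eq_of_induced (hM : IsPModular p M) {B : Set (IrrCharacter G)}
    {D : Subgroup G} (hD : IsDefectGroup p M B D) {H : Subgroup G} [Fintype H] (hDH : D ≤ H)
    (hN : H ≤ Subgroup.normalizer (D : Set G)) {b : Set (IrrCharacter H)}
    (hind : IsInducedBlock M H b B) {D' : Subgroup H} (hD' : IsDefectGroup p M b D') :
    D' = D.subgroupOf H := by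
  haveI : (D.subgroupOf H).Normal := ⟨fun n hn k => Subgroup.mem_subgroupOf.2 <| by
    simpa using (Subgroup.mem_normalizer_iff.1 (hN k.2) n).1 (Subgroup.mem_subgroupOf.1 hn)⟩
  have h1 : D.subgroupOf H ≤ D' := le_defectGroup_of_normal hM hind.1 hD' _
    ((isPGroup_defectGroup hD).comap_of_injective _ Subtype.val_injective)
  obtain ⟨E, hE, hle⟩ := defectGroup_le_of_induced hM hind hD'
  refine (Subgroup.eq_of_le_of_card_ge h1 ?_).symm
  rw [Nat.card_congr (Subgroup.subgroupOfEquivOfLe hDH).toEquiv,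
    card_defectGroup hM hind.2.1 hD, ← card_defectGroup hM hind.2.1 hE,
    ← Subgroup.card_map_of_injective (f := H.subtype) Subtype.val_injective (K := D')]
  exact Subgroup.card_le_of_le hle

/-- Classes with a unit central character meet the centraliser of a defect group in elements
whose p-part is central in that defect group. -/
theorem exists_conj_section (hM : IsPModular p M) {B : Set (IrrCharacter G)} (hB : IsPBlock M B)
    {D : Subgroup G} (hD : IsDefectGroup p M B D) {χ : IrrCharacter G} (hχ : χ ∈ B) {g : G}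
    (hg : ¬ MemLocalIdeal M (centralChar (χ : G → ℂ) g)) :
    ∃ x : G, IsConj g x ∧ x ∈ Subgroup.centralizer (D : Set G) ∧
      ∀ z : G, IsPPart p x z → z ∈ D ∧ ∀ w ∈ D, z * w = w * z := by
  classical
  haveI := Fact.mk hM.1
  set H := D ⊔ Subgroup.centralizer (D : Set G) with hH
  have hDH : D ≤ H := le_sup_left
  have hC : Subgroup.centralizer (D : Set G) ≤ H := le_sup_right
  have hN : H ≤ Subgroup.normalizer (D : Set G) := by
    refine sup_le Subgroup.le_normalizer fun c hc => ?_
    refine Subgroup.mem_normalizer_iff.2 fun n => ⟨fun hn => ?_, fun hn => ?_⟩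
    · rwa [← (Subgroup.mem_centralizer_iff.1 hc n hn), mul_inv_cancel_right]
    · have h := Subgroup.mem_centralizer_iff.1 (inv_mem hc) _ hn
      have e : c * n * c⁻¹ = n := by
        have : c⁻¹ * (c * n * c⁻¹) * c = c * n * c⁻¹ := by
          rw [← h, inv_mul_cancel_right]
        simpa [mul_assoc] using this.symm
      rwa [e] at hn
  have hP := isPGroup_defectGroup hD
  obtain ⟨b, hb⟩ := (exists_inducing_iff hM hP hDH hC hN hB hD).2 ⟨1, by
    rintro _ ⟨u, hu, rfl⟩; simpa using hu⟩
  obtain ⟨ξ, hξ⟩ := isPBlock_nonempty hb.1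
  haveI : Finite (ConjClasses H) := Finite.of_surjective _ ConjClasses.mk_surjective
  haveI : Fintype (ConjClasses H) := Fintype.ofFinite _
  have hK := isClassElt_classSum (R := locRing M) g
  have h1 := MemLocalIdeal.sub (isInducedBlock_omegaR hb hξ hχ hK)
    (omegaR_restrict_sub_push hM hP hDH hN ξ hK)
  rw [omegaR_classSum, omegaR_eq_sum ξ (IsClassElt.pushElt hN hK)] at h1
  obtain ⟨C, hC1, hC2⟩ : ∃ C : ConjClasses H, (pushElt D H (classSum (locRing M) g)).coeff C.out ≠ 0 ∧
      ¬ MemLocalIdeal M (centralChar (ξ : H → ℂ) C.out) := by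
    by_contra hne
    push Not at hne
    refine hg ?_
    have h2 : MemLocalIdeal M (∑ C : ConjClasses H,
        ((pushElt D H (classSum (locRing M) g)).coeff C.out : ℂ) *
          centralChar (ξ : H → ℂ) C.out) := by
      refine memLocalIdeal_sum _ _ fun C _ => ?_
      by_cases hc : (pushElt D H (classSum (locRing M) g)).coeff C.out = 0
      · rw [hc]; simpa using memLocalIdeal_zero (M := M)
      · exact MemLocalIdeal.mul_left (Subtype.prop _) (hne C hc)
    have := MemLocalIdeal.sub h2 h1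
    ring_nf at this
    simpa [omegaR_eq_sum] using this
  rw [coeff_pushElt] at hC1
  have hc1 : (C.out : G) ∈ Subgroup.centralizer (D : Set G) := by
    by_contra hc
    rw [if_neg hc] at hC1
    exact hC1 rfl
  have hc2 : IsConj g (C.out : G) := by
    rw [if_pos hc1, coeff_classSum] at hC1
    by_contra hc
    rw [if_neg hc] at hC1
    exact hC1 rfl
  refine ⟨C.out, hc2, hc1, fun z hz => ?_⟩
  have hzH : z ∈ H := (Subgroup.zpowers_le.2 (C.out : H).2) (IsPPart.mem_zpowers hM.1 hz)
  have hzD : (⟨z, hzH⟩ : H) ∈ D.subgroupOf H := by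
    by_contra hzn
    refine hC2 ?_
    have h0 := irr_eq_zero_of_notMem_defect hM hb.1 hξ (g := C.out) (a := ⟨z, hzH⟩)
      (IsPPart.of_coe hz) fun D' hD' => by
        rwa [defectGroup_eq_of_induced hM hD hDH hN hb hD']
    rw [centralChar, h0, mul_zero, zero_div]
    exact memLocalIdeal_zero
  have hzC : z ∈ Subgroup.centralizer (D : Set G) :=
    (Subgroup.zpowers_le.2 hc1) (IsPPart.mem_zpowers hM.1 hz)
  exact ⟨Subgroup.mem_subgroupOf.1 hzD,
    fun w hw => (Subgroup.mem_centralizer_iff.1 hzC w hw).symm⟩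

/-- Sections above a defect class: height zero values, and central elements of the defect group. -/
theorem defect_section_unit (hM : IsPModular p M) {B : Set (IrrCharacter G)} (hB : IsPBlock M B)
    {y : G} (hy : IsDefectClass M B y) (P : Sylow p (Subgroup.centralizer ({y} : Set G)))
    {x : G} (hx : x ∈ sylowImage P) :
    (∀ χ ∈ B, blockHeight p B (χ : G → ℂ) = 0 → ¬ MemLocalIdeal M ((χ : G → ℂ) (x * y))) ∧
      ((∀ w ∈ sylowImage P, x * w = w * x) →
        ∀ χ ∈ B, ¬ MemLocalIdeal M (centralChar (χ : G → ℂ) (x * y))) := by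
  classical
  haveI := Fact.mk hM.1
  have hyr := IsDefectClass.not_dvd_orderOf hM hB hy
  have hxy : Commute x y := (Subgroup.mem_centralizer_iff.1 (sylowImage_le P hx) y rfl).symm
  obtain ⟨k, hk⟩ := (IsPGroup.iff_orderOf).1 (isPGroup_sylowImage P) ⟨x, hx⟩
  rw [← Subgroup.orderOf_coe] at hk
  have hu : ∀ χ ∈ B, blockHeight p B (χ : G → ℂ) = 0 →
      ¬ MemLocalIdeal M ((χ : G → ℂ) (x * y)) := by
    intro χ hχ h0 hmem
    refine (irr_defectClass_unit_iff hM hB hχ hy).2 h0 ?_
    have := MemLocalIdeal.sub hmem (char_congr_regular hM (irr_isCharacter χ) hxy hk hyr)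
    simpa using this
  refine ⟨hu, fun hxc χ hχ => ?_⟩
  have hpp : IsPPart p (x * y) x := ⟨y, rfl, hxy, ⟨k, hk⟩, hyr⟩
  have hce : classExp p (x * y) = classExp p y := by
    have hle : Subgroup.centralizer ({x * y} : Set G) ≤ Subgroup.centralizer ({y} : Set G) := by
      intro u hu'
      have hcu : Commute (x * y) u := Subgroup.mem_centralizer_iff.1 hu' _ rfl
      obtain ⟨i, hi⟩ := Subgroup.mem_zpowers_iff.1 (IsPPart.mem_zpowers hM.1 hpp)
      have hxu : Commute x u := hi ▸ hcu.zpow_left i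
      refine Subgroup.mem_centralizer_iff.2 fun q hq => ?_
      rw [Set.mem_singleton_iff.1 hq]
      have h2 := hxu.inv_left.mul_left hcu
      rw [inv_mul_cancel_left] at h2
      exact h2.eq
    have hPle : sylowImage P ≤ Subgroup.centralizer ({x * y} : Set G) := fun w hw => by
      refine Subgroup.mem_centralizer_iff.2 fun q hq => ?_
      rw [Set.mem_singleton_iff.1 hq]
      exact ((show Commute x w from hxc w hw).mul_left
        (Subgroup.mem_centralizer_iff.1 (sylowImage_le P hw) y rfl)).eq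
    refine le_antisymm ((Nat.factorization_le_iff_dvd Nat.card_pos.ne' Nat.card_pos.ne').2
      (Subgroup.card_dvd_of_le hle) p) ?_
    have h1 := Subgroup.card_dvd_of_le hPle
    rw [card_sylowImage] at h1
    exact (hM.1.pow_dvd_iff_le_factorization Nat.card_pos.ne').1 h1
  obtain ⟨χ₀, hχ₀, h0⟩ := exists_heightZero hM hB
  intro hmem
  have h3 := MemLocalIdeal.sub hmem (isPBlock_sameBlock hB hχ hχ₀ (x * y))
  rw [sub_sub_cancel, centralChar, irr_one_eq_charDegree χ₀, mul_comm, mul_div_assoc] at h3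
  refine (memLocalIdeal_mul_cases (irr_memLocalRing χ₀ _) ?_ h3).elim (hu χ₀ hχ₀ h0) ?_
  · refine memLocalRing_natDiv hM ?_
    rw [index_centralizer_factorization, hce, ← blockDefect_eq_classExp hM hB hy]
    exact ((blockHeight_eq_zero_iff hM hB hχ₀).1 h0).le
  · refine not_memLocalIdeal_natDiv hM (charDegree_pos χ₀).ne'
      Subgroup.index_ne_zero_of_finite ?_
    rw [index_centralizer_factorization, hce, ← blockDefect_eq_classExp hM hB hy]
    exact ((blockHeight_eq_zero_iff hM hB hχ₀).1 h0).ge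

/-- Central elements of a defect group of the induced block are conjugate to central elements of
a defect group of the inducing block. -/
theorem center_defect_induced (hM : IsPModular p M) {H : Subgroup G} [Fintype H]
    {b : Set (IrrCharacter H)} {B : Set (IrrCharacter G)} (hind : IsInducedBlock M H b B)
    {D : Subgroup H} (hD : IsDefectGroup p M b D) {P : Subgroup G}
    (hP : IsDefectGroup p M B P) {x : G} (hx : x ∈ P) (hxc : ∀ w ∈ P, x * w = w * x) :
    ∃ g : G, g * x * g⁻¹ ∈ D.map H.subtype ∧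
      ∀ w ∈ D.map H.subtype, (g * x * g⁻¹) * w = w * (g * x * g⁻¹) := by
  classical
  haveI := Fact.mk hM.1
  obtain ⟨y, hy, Q, rfl⟩ := hP
  obtain ⟨χ, hχ⟩ := isPBlock_nonempty hind.2.1
  obtain ⟨ξ, hξ⟩ := isPBlock_nonempty hind.1
  have hunit := (defect_section_unit hM hind.2.1 hy Q hx).2 hxc χ hχ
  haveI : Finite (ConjClasses H) := Finite.of_surjective _ ConjClasses.mk_surjective
  haveI : Fintype (ConjClasses H) := Fintype.ofFinite _
  have hK := isClassElt_classSum (R := locRing M) (x * y)
  have h1 := isInducedBlock_omegaR hind hξ hχ hK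
  rw [omegaR_classSum, omegaR_eq_sum ξ (IsClassElt.restrictElt hK H)] at h1
  obtain ⟨C, hC1, hC2⟩ : ∃ C : ConjClasses H, IsConj (x * y) (C.out : G) ∧
      ¬ MemLocalIdeal M (centralChar (ξ : H → ℂ) C.out) := by
    by_contra hne
    push Not at hne
    refine hunit ?_
    have h2 : MemLocalIdeal M (∑ C : ConjClasses H,
        ((restrictElt H (classSum (locRing M) (x * y))).coeff C.out : ℂ) *
          centralChar (ξ : H → ℂ) C.out) := by
      refine memLocalIdeal_sum _ _ fun C _ => ?_
      rw [coeff_restrictElt, coeff_classSum]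
      split_ifs with hc
      · exact MemLocalIdeal.mul_left (Subtype.prop _) (hne C hc)
      · simpa using memLocalIdeal_zero (M := M)
    have := MemLocalIdeal.sub h2 h1
    simpa using this
  obtain ⟨w, hwc, -, hwz⟩ := exists_conj_section hM hind.1 hD hξ hC2
  obtain ⟨z, hz⟩ := exists_isPPart hM.1 w
  obtain ⟨hzD, hzc⟩ := hwz z hz
  have hxy : Commute x y := (Subgroup.mem_centralizer_iff.1 (sylowImage_le Q hx) y rfl).symm
  obtain ⟨k, hk⟩ := (IsPGroup.iff_orderOf).1 (isPGroup_sylowImage Q) ⟨x, hx⟩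
  rw [← Subgroup.orderOf_coe] at hk
  have hpp : IsPPart p (x * y) x :=
    ⟨y, rfl, hxy, ⟨k, hk⟩, IsDefectClass.not_dvd_orderOf hM hind.2.1 hy⟩
  have hconj : IsConj (x * y) (w : G) := by
    refine hC1.trans ?_
    obtain ⟨c, hc⟩ := isConj_iff.1 hwc
    exact isConj_iff.2 ⟨(c : G), by rw [← hc]; rfl⟩
  obtain ⟨x', hx', hxx'⟩ := isConj_isPPart hconj hpp
  obtain ⟨g, hg⟩ := isConj_iff.1 hxx'
  refine ⟨g, ?_⟩
  rw [hg, isPPart_unique hM.1 hx' (IsPPart.coe hz)]
  refine ⟨⟨z, hzD, rfl⟩, ?_⟩
  rintro _ ⟨v, hv, rfl⟩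
  exact congrArg Subtype.val (hzc v hv)

theorem blockDefect_eq_zero_iff_of_induced (hM : IsPModular p M) {H : Subgroup G} [Fintype H]
    {b : Set (IrrCharacter H)} {B : Set (IrrCharacter G)} (hind : IsInducedBlock M H b B) :
    blockDefect p b = 0 ↔ blockDefect p B = 0 := by
  classical
  haveI := Fact.mk hM.1
  obtain ⟨D, hD⟩ := exists_isDefectGroup (p := p) hind.1
  constructor
  · intro h0
    obtain ⟨P, hP⟩ := exists_isDefectGroup (p := p) hind.2.1
    by_contra hne
    have hPg := isPGroup_defectGroup hP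
    haveI : Nontrivial P := by
      rw [← Finite.one_lt_card_iff_nontrivial, card_defectGroup hM hind.2.1 hP]
      exact Nat.one_lt_pow hne hM.1.one_lt
    haveI := hPg.center_nontrivial
    obtain ⟨⟨⟨x, hx⟩, hxc⟩, hne1⟩ := exists_ne (1 : Subgroup.center P)
    obtain ⟨g, hgD, -⟩ := center_defect_induced hM hind hD hP hx fun w hw =>
      (congrArg Subtype.val (Subgroup.mem_center_iff.1 hxc ⟨w, hw⟩)).symm
    obtain ⟨v, hv, hvg⟩ := hgD
    have hD1 : D = ⊥ := Subgroup.card_eq_one.1 (by rw [card_defectGroup hM hind.1 hD, h0, pow_zero])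
    rw [SetLike.mem_coe, hD1, Subgroup.mem_bot] at hv
    subst hv
    refine hne1 (Subtype.ext (Subtype.ext ?_))
    have : g * x * g⁻¹ = 1 := hvg.symm
    simpa using this
  · intro h0
    obtain ⟨E, hE, hle⟩ := defectGroup_le_of_induced hM hind hD
    have h1 := Subgroup.card_le_of_le hle
    rw [Subgroup.card_map_of_injective Subtype.val_injective, card_defectGroup hM hind.1 hD,
      card_defectGroup hM hind.2.1 hE, h0, pow_zero] at h1
    by_contra hne
    exact absurd h1 (not_le.2 (Nat.one_lt_pow hne hM.1.one_lt))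

end Cfsg.Agent.Blocks
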