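/-
Small consequences: induced characters, class products, degrees of characters vanishing on
elements of order p, counting congruences.
-/
import Cfsg.Agent.Lib.Blocks.Defect
import Cfsg.Agent.Lib.Char.Induction

set_option linter.unusedSectionVars false
set_option linter.style.haveILetI false

namespace Cfsg.Agent.Blocks

open Cfsg MonoidAlgebra Cfsg.Agent.Char

universe u

variable {G : Type u} [Group G] [Fintype G] {p : ℕ} {M : Ideal AlgInt} [M.IsPrime]

/-- Summing over conjugates is summing over the class, weighted by the centraliser. -/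
theorem sum_conj_eq (g : G) (f : G → ℂ) :
    ∑ x : G, f (x⁻¹ * g * x) =
      (Nat.card (Subgroup.centralizer ({g} : Set G)) : ℂ) * ∑ y ∈ classFinset g, f y := by
  classical
  rw [← Finset.sum_fiberwise_of_maps_to (g := fun x : G => x⁻¹ * g * x) (t := classFinset g)
    (fun x _ => mem_classFinset.2 (isConj_iff.2 ⟨x⁻¹, by rw [inv_inv]⟩)), Finset.mul_sum]
  refine Finset.sum_congr rfl fun y hy => ?_
  rw [Finset.sum_congr rfl (fun x hx => congrArg f (Finset.mem_filter.1 hx).2), Finset.sum_const,
    nsmul_eq_mul]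
  congr 1
  obtain ⟨c, hc⟩ := isConj_iff.1 (mem_classFinset.1 hy)
  rw [Nat.card_eq_fintype_card, ← Finset.card_univ]
  norm_cast
  refine Finset.card_bij' (fun x _ => (⟨x * c, ?_⟩ : Subgroup.centralizer ({g} : Set G)))
    (fun u _ => (u : G) * c⁻¹) (fun _ _ => Finset.mem_univ _) (fun u _ => ?_) (fun x _ => ?_)
    (fun u _ => ?_)
  · rename_i hx
    refine Subgroup.mem_centralizer_iff.2 fun q hq => ?_
    rw [Set.mem_singleton_iff.1 hq]
    have h1 : x⁻¹ * g * x = c * g * c⁻¹ := (Finset.mem_filter.1 hx).2.trans hc.symm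
    calc g * (x * c) = x * (x⁻¹ * g * x) * c := by group
      _ = x * (c * g * c⁻¹) * c := by rw [h1]
      _ = x * c * g := by group
  · refine Finset.mem_filter.2 ⟨Finset.mem_univ _, ?_⟩
    have h1 := Subgroup.mem_centralizer_iff.1 u.2 g rfl
    rw [← hc]
    calc ((u : G) * c⁻¹)⁻¹ * g * ((u : G) * c⁻¹) = c * ((u : G)⁻¹ * (g * u)) * c⁻¹ := by group
      _ = c * ((u : G)⁻¹ * (u * g)) * c⁻¹ := by rw [h1]
      _ = c * g * c⁻¹ := by group
  · simp
  · exact Subtype.ext (by simp)

theorem inducedCentralChar_eq_centralChar (H : Subgroup G) [Fintype H] (ξ : H → ℂ) (g : G) :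
    inducedCentralChar H ξ g = centralChar (indFun H ξ) g := by
  classical
  have h1 : inducedCentralChar H ξ g = (∑ y ∈ classFinset g, extendByZero H ξ y) / ξ 1 := by
    rw [inducedCentralChar, finsum_mem_eq_finite_toFinset_sum _ (Set.toFinite _), Finset.sum_div,
      ← Finset.sum_filter_of_ne (s := classFinset g) (p := (· ∈ H)) (fun y _ hy => by
        by_contra hc
        rw [extendByZero_not_mem H ξ hc] at hy
        simp at hy)]
    refine Finset.sum_bij (fun h _ => (h : G)) (fun h hh => ?_) (fun a _ b _ e => Subtype.ext e)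
      (fun y hy => ?_) (fun h _ => ?_)
    · rw [Set.Finite.mem_toFinset] at hh
      exact Finset.mem_filter.2 ⟨mem_classFinset.2 hh, h.2⟩
    · obtain ⟨hy1, hy2⟩ := Finset.mem_filter.1 hy
      exact ⟨⟨y, hy2⟩, by rw [Set.Finite.mem_toFinset]; exact mem_classFinset.1 hy1, rfl⟩
    · rw [extendByZero_coe]
  have hindex := (Subgroup.centralizer ({g} : Set G)).card_mul_index
  have hone : ∑ x : G, extendByZero H ξ (x⁻¹ * 1 * x) = (Nat.card G : ℂ) * ξ 1 := by
    simp [extendByZero_one, Nat.card_eq_fintype_card]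
  have hH : (Nat.card H : ℂ) ≠ 0 := Nat.cast_ne_zero.2 Nat.card_pos.ne'
  have hC : (Nat.card (Subgroup.centralizer ({g} : Set G)) : ℂ) ≠ 0 :=
    Nat.cast_ne_zero.2 Nat.card_pos.ne'
  have hi : ((Subgroup.centralizer ({g} : Set G)).index : ℂ) ≠ 0 :=
    Nat.cast_ne_zero.2 Subgroup.index_ne_zero_of_finite
  simp only [h1, centralChar, indFun]
  rw [hone, sum_conj_eq, ← hindex]
  push_cast
  rcases eq_or_ne (ξ 1) 0 with h0 | h0
  · simp [h0]
  · field_simp

theorem isInducedBlock_indFun {H : Subgroup G} [Fintype H]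
    (ξ : IrrCharacter H) (hind : IsIrrCharacter G (indFun H (ξ : H → ℂ))) :
    IsInducedBlock M H (blockOf M (ξ : H → ℂ)) (blockOf M (indFun H (ξ : H → ℂ))) := by
  refine ⟨isPBlock_blockOf ξ, isPBlock_blockOf ⟨_, hind⟩, fun η hη ψ hψ g => ?_⟩
  have h1 := omegaR_congr (sameBlock_symm hη)
    (IsClassElt.restrictElt (isClassElt_classSum (R := locRing M) g) H)
  rw [← inducedCentralChar_eq, ← inducedCentralChar_eq,
    inducedCentralChar_eq_centralChar H (ξ : H → ℂ)] at h1
  have := MemLocalIdeal.add h1 (hψ g)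
  rwa [sub_add_sub_cancel] at this

/-- Constant character values on a product of two classes. -/
theorem irr_mul_of_const (χ : IrrCharacter G) (u v : G)
    (hc : ∀ x y : G, IsConj u x → IsConj v y → (χ : G → ℂ) (x * y) = (χ : G → ℂ) (u * v)) :
    (χ : G → ℂ) u * (χ : G → ℂ) v = (χ : G → ℂ) 1 * (χ : G → ℂ) (u * v) := by
  classical
  have h := omega_mul χ (isClassElt_classSum (R := ℂ) u) (isClassElt_classSum (R := ℂ) v)
  rw [omega_classSum, omega_classSum, omega] at h
  have hcard : ∀ w : G, ∑ x : G, (classSum ℂ w).coeff x =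
      ((Subgroup.centralizer ({w} : Set G)).index : ℂ) := fun w => by
    simp only [coeff_classSum, Finset.sum_boole, ← card_classFinset]
    rfl
  have hsum : ∑ z : G, (classSum ℂ u * classSum ℂ v).coeff z * (χ : G → ℂ) z =
      ((Subgroup.centralizer ({u} : Set G)).index : ℂ) *
        (Subgroup.centralizer ({v} : Set G)).index * (χ : G → ℂ) (u * v) := by
    rw [← hcard u, ← hcard v, Finset.sum_mul_sum]
    simp only [coeff_mul_univ, Finset.sum_mul]
    rw [Finset.sum_comm]
    refine Finset.sum_congr rfl fun a _ => ?_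
    refine Fintype.sum_equiv (Equiv.mulLeft a⁻¹) _ _ fun z => ?_
    simp only [Equiv.coe_mulLeft, coeff_classSum]
    by_cases h1 : IsConj u a
    · by_cases h2 : IsConj v (a⁻¹ * z)
      · rw [if_pos h1, if_pos h2]
        have := hc a (a⁻¹ * z) h1 h2
        rw [mul_inv_cancel_left] at this
        rw [this]
      · rw [if_neg h2, mul_zero, zero_mul, zero_mul]
    · rw [if_neg h1, zero_mul, zero_mul, zero_mul]
  rw [hsum, centralChar, centralChar] at h
  have hu : ((Subgroup.centralizer ({u} : Set G)).index : ℂ) ≠ 0 :=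
    Nat.cast_ne_zero.2 Subgroup.index_ne_zero_of_finite
  have hv : ((Subgroup.centralizer ({v} : Set G)).index : ℂ) ≠ 0 :=
    Nat.cast_ne_zero.2 Subgroup.index_ne_zero_of_finite
  have h1 := irr_one_ne_zero χ
  field_simp at h
  linear_combination -h

/-- A character takes integer values at involutions, congruent to the degree modulo two. -/
theorem char_involution (χ : IrrCharacter G) {t : G} (ht : orderOf t = 2) :
    ∃ n : ℤ, (χ : G → ℂ) t = (n : ℂ) ∧ (2 : ℤ) ∣ (charDegree (χ : G → ℂ) : ℤ) - n := by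
  obtain ⟨d, ρ, hρ, hρe⟩ := χ.2
  obtain ⟨L, -, h2, h3, -⟩ := exists_eigenvalues ρ t
  have key : ∀ L : Multiset ℂ, (∀ z ∈ L, z ^ 2 = 1) →
      ∃ n : ℤ, L.sum = (n : ℂ) ∧ (2 : ℤ) ∣ (Multiset.card L : ℤ) - n := by
    intro L
    induction L using Multiset.induction with
    | empty => exact fun _ => ⟨0, by simp, by simp⟩
    | cons z L ih =>
      intro h
      obtain ⟨n, hn, hd⟩ := ih fun w hw => h w (Multiset.mem_cons_of_mem hw)
      rcases sq_eq_one_iff.1 (h z (Multiset.mem_cons_self z L)) with rfl | rfl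
      · refine ⟨n + 1, by rw [Multiset.sum_cons, hn]; push_cast; ring, ?_⟩
        rw [Multiset.card_cons]; push_cast; omega
      · refine ⟨n - 1, by rw [Multiset.sum_cons, hn]; push_cast; ring, ?_⟩
        rw [Multiset.card_cons]; push_cast; omega
  obtain ⟨n, hn, hd⟩ := key L (by rw [← ht]; exact h2)
  refine ⟨n, ?_, ?_⟩
  · rw [← hρe, ← pow_one t, h3 1, ← hn]
    simp
  · have h0 := h3 0
    simp only [pow_zero, Multiset.map_const', Multiset.sum_replicate, nsmul_eq_mul, mul_one,
      hρe, irr_one_eq_charDegree, Nat.cast_inj] at h0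
    rwa [h0]

/-! ## Characters vanishing on the elements of order `p` -/

theorem omegaR_central_congr_one (hM : IsPModular p M) (χ : IrrCharacter G) {z : G}
    (hz : ∀ g : G, g * z = z * g) (hp : z ^ p = 1) :
    MemLocalIdeal M (centralChar (χ : G → ℂ) z - 1) := by
  classical
  have hsingle : classSum ℂ z = MonoidAlgebra.single z 1 := by
    refine gaExt fun x => ?_
    rw [coeff_classSum, MonoidAlgebra.coeff_single, Finsupp.single_apply]
    refine if_congr ⟨fun h => ?_, fun h => h ▸ IsConj.refl z⟩ rfl rfl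
    obtain ⟨c, rfl⟩ := isConj_iff.1 h
    rw [hz c, mul_inv_cancel_right]
  have h := omega_pow χ (isClassElt_classSum (R := ℂ) z) p
  rw [omega_classSum, hsingle, MonoidAlgebra.single_pow, one_pow, hp, ← MonoidAlgebra.one_def,
    omega_one] at h
  exact memLocalIdeal_sub_one_of_pow_eq_one hM (k := 1) (by rw [pow_one]; exact h.symm)

/-- A character vanishing on all elements of order `p` has degree of full `p`-part. -/
theorem degExp_of_vanish (hM : IsPModular p M) (χ : IrrCharacter G)
    (hvan : ∀ g : G, orderOf g = p → (χ : G → ℂ) g = 0) :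
    (charDegree (χ : G → ℂ)).factorization p = (Nat.card G).factorization p := by
  classical
  haveI := Fact.mk hM.1
  set B := blockOf M (χ : G → ℂ) with hBdef
  have hB : IsPBlock M B := isPBlock_blockOf χ
  obtain ⟨D, hD⟩ := exists_isDefectGroup (p := p) hB
  refine le_antisymm (degExp_le_card χ) ?_
  have hge := degExp_ge hM hB (self_mem_blockOf χ)
  suffices h0 : blockDefect p B = 0 by rw [h0] at hge; simpa using hge
  by_contra hne
  have hP := isPGroup_defectGroup hD
  haveI : Nontrivial D := by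
    rw [← Finite.one_lt_card_iff_nontrivial, card_defectGroup hM hB hD]
    exact Nat.one_lt_pow hne hM.1.one_lt
  haveI := hP.center_nontrivial
  set H := D ⊔ Subgroup.centralizer (D : Set G) with hH
  have hDH : D ≤ H := le_sup_left
  have hC : Subgroup.centralizer (D : Set G) ≤ H := le_sup_right
  have hN : H ≤ Subgroup.normalizer (D : Set G) := by
    refine sup_le Subgroup.le_normalizer fun c hc => ?_
    refine Subgroup.mem_normalizer_iff.2 fun n => ⟨fun hn => ?_, fun hn => ?_⟩
    · rwa [← (Subgroup.mem_centralizer_iff.1 hc n hn), mul_inv_cancel_right]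
    · have h := Subgroup.mem_centralizer_iff.1 (inv_mem hc) _ hn
      have e : c * n * c⁻¹ = n := by
        have : c⁻¹ * (c * n * c⁻¹) * c = c * n * c⁻¹ := by rw [← h, inv_mul_cancel_right]
        simpa [mul_assoc] using this.symm
      rwa [e] at hn
  obtain ⟨b, hb⟩ := (exists_inducing_iff hM hP hDH hC hN hB hD).2 ⟨1, by
    rintro _ ⟨u, hu, rfl⟩; simpa using hu⟩
  obtain ⟨ξ, hξ⟩ := isPBlock_nonempty hb.1
  -- the sum of all elements of order p
  let X : MonoidAlgebra (locRing M) G := gaOfFun fun g => if orderOf g = p then 1 else 0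
  have hX : IsClassElt X := isClassElt_gaOfFun fun g h => by
    rw [← MulAut.conj_apply, MulEquiv.orderOf_eq]
  have hX0 : omegaR χ X = 0 := by
    rw [omega_eq_sum_div, Finset.sum_eq_zero (fun g _ => ?_), zero_div]
    simp only [X, coeff_gaOfFun]
    split_ifs with hg
    · rw [hvan g hg, mul_zero]
    · simp
  -- the central elements of D of order p
  let Y : MonoidAlgebra (locRing M) H := gaOfFun fun h =>
    if orderOf (h : G) = p ∧ (h : G) ∈ Subgroup.centralizer (D : Set G) ∧ (h : G) ∈ D then 1 else 0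
  have hcent : ∀ h : H, (h : G) ∈ Subgroup.centralizer (D : Set G) → (h : G) ∈ D →
      ∀ k : H, k * h = h * k := by
    intro h h1 h2 k
    have : H ≤ Subgroup.centralizer ({(h : G)} : Set G) := by
      refine sup_le (fun u hu => ?_) fun u hu => ?_
      · refine Subgroup.mem_centralizer_iff.2 fun q hq => ?_
        rw [Set.mem_singleton_iff.1 hq]
        exact (Subgroup.mem_centralizer_iff.1 h1 u hu).symm
      · refine Subgroup.mem_centralizer_iff.2 fun q hq => ?_
        rw [Set.mem_singleton_iff.1 hq]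
        exact Subgroup.mem_centralizer_iff.1 hu _ h2
    exact (Subtype.ext (Subgroup.mem_centralizer_iff.1 (this k.2) _ rfl)).symm
  have hpushX := IsClassElt.pushElt hN hX (P := D) (H := H)
  haveI : Finite (ConjClasses H) := Finite.of_surjective _ ConjClasses.mk_surjective
  haveI : Fintype (ConjClasses H) := Fintype.ofFinite _
  -- the classes of H with unit central character
  have hzero : MemLocalIdeal M (omegaR ξ (pushElt D H X) - omegaR ξ Y) := by
    have hY : IsClassElt Y := isClassElt_gaOfFun fun h k => by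
      refine if_congr ?_ rfl rfl
      simp only [Subgroup.coe_mul, Subgroup.coe_inv, mem_centralizer_conj_iff (hN k.2)]
      rw [← MulAut.conj_apply, MulEquiv.orderOf_eq, MulAut.conj_apply,
        ← Subgroup.mem_normalizer_iff.1 (hN k.2) (h : G)]
    rw [omegaR_eq_sum ξ hpushX, omegaR_eq_sum ξ hY, ← Finset.sum_sub_distrib]
    refine memLocalIdeal_sum _ _ fun C _ => ?_
    rw [← sub_mul]
    simp only [coeff_pushElt, Y, X, coeff_gaOfFun]
    by_cases hc : (C.out : G) ∈ Subgroup.centralizer (D : Set G) ∧ orderOf (C.out : G) = p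
    · by_cases hcD : (C.out : G) ∈ D
      · rw [if_pos hc.1, if_pos hc.2, if_pos ⟨hc.2, hc.1, hcD⟩, sub_self, zero_mul]
        exact memLocalIdeal_zero
      · refine MemLocalIdeal.mul_left ((locRing M).sub_mem (Subtype.prop _) (Subtype.prop _)) ?_
        by_contra hu
        refine hcD ?_
        obtain ⟨D', hD'⟩ := exists_isDefectGroup (p := p) hb.1
        obtain ⟨x, hx, -, hxz⟩ := exists_conj_section hM hb.1 hD' hξ hu
        have hpp : IsPPart p x x := by
          refine ⟨1, mul_one x, Commute.one_right x, ⟨1, ?_⟩, by simpa using hM.1.ne_one⟩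
          obtain ⟨k, hk⟩ := isConj_iff.1 hx
          rw [← hk, ← MulAut.conj_apply, MulEquiv.orderOf_eq, ← Subgroup.orderOf_coe, hc.2,
            pow_one]
        have h1 := (hxz x hpp).1
        rw [defectGroup_eq_of_induced hM hD hDH hN hb hD', Subgroup.mem_subgroupOf] at h1
        obtain ⟨k, hk⟩ := isConj_iff.1 hx
        rw [← hk] at h1
        exact (Subgroup.mem_normalizer_iff.1 (hN k.2) _).2 (by simpa using h1)
    · have e1 : ¬ (orderOf (C.out : G) = p ∧ (C.out : G) ∈ Subgroup.centralizer (D : Set G) ∧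
          (C.out : G) ∈ D) := fun h => hc ⟨h.2.1, h.1⟩
      rw [if_neg e1]
      by_cases h1 : (C.out : G) ∈ Subgroup.centralizer (D : Set G)
      · rw [if_pos h1, if_neg fun h => hc ⟨h1, h⟩, sub_self, zero_mul]
        exact memLocalIdeal_zero
      · rw [if_neg h1]; simpa using memLocalIdeal_zero (M := M)
  let T : Finset H := Finset.univ.filter fun h : H =>
    orderOf (h : G) = p ∧ (h : G) ∈ Subgroup.centralizer (D : Set G) ∧ (h : G) ∈ D
  have hY1 : MemLocalIdeal M (omegaR ξ Y - (T.card : ℂ)) := by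
    have e : omegaR ξ Y = ∑ h ∈ T, centralChar (ξ : H → ℂ) h := by
      rw [omega_eq_sum_div, Finset.sum_div, Finset.sum_filter]
      refine Finset.sum_congr rfl fun h _ => ?_
      simp only [Y, coeff_gaOfFun]
      split_ifs with hh
      · have hidx : (Subgroup.centralizer ({h} : Set H)).index = 1 := by
          rw [Subgroup.index_eq_one, eq_top_iff]
          exact fun k _ => Subgroup.mem_centralizer_iff.2 fun q hq => by
            rw [Set.mem_singleton_iff.1 hq]; exact (hcent h hh.2.1 hh.2.2 k).symm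
        simp [centralChar, hidx]
      · simp
    rw [e, show (T.card : ℂ) = ∑ _h ∈ T, (1 : ℂ) by simp, ← Finset.sum_sub_distrib]
    refine memLocalIdeal_sum _ _ fun h hh => ?_
    obtain ⟨-, h1, h2, h3⟩ := Finset.mem_filter.1 hh
    refine omegaR_central_congr_one hM ξ (hcent h h2 h3) (Subtype.ext ?_)
    rw [Subgroup.coe_pow, Subgroup.coe_one, ← h1, pow_orderOf_eq_one]
  have hXT : MemLocalIdeal M ((T.card : ℂ)) := by
    have h1 := isInducedBlock_omegaR hb hξ (self_mem_blockOf χ) hX
    rw [hX0, sub_zero] at h1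
    have h2 := MemLocalIdeal.sub h1 (omegaR_restrict_sub_push hM hP hDH hN ξ hX)
    rw [sub_sub_cancel] at h2
    have := MemLocalIdeal.sub (MemLocalIdeal.sub h2 hzero) hY1
    simpa using this
  have hdvd : p ∣ T.card := (natCast_memLocalIdeal_iff hM _).1 hXT
  -- the elementary part of the centre of D has order a positive power of p
  let Z : Subgroup G :=
    { carrier := {g | g ^ p = 1 ∧ g ∈ Subgroup.centralizer (D : Set G) ∧ g ∈ D}
      one_mem' := ⟨one_pow p, Subgroup.one_mem _, D.one_mem⟩
      mul_mem' := fun {a b} ha hb' => ⟨by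
        have hab : Commute a b := Subgroup.mem_centralizer_iff.1 hb'.2.1 a ha.2.2
        rw [hab.mul_pow, ha.1, hb'.1, one_mul], mul_mem ha.2.1 hb'.2.1, mul_mem ha.2.2 hb'.2.2⟩
      inv_mem' := fun {a} ha =>
        ⟨by rw [inv_pow, ha.1, inv_one], inv_mem ha.2.1, inv_mem ha.2.2⟩ }
  have hZT : Nat.card Z = T.card + 1 := by
    rw [Nat.card_eq_fintype_card, ← Finset.card_univ,
      ← Finset.card_erase_add_one (Finset.mem_univ (1 : Z)), Nat.add_right_cancel_iff]
    refine Finset.card_bij (fun z _ => (⟨(z : G), hDH z.2.2.2⟩ : H)) (fun z hz => ?_)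
      (fun a _ b _ e => Subtype.ext (congrArg (fun h : H => (h : G)) e)) (fun h hh => ?_)
    · refine Finset.mem_filter.2 ⟨Finset.mem_univ _, orderOf_eq_prime z.2.1 fun h1 =>
        (Finset.mem_erase.1 hz).1 (Subtype.ext h1), z.2.2⟩
    · obtain ⟨-, h1, h2⟩ := Finset.mem_filter.1 hh
      refine ⟨⟨(h : G), by rw [← h1]; exact pow_orderOf_eq_one _, h2⟩, Finset.mem_erase.2
        ⟨fun e => ?_, Finset.mem_univ _⟩, rfl⟩
      have e' : (h : G) = 1 := congrArg Subtype.val e
      rw [e', orderOf_one] at h1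
      exact hM.1.ne_one h1.symm
  have hZp : IsPGroup p Z := hP.to_le fun z hz => hz.2.2
  haveI : Nontrivial Z := by
    obtain ⟨z, hz⟩ := exists_prime_orderOf_dvd_card' (G := Subgroup.center D) p (by
      obtain ⟨n, hn, hn'⟩ := (hP.to_subgroup (Subgroup.center D)).nontrivial_iff_card.1 inferInstance
      rw [hn']; exact dvd_pow_self p hn.ne')
    rw [← Subgroup.orderOf_coe, ← Subgroup.orderOf_coe] at hz
    refine ⟨⟨⟨((z : D) : G), by rw [← hz]; exact pow_orderOf_eq_one _, Subgroup.mem_centralizer_iff.2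
      fun u hu => congrArg Subtype.val (Subgroup.mem_center_iff.1 z.2 ⟨u, hu⟩), (z : D).2⟩, 1,
      fun e => ?_⟩⟩
    have e' : ((z : D) : G) = 1 := congrArg Subtype.val e
    rw [e', orderOf_one] at hz
    exact hM.1.ne_one hz.symm
  obtain ⟨n, hn, hn'⟩ := hZp.nontrivial_iff_card.1 inferInstance
  have hd2 : p ∣ T.card + 1 := by rw [← hZT, hn']; exact dvd_pow_self p hn.ne'
  exact hM.1.not_dvd_one ((Nat.dvd_add_right hdvd).1 hd2)

end Cfsg.Agent.Blocks
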