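/-
Roots of unity modulo `M`; independence of the block decomposition of the ideal.
-/
import Cfsg.Agent.Lib.Blocks.Block
import Cfsg.Agent.Lib.Char.Galois

set_option linter.unusedSectionVars false
set_option linter.style.haveILetI false

namespace Cfsg.Agent.Blocks

open Cfsg Cfsg.Agent.CharGalois Cfsg.Agent.Char Polynomial

universe u

variable {p : ℕ} {M : Ideal AlgInt}

/-- An algebraic integer fixed by every automorphism of `ℂ` is an integer. -/
theorem exists_int_of_fixed {P : ℂ} (hint : IsIntegral ℤ P) (hfix : ∀ σ : ℂ ≃+* ℂ, σ P = P) :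
    ∃ m : ℤ, P = (m : ℂ) := by
  let P' : algebraicClosure ℚ ℂ := ⟨P, (mem_algebraicClosure_iff).2 hint.tower_top.isAlgebraic⟩
  haveI : IsAlgClosure ℚ (algebraicClosure ℚ ℂ) := algebraicClosure.isAlgClosure ℚ ℂ
  haveI : IsGalois ℚ (algebraicClosure ℚ ℂ) := IsAlgClosure.isGalois ℚ _
  have hmem : P' ∈ Set.range (algebraMap ℚ (algebraicClosure ℚ ℂ)) := by
    rw [InfiniteGalois.mem_range_algebraMap_iff_fixed]
    intro τ
    obtain ⟨σ, hσ⟩ := exists_aut_extending τ.toRingEquiv
    exact Subtype.ext ((hσ P').symm.trans (hfix σ))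
  obtain ⟨q, hq⟩ := hmem
  have hq' : P = (q : ℂ) := by
    rw [show P = ((P' : algebraicClosure ℚ ℂ) : ℂ) from rfl, ← hq]; simp
  subst hq'
  obtain ⟨m, rfl⟩ := exists_int_of_isIntegral hint
  exact ⟨m, by simp⟩

theorem intCast_mem_iff (hM : IsPModular p M) (m : ℤ) : (m : AlgInt) ∈ M ↔ (p : ℤ) ∣ m := by
  rw [Int.natCast_dvd, ← IsPModular.natCast_mem_iff hM]
  rcases Int.natAbs_eq m with h | h <;> nth_rw 1 [h] <;>
    simp only [Int.cast_neg, Int.cast_natCast, neg_mem_iff]

/-- Galois-stable families that lie in one modular ideal lie in every modular ideal. -/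
theorem mem_of_stable_family {ι : Type*} (hM : IsPModular p M) {M' : Ideal AlgInt}
    (hM' : IsPModular p M') (s : Finset ι) (f : ι → AlgInt) (hmem : ∀ i ∈ s, f i ∈ M)
    (hperm : ∀ σ : ℂ ≃+* ℂ,
      (∏ i ∈ s, (X - C (σ (f i : ℂ)))) = ∏ i ∈ s, (X - C (f i : ℂ)))
    {i : ι} (hi : i ∈ s) : f i ∈ M' := by
  haveI := IsPModular.isPrime hM
  haveI := IsPModular.isPrime hM'
  set Q : AlgInt[X] := ∏ j ∈ s, (X - C (f j)) with hQ
  have hQC : Q.map (algebraMap AlgInt ℂ) = ∏ j ∈ s, (X - C (f j : ℂ)) := by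
    rw [hQ, Polynomial.map_prod]
    exact Finset.prod_congr rfl fun j _ => by
      rw [Polynomial.map_sub, map_X, map_C]; rfl
  have hQM : Q.map (Ideal.Quotient.mk M) = X ^ s.card := by
    rw [hQ, Polynomial.map_prod]
    refine (Finset.prod_congr rfl fun j hj => ?_).trans (Finset.prod_const _)
    rw [Polynomial.map_sub, map_X, map_C, Ideal.Quotient.eq_zero_iff_mem.2 (hmem j hj),
        map_zero, sub_zero]
  have hQM' : Q.map (Ideal.Quotient.mk M') = X ^ s.card := by
    refine Polynomial.ext fun n => ?_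
    have h1 := congrArg (fun P => P.coeff n) hQM
    simp only [coeff_map, coeff_X_pow] at h1
    obtain ⟨m, hm⟩ := exists_int_of_fixed (P := (Q.coeff n : ℂ)) (Q.coeff n).2 fun σ => by
      have h := congrArg (fun P : ℂ[X] => P.coeff n) (hperm σ)
      have e : (∏ j ∈ s, (X - C (σ (f j : ℂ)))) = (Q.map (algebraMap AlgInt ℂ)).map σ.toRingHom := by
        rw [hQC, Polynomial.map_prod]
        exact Finset.prod_congr rfl fun j _ => by
          rw [Polynomial.map_sub, map_X, map_C]; rfl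
      rw [e, ← hQC] at h
      simpa using h
    have hm' : Q.coeff n = (m : AlgInt) := Subtype.ext (by simpa using hm)
    rw [hm'] at h1
    simp only [coeff_map, coeff_X_pow, hm']
    split_ifs at h1 ⊢ with hn
    · rw [← map_one (Ideal.Quotient.mk M), Ideal.Quotient.eq] at h1
      rw [← map_one (Ideal.Quotient.mk M'), Ideal.Quotient.eq]
      rw [← Int.cast_one, ← Int.cast_sub, intCast_mem_iff hM] at h1
      rwa [← Int.cast_one, ← Int.cast_sub, intCast_mem_iff hM']
    · rw [Ideal.Quotient.eq_zero_iff_mem, intCast_mem_iff hM] at h1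
      rwa [Ideal.Quotient.eq_zero_iff_mem, intCast_mem_iff hM']
  have h2 : (Q.map (Ideal.Quotient.mk M')).eval (Ideal.Quotient.mk M' (f i)) = 0 := by
    rw [Polynomial.eval_map, Polynomial.eval₂_hom, hQ, Polynomial.eval_prod,
      Finset.prod_eq_zero hi (by simp), map_zero]
  rw [hQM', eval_pow, eval_X] at h2
  exact Ideal.Quotient.eq_zero_iff_mem.1 (eq_zero_of_pow_eq_zero h2)

/-- Every algebraic integer outside `M` is congruent to a root of unity of order prime to `p`. -/
theorem exists_root_congr (hM : IsPModular p M) {a : AlgInt} (ha : a ∉ M) :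
    ∃ ε : AlgInt, (∃ m : ℕ, ¬ p ∣ m ∧ (ε : ℂ) ^ m = 1) ∧ a - ε ∈ M := by
  classical
  haveI := IsPModular.isPrime hM
  haveI := Fact.mk hM.1
  haveI : CharP (AlgInt ⧸ M) p := ⟨fun n => by
    rw [← map_natCast (Ideal.Quotient.mk M), Ideal.Quotient.eq_zero_iff_mem,
      IsPModular.natCast_mem_iff hM]⟩
  let π := Ideal.Quotient.mk M
  letI : Algebra (ZMod p) (AlgInt ⧸ M) := (ZMod.castHom dvd_rfl _).toAlgebra
  have hint : IsIntegral (ZMod p) (π a) := by
    obtain ⟨P, hP, hP0⟩ := (show IsIntegral ℤ a from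
      (isIntegral_algebraMap_iff (Subtype.val_injective : Function.Injective
        (algebraMap AlgInt ℂ))).1 a.2)
    refine ⟨P.map (Int.castRingHom (ZMod p)), hP.map _, ?_⟩
    rw [Polynomial.eval₂_map, ← map_zero π, ← hP0, Polynomial.hom_eval₂]
    exact congrArg (fun g => Polynomial.eval₂ g (π a) P) (RingHom.ext_int _ _)
  haveI : Module.Finite (ZMod p) (Algebra.adjoin (ZMod p) {π a}) :=
    Algebra.finite_adjoin_simple_of_isIntegral hint
  haveI : Finite (Algebra.adjoin (ZMod p) {π a}) := Module.finite_of_finite (ZMod p)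
  obtain ⟨i, j, hij, he⟩ := Finite.exists_ne_map_eq_of_infinite
    (fun n : ℕ => (⟨π a, Algebra.subset_adjoin rfl⟩ : Algebra.adjoin (ZMod p) {π a}) ^ n)
  have he' : π a ^ i = π a ^ j := congrArg Subtype.val he
  have ha0 : π a ≠ 0 := fun h => ha (Ideal.Quotient.eq_zero_iff_mem.1 h)
  obtain ⟨n, hn0, hn⟩ : ∃ n : ℕ, n ≠ 0 ∧ π a ^ n = 1 := by
    rcases Nat.lt_or_gt_of_ne hij with h | h
    · refine ⟨j - i, by omega, mul_left_cancel₀ (pow_ne_zero i ha0) ?_⟩
      rw [← pow_add, mul_one, Nat.add_sub_cancel' h.le, he']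
    · refine ⟨i - j, by omega, mul_left_cancel₀ (pow_ne_zero j ha0) ?_⟩
      rw [← pow_add, mul_one, Nat.add_sub_cancel' h.le, he']
  obtain ⟨k, m, hm, hnm⟩ := Nat.exists_eq_pow_mul_and_not_dvd hn0 p hM.1.ne_one
  have hm1 : π a ^ m = 1 := by
    haveI : ExpChar (AlgInt ⧸ M) p := ExpChar.prime hM.1
    refine iterateFrobenius_inj (AlgInt ⧸ M) p k ?_
    rw [iterateFrobenius_def, iterateFrobenius_def, one_pow, ← pow_mul, mul_comm, ← hnm, hn]
  have hm0 : m ≠ 0 := fun h => hm (h ▸ dvd_zero p)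
  haveI : NeZero m := ⟨hm0⟩
  obtain ⟨ζ, hζ⟩ : ∃ ζ : ℂ, IsPrimitiveRoot ζ m := ⟨_, Complex.isPrimitiveRoot_exp m hm0⟩
  have hζi : IsIntegral ℤ ζ :=
    IsIntegral.of_pow (Nat.pos_of_ne_zero hm0) (by rw [hζ.pow_eq_one]; exact isIntegral_one)
  let z : AlgInt := ⟨ζ, hζi⟩
  have hz : IsPrimitiveRoot z m :=
    IsPrimitiveRoot.of_map_of_injective (f := algebraMap AlgInt ℂ) hζ Subtype.val_injective
  have hprod : ∏ ε ∈ nthRootsFinset m (1 : AlgInt), (a - ε) ∈ M := by
    have h := congrArg (fun P : AlgInt[X] => P.eval a) (X_pow_sub_one_eq_prod (Nat.pos_of_ne_zero hm0) hz)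
    simp only [eval_sub, eval_pow, eval_X, eval_one, eval_prod, eval_C] at h
    rw [← h, ← Ideal.Quotient.eq_zero_iff_mem, map_sub, map_pow, map_one]
    exact sub_eq_zero.2 hm1
  obtain ⟨ε, hε, hεM⟩ := (Ideal.IsPrime.prod_mem_iff (s := nthRootsFinset m (1 : AlgInt))
    (x := fun ε => a - ε)).1 hprod
  rw [mem_nthRootsFinset (Nat.pos_of_ne_zero hm0)] at hε
  exact ⟨ε, ⟨m, hm, by simpa using congrArg (fun x : AlgInt => (x : ℂ)) hε⟩, hεM⟩

variable {G : Type u} [Group G] [Fintype G]

theorem centralizer_pow_coprime {k : ℕ} (hk : k.Coprime (Nat.card G)) (h : G) :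
    Subgroup.centralizer ({h ^ k} : Set G) = Subgroup.centralizer ({h} : Set G) := by
  ext x
  simp only [Subgroup.mem_centralizer_iff, Set.mem_singleton_iff, forall_eq]
  refine ⟨fun hx => ?_, fun hx => ((show Commute h x from hx).pow_left k).eq⟩
  obtain ⟨i, hi⟩ := exists_pow_eq_self_of_coprime (n := k) (x := h)
    (hk.coprime_dvd_right (orderOf_dvd_natCard h))
  have := ((show Commute (h ^ k) x from hx).pow_left i).eq
  rwa [hi] at this

theorem map_centralChar (χ : IrrCharacter G) {σ : ℂ ≃+* ℂ} {k : ℕ} (hk : k.Coprime (Nat.card G))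
    (hσ : ∀ z : ℂ, z ^ Nat.card G = 1 → σ z = z ^ k) (h : G) :
    σ (centralChar (χ : G → ℂ) h) = centralChar (χ : G → ℂ) (h ^ k) := by
  simp only [centralChar, map_div₀, map_mul, map_natCast, centralizer_pow_coprime hk]
  have h1 := map_char (irr_isCharacter χ) σ.toRingHom hσ
  simp only [RingEquiv.toRingHom_eq_coe, RingEquiv.coe_toRingHom] at h1
  rw [h1, h1, one_pow]

/-- The block decomposition does not depend on the modular ideal. -/
theorem centralChar_sub_mem (hM : IsPModular p M) {χ ψ : IrrCharacter G}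
    (h : SameBlock M (χ : G → ℂ) (ψ : G → ℂ)) {M' : Ideal AlgInt} (hM' : IsPModular p M') (g : G) :
    ∃ r : AlgInt, r ∈ M' ∧
      (r : ℂ) = centralChar (χ : G → ℂ) g - centralChar (ψ : G → ℂ) g := by
  classical
  haveI := IsPModular.isPrime hM
  let f : G → AlgInt := fun x => ⟨centralChar (χ : G → ℂ) x - centralChar (ψ : G → ℂ) x,
    (centralChar_isIntegral χ x).sub (centralChar_isIntegral ψ x)⟩
  set s := Finset.univ.filter fun x : G => Subgroup.zpowers x = Subgroup.zpowers g with hs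
  refine ⟨f g, mem_of_stable_family hM hM' s f (fun x _ => ?_) (fun σ => ?_)
    (Finset.mem_filter.2 ⟨Finset.mem_univ _, rfl⟩), rfl⟩
  · rw [← memLocalIdeal_coe_iff]; exact h x
  · obtain ⟨k, hk, hσ⟩ := exists_exponent σ.toRingHom (Nat.card_pos (α := G)).ne'
    have hb : Function.Injective (fun x : G => x ^ k) := (powCoprime hk.symm).injective
    have himg : s.image (fun x => x ^ k) = s := by
      refine Finset.eq_of_subset_of_card_le (Finset.image_subset_iff.2 fun x hx => ?_)
        (by rw [Finset.card_image_of_injective _ hb])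
      rw [hs, Finset.mem_filter] at hx ⊢
      refine ⟨Finset.mem_univ _, le_antisymm ?_ ?_⟩
      · rw [← hx.2]; exact Subgroup.zpowers_le.2 (Subgroup.npow_mem_zpowers x k)
      · obtain ⟨i, hi⟩ := exists_pow_eq_self_of_coprime (n := k) (x := x)
          (hk.coprime_dvd_right (orderOf_dvd_natCard x))
        rw [← hx.2, Subgroup.zpowers_le]
        have h2 := Subgroup.npow_mem_zpowers (x ^ k) i
        rwa [hi] at h2
    conv_rhs => rw [← himg]
    rw [Finset.prod_image fun a _ b _ e => hb e]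
    refine Finset.prod_congr rfl fun x _ => ?_
    simp only [f, map_sub, map_centralChar _ hk hσ]

end Cfsg.Agent.Blocks
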