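/-
The truncation of a character to the p-regular elements, scaled by the p-part of the group
order, is a generalised character.
-/
import Cfsg.Agent.Lib.Blocks.Degree
import Cfsg.Agent.Lib.Blocks.AlgGalois
import Cfsg.Agent.Lib.Char.Induction
import Mathlib.GroupTheory.NoncommCoprod
import Mathlib.FieldTheory.Finite.Basic

set_option linter.unusedSectionVars false
set_option linter.style.haveILetI false

namespace Cfsg.Agent.Blocks

open Cfsg Cfsg.Agent.Char
open scoped ComplexConjugate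

universe u

variable {G : Type u} [Group G] [Fintype G] {p q : ℕ}

/-- The averages against all characters are algebraic integers. -/
def IntTest (f : G → ℂ) : Prop :=
  ∀ φ : G → ℂ, IsCharacter G φ → IsIntegral ℤ ((Nat.card G : ℂ)⁻¹ * ∑ x, f x * φ x)

theorem intTest_sum {ι : Type*} (s : Finset ι) (f : ι → G → ℂ) (h : ∀ i ∈ s, IntTest (f i)) :
    IntTest (∑ i ∈ s, f i) := fun φ hφ => by
  have e : (Nat.card G : ℂ)⁻¹ * ∑ x, (∑ i ∈ s, f i) x * φ x =
      ∑ i ∈ s, (Nat.card G : ℂ)⁻¹ * ∑ x, f i x * φ x := by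
    rw [← Finset.mul_sum, Finset.sum_comm]
    simp only [Finset.sum_apply, Finset.sum_mul]
  rw [e]
  exact IsIntegral.sum _ fun i hi => h i hi φ hφ

theorem intTest_mul {f g : G → ℂ} (hcf : IsClassFunction G f) (hf : IntTest f) (hg : IntTest g) :
    IntTest (f * g) := fun φ hφ => by
  have e : (Nat.card G : ℂ)⁻¹ * ∑ x, (f * g) x * φ x = ∑ ψ : IrrCharacter G,
      classInner f (ψ : G → ℂ) * ((Nat.card G : ℂ)⁻¹ * ∑ x, g x * ((ψ : G → ℂ) * φ) x) := by
    conv_lhs => rw [classFunction_eq_sum hcf]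
    simp only [Pi.mul_apply, Finset.sum_apply, Pi.smul_apply, smul_eq_mul, Finset.sum_mul,
      Finset.mul_sum]
    rw [Finset.sum_comm]
    exact Finset.sum_congr rfl fun ψ _ => Finset.sum_congr rfl fun x _ => by ring
  rw [e]
  refine IsIntegral.sum _ fun ψ _ => IsIntegral.mul ?_ (hg _ (IsCharacter.mul
    (IsIrrCharacter.isCharacter ψ.2) hφ))
  exact hf _ (IsCharacter.conj (IsIrrCharacter.isCharacter ψ.2))

theorem intTest_pow {f : G → ℂ} (hcf : IsClassFunction G f) (hf : IntTest f) (k : ℕ) :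
    IntTest (f ^ (k + 1)) := by
  induction k with
  | zero => simpa using hf
  | succ k ih => rw [pow_succ']; exact intTest_mul hcf hf ih

/-- Averages of a character over a coset `s Q` of a subgroup centralised by `s` are integral. -/
theorem isIntegral_coset_avg (Q : Subgroup G) [Fintype Q] {s : G} (hs : ∀ u ∈ Q, Commute s u)
    {φ : G → ℂ} (hφ : IsCharacter G φ) :
    IsIntegral ℤ ((Nat.card Q : ℂ)⁻¹ * ∑ u : Q, φ (s * u)) := by
  classical
  let T := Subgroup.zpowers s
  haveI : Fintype T := Fintype.ofFinite T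
  let ι : T × Q →* G := MonoidHom.noncommCoprod T.subtype Q.subtype fun t u => by
    obtain ⟨k, hk⟩ := Subgroup.mem_zpowers_iff.1 t.2
    show Commute (t : G) (u : G)
    rw [← hk]; exact (hs u u.2).zpow_left k
  let s0 : T := ⟨s, Subgroup.mem_zpowers s⟩
  let χ : T × Q → ℂ := fun a => φ (ι a)
  let N : IrrCharacter T → ℂ := fun μ =>
    classInner (χ * fun a : T × Q => (μ : T → ℂ) a.1) (fun _ => 1)
  have hN : ∀ μ, IsIntegral ℤ (N μ) := fun μ => by
    obtain ⟨k, hk⟩ := IsCharacter.exists_classInner_nat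
      (IsCharacter.mul (IsCharacter.comp hφ ι)
        (IsCharacter.comp (IsIrrCharacter.isCharacter μ.2) (MonoidHom.fst T Q)))
      (isCharacter_one (G := T × Q))
    exact (show N μ = (k : ℂ) from hk) ▸ isIntegral_natCast k
  suffices h : (Nat.card Q : ℂ)⁻¹ * ∑ u : Q, φ (s * u) =
      ∑ μ : IrrCharacter T, conj ((μ : T → ℂ) s0) * N μ by
    rw [h]
    refine IsIntegral.sum _ fun μ _ => IsIntegral.mul ?_ (hN μ)
    rw [← irr_inv μ s0]
    exact irr_isIntegral μ _
  have hTc : ∀ a b : T, a * b = b * a := fun a b => by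
    obtain ⟨i, hi⟩ := Subgroup.mem_zpowers_iff.1 a.2
    obtain ⟨j, hj⟩ := Subgroup.mem_zpowers_iff.1 b.2
    refine Subtype.ext ?_
    rw [Subgroup.coe_mul, Subgroup.coe_mul, ← hi, ← hj, zpow_mul_comm]
  have hδ : ∀ t : T, ∑ μ : IrrCharacter T, (μ : T → ℂ) t * conj ((μ : T → ℂ) s0) =
      if t = s0 then (Nat.card T : ℂ) else 0 := by
    intro t
    by_cases ht : t = s0
    · rw [if_pos ht, ht, column_orth_of_isConj (IsConj.refl s0)]
      have : Subgroup.centralizer ({s0} : Set T) = ⊤ := eq_top_iff.2 fun k _ =>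
        Subgroup.mem_centralizer_iff.2 fun x _ => hTc x k
      rw [this, Subgroup.card_top]
    · rw [if_neg ht, column_orth_of_not_isConj fun hc => ht ?_]
      obtain ⟨c, hc⟩ := isConj_iff.1 hc
      rw [← hc, hTc c t, mul_inv_cancel_right]
  have hT : (Nat.card T : ℂ) ≠ 0 := Nat.cast_ne_zero.2 Nat.card_pos.ne'
  have hQ : (Nat.card Q : ℂ) ≠ 0 := Nat.cast_ne_zero.2 Nat.card_pos.ne'
  have key : ∑ μ : IrrCharacter T, conj ((μ : T → ℂ) s0) * N μ =
      (Nat.card (T × Q) : ℂ)⁻¹ * ∑ a : T × Q, χ a *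
        ∑ μ : IrrCharacter T, (μ : T → ℂ) a.1 * conj ((μ : T → ℂ) s0) := by
    simp only [N, classInner, Pi.mul_apply, map_one, mul_one, Finset.mul_sum]
    rw [Finset.sum_comm]
    refine Finset.sum_congr (by ext; simp) fun a _ => ?_
    exact Finset.sum_congr rfl fun μ _ => by ring
  rw [key, Nat.card_prod, Nat.cast_mul, Fintype.sum_prod_type]
  simp only [hδ, mul_ite, mul_zero]
  rw [Finset.sum_eq_single s0 (fun t _ ht => Finset.sum_eq_zero fun u _ => if_neg ht)
    (fun h => absurd (Finset.mem_univ _) h)]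
  simp only [if_true, χ, ι, MonoidHom.noncommCoprod_apply, Subgroup.coe_subtype, s0]
  rw [← Finset.sum_mul]
  field_simp

/-- The function counting conjugates in the coset `s Q`. -/
noncomputable def cosetFun (Q : Subgroup G) (s : G) : G → ℂ := fun x =>
  (Nat.card Q : ℂ)⁻¹ * (Nat.card {g : G // s⁻¹ * (g⁻¹ * x * g) ∈ Q} : ℂ)

theorem isClassFunction_cosetFun (Q : Subgroup G) (s : G) :
    IsClassFunction G (cosetFun Q s) := by
  intro x c
  unfold cosetFun
  congr 2
  refine Nat.card_congr ((Equiv.mulLeft c⁻¹).subtypeEquiv fun g => ?_)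
  simp only [Equiv.coe_mulLeft]
  rw [show (c⁻¹ * g)⁻¹ * x * (c⁻¹ * g) = g⁻¹ * (c * x * c⁻¹) * g by group]

theorem intTest_cosetFun (Q : Subgroup G) {s : G} (hs : ∀ u ∈ Q, Commute s u) :
    IntTest (cosetFun Q s) := by
  classical
  intro φ hφ
  haveI : Fintype Q := Fintype.ofFinite Q
  have hcl := IsCharacter.isClassFunction hφ
  have e1 : ∀ x : G, (Nat.card {g : G // s⁻¹ * (g⁻¹ * x * g) ∈ Q} : ℂ) =
      ∑ g : G, if s⁻¹ * (g⁻¹ * x * g) ∈ Q then (1 : ℂ) else 0 := fun x => by
    rw [Nat.card_eq_fintype_card, Fintype.card_subtype, Finset.sum_boole]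
  have e2 : ∀ g : G, ∑ x : G, (if s⁻¹ * (g⁻¹ * x * g) ∈ Q then φ x else 0) =
      ∑ u : Q, φ (s * u) := fun g => by
    rw [← Finset.sum_filter]
    refine Finset.sum_bij' (fun x hx => (⟨s⁻¹ * (g⁻¹ * x * g), (Finset.mem_filter.1 hx).2⟩ : Q))
      (fun u _ => g * (s * u) * g⁻¹) (fun _ _ => Finset.mem_univ _) (fun u _ => ?_) (fun x _ => ?_)
      (fun u _ => Subtype.ext (by group)) (fun x _ => ?_)
    · exact Finset.mem_filter.2 ⟨Finset.mem_univ _, by
        rw [show s⁻¹ * (g⁻¹ * (g * (s * u) * g⁻¹) * g) = (u : G) by group]; exact u.2⟩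
    · group
    · show φ x = φ (s * (s⁻¹ * (g⁻¹ * x * g)))
      rw [mul_inv_cancel_left]
      have := hcl x g⁻¹
      rwa [inv_inv, eq_comm] at this
  have e3 : ∑ x : G, cosetFun Q s x * φ x =
      (Nat.card Q : ℂ)⁻¹ * ∑ _g : G, ∑ u : Q, φ (s * u) := by
    rw [← Finset.sum_congr rfl fun g _ => e2 g, Finset.sum_comm, Finset.mul_sum]
    refine Finset.sum_congr rfl fun x _ => ?_
    rw [cosetFun, e1, mul_assoc, Finset.sum_mul]
    congr 1
    exact Finset.sum_congr rfl fun g _ => by split_ifs <;> simp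
  rw [e3, Finset.sum_const, Finset.card_univ, ← Nat.card_eq_fintype_card, nsmul_eq_mul]
  convert isIntegral_coset_avg Q hs hφ using 1
  have : (Nat.card G : ℂ) ≠ 0 := Nat.cast_ne_zero.2 Nat.card_pos.ne'
  field_simp

theorem isPPart_mul_of_mem (hq : q.Prime) {s u : G} (hsu : Commute s u)
    (hs : ¬ q ∣ orderOf s) (hu : ∃ k, orderOf u = q ^ k) : IsPPart q (s * u) u :=
  ⟨s, hsu.eq.symm, hsu.symm, hu, hs⟩

/-- Off the section of `s` the counting function vanishes. -/
theorem exists_of_cosetFun_ne_zero {Q : Subgroup G} {s x : G} (h : cosetFun Q s x ≠ 0) :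
    ∃ g : G, ∃ u ∈ Q, g⁻¹ * x * g = s * u := by
  by_contra hne
  push Not at hne
  refine h ?_
  haveI : IsEmpty {g : G // s⁻¹ * (g⁻¹ * x * g) ∈ Q} :=
    ⟨fun g => hne g.1 _ g.2 (by rw [mul_inv_cancel_left])⟩
  have e : Nat.card {g : G // s⁻¹ * (g⁻¹ * x * g) ∈ Q} = 0 := Nat.card_of_isEmpty
  rw [cosetFun, e, Nat.cast_zero, mul_zero]

/-- On the section of `s` the counting function is a natural number prime to `q`. -/
theorem cosetFun_value (hq : q.Prime) {s : G} (hs : ¬ q ∣ orderOf s)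
    (P : Sylow q (Subgroup.centralizer ({s} : Set G))) {u : G}
    (hu : ∃ k, orderOf u = q ^ k) (hsu : Commute s u) :
    ∃ m : ℕ, ¬ q ∣ m ∧ cosetFun (sylowImage P) s (s * u) = (m : ℂ) := by
  classical
  haveI := Fact.mk hq
  have huC : u ∈ (Subgroup.centralizer ({s} : Set G)) := Subgroup.mem_centralizer_iff.2 fun z hz => by
    rw [Set.mem_singleton_iff.1 hz]; exact hsu.eq
  let u' : (Subgroup.centralizer ({s} : Set G)) := ⟨u, huC⟩
  obtain ⟨k, hk⟩ := hu
  have hU : IsPGroup q (Subgroup.zpowers u') := IsPGroup.of_card (n := k) (by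
    rw [Nat.card_zpowers, ← hk, ← Subgroup.orderOf_coe])
  set F := MulAction.fixedPoints (Subgroup.zpowers u') ((Subgroup.centralizer ({s} : Set G)) ⧸ (P : Subgroup (Subgroup.centralizer ({s} : Set G)))) with hF
  refine ⟨Nat.card F, ?_, ?_⟩
  · intro hd
    have h1 := hU.card_modEq_card_fixedPoints ((Subgroup.centralizer ({s} : Set G)) ⧸ (P : Subgroup (Subgroup.centralizer ({s} : Set G))))
    refine P.not_dvd_index ?_
    exact (Nat.ModEq.dvd_iff h1 dvd_rfl).2 hd
  · have hmem : ∀ g : G, s⁻¹ * (g⁻¹ * (s * u) * g) ∈ sylowImage P ↔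
        ∃ hg : g ∈ (Subgroup.centralizer ({s} : Set G)), ((⟨g, hg⟩ : (Subgroup.centralizer ({s} : Set G)))⁻¹ * u' * ⟨g, hg⟩) ∈ (P : Subgroup (Subgroup.centralizer ({s} : Set G))) := by
      intro g
      constructor
      · intro hg
        set v := s⁻¹ * (g⁻¹ * (s * u) * g) with hv
        obtain ⟨j, hj⟩ := (IsPGroup.iff_orderOf).1 (isPGroup_sylowImage P) ⟨v, hg⟩
        rw [← Subgroup.orderOf_coe] at hj
        have hsv : Commute s v := Subgroup.mem_centralizer_iff.1 (sylowImage_le P hg) s rfl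
        have e : g⁻¹ * (s * u) * g = s * v := by rw [hv, mul_inv_cancel_left]
        have h1 : IsPPart q (s * v) (g⁻¹ * u * g) := by
          rw [← e]
          simpa using IsPPart.conj (isPPart_mul_of_mem hq hsu hs ⟨k, hk⟩) g⁻¹
        have h2 := isPPart_unique hq h1 (isPPart_mul_of_mem hq hsv hs ⟨j, hj⟩)
        have h3 : g⁻¹ * s * g = s := by
          refine mul_right_cancel (b := v) ?_
          rw [← e, ← h2]; group
        have hgC : g ∈ (Subgroup.centralizer ({s} : Set G)) := Subgroup.mem_centralizer_iff.2 fun z hz => by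
          rw [Set.mem_singleton_iff.1 hz]
          calc s * g = g * (g⁻¹ * s * g) := by group
            _ = g * s := by rw [h3]
        refine ⟨hgC, ?_⟩
        obtain ⟨w, hw, hwe⟩ := hg
        rwa [show (⟨g, hgC⟩ : (Subgroup.centralizer ({s} : Set G)))⁻¹ * u' * ⟨g, hgC⟩ = w from Subtype.ext (h2.trans hwe.symm)]
      · rintro ⟨hgC, hmem⟩
        refine ⟨_, hmem, ?_⟩
        have h3 : s * g = g * s := Subgroup.mem_centralizer_iff.1 hgC s rfl
        show g⁻¹ * u * g = s⁻¹ * (g⁻¹ * (s * u) * g)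
        rw [show g⁻¹ * (s * u) * g = g⁻¹ * s * g * (g⁻¹ * u * g) by group,
          show g⁻¹ * s * g = s by rw [mul_assoc, h3, inv_mul_cancel_left], inv_mul_cancel_left]
    have hfix : ∀ c : (Subgroup.centralizer ({s} : Set G)), (QuotientGroup.mk c : (Subgroup.centralizer ({s} : Set G)) ⧸ (P : Subgroup (Subgroup.centralizer ({s} : Set G)))) ∈ F ↔
        c⁻¹ * u' * c ∈ (P : Subgroup (Subgroup.centralizer ({s} : Set G))) := by
      intro c
      rw [hF, MulAction.mem_fixedPoints]
      constructor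
      · intro h
        have h1 := QuotientGroup.eq.1 (h ⟨u', Subgroup.mem_zpowers u'⟩).symm
        simpa [mul_assoc] using h1
      · rintro h ⟨z, hz⟩
        obtain ⟨i, rfl⟩ := Subgroup.mem_zpowers_iff.1 hz
        refine (QuotientGroup.eq.2 ?_).symm
        show c⁻¹ * (u' ^ i * c) ∈ (P : Subgroup (Subgroup.centralizer ({s} : Set G)))
        rw [← mul_assoc, show c⁻¹ * u' ^ i * c = (c⁻¹ * u' * c) ^ i by
          simpa using (conj_zpow (a := c⁻¹) (b := u') (i := i)).symm]
        exact Subgroup.zpow_mem _ h i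
    have hcard : Nat.card {g : G // s⁻¹ * (g⁻¹ * (s * u) * g) ∈ sylowImage P} =
        Nat.card (P : Subgroup (Subgroup.centralizer ({s} : Set G))) * Nat.card F := by
      rw [← Nat.card_prod]
      refine (Nat.card_congr ?_).trans
        (Nat.card_congr (QuotientGroup.preimageMkEquivSubgroupProdSet (P : Subgroup (Subgroup.centralizer ({s} : Set G))) F))
      exact
        { toFun := fun g => ⟨⟨g.1, ((hmem g.1).1 g.2).1⟩, (hfix _).2 ((hmem g.1).1 g.2).2⟩
          invFun := fun c => ⟨(c.1 : G), (hmem _).2 ⟨c.1.2, (hfix _).1 c.2⟩⟩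
          left_inv := fun _ => rfl
          right_inv := fun _ => rfl }
    have hP : (Nat.card (P : Subgroup (Subgroup.centralizer ({s} : Set G))) : ℂ) ≠ 0 := Nat.cast_ne_zero.2 Nat.card_pos.ne'
    rw [cosetFun, hcard, sylowImage, Subgroup.card_map_of_injective Subtype.val_injective,
      Nat.cast_mul, ← mul_assoc, inv_mul_cancel₀ hP, one_mul]

/-- The sum of a character over the p-regular elements is divisible by the q-part of the order. -/
theorem isIntegral_regular_sum_local (hp : p.Prime) (hq : q.Prime) (hpq : p ≠ q)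
    {φ : G → ℂ} (hφ : IsCharacter G φ) [DecidablePred fun x : G => ¬ p ∣ orderOf x] :
    IsIntegral ℤ ((∑ x ∈ Finset.univ.filter (fun x : G => ¬ p ∣ orderOf x), φ x) /
      ((q ^ (Nat.card G).factorization q : ℕ) : ℂ)) := by
  classical
  haveI := Fact.mk hq
  haveI : Finite (ConjClasses G) := Finite.of_surjective _ ConjClasses.mk_surjective
  haveI : Fintype (ConjClasses G) := Fintype.ofFinite _
  have hP : ∀ C : ConjClasses G, Nonempty (Sylow q (Subgroup.centralizer ({C.out} : Set G))) :=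
    fun C => inferInstance
  let P := fun C => Classical.choice (hP C)
  set R := Finset.univ.filter fun C : ConjClasses G => ¬ q ∣ orderOf C.out ∧ ¬ p ∣ orderOf C.out
    with hR
  set F : G → ℂ := ∑ C ∈ R, cosetFun (sylowImage (P C)) C.out with hF
  have hcomm : ∀ C : ConjClasses G, ∀ u ∈ sylowImage (P C), Commute C.out u := fun C u hu =>
    Subgroup.mem_centralizer_iff.1 (sylowImage_le (P C) hu) _ rfl
  have hFc : IsClassFunction G F := fun x c => by
    simp only [hF, Finset.sum_apply]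
    exact Finset.sum_congr rfl fun C _ => isClassFunction_cosetFun _ _ x c
  have hFi : IntTest F := intTest_sum _ _ fun C _ => intTest_cosetFun _ (hcomm C)
  -- a nonzero term forces regularity and determines the class
  have hone : ∀ C ∈ R, ∀ x : G, cosetFun (sylowImage (P C)) C.out x ≠ 0 → ¬ p ∣ orderOf x ∧
      ∀ z, IsPPart q x z → IsConj (z⁻¹ * x) C.out := by
    intro C hC x hx
    obtain ⟨g, u, hu, he⟩ := exists_of_cosetFun_ne_zero hx
    obtain ⟨j, hj⟩ := (IsPGroup.iff_orderOf).1 (isPGroup_sylowImage (P C)) ⟨u, hu⟩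
    rw [← Subgroup.orderOf_coe] at hj
    obtain ⟨-, hsq, hsp⟩ := Finset.mem_filter.1 hC
    have hgx : x = g * (C.out * u) * g⁻¹ := by rw [← he]; group
    refine ⟨fun hd => ?_, fun z hz => ?_⟩
    · rw [hgx, ← MulAut.conj_apply, MulEquiv.orderOf_eq] at hd
      have h1 : p ∣ Nat.lcm (orderOf C.out) (orderOf u) :=
        hd.trans (hcomm C u hu).orderOf_mul_dvd_lcm
      rcases (hp.dvd_mul).1 (h1.trans (Nat.lcm_dvd_mul _ _)) with h2 | h2
      · exact hsp h2
      · rw [hj] at h2
        exact hpq ((Nat.prime_dvd_prime_iff_eq hp hq).1 (hp.dvd_of_dvd_pow h2))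
    · have h1 := IsPPart.conj (isPPart_mul_of_mem hq (hcomm C u hu) hsq ⟨j, hj⟩) g
      rw [← hgx] at h1
      have h2 := isPPart_unique hq hz h1
      rw [h2]
      refine isConj_iff.2 ⟨g⁻¹, ?_⟩
      rw [hgx, (hcomm C u hu).eq]
      group
  have hoff : ∀ x : G, p ∣ orderOf x → F x = 0 := fun x hx => by
    rw [hF, Finset.sum_apply]
    refine Finset.sum_eq_zero fun C hC => ?_
    by_contra hne
    exact (hone C hC x hne).1 hx
  have hval : ∀ x : G, ¬ p ∣ orderOf x → ∃ m : ℕ, ¬ q ∣ m ∧ F x = (m : ℂ) := by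
    intro x hx
    obtain ⟨z, hz⟩ := exists_isPPart hq x
    obtain ⟨s, hzs, hzsc, ⟨j, hj⟩, hs⟩ := id hz
    set C := ConjClasses.mk s with hC
    have hsC : IsConj s C.out :=
      (ConjClasses.mk_eq_mk_iff_isConj.1 (Quotient.out_eq C)).symm
    obtain ⟨g, hg⟩ := isConj_iff.1 hsC
    have hord : orderOf C.out = orderOf s := by rw [← hg, ← MulAut.conj_apply, MulEquiv.orderOf_eq]
    have hCR : C ∈ R := by
      refine Finset.mem_filter.2 ⟨Finset.mem_univ _, by rwa [hord], fun hd => hx ?_⟩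
      rw [hord] at hd
      have hspow : s ∈ Subgroup.zpowers x := by
        rw [show s = z⁻¹ * x by rw [← hzs, inv_mul_cancel_left]]
        exact mul_mem (inv_mem (by
          haveI := Fact.mk hq
          obtain ⟨a, b, hab, ha, hb, hk, hb'⟩ := Cfsg.Agent.PBasic.exists_pPart_mul (p := q) x
          have h' : IsPPart q x a := by
            refine ⟨b, hab, ?_, hk, (Nat.Prime.coprime_iff_not_dvd hq).1 hb'.symm⟩
            obtain ⟨i, rfl⟩ := Subgroup.mem_zpowers_iff.1 ha
            obtain ⟨l, rfl⟩ := Subgroup.mem_zpowers_iff.1 hb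
            exact ((Commute.refl x).zpow_left i).zpow_right l
          rwa [isPPart_unique hq hz h'])) (Subgroup.mem_zpowers x)
      exact hd.trans (orderOf_dvd_of_mem_zpowers hspow)
    have hu' : Commute C.out (g * z * g⁻¹) := by
      rw [← hg]
      exact (Commute.conj_iff g).2 hzsc.symm
    obtain ⟨m, hm, hme⟩ := cosetFun_value hq (by rwa [hord]) (P C) (u := g * z * g⁻¹)
      ⟨j, by rw [← MulAut.conj_apply, MulEquiv.orderOf_eq, hj]⟩ hu'
    refine ⟨m, hm, ?_⟩
    rw [hF, Finset.sum_apply, Finset.sum_eq_single C]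
    · rw [← hme, ← isClassFunction_cosetFun _ _ x g]
      congr 1
      rw [← hg, ← hzs, hzsc.eq]
      group
    · intro D hD hne
      by_contra hc
      refine hne ?_
      have h1 := (hone D hD x hc).2 z hz
      rw [← hzs, inv_mul_cancel_left] at h1
      rw [hC, ← Quotient.out_eq D]
      exact ConjClasses.mk_eq_mk_iff_isConj.2 h1.symm
    · exact fun h => absurd hCR h
  set b := (Nat.card G).factorization q with hb
  have hN : 0 < Nat.totient (q ^ b) := Nat.totient_pos.2 (pow_pos hq.pos b)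
  obtain ⟨N, hN'⟩ := Nat.exists_eq_add_one.2 hN
  have hI := intTest_pow hFc hFi N φ hφ
  have hdiv : q ^ b ∣ Nat.card G := Nat.ordProj_dvd _ _
  have hqc : ((q ^ b : ℕ) : ℂ) ≠ 0 := Nat.cast_ne_zero.2 (pow_ne_zero _ hq.ne_zero)
  have hdiff : IsIntegral ℤ ((∑ x ∈ Finset.univ.filter (fun x : G => ¬ p ∣ orderOf x),
      (1 - F x ^ (N + 1)) * φ x) / ((q ^ b : ℕ) : ℂ)) := by
    rw [Finset.sum_div]
    refine IsIntegral.sum _ fun x hx => ?_
    obtain ⟨m, hm, hme⟩ := hval x (Finset.mem_filter.1 hx).2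
    have hmod : m ^ (N + 1) ≡ 1 [MOD q ^ b] := by
      rw [← hN']
      exact Nat.ModEq.pow_totient (Nat.Coprime.pow_right b ((hq.coprime_iff_not_dvd.2 hm).symm))
    obtain ⟨c, hc⟩ := Nat.modEq_iff_dvd.1 hmod
    have hc' : (1 : ℂ) - (m : ℂ) ^ (N + 1) = ((q ^ b : ℕ) : ℂ) * (c : ℂ) := by
      have := congrArg (fun z : ℤ => (z : ℂ)) hc
      push_cast at this ⊢
      exact this
    have e : (1 - F x ^ (N + 1)) * φ x / ((q ^ b : ℕ) : ℂ) = (c : ℂ) * φ x := by
      rw [hme, hc']
      field_simp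
    rw [e]
    exact (isIntegral_algebraMap (R := ℤ) (x := c)).mul (IsCharacter.isIntegral hφ x)
  have hsum : ∑ x, (F ^ (N + 1)) x * φ x =
      ∑ x ∈ Finset.univ.filter (fun x : G => ¬ p ∣ orderOf x), F x ^ (N + 1) * φ x := by
    rw [Finset.sum_filter]
    refine Finset.sum_congr rfl fun x _ => ?_
    by_cases hx : p ∣ orderOf x
    · rw [if_neg (not_not.2 hx), Pi.pow_apply, hoff x hx, zero_pow (Nat.succ_ne_zero N), zero_mul]
    · rw [if_pos hx, Pi.pow_apply]
  obtain ⟨c, hc⟩ := hdiv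
  have hI2 : IsIntegral ℤ ((∑ x ∈ Finset.univ.filter (fun x : G => ¬ p ∣ orderOf x),
      F x ^ (N + 1) * φ x) / ((q ^ b : ℕ) : ℂ)) := by
    have e : (∑ x ∈ Finset.univ.filter (fun x : G => ¬ p ∣ orderOf x),
        F x ^ (N + 1) * φ x) / ((q ^ b : ℕ) : ℂ) =
        (c : ℂ) * ((Nat.card G : ℂ)⁻¹ * ∑ x, (F ^ (N + 1)) x * φ x) := by
      rw [hsum, hc, Nat.cast_mul]
      have hc0 : (c : ℂ) ≠ 0 := Nat.cast_ne_zero.2 fun h0 => (Nat.card_pos (α := G)).ne' (by
        rw [hc, h0, mul_zero])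
      field_simp
    rw [e]
    exact (isIntegral_natCast c).mul hI
  have := hdiff.add hI2
  rwa [← add_div, ← Finset.sum_add_distrib, Finset.sum_congr rfl (fun x _ => by ring :
    ∀ x ∈ Finset.univ.filter (fun x : G => ¬ p ∣ orderOf x),
      (1 - F x ^ (N + 1)) * φ x + F x ^ (N + 1) * φ x = φ x)] at this

/-- The p-prime part of the group order divides the sum of a character over regular elements. -/
theorem isIntegral_regular_sum (hp : p.Prime) {φ : G → ℂ} (hφ : IsCharacter G φ)
    [DecidablePred fun x : G => ¬ p ∣ orderOf x] :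
    IsIntegral ℤ ((∑ x ∈ Finset.univ.filter (fun x : G => ¬ p ∣ orderOf x), φ x) /
      ((Nat.card G / p ^ (Nat.card G).factorization p : ℕ) : ℂ)) := by
  classical
  set S := ∑ x ∈ Finset.univ.filter (fun x : G => ¬ p ∣ orderOf x), φ x with hS
  suffices h : ∀ d : ℕ, d ∣ Nat.card G / p ^ (Nat.card G).factorization p →
      IsIntegral ℤ (S / (d : ℂ)) from h _ dvd_rfl
  intro d
  induction d using Nat.recOnPrimeCoprime with
  | zero =>
    intro h
    exact absurd (Nat.eq_zero_of_zero_dvd h)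
      (Nat.ordCompl_pos p Nat.card_pos.ne').ne'
  | prime_pow r k hr =>
    intro h
    rcases Nat.eq_zero_or_pos k with rfl | hk
    · simpa using IsIntegral.sum _ fun x _ => IsCharacter.isIntegral hφ x
    · have hrp : p ≠ r := fun e => by
        subst e
        exact Nat.not_dvd_ordCompl hp Nat.card_pos.ne' ((dvd_pow_self p hk.ne').trans h)
      have h1 := isIntegral_regular_sum_local hp hr hrp hφ
      have hkle : k ≤ (Nat.card G).factorization r :=
        (hr.pow_dvd_iff_le_factorization Nat.card_pos.ne').1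
          (h.trans (Nat.ordCompl_dvd _ _))
      have e : S / ((r ^ k : ℕ) : ℂ) = ((r ^ ((Nat.card G).factorization r - k) : ℕ) : ℂ) *
          (S / ((r ^ (Nat.card G).factorization r : ℕ) : ℂ)) := by
        have h0 : ((r : ℕ) : ℂ) ≠ 0 := Nat.cast_ne_zero.2 hr.ne_zero
        push_cast
        conv_rhs => rw [show (Nat.card G).factorization r =
          ((Nat.card G).factorization r - k) + k from (Nat.sub_add_cancel hkle).symm,
          Nat.add_sub_cancel, pow_add]
        field_simp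
      rw [e]
      exact (isIntegral_natCast _).mul h1
  | coprime a b ha hb hab iha ihb =>
    intro h
    have h1 := iha ((dvd_mul_right a b).trans h)
    have h2 := ihb ((dvd_mul_left b a).trans h)
    obtain ⟨u, v, huv⟩ := Int.isCoprime_iff_nat_coprime.2 (show Nat.Coprime (a : ℤ).natAbs
      (b : ℤ).natAbs by simpa using hab)
    have ha0 : (a : ℂ) ≠ 0 := Nat.cast_ne_zero.2 (by omega)
    have hb0 : (b : ℂ) ≠ 0 := Nat.cast_ne_zero.2 (by omega)
    have e : S / ((a * b : ℕ) : ℂ) = (u : ℂ) * (S / b) + (v : ℂ) * (S / a) := by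
      have := congrArg (fun z : ℤ => (z : ℂ)) huv
      push_cast at this ⊢
      field_simp
      linear_combination (-S) * this
    rw [e]
    exact ((isIntegral_algebraMap (R := ℤ) (x := u)).mul h2).add
      ((isIntegral_algebraMap (R := ℤ) (x := v)).mul h1)

/-- The truncation to regular elements, scaled by the p-part of the group order. -/
noncomputable def regTr (p : ℕ) (χ : G → ℂ) : G → ℂ := fun x =>
  if p ∣ orderOf x then 0 else ((p ^ (Nat.card G).factorization p : ℕ) : ℂ) * χ x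

theorem classInner_regTr (hp : p.Prime) (χ ψ : G → ℂ)
    [DecidablePred fun x : G => ¬ p ∣ orderOf x] :
    classInner (regTr p χ) ψ =
      (∑ x ∈ Finset.univ.filter (fun x : G => ¬ p ∣ orderOf x), χ x * conj (ψ x)) /
        ((Nat.card G / p ^ (Nat.card G).factorization p : ℕ) : ℂ) := by
  classical
  have hP : ((p ^ (Nat.card G).factorization p : ℕ) : ℂ) ≠ 0 :=
    Nat.cast_ne_zero.2 (pow_ne_zero _ hp.ne_zero)
  have hn : (Nat.card G : ℂ) = ((p ^ (Nat.card G).factorization p : ℕ) : ℂ) *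
      ((Nat.card G / p ^ (Nat.card G).factorization p : ℕ) : ℂ) := by
    rw [← Nat.cast_mul, Nat.ordProj_mul_ordCompl_eq_self]
  have hg : ((Nat.card G / p ^ (Nat.card G).factorization p : ℕ) : ℂ) ≠ 0 :=
    Nat.cast_ne_zero.2 (Nat.ordCompl_pos p Nat.card_pos.ne').ne'
  unfold classInner regTr
  rw [hn, Finset.sum_filter, Finset.sum_div, Finset.mul_sum]
  refine Finset.sum_congr rfl fun x _ => ?_
  by_cases hx : p ∣ orderOf x
  · simp [hx]
  · rw [if_neg hx, if_pos hx]
    field_simp

/-- The truncation has integer multiplicities. -/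
theorem exists_int_regTr (hp : p.Prime) {χ ψ : G → ℂ} (hχ : IsCharacter G χ)
    (hψ : IsCharacter G ψ) : ∃ m : ℤ, classInner (regTr p χ) ψ = (m : ℂ) := by
  classical
  have hprod : IsCharacter G (χ * fun x => conj (ψ x)) :=
    IsCharacter.mul hχ (IsCharacter.conj hψ)
  rw [classInner_regTr hp]
  refine exists_int_of_fixed (isIntegral_regular_sum hp hprod) fun σ => ?_
  rw [map_div₀, map_natCast, map_sum]
  congr 1
  obtain ⟨k, hk, hσ⟩ := Cfsg.Agent.CharGalois.exists_exponent σ.toRingHom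
    (Nat.card_pos (α := G)).ne'
  have hb : Function.Injective (fun x : G => x ^ k) := (powCoprime hk.symm).injective
  have himg : (Finset.univ.filter fun x : G => ¬ p ∣ orderOf x).image (fun x => x ^ k) =
      Finset.univ.filter fun x : G => ¬ p ∣ orderOf x := by
    refine Finset.eq_of_subset_of_card_le (Finset.image_subset_iff.2 fun x hx => ?_)
      (by rw [Finset.card_image_of_injective _ hb])
    refine Finset.mem_filter.2 ⟨Finset.mem_univ _, fun hd => (Finset.mem_filter.1 hx).2 ?_⟩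
    exact hd.trans (orderOf_pow_dvd k)
  conv_rhs => rw [← himg]
  rw [Finset.sum_image fun a _ b _ e => hb e]
  exact Finset.sum_congr rfl fun x _ => Cfsg.Agent.CharGalois.map_char hprod σ.toRingHom hσ x

theorem isGeneralizedCharacter_regTr (hp : p.Prime) {χ : G → ℂ} (hχ : IsCharacter G χ) :
    IsGeneralizedCharacter G (regTr p χ) := by
  refine isGeneralizedCharacter_of_classInner (fun x c => ?_)
    fun ψ => exists_int_regTr hp hχ (IsIrrCharacter.isCharacter ψ.2)
  have : orderOf (c * x * c⁻¹) = orderOf x := by rw [← MulAut.conj_apply, MulEquiv.orderOf_eq]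
  simp only [regTr, this, IsCharacter.isClassFunction hχ x c]

end Cfsg.Agent.Blocks
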