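/-
Multiplicities of truncated characters: congruences, height zero criteria, the bound on the
number of characters in a block.
-/
import Cfsg.Agent.Lib.Blocks.GenChar
import Cfsg.Agent.Lib.Blocks.Induced
import Mathlib.NumberTheory.Padics.PadicVal.Basic

set_option linter.unusedSectionVars false
set_option linter.style.haveILetI false

namespace Cfsg.Agent.Blocks

open Cfsg Cfsg.Agent.Char MonoidAlgebra
open scoped ComplexConjugate

universe u

variable {G : Type u} [Group G] [Fintype G] {p : ℕ} {M : Ideal AlgInt} [M.IsPrime]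

theorem char_memLocalRing {χ : G → ℂ} (hχ : IsCharacter G χ) (g : G) : MemLocalRing M (χ g) :=
  mem_locRing_of_isIntegral (IsCharacter.isIntegral hχ g)

/-- The p-prime part of the order of a finite group. -/
noncomputable def ordPrime (p : ℕ) (G : Type u) : ℕ :=
  Nat.card G / p ^ (Nat.card G).factorization p

theorem ordPrime_ne_zero : ordPrime p G ≠ 0 := (Nat.ordCompl_pos p Nat.card_pos.ne').ne'

theorem not_dvd_ordPrime (hp : p.Prime) : ¬ p ∣ ordPrime p G :=
  Nat.not_dvd_ordCompl hp Nat.card_pos.ne'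

theorem inv_ordPrime_mem (hM : IsPModular p M) : MemLocalRing M ((ordPrime p G : ℂ)⁻¹) :=
  inv_natCast_memLocalRing hM (not_dvd_ordPrime hM.1)

/-- The regular values of a character, inverted, as an element of the group algebra. -/
noncomputable def regElt (M : Ideal AlgInt) [M.IsPrime] (p : ℕ) (χ : G → ℂ)
    (hχ : IsCharacter G χ) : MonoidAlgebra (locRing M) G :=
  gaOfFun fun x => if p ∣ orderOf x then 0 else ⟨χ x⁻¹, char_memLocalRing hχ x⁻¹⟩

theorem coeff_regElt {χ : G → ℂ} (hχ : IsCharacter G χ) (x : G) :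
    (((regElt M p χ hχ).coeff x : locRing M) : ℂ) = if p ∣ orderOf x then 0 else χ x⁻¹ := by
  simp only [regElt, coeff_gaOfFun]
  split_ifs <;> rfl

theorem isClassElt_regElt {χ : G → ℂ} (hχ : IsCharacter G χ) : IsClassElt (regElt M p χ hχ) := by
  intro g h
  refine Subtype.ext ?_
  rw [coeff_regElt, coeff_regElt, show (h * g * h⁻¹)⁻¹ = h * g⁻¹ * h⁻¹ by group,
    IsCharacter.isClassFunction hχ g⁻¹ h, ← MulAut.conj_apply, MulEquiv.orderOf_eq]

theorem restrictElt_regElt {H : Subgroup G} [Fintype H] {χ : G → ℂ} (hχ : IsCharacter G χ) :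
    restrictElt H (regElt M p χ hχ) =
      regElt M p (fun h : H => χ h) (IsCharacter.restrict hχ H) := by
  refine gaExt fun h => Subtype.ext ?_
  simp only [coeff_restrictElt, coeff_regElt, Subgroup.orderOf_coe, Subgroup.coe_inv]

/-- The multiplicity in a truncated character through a central character. -/
theorem classInner_regTr_eq (hM : IsPModular p M) {χ : G → ℂ} (hχ : IsCharacter G χ)
    (φ : IrrCharacter G) :
    classInner (regTr p χ) (φ : G → ℂ) =
      omegaR φ (regElt M p χ hχ) * (φ : G → ℂ) 1 * (ordPrime p G : ℂ)⁻¹ := by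
  classical
  rw [classInner_regTr hM.1, omega_eq_sum_div, div_mul_cancel₀ _ (irr_one_ne_zero φ),
    div_eq_mul_inv]
  congr 1
  simp only [coeff_regElt, ite_mul, zero_mul]
  rw [Finset.sum_filter]
  refine Fintype.sum_equiv (Equiv.inv G) _ _ fun x => ?_
  simp only [Equiv.inv_apply, orderOf_inv, inv_inv, irr_inv]
  by_cases hx : p ∣ orderOf x <;> simp [hx]

theorem regTr_orth (hM : IsPModular p M) {χ φ : IrrCharacter G}
    (h : ¬ SameBlock M (χ : G → ℂ) (φ : G → ℂ)) :
    classInner (regTr p (χ : G → ℂ)) (φ : G → ℂ) = 0 := by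
  classical
  rw [classInner_regTr hM.1, sum_regular_eq_zero hM h, zero_div]

/-- The central character of the regular values detects height zero. -/
theorem omegaR_regElt_mem_iff (hM : IsPModular p M) {B : Set (IrrCharacter G)}
    (hB : IsPBlock M B) {χ φ : IrrCharacter G} (hχ : χ ∈ B) (hφ : φ ∈ B) :
    MemLocalIdeal M (omegaR φ (regElt M p (χ : G → ℂ) (irr_isCharacter χ))) ↔
      blockHeight p B (χ : G → ℂ) ≠ 0 := by
  classical
  haveI := Fact.mk hM.1
  set X := regElt M p (χ : G → ℂ) (irr_isCharacter χ) with hX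
  have hXc : IsClassElt X := isClassElt_regElt _
  haveI : Finite (ConjClasses G) := Finite.of_surjective _ ConjClasses.mk_surjective
  haveI : Fintype (ConjClasses G) := Fintype.ofFinite _
  have hcong := omegaR_congr (isPBlock_sameBlock hB hφ hχ) hXc
  set d := blockDefect p B with hd
  let q : ConjClasses G → Prop := fun C => ¬ p ∣ orderOf C.out ∧ classExp p C.out = d
  have hdef : blockDefect p (blockOf M (χ : G → ℂ)) = d := by
    rw [← isPBlock_eq_blockOf hB hχ]
  have hge : (Nat.card G).factorization p - d ≤ (charDegree (χ : G → ℂ)).factorization p :=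
    degExp_ge hM hB hχ
  have hidx : ∀ C : ConjClasses G,
      (Subgroup.centralizer ({C.out⁻¹} : Set G)).index.factorization p =
        (Nat.card G).factorization p - classExp p C.out := fun C => by
    rw [centralizer_singleton_inv, index_centralizer_factorization]
  have hval : ∀ C : ConjClasses G, q C → (X.coeff C.out : ℂ) =
      centralChar (χ : G → ℂ) C.out⁻¹ * ((charDegree (χ : G → ℂ) : ℂ) /
        (Subgroup.centralizer ({C.out⁻¹} : Set G)).index) := by
    intro C hC
    have hi : ((Subgroup.centralizer ({C.out⁻¹} : Set G)).index : ℂ) ≠ 0 :=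
      Nat.cast_ne_zero.2 Subgroup.index_ne_zero_of_finite
    have h0 : (charDegree (χ : G → ℂ) : ℂ) ≠ 0 := Nat.cast_ne_zero.2 (charDegree_pos χ).ne'
    rw [hX, coeff_regElt, if_neg hC.1, centralChar, irr_one_eq_charDegree χ]
    field_simp
  have hrest : ∀ C : ConjClasses G, ¬ q C →
      MemLocalIdeal M ((X.coeff C.out : ℂ) * centralChar (χ : G → ℂ) C.out) := by
    intro C hC
    by_cases hs : p ∣ orderOf C.out
    · rw [hX, coeff_regElt, if_pos hs, zero_mul]; exact memLocalIdeal_zero
    rcases lt_trichotomy (classExp p C.out) d with h | h | h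
    · refine MemLocalIdeal.mul_left (X.coeff C.out).2 ?_
      by_contra hu
      obtain ⟨g, hg⟩ := exists_defectClass hB
      have := classExp_le hM hB hχ hu hg.2.1
      rw [← blockDefect_eq_classExp hM hB hg] at this
      omega
    · exact absurd ⟨hs, h⟩ hC
    · refine MemLocalIdeal.mul_right ?_ (centralChar_memLocalRing _ _)
      rw [hX, coeff_regElt, if_neg hs]
      refine irr_mem_of_lt hM χ _ ?_
      have := classExp_le_card (p := p) C.out
      rw [hidx]; omega
  have hsplit : MemLocalIdeal M (omegaR χ X -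
      ∑ C ∈ Finset.univ.filter q, (X.coeff C.out : ℂ) * centralChar (χ : G → ℂ) C.out) := by
    rw [omegaR_eq_sum χ hXc, ← Finset.sum_filter_add_sum_filter_not Finset.univ q,
      add_sub_cancel_left]
    exact memLocalIdeal_sum _ _ fun C hC => hrest C (Finset.mem_filter.1 hC).2
  constructor
  · intro hmem h0
    have hv : (charDegree (χ : G → ℂ)).factorization p = (Nat.card G).factorization p - d :=
      (blockHeight_eq_zero_iff hM hB hχ).1 h0
    have h1 : MemLocalIdeal M (∑ C ∈ Finset.univ.filter q,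
        (X.coeff C.out : ℂ) * centralChar (χ : G → ℂ) C.out) := by
      have := MemLocalIdeal.sub (MemLocalIdeal.sub hmem hcong) hsplit
      simpa using this
    obtain ⟨P⟩ : Nonempty (Sylow p G) := inferInstance
    choose m hm using exists_sum_subgroup_eq (P : Subgroup G)
    set K := (Nat.card (P : Subgroup G) : ℂ) / Nat.card G *
      ∑ φ ∈ Finset.univ.filter (· ∈ B),
        (charDegree (φ : G → ℂ) : ℂ) / (charDegree (χ : G → ℂ) : ℂ) * m φ with hK
    have hKR : MemLocalRing M K := by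
      refine mem_locRing.1 ((locRing M).mul_mem (memLocalRing_natDiv hM (le_of_eq ?_))
        ((locRing M).sum_mem fun φ hφ => (locRing M).mul_mem (memLocalRing_natDiv hM ?_)
          (natCast_mem (locRing M) _)))
      · rw [Sylow.card_eq_multiplicity, hM.1.factorization_pow, Finsupp.single_eq_same]
      · rw [hv]; exact degExp_ge hM hB (Finset.mem_filter.1 hφ).2
    have ha : ∀ C : ConjClasses G, q C →
        MemLocalIdeal M (blockCoeff B C.out - K * (X.coeff C.out : ℂ)) := by
      intro C hC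
      have hi : ((Subgroup.centralizer ({C.out⁻¹} : Set G)).index : ℂ) ≠ 0 :=
        Nat.cast_ne_zero.2 Subgroup.index_ne_zero_of_finite
      have hχd : (charDegree (χ : G → ℂ) : ℂ) ≠ 0 := Nat.cast_ne_zero.2 (charDegree_pos χ).ne'
      rw [hval C hC, blockCoeff_eq_regular hM hB P.isPGroup' hC.1 m hm, hK, mul_assoc,
        ← mul_sub, Finset.sum_mul, ← Finset.sum_sub_distrib]
      refine MemLocalIdeal.mul_left (memLocalRing_natDiv hM (le_of_eq ?_))
        (memLocalIdeal_sum _ _ fun φ hφ => ?_)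
      · rw [Sylow.card_eq_multiplicity, hM.1.factorization_pow, Finsupp.single_eq_same]
      have e : conj ((φ : G → ℂ) C.out) * (m φ : ℂ) -
          (charDegree (φ : G → ℂ) : ℂ) / (charDegree (χ : G → ℂ) : ℂ) * m φ *
            (centralChar (χ : G → ℂ) C.out⁻¹ * ((charDegree (χ : G → ℂ) : ℂ) /
              (Subgroup.centralizer ({C.out⁻¹} : Set G)).index)) =
          ((charDegree (φ : G → ℂ) : ℂ) / (Subgroup.centralizer ({C.out⁻¹} : Set G)).index *
            m φ) * (centralChar (φ : G → ℂ) C.out⁻¹ - centralChar (χ : G → ℂ) C.out⁻¹) := by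
        have hφd : (charDegree (φ : G → ℂ) : ℂ) ≠ 0 := Nat.cast_ne_zero.2 (charDegree_pos φ).ne'
        rw [← irr_inv φ C.out]
        simp only [centralChar, irr_one_eq_charDegree φ, irr_one_eq_charDegree χ]
        field_simp
      rw [e]
      refine MemLocalIdeal.mul_left ?_ (isPBlock_sameBlock hB (Finset.mem_filter.1 hφ).2 hχ _)
      refine mem_locRing.1 ((locRing M).mul_mem (memLocalRing_natDiv hM ?_)
        (natCast_mem (locRing M) _))
      rw [hidx, hC.2]
      exact degExp_ge hM hB (Finset.mem_filter.1 hφ).2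
    have h2 := omegaR_blockEltR_sub_mem hM hB χ q fun C a b c => ⟨a, by rw [hdef] at c; omega⟩
    rw [omegaR_blockEltR hB, if_pos hχ] at h2
    refine not_memLocalIdeal_one (M := M) ?_
    have h3 : MemLocalIdeal M (∑ C ∈ Finset.univ.filter q,
        blockCoeff B C.out * centralChar (χ : G → ℂ) C.out -
        K * ∑ C ∈ Finset.univ.filter q, (X.coeff C.out : ℂ) * centralChar (χ : G → ℂ) C.out) := by
      rw [Finset.mul_sum, ← Finset.sum_sub_distrib]
      refine memLocalIdeal_sum _ _ fun C hC => ?_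
      rw [← mul_assoc, ← sub_mul]
      exact MemLocalIdeal.mul_right (ha C (Finset.mem_filter.1 hC).2) (centralChar_memLocalRing _ _)
    have := MemLocalIdeal.add (MemLocalIdeal.add h2 h3) (MemLocalIdeal.mul_left hKR h1)
    simpa using this
  · intro hne
    have hv : (Nat.card G).factorization p - d < (charDegree (χ : G → ℂ)).factorization p := by
      refine lt_of_le_of_ne hge fun e => hne ((blockHeight_eq_zero_iff hM hB hχ).2 e.symm)
    have h1 : MemLocalIdeal M (∑ C ∈ Finset.univ.filter q,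
        (X.coeff C.out : ℂ) * centralChar (χ : G → ℂ) C.out) := by
      refine memLocalIdeal_sum _ _ fun C hC => MemLocalIdeal.mul_right ?_
        (centralChar_memLocalRing _ _)
      rw [hX, coeff_regElt, if_neg (Finset.mem_filter.1 hC).2.1]
      refine irr_mem_of_lt hM χ _ ?_
      rw [hidx, (Finset.mem_filter.1 hC).2.2]
      exact hv
    have := MemLocalIdeal.add (MemLocalIdeal.add h1 hsplit) hcong
    simpa using this

/-! ## Divisibility of the multiplicities -/

theorem pow_dvd_of_memLocalRing (hM : IsPModular p M) {m : ℤ} {k : ℕ}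
    (h : MemLocalRing M ((m : ℂ) / (p : ℂ) ^ k)) : (p : ℤ) ^ k ∣ m := by
  rcases eq_or_ne m 0 with rfl | hm
  · exact dvd_zero _
  have h' : MemLocalRing M ((m.natAbs : ℂ) / ((p ^ k : ℕ) : ℂ)) := by
    rw [Nat.cast_pow]
    rcases Int.natAbs_eq m with e | e
    · rw [e, Int.cast_natCast] at h; exact h
    · rw [e, Int.cast_neg, Int.cast_natCast, neg_div] at h
      have := (locRing M).neg_mem (mem_locRing.2 h)
      rw [neg_neg] at this
      exact mem_locRing.1 this
  have h1 := (memLocalRing_natDiv_iff hM (pow_ne_zero k hM.1.ne_zero)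
    (Int.natAbs_ne_zero.2 hm)).1 h'
  rw [hM.1.factorization_pow, Finsupp.single_eq_same] at h1
  have h2 := (hM.1.pow_dvd_iff_le_factorization (Int.natAbs_ne_zero.2 hm)).2 h1
  exact Int.natAbs_dvd_natAbs.1 (by rwa [Int.natAbs_pow, Int.natAbs_natCast])

theorem exists_mult (hM : IsPModular p M) {χ : G → ℂ} (hχ : IsCharacter G χ)
    (φ : IrrCharacter G) :
    ∃ m : ℤ, classInner (regTr p χ) (φ : G → ℂ) = (m : ℂ) ∧
      (p : ℤ) ^ (charDegree (φ : G → ℂ)).factorization p ∣ m ∧
      (¬ MemLocalIdeal M (omegaR φ (regElt M p χ hχ)) ↔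
        m ≠ 0 ∧ padicValInt p m = (charDegree (φ : G → ℂ)).factorization p) := by
  obtain ⟨m, hm⟩ := exists_int_regTr hM.1 hχ (irr_isCharacter φ)
  refine ⟨m, hm, ?_⟩
  set d := charDegree (φ : G → ℂ) with hd
  set k := d.factorization p with hk
  set W := omegaR φ (regElt M p χ hχ) with hW
  have hd0 : (d : ℂ) ≠ 0 := Nat.cast_ne_zero.2 (charDegree_pos φ).ne'
  have hg0 : (ordPrime p G : ℂ) ≠ 0 := Nat.cast_ne_zero.2 ordPrime_ne_zero
  have heq : (m : ℂ) = W * d * (ordPrime p G : ℂ)⁻¹ := by
    rw [← hm, classInner_regTr_eq hM hχ φ, irr_one_eq_charDegree φ]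
  have hWR : MemLocalRing M W := omegaR_memLocalRing φ (isClassElt_regElt hχ)
  have hdvd : (p : ℤ) ^ k ∣ m := by
    refine pow_dvd_of_memLocalRing hM ?_
    rw [heq, show W * d * (ordPrime p G : ℂ)⁻¹ / (p : ℂ) ^ k =
      W * (ordPrime p G : ℂ)⁻¹ * ((d : ℂ) / ((p ^ k : ℕ) : ℂ)) by push_cast; ring]
    refine mem_locRing.1 ((locRing M).mul_mem ((locRing M).mul_mem hWR (inv_ordPrime_mem hM))
      (memLocalRing_natDiv hM (le_of_eq ?_)))
    rw [hM.1.factorization_pow, Finsupp.single_eq_same]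
  refine ⟨hdvd, ?_⟩
  have hWe : W = ((ordPrime p G : ℕ) : ℂ) * ((m : ℂ) / (d : ℂ)) := by
    rw [heq]; field_simp
  constructor
  · intro hu
    have hm0 : m ≠ 0 := fun h0 => hu (by
      rw [hWe, h0]; simpa using memLocalIdeal_zero (M := M))
    refine ⟨hm0, ?_⟩
    rw [padicValInt, ← Nat.factorization_def _ hM.1]
    refine le_antisymm (not_lt.1 fun hlt => hu ?_) ?_
    · rw [hWe]
      refine MemLocalIdeal.mul_left (mem_locRing.1 (natCast_mem (locRing M) _)) ?_
      have := memLocalIdeal_natDiv hM (m := d) (n := m.natAbs) hlt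
      rcases Int.natAbs_eq m with e | e
      · rw [e, Int.cast_natCast]; exact this
      · rw [e, Int.cast_neg, Int.cast_natCast, neg_div]; exact MemLocalIdeal.neg this
    · refine (hM.1.pow_dvd_iff_le_factorization (Int.natAbs_ne_zero.2 hm0)).1 ?_
      have := Int.natAbs_dvd_natAbs.2 hdvd
      rwa [Int.natAbs_pow, Int.natAbs_natCast] at this
  · rintro ⟨hm0, hv⟩ hmem
    rw [padicValInt, ← Nat.factorization_def _ hM.1] at hv
    refine not_memLocalIdeal_natDiv hM (charDegree_pos φ).ne' (Int.natAbs_ne_zero.2 hm0)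
      hv.le ?_
    have h1 := MemLocalIdeal.mul_left (inv_ordPrime_mem hM (G := G)) hmem
    rw [hWe, inv_mul_cancel_left₀ hg0] at h1
    rcases Int.natAbs_eq m with e | e
    · rw [e, Int.cast_natCast] at h1; exact h1
    · rw [e, Int.cast_neg, Int.cast_natCast, neg_div] at h1
      simpa using MemLocalIdeal.neg h1

theorem blockHeight_zero_iff_mult (hM : IsPModular p M) {B : Set (IrrCharacter G)}
    (hB : IsPBlock M B) {χ ξ : IrrCharacter G} (hχ : χ ∈ B) (hξ : ξ ∈ B) :
    blockHeight p B (χ : G → ℂ) = 0 ↔ ∃ n : ℤ,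
      classInner (regTr p (χ : G → ℂ)) (ξ : G → ℂ) = (n : ℂ) ∧ n ≠ 0 ∧
        padicValInt p n = (charDegree (ξ : G → ℂ)).factorization p := by
  obtain ⟨m, hm, -, hiff⟩ := exists_mult hM (irr_isCharacter χ) ξ
  rw [omegaR_regElt_mem_iff hM hB hχ hξ, not_ne_iff] at hiff
  refine ⟨fun h => ⟨m, hm, (hiff.1 h).1, (hiff.1 h).2⟩, fun ⟨n, hn, h1, h2⟩ => ?_⟩
  have : n = m := by exact_mod_cast hn.symm.trans hm
  subst this
  exact hiff.2 ⟨h1, h2⟩

theorem regTr_norm (χ : G → ℂ) :
    classInner (regTr p χ) (regTr p χ) =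
      ((p ^ (Nat.card G).factorization p : ℕ) : ℂ) * classInner (regTr p χ) χ := by
  unfold classInner
  rw [mul_left_comm (((p ^ _ : ℕ) : ℂ))]
  congr 1
  rw [Finset.mul_sum]
  refine Finset.sum_congr rfl fun x _ => ?_
  simp only [regTr]
  split_ifs
  · simp
  · rw [map_mul, map_natCast]; ring

/-- The normalised row of the multiplicity matrix at a character of a block. -/
theorem exists_row (hM : IsPModular p M) {B : Set (IrrCharacter G)} (hB : IsPBlock M B)
    {χ : IrrCharacter G} (hχ : χ ∈ B) [DecidablePred (· ∈ B)] :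
    ∃ r : IrrCharacter G → ℤ,
      (∀ φ : IrrCharacter G, classInner (regTr p (χ : G → ℂ)) (φ : G → ℂ) =
        (((p : ℤ) ^ ((Nat.card G).factorization p - blockDefect p B) * r φ : ℤ) : ℂ)) ∧
      0 < r χ ∧
      ∑ φ ∈ Finset.univ.filter (· ∈ B), r φ ^ 2 = (p : ℤ) ^ blockDefect p B * r χ := by
  classical
  set a := (Nat.card G).factorization p with ha
  set d := blockDefect p B with hd
  have hda : d ≤ a := blockDefect_le B
  have hdvd : ∀ φ : IrrCharacter G, ∃ r : ℤ,
      classInner (regTr p (χ : G → ℂ)) (φ : G → ℂ) = (((p : ℤ) ^ (a - d) * r : ℤ) : ℂ) := by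
    intro φ
    obtain ⟨m, hm, hmd, -⟩ := exists_mult hM (irr_isCharacter χ) φ
    by_cases hφ : φ ∈ B
    · obtain ⟨r, hr⟩ := (pow_dvd_pow (p : ℤ) (degExp_ge hM hB hφ)).trans hmd
      exact ⟨r, by rw [hm, hr]⟩
    · refine ⟨0, ?_⟩
      rw [regTr_orth hM fun h => hφ (isPBlock_mem_of_sameBlock hB hχ h)]
      simp
  choose r hr using hdvd
  have hg0 : (ordPrime p G : ℂ) ≠ 0 := Nat.cast_ne_zero.2 ordPrime_ne_zero
  have hpp : 0 < (p : ℤ) ^ (a - d) := pow_pos (by exact_mod_cast hM.1.pos) _
  refine ⟨r, hr, ?_, ?_⟩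
  · have h1 := classInner_regTr hM.1 (χ : G → ℂ) (χ : G → ℂ)
    rw [hr χ] at h1
    simp only [Complex.mul_conj, ← Complex.ofReal_sum] at h1
    have h2 : ((((p : ℤ) ^ (a - d) * r χ : ℤ)) : ℝ) = (∑ x ∈ Finset.univ.filter
        (fun x : G => ¬ p ∣ orderOf x), Complex.normSq ((χ : G → ℂ) x)) / (ordPrime p G : ℝ) := by
      rw [← Complex.ofReal_inj, Complex.ofReal_div, Complex.ofReal_intCast,
        Complex.ofReal_natCast]
      exact h1
    have h3 : (0 : ℝ) < (((p : ℤ) ^ (a - d) * r χ : ℤ) : ℝ) := by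
      rw [h2]
      refine div_pos (Finset.sum_pos' (fun x _ => Complex.normSq_nonneg _) ⟨1, ?_, ?_⟩)
        (Nat.cast_pos.2 (Nat.pos_of_ne_zero ordPrime_ne_zero))
      · exact Finset.mem_filter.2 ⟨Finset.mem_univ _, by simpa using hM.1.ne_one⟩
      · exact Complex.normSq_pos.2 (irr_one_ne_zero χ)
    exact pos_of_mul_pos_right (Int.cast_pos.1 h3) hpp.le
  · have hcl : IsClassFunction G (regTr p (χ : G → ℂ)) :=
      IsGeneralizedCharacter.isClassFunction
        (isGeneralizedCharacter_regTr hM.1 (irr_isCharacter χ))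
    have h1 := regTr_norm (p := p) (χ : G → ℂ)
    conv_lhs at h1 => rw [classFunction_eq_sum hcl]
    rw [classInner_combination₂, hr χ] at h1
    simp only [hr, map_intCast, ← Int.cast_mul, ← Int.cast_sum, ← Int.cast_natCast (R := ℂ),
      ← Int.cast_inj (α := ℂ)] at h1
    have h2 : ∑ φ ∈ Finset.univ.filter (· ∈ B), r φ ^ 2 = ∑ φ, r φ ^ 2 := by
      refine Finset.sum_subset (Finset.filter_subset _ _) fun φ _ hφ => ?_
      have := hr φ
      rw [regTr_orth hM fun h => hφ (Finset.mem_filter.2 ⟨Finset.mem_univ _,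
        isPBlock_mem_of_sameBlock hB hχ h⟩)] at this
      have h0 : (p : ℤ) ^ (a - d) * r φ = 0 := by exact_mod_cast this.symm
      rw [(mul_eq_zero.1 h0).resolve_left hpp.ne']; ring
    rw [h2]
    have h4 : ∑ φ, ((p : ℤ) ^ (a - d) * r φ) * ((p : ℤ) ^ (a - d) * r φ) =
        (p : ℤ) ^ a * ((p : ℤ) ^ (a - d) * r χ) := by exact_mod_cast h1
    refine mul_left_cancel₀ (mul_ne_zero hpp.ne' hpp.ne') ?_
    rw [Finset.mul_sum]
    calc ∑ φ, (p : ℤ) ^ (a - d) * (p : ℤ) ^ (a - d) * r φ ^ 2
        = ∑ φ, ((p : ℤ) ^ (a - d) * r φ) * ((p : ℤ) ^ (a - d) * r φ) :=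
          Finset.sum_congr rfl fun φ _ => by ring
      _ = (p : ℤ) ^ a * ((p : ℤ) ^ (a - d) * r χ) := h4
      _ = _ := by
        conv_lhs => rw [show a = (a - d) + d from (Nat.sub_add_cancel hda).symm, pow_add,
          Nat.add_sub_cancel]
        ring

/-- A block of defect `d` has at most `p ^ (2 d) / 4 + 1` characters. -/
theorem card_block_le (hM : IsPModular p M) {B : Set (IrrCharacter G)} (hB : IsPBlock M B) :
    4 * Nat.card B ≤ p ^ (2 * blockDefect p B) + 4 := by
  classical
  obtain ⟨χ, hχ, h0⟩ := exists_heightZero hM hB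
  obtain ⟨r, hr, hpos, hsum⟩ := exists_row hM hB hχ
  have hne : ∀ φ ∈ B, r φ ≠ 0 := by
    intro φ hφ h0'
    obtain ⟨n, hn, hn0, -⟩ := (blockHeight_zero_iff_mult hM hB hχ hφ).1 h0
    refine hn0 ?_
    have := hn.symm.trans (hr φ)
    rw [h0', mul_zero] at this
    exact_mod_cast this
  have hk : Nat.card B = (Finset.univ.filter (· ∈ B)).card := by
    rw [Nat.card_eq_fintype_card, Fintype.card_subtype]
  set s := Finset.univ.filter (· ∈ B) with hs
  have hmem : χ ∈ s := Finset.mem_filter.2 ⟨Finset.mem_univ _, hχ⟩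
  rw [← Finset.add_sum_erase _ _ hmem] at hsum
  have h1 : ((s.erase χ).card : ℤ) ≤ ∑ φ ∈ s.erase χ, r φ ^ 2 := by
    rw [Finset.card_eq_sum_ones, Nat.cast_sum]
    refine Finset.sum_le_sum fun φ hφ => ?_
    have := hne φ (Finset.mem_filter.1 (Finset.mem_of_mem_erase hφ)).2
    have h2 : 0 < r φ ^ 2 := by positivity
    push_cast
    omega
  have h3 : s.card = (s.erase χ).card + 1 := (Finset.card_erase_add_one hmem).symm
  set D : ℤ := (p : ℤ) ^ blockDefect p B with hD
  have hD2 : ((p ^ (2 * blockDefect p B) : ℕ) : ℤ) = D ^ 2 := by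
    rw [hD]; push_cast; ring
  have h5 : (4 * Nat.card B : ℤ) ≤ ((p ^ (2 * blockDefect p B) + 4 : ℕ) : ℤ) := by
    rw [hk, h3]; push_cast
    push_cast at hD2
    nlinarith [sq_nonneg (2 * r χ - D)]
  exact_mod_cast h5

/-- Heights are at most two below the defect, unless zero. -/
theorem height_add_two_le (hM : IsPModular p M) {B : Set (IrrCharacter G)} (hB : IsPBlock M B)
    {χ : IrrCharacter G} (hχ : χ ∈ B) (h : blockHeight p B (χ : G → ℂ) ≠ 0) :
    blockHeight p B (χ : G → ℂ) + 2 ≤ blockDefect p B := by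
  classical
  obtain ⟨r, hr, hpos, hsum⟩ := exists_row hM hB hχ
  set a := (Nat.card G).factorization p with ha
  set d := blockDefect p B with hd
  set v := (charDegree (χ : G → ℂ)).factorization p with hv
  set t := v - (a - d) with ht
  have hge : a - d ≤ v := degExp_ge hM hB hχ
  have hheight : blockHeight p B (χ : G → ℂ) = t := by
    rw [blockHeight, sInf_degExp_eq' hM hB]
  rw [hheight] at h ⊢
  have hp0 : (0 : ℤ) < p := by exact_mod_cast hM.1.pos
  -- the whole row is divisible by p ^ t, the diagonal by one more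
  have hsym : ∀ φ : IrrCharacter G, classInner (regTr p (χ : G → ℂ)) (φ : G → ℂ) =
      conj (classInner (regTr p (φ : G → ℂ)) (χ : G → ℂ)) := by
    intro φ
    rw [classInner_regTr hM.1, classInner_regTr hM.1, map_div₀, map_natCast, map_sum]
    congr 1
    exact Finset.sum_congr rfl fun x _ => by rw [map_mul, Complex.conj_conj, mul_comm]
  have hrow : ∀ φ, (p : ℤ) ^ t ∣ r φ := by
    intro φ
    obtain ⟨m, hm, hmd, -⟩ := exists_mult hM (irr_isCharacter φ) χ
    have he : (p : ℤ) ^ (a - d) * r φ = m := by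
      have := (hsym φ).symm.trans (hr φ)
      rw [hm, map_intCast] at this
      exact_mod_cast this.symm
    rw [← he, ← hv, show v = (a - d) + t by omega, pow_add] at hmd
    exact (mul_dvd_mul_iff_left (pow_pos hp0 _).ne').1 hmd
  have hdiag : (p : ℤ) ^ (t + 1) ∣ r χ := by
    obtain ⟨m, hm, hmd, hiff⟩ := exists_mult hM (irr_isCharacter χ) χ
    have he : (p : ℤ) ^ (a - d) * r χ = m := by exact_mod_cast (hr χ).symm.trans hm
    have hm0 : m ≠ 0 := by rw [← he]; positivity
    have hlt : v < padicValInt p m := by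
      have h1 : v ≤ padicValInt p m := by
        rw [padicValInt, ← Nat.factorization_def _ hM.1]
        refine (hM.1.pow_dvd_iff_le_factorization (Int.natAbs_ne_zero.2 hm0)).1 ?_
        have := Int.natAbs_dvd_natAbs.2 hmd
        rwa [Int.natAbs_pow, Int.natAbs_natCast] at this
      refine lt_of_le_of_ne h1 fun e => ?_
      have hu := hiff.2 ⟨hm0, e.symm⟩
      rw [omegaR_regElt_mem_iff hM hB hχ hχ, not_ne_iff, hheight] at hu
      exact h hu
    have h2 : (p : ℤ) ^ ((a - d) + (t + 1)) ∣ m := by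
      have h3 : p ^ ((a - d) + (t + 1)) ∣ m.natAbs := by
        refine (hM.1.pow_dvd_iff_le_factorization (Int.natAbs_ne_zero.2 hm0)).2 ?_
        rw [padicValInt, ← Nat.factorization_def _ hM.1] at hlt
        omega
      have := Int.natCast_dvd.2 h3
      exact_mod_cast this
    rw [← he, pow_add] at h2
    exact (mul_dvd_mul_iff_left (pow_pos hp0 _).ne').1 h2
  choose s hs using hrow
  -- a height zero entry is not zero
  obtain ⟨ψ, hψ, hψ0⟩ := exists_heightZero hM hB
  have hψne : r ψ ≠ 0 := by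
    intro h0
    obtain ⟨n, hn, hn0, -⟩ := (blockHeight_zero_iff_mult hM hB hψ hχ).1 hψ0
    refine hn0 ?_
    have := (hsym ψ).symm.trans (hr ψ)
    rw [hn, map_intCast, h0, mul_zero] at this
    exact_mod_cast this
  have hψχ : ψ ≠ χ := fun e => by rw [e, hheight] at hψ0; exact h hψ0
  have hstrict : r χ ^ 2 < (p : ℤ) ^ d * r χ := by
    rw [← hsum, ← Finset.add_sum_erase _ _ (Finset.mem_filter.2
      ⟨Finset.mem_univ _, hχ⟩ : χ ∈ Finset.univ.filter (· ∈ B))]
    have : 0 < ∑ φ ∈ (Finset.univ.filter (· ∈ B)).erase χ, r φ ^ 2 :=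
      Finset.sum_pos' (fun _ _ => sq_nonneg _) ⟨ψ, Finset.mem_erase.2
        ⟨hψχ, Finset.mem_filter.2 ⟨Finset.mem_univ _, hψ⟩⟩, by positivity⟩
    linarith
  have hlt2 : r χ < (p : ℤ) ^ d := by nlinarith
  have hle1 : (p : ℤ) ^ (t + 1) ≤ r χ := Int.le_of_dvd hpos hdiag
  have hpow : p ^ (t + 1) < p ^ d := by exact_mod_cast lt_of_le_of_lt hle1 hlt2
  have := (Nat.pow_lt_pow_iff_right hM.1.one_lt).1 hpow
  omega

/-! ## Restriction to an inducing subgroup -/

theorem omegaR_regElt_restrict {H : Subgroup G} [Fintype H] {b : Set (IrrCharacter H)}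
    {B : Set (IrrCharacter G)} (hind : IsInducedBlock M H b B) {ψ : IrrCharacter H} (hψ : ψ ∈ b)
    {φ : IrrCharacter G} (hφ : φ ∈ B) {χ : G → ℂ} (hχ : IsCharacter G χ) :
    MemLocalIdeal M (omegaR ψ (regElt M p (fun h : H => χ h) (IsCharacter.restrict hχ H)) -
      omegaR φ (regElt M p χ hχ)) := by
  rw [← restrictElt_regElt]
  exact isInducedBlock_omegaR hind hψ hφ (isClassElt_regElt hχ)

/-- Restricted truncations see exactly the height zero characters of the induced block. -/
theorem restrict_mult_congr (hM : IsPModular p M) {H : Subgroup G} [Fintype H]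
    {b : Set (IrrCharacter H)} {B₀ : Set (IrrCharacter G)} (hind : IsInducedBlock M H b B₀)
    (χ : IrrCharacter G) {ψ : IrrCharacter H} (hψ : ψ ∈ b) :
    MemLocalIdeal M (classInner (regTr p fun h : H => (χ : G → ℂ) h) (ψ : H → ℂ) /
        (ψ : H → ℂ) 1) ↔ ¬ (χ ∈ B₀ ∧ blockHeight p B₀ (χ : G → ℂ) = 0) := by
  have hres := IsCharacter.restrict (irr_isCharacter χ) H
  rw [classInner_regTr_eq hM hres ψ]
  have e : omegaR ψ (regElt M p (fun h : H => (χ : G → ℂ) h) hres) * (ψ : H → ℂ) 1 *
      (ordPrime p H : ℂ)⁻¹ / (ψ : H → ℂ) 1 =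
      (ordPrime p H : ℂ)⁻¹ * omegaR ψ (regElt M p (fun h : H => (χ : G → ℂ) h) hres) := by
    have := irr_one_ne_zero ψ
    field_simp
  rw [e]
  obtain ⟨φ, hφ⟩ := isPBlock_nonempty hind.2.1
  have hc := omegaR_regElt_restrict (p := p) hind hψ hφ (irr_isCharacter χ)
  have hg : (ordPrime p H : ℂ) ≠ 0 := Nat.cast_ne_zero.2 ordPrime_ne_zero
  have hiff : MemLocalIdeal M ((ordPrime p H : ℂ)⁻¹ *
      omegaR ψ (regElt M p (fun h : H => (χ : G → ℂ) h) hres)) ↔
      MemLocalIdeal M (omegaR φ (regElt M p (χ : G → ℂ) (irr_isCharacter χ))) := by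
    constructor
    · intro h
      have h1 := MemLocalIdeal.mul_left
        (mem_locRing.1 (natCast_mem (locRing M) (ordPrime p H))) h
      rw [mul_inv_cancel_left₀ hg] at h1
      have := MemLocalIdeal.sub h1 hc
      simpa using this
    · intro h
      refine MemLocalIdeal.mul_left (inv_ordPrime_mem hM) ?_
      have := MemLocalIdeal.add hc h
      simpa using this
  rw [hiff]
  by_cases hχ : χ ∈ B₀
  · rw [omegaR_regElt_mem_iff hM hind.2.1 hχ hφ]
    exact ⟨fun h hc => h hc.2, fun h e => h ⟨hχ, e⟩⟩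
  · refine iff_of_true ?_ fun h => hχ h.1
    have h0 := classInner_regTr_eq hM (irr_isCharacter χ) φ
    rw [regTr_orth hM fun h => hχ (isPBlock_mem_of_sameBlock hind.2.1 hφ (sameBlock_symm h))] at h0
    have hW : omegaR φ (regElt M p (χ : G → ℂ) (irr_isCharacter χ)) = 0 := by
      rcases mul_eq_zero.1 h0.symm with h1 | h1
      · exact (mul_eq_zero.1 h1).resolve_right (irr_one_ne_zero φ)
      · exact absurd h1 (inv_ne_zero (Nat.cast_ne_zero.2 ordPrime_ne_zero))
    rw [hW]
    exact memLocalIdeal_zero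

end Cfsg.Agent.Blocks
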