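/-
Consequences of the height congruences: block parts of induced characters, Okuyama's criterion,
real characters of odd degree.
-/
import Cfsg.Agent.Lib.Blocks.Heights
import Cfsg.Agent.Lib.Blocks.Real

set_option linter.unusedSectionVars false
set_option linter.style.haveILetI false

namespace Cfsg.Agent.Blocks

open Cfsg Cfsg.Agent.Char MonoidAlgebra
open scoped ComplexConjugate

universe u

variable {G : Type u} [Group G] [Fintype G] {p : ℕ} {M : Ideal AlgInt} [M.IsPrime]

theorem blockPart_indFun_one {B : Set (IrrCharacter G)} (hB : IsPBlock M B) (H : Subgroup G)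
    [Fintype H] (ξ : IrrCharacter H) :
    blockPart B (indFun H (ξ : H → ℂ)) 1 =
      indFun H (ξ : H → ℂ) 1 * omegaR ξ (restrictElt H (blockEltR M B)) := by
  classical
  have hξ := irr_one_ne_zero ξ
  have hG : (Nat.card G : ℂ) ≠ 0 := Nat.cast_ne_zero.2 Nat.card_pos.ne'
  have hH : (Nat.card H : ℂ) ≠ 0 := Nat.cast_ne_zero.2 Nat.card_pos.ne'
  have hone : indFun H (ξ : H → ℂ) 1 = (Nat.card H : ℂ)⁻¹ * ((Nat.card G : ℂ) * (ξ : H → ℂ) 1) := by
    simp [indFun, extendByZero_one, Nat.card_eq_fintype_card]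
  rw [blockPart_eq_sum, omega_eq_sum_div, hone]
  simp only [coeff_restrictElt, coeff_blockEltR hB, blockCoeff_eq_sum]
  have hl : ∀ χ : IrrCharacter G, classInner (indFun H (ξ : H → ℂ)) (χ : G → ℂ) =
      (Nat.card H : ℂ)⁻¹ * ∑ h : H, (ξ : H → ℂ) h * conj ((χ : G → ℂ) h) := fun χ => by
    rw [classInner_indFun_left H _ (IsCharacter.isClassFunction (irr_isCharacter χ))]
    rfl
  simp only [hl, Finset.mul_sum, Finset.sum_mul, Finset.sum_div]
  rw [Finset.sum_comm]
  refine Finset.sum_congr rfl fun h _ => Finset.sum_congr rfl fun χ _ => ?_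
  field_simp

theorem isCharacter_exists_deg {χ : G → ℂ} (hχ : IsCharacter G χ) :
    χ 1 = (charDegree χ : ℂ) := by
  obtain ⟨n, hn⟩ := IsCharacter.exists_degree hχ
  simp [charDegree, hn]

theorem blockPart_indFun_degree (hM : IsPModular p M) {H : Subgroup G} [Fintype H]
    {b : Set (IrrCharacter H)} {B₀ : Set (IrrCharacter G)} (hind : IsInducedBlock M H b B₀)
    {ξ : IrrCharacter H} (hξ : ξ ∈ b) {B : Set (IrrCharacter G)} (hB : IsPBlock M B) :
    ∃ n : ℕ, blockPart B (indFun H (ξ : H → ℂ)) 1 = (n : ℂ) ∧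
      (B = B₀ → n ≠ 0 ∧ n.factorization p =
        (charDegree (indFun H (ξ : H → ℂ))).factorization p) ∧
      (B ≠ B₀ → n = 0 ∨
        (charDegree (indFun H (ξ : H → ℂ))).factorization p < n.factorization p) := by
  classical
  have hI : IsCharacter G (indFun H (ξ : H → ℂ)) := isCharacter_indFun H (irr_isCharacter ξ)
  choose N hN using fun χ : IrrCharacter G =>
    IsCharacter.exists_classInner_nat hI (irr_isCharacter χ)
  refine ⟨∑ χ ∈ Finset.univ.filter (· ∈ B), N χ * charDegree (χ : G → ℂ), ?_⟩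
  have he : blockPart B (indFun H (ξ : H → ℂ)) 1 =
      ((∑ χ ∈ Finset.univ.filter (· ∈ B), N χ * charDegree (χ : G → ℂ) : ℕ) : ℂ) := by
    rw [blockPart_eq_sum, Nat.cast_sum]
    exact Finset.sum_congr rfl fun χ _ => by rw [hN, irr_one_eq_charDegree, Nat.cast_mul]
  set n := ∑ χ ∈ Finset.univ.filter (· ∈ B), N χ * charDegree (χ : G → ℂ) with hn
  set D := charDegree (indFun H (ξ : H → ℂ)) with hD
  have hDne : indFun H (ξ : H → ℂ) 1 ≠ 0 := by
    simp only [indFun]
    simpa [extendByZero_one, Nat.card_pos.ne'] using irr_one_ne_zero ξ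
  have hD1 : indFun H (ξ : H → ℂ) 1 = (D : ℂ) := isCharacter_exists_deg hI
  have hD0 : D ≠ 0 := fun h => hDne (by rw [hD1, h, Nat.cast_zero])
  have hW : omegaR ξ (restrictElt H (blockEltR M B)) = (n : ℂ) / (D : ℂ) := by
    rw [← he, blockPart_indFun_one hB, hD1, mul_div_cancel_left₀ _ (Nat.cast_ne_zero.2 hD0)]
  obtain ⟨χ₀, hχ₀⟩ := isPBlock_nonempty hind.2.1
  have hc := isInducedBlock_omegaR hind hξ hχ₀ (isClassElt_blockEltR (M := M) B)
  rw [hW, omegaR_blockEltR hB] at hc
  refine ⟨he, fun hBB => ?_, fun hne => ?_⟩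
  · subst hBB
    rw [if_pos hχ₀] at hc
    have hu : ¬ MemLocalIdeal M ((n : ℂ) / (D : ℂ)) := fun h =>
      not_memLocalIdeal_one (M := M) (by simpa using MemLocalIdeal.sub h hc)
    have hn0 : n ≠ 0 := fun h => hu (by rw [h]; simpa using memLocalIdeal_zero (M := M))
    refine ⟨hn0, le_antisymm (not_lt.1 fun hlt => hu (memLocalIdeal_natDiv hM hlt)) ?_⟩
    refine (memLocalRing_natDiv_iff hM hD0 hn0).1 ?_
    rw [← hW]
    exact omegaR_memLocalRing ξ (IsClassElt.restrictElt (isClassElt_blockEltR B) H)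
  · rw [if_neg (fun h => hne (isPBlock_eq_of_mem hB hind.2.1 h hχ₀)), sub_zero] at hc
    by_contra hcon
    push Not at hcon
    exact not_memLocalIdeal_natDiv hM hD0 hcon.1 hcon.2 hc

theorem exists_restrict_ne_zero (hM : IsPModular p M) {H : Subgroup G} [Fintype H]
    {b : Set (IrrCharacter H)} {B : Set (IrrCharacter G)} (hind : IsInducedBlock M H b B)
    {ξ : IrrCharacter H} (hξ : ξ ∈ b) :
    ∃ χ ∈ B, classInner (fun h : H => (χ : G → ℂ) h) (ξ : H → ℂ) ≠ 0 := by
  classical
  obtain ⟨n, hn, h1, -⟩ := blockPart_indFun_degree hM hind hξ hind.2.1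
  by_contra hne
  push Not at hne
  refine (h1 rfl).1 ?_
  have h0 : blockPart B (indFun H (ξ : H → ℂ)) 1 = 0 := by
    rw [blockPart_eq_sum]
    refine Finset.sum_eq_zero fun χ hχ => ?_
    rw [classInner_indFun_left H _ (IsCharacter.isClassFunction (irr_isCharacter χ)),
      ← classInner_conj_symm, hne χ (Finset.mem_filter.1 hχ).2, map_zero, zero_mul]
  rw [h0] at hn
  exact_mod_cast hn.symm

theorem exists_heightZero_constituent (hM : IsPModular p M) {H : Subgroup G} [Fintype H]
    {b : Set (IrrCharacter H)} {B : Set (IrrCharacter G)} (hind : IsInducedBlock M H b B)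
    {χ : IrrCharacter G} (hχ : χ ∈ B) (h0 : blockHeight p B (χ : G → ℂ) = 0) :
    ∃ ξ ∈ b, blockHeight p b (ξ : H → ℂ) = 0 ∧
      ∃ n : ℕ, classInner (fun h : H => (χ : G → ℂ) h) (ξ : H → ℂ) = (n : ℂ) ∧ ¬ p ∣ n := by
  classical
  obtain ⟨ψ, hψ⟩ := isPBlock_nonempty hind.1
  have hres : IsCharacter H (fun h : H => (χ : G → ℂ) h) :=
    IsCharacter.restrict (irr_isCharacter χ) H
  choose N hN using fun η : IrrCharacter H =>
    IsCharacter.exists_classInner_nat hres (irr_isCharacter η)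
  have hu := restrict_mult_congr hM hind χ hψ
  have hnot : ¬ MemLocalIdeal M (classInner (regTr p fun h : H => (χ : G → ℂ) h) (ψ : H → ℂ) /
      (ψ : H → ℂ) 1) := fun h => hu.1 h ⟨hχ, h0⟩
  by_contra hcon
  push Not at hcon
  refine hnot ?_
  have hlin : regTr p (fun h : H => (χ : G → ℂ) h) =
      ∑ η : IrrCharacter H, (N η : ℂ) • regTr p (η : H → ℂ) := by
    funext x
    have hx : (χ : G → ℂ) x = ∑ η : IrrCharacter H, (N η : ℂ) * (η : H → ℂ) x := by
      have := congrFun (IsCharacter.eq_sum hres) x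
      simp only [Finset.sum_apply, Pi.smul_apply, smul_eq_mul, hN] at this
      exact this
    simp only [Finset.sum_apply, Pi.smul_apply, smul_eq_mul, regTr]
    split_ifs
    · simp
    · rw [hx, Finset.mul_sum]
      exact Finset.sum_congr rfl fun η _ => by ring
  rw [hlin, classInner_sum_left, Finset.sum_div]
  refine memLocalIdeal_sum _ _ fun η _ => ?_
  rw [classInner_smul_left, mul_div_assoc]
  by_cases hη : η ∈ b
  · have hval : classInner (regTr p (η : H → ℂ)) (ψ : H → ℂ) / (ψ : H → ℂ) 1 =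
        omegaR ψ (regElt M p (η : H → ℂ) (irr_isCharacter η)) * (ordPrime p H : ℂ)⁻¹ := by
      rw [classInner_regTr_eq hM (irr_isCharacter η) ψ]
      have := irr_one_ne_zero ψ
      field_simp
    rw [hval]
    by_cases hη0 : blockHeight p b (η : H → ℂ) = 0
    · exact MemLocalIdeal.mul_right ((natCast_memLocalIdeal_iff hM _).2
        (hcon η hη hη0 _ (hN η))) (mem_locRing.1 ((locRing M).mul_mem
          (omegaR_memLocalRing ψ (isClassElt_regElt _)) (inv_ordPrime_mem hM)))
    · exact MemLocalIdeal.mul_left (mem_locRing.1 (natCast_mem (locRing M) _))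
        (MemLocalIdeal.mul_right ((omegaR_regElt_mem_iff hM hind.1 hη hψ).2 hη0)
          (inv_ordPrime_mem hM))
  · rw [regTr_orth hM fun h => hη (isPBlock_mem_of_sameBlock hind.1 hψ (sameBlock_symm h))]
    simpa using memLocalIdeal_zero (M := M)

/-- Okuyama's criterion. -/
theorem induced_iff_of_restrict_irr (hM : IsPModular p M) {H : Subgroup G} [Fintype H]
    (χ : IrrCharacter G) (hres : IsIrrCharacter H (fun h : H => (χ : G → ℂ) h))
    (hχ0 : blockHeight p (blockOf M (χ : G → ℂ)) (χ : G → ℂ) = 0)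
    (hψ0 : blockHeight p (blockOf M (fun h : H => (χ : G → ℂ) h))
      (fun h : H => (χ : G → ℂ) h) = 0)
    {e : Set (IrrCharacter H)} (he : InducedBlockDefined M H e) :
    IsInducedBlock M H e (blockOf M (χ : G → ℂ)) ↔
      e = blockOf M (fun h : H => (χ : G → ℂ) h) := by
  classical
  set ψ₀ : IrrCharacter H := ⟨_, hres⟩ with hψ₀
  constructor
  · intro hind
    obtain ⟨ψ, hψ⟩ := isPBlock_nonempty hind.1
    by_contra hne
    have hn : ¬ SameBlock M (ψ₀ : H → ℂ) (ψ : H → ℂ) := fun h => hne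
      (isPBlock_eq_of_mem hind.1 (isPBlock_blockOf ψ₀) hψ
        (show ψ ∈ blockOf M (ψ₀ : H → ℂ) from h))
    refine (restrict_mult_congr hM hind χ hψ).1 ?_ ⟨self_mem_blockOf χ, hχ0⟩
    show MemLocalIdeal M (classInner (regTr p (ψ₀ : H → ℂ)) (ψ : H → ℂ) / (ψ : H → ℂ) 1)
    rw [regTr_orth hM hn, zero_div]
    exact memLocalIdeal_zero
  · rintro rfl
    obtain ⟨B, hind⟩ := he
    have hmem : ψ₀ ∈ blockOf M (ψ₀ : H → ℂ) := self_mem_blockOf ψ₀
    have hu : χ ∈ B ∧ blockHeight p B (χ : G → ℂ) = 0 := by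
      by_contra hcon
      have h1 := (restrict_mult_congr hM hind χ (ψ := ψ₀) hmem).2 hcon
      rw [classInner_regTr_eq hM (IsCharacter.restrict (irr_isCharacter χ) H) ψ₀] at h1
      have e1 : omegaR ψ₀ (regElt M p (fun h : H => (χ : G → ℂ) h)
          (IsCharacter.restrict (irr_isCharacter χ) H)) * (ψ₀ : H → ℂ) 1 *
          (ordPrime p H : ℂ)⁻¹ / (ψ₀ : H → ℂ) 1 = (ordPrime p H : ℂ)⁻¹ *
          omegaR ψ₀ (regElt M p (ψ₀ : H → ℂ) (irr_isCharacter ψ₀)) := by
        have := irr_one_ne_zero ψ₀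
        field_simp
        rfl
      rw [e1] at h1
      have h2 := MemLocalIdeal.mul_left
        (mem_locRing.1 (natCast_mem (locRing M) (ordPrime p H))) h1
      rw [mul_inv_cancel_left₀ (Nat.cast_ne_zero.2 ordPrime_ne_zero)] at h2
      exact (omegaR_regElt_mem_iff hM hind.1 hmem hmem).1 h2 hψ0
    rwa [← isPBlock_eq_blockOf hind.2.1 hu.1]

theorem blockHeight_one (hM : IsPModular p M) :
    blockHeight p (blockOf M (fun _ : G => (1 : ℂ))) (fun _ : G => (1 : ℂ)) = 0 := by
  rw [blockHeight]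
  simp [charDegree]

/-- Real irreducible characters of odd degree: their number. -/
theorem card_real_odd_le (hM : IsPModular 2 M) :
    Nat.card {χ : IrrCharacter G // (∀ g : G, ((χ : G → ℂ) g).im = 0) ∧
      Odd (charDegree (χ : G → ℂ))} ≤ 2 ^ (2 * (Nat.card G).factorization 2) := by
  classical
  have hB := isPBlock_principalBlock M G
  have h1 := card_block_le hM hB
  have h2 : blockDefect 2 (principalBlock M G) ≤ (Nat.card G).factorization 2 := blockDefect_le _
  have hle : Nat.card {χ : IrrCharacter G // (∀ g : G, ((χ : G → ℂ) g).im = 0) ∧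
      Odd (charDegree (χ : G → ℂ))} ≤ Nat.card (principalBlock M G) :=
    Nat.card_le_card_of_injective
      (fun χ => ⟨χ.1, real_odd_mem_principal hM (fun g => Complex.conj_eq_iff_im.2 (χ.2.1 g))
        (fun h => (Nat.not_even_iff_odd.2 χ.2.2) (even_iff_two_dvd.2 h))⟩)
      (fun a b h => Subtype.ext (congrArg (fun z : principalBlock M G => (z : IrrCharacter G)) h))
  have h3 : 2 ^ (2 * blockDefect 2 (principalBlock M G)) ≤
      2 ^ (2 * (Nat.card G).factorization 2) := Nat.pow_le_pow_right two_pos (by omega)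
  have h4 : 1 ≤ 2 ^ (2 * (Nat.card G).factorization 2) := Nat.one_le_two_pow
  omega

end Cfsg.Agent.Blocks
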