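/-
Normal p'-subgroups in the kernels of blocks; groups with a normal p-complement.
-/
import Cfsg.Agent.Lib.Blocks.Degree
import Cfsg.Agent.Lib.Blocks.Induced
import Cfsg.Agent.Lib.Char.Degree

set_option linter.unusedSectionVars false
set_option linter.style.haveILetI false

namespace Cfsg.Agent.Blocks

open Cfsg Cfsg.Agent.Char MonoidAlgebra

universe u

variable {G : Type u} [Group G] [Fintype G] {p : ℕ} {M : Ideal AlgInt} [M.IsPrime]

theorem trivialOn_of_sameBlock (hM : IsPModular p M) (N : Subgroup G) [N.Normal]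
    (hN : ¬ p ∣ Nat.card N) {χ ψ : IrrCharacter G} (h : SameBlock M (χ : G → ℂ) (ψ : G → ℂ))
    (hχ : ∀ n ∈ N, (χ : G → ℂ) n = (χ : G → ℂ) 1) : ∀ n ∈ N, (ψ : G → ℂ) n = (ψ : G → ℂ) 1 := by
  classical
  let c : locRing M := ⟨(Nat.card N : ℂ)⁻¹, inv_natCast_memLocalRing hM hN⟩
  let e : MonoidAlgebra (locRing M) G := gaOfFun fun x => if x ∈ N then c else 0
  have he : IsClassElt e := isClassElt_gaOfFun fun g k => by
    refine if_congr ⟨fun hg => ?_, fun hg => Subgroup.Normal.conj_mem inferInstance g hg k⟩ rfl rfl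
    simpa [mul_assoc] using Subgroup.Normal.conj_mem inferInstance _ hg k⁻¹
  have hval : ∀ φ : IrrCharacter G, omegaR φ e =
      (Nat.card N : ℂ)⁻¹ * (∑ n : N, (φ : G → ℂ) n) / (φ : G → ℂ) 1 := by
    intro φ
    rw [omega_eq_sum_div, Finset.mul_sum,
      ← Finset.sum_subtype (Finset.univ.filter (· ∈ N)) (by simp)
        (fun x => (Nat.card N : ℂ)⁻¹ * (φ : G → ℂ) x), Finset.sum_filter]
    congr 1
    refine Finset.sum_congr rfl fun x _ => ?_
    simp only [e, coeff_gaOfFun]
    by_cases hx : x ∈ N <;> simp [hx, c]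
  by_contra hne
  push Not at hne
  obtain ⟨d, ρ, hρ, hd⟩ := ψ.2
  have h0 : omegaR ψ e = 0 := by
    rw [hval]
    have := Cfsg.Agent.CharX.sum_coset_eq_zero ψ.2 N hne 1
    simp only [one_mul] at this
    rw [this, mul_zero, zero_div]
  have h1 : omegaR χ e = 1 := by
    rw [hval, Finset.sum_congr rfl fun (n : N) _ => hχ n n.2, Finset.sum_const, Finset.card_univ,
      ← Nat.card_eq_fintype_card, nsmul_eq_mul, ← mul_assoc,
      inv_mul_cancel₀ (Nat.cast_ne_zero.2 Nat.card_pos.ne'), one_mul,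
      div_self (irr_one_ne_zero χ)]
  have h2 := omegaR_congr h he
  rw [h0, h1, sub_zero] at h2
  exact not_memLocalIdeal_one h2

theorem sameBlock_deflate (hM : IsPModular p M) (N : Subgroup G) [N.Normal] [Fintype (G ⧸ N)]
    (hN : ¬ p ∣ Nat.card N) (χ' ψ' : IrrCharacter (G ⧸ N))
    (h : SameBlock M (Cfsg.Agent.CharX.infl N χ' : G → ℂ) (Cfsg.Agent.CharX.infl N ψ' : G → ℂ)) :
    SameBlock M (χ' : G ⧸ N → ℂ) (ψ' : G ⧸ N → ℂ) := by
  classical
  intro q
  let c : locRing M := ⟨(Nat.card N : ℂ)⁻¹, inv_natCast_memLocalRing hM hN⟩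
  let Y : MonoidAlgebra (locRing M) G :=
    gaOfFun fun x => if IsConj q (x : G ⧸ N) then c else 0
  have hY : IsClassElt Y := isClassElt_gaOfFun fun g k => by
    refine if_congr ?_ rfl rfl
    rw [QuotientGroup.mk_mul, QuotientGroup.mk_mul, QuotientGroup.mk_inv]
    exact isConj_conj_iff _ _ _
  have hval : ∀ φ : IrrCharacter (G ⧸ N),
      omegaR (Cfsg.Agent.CharX.infl N φ) Y = centralChar (φ : G ⧸ N → ℂ) q := by
    intro φ
    rw [← omega_classSum, omega, omega_eq_sum_div]
    simp only [Cfsg.Agent.CharX.infl_apply]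
    congr 1
    rw [← Finset.sum_fiberwise Finset.univ (fun x : G => (x : G ⧸ N))]
    refine Finset.sum_congr rfl fun r _ => ?_
    have hcard : (Finset.univ.filter fun x : G => (x : G ⧸ N) = r).card = Nat.card N := by
      obtain ⟨g, rfl⟩ := QuotientGroup.mk_surjective r
      rw [Nat.card_eq_fintype_card, ← Finset.card_univ]
      refine Finset.card_bij' (fun x hx => (⟨g⁻¹ * x, ?_⟩ : N)) (fun n _ => g * n)
        (fun _ _ => Finset.mem_univ _) (fun n _ => ?_) (fun x _ => ?_) (fun n _ => Subtype.ext ?_)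
      · exact QuotientGroup.eq.1 ((Finset.mem_filter.1 hx).2).symm
      · exact Finset.mem_filter.2 ⟨Finset.mem_univ _, (QuotientGroup.eq.2 (by simp)).symm⟩
      · simp
      · simp
    rw [Finset.sum_congr rfl (g := fun _ => (if IsConj q r then (c : ℂ) else 0) *
      (φ : G ⧸ N → ℂ) r) (fun x hx => ?_), Finset.sum_const, hcard, nsmul_eq_mul,
      ← mul_assoc, coeff_classSum]
    · congr 1
      split_ifs <;> simp [c, Nat.card_pos.ne']
    · have hx' : (x : G ⧸ N) = r := (Finset.mem_filter.1 hx).2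
      simp only [Y, coeff_gaOfFun, hx']
      split_ifs <;> simp
  have h2 := omegaR_congr h hY
  rwa [hval, hval] at h2

/-- With a normal p-complement the principal block is the set of characters trivial on it. -/
theorem principalBlock_eq_trivialOn (hM : IsPModular p M) (N : Subgroup G) [N.Normal]
    (hN : ¬ p ∣ Nat.card N) (hidx : ∃ k, N.index = p ^ k) :
    principalBlock M G = {χ : IrrCharacter G | ∀ n ∈ N, (χ : G → ℂ) n = (χ : G → ℂ) 1} := by
  classical
  haveI := Fact.mk hM.1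
  set A : Set (IrrCharacter G) := {χ | ∀ n ∈ N, (χ : G → ℂ) n = (χ : G → ℂ) 1} with hA
  have hB := isPBlock_principalBlock M G
  have hsub : principalBlock M G ⊆ A := fun χ hχ =>
    trivialOn_of_sameBlock hM N hN (χ := principal G) (ψ := χ) hχ fun _ _ => rfl
  obtain ⟨P⟩ : Nonempty (Sylow p G) := inferInstance
  choose m hm using exists_sum_subgroup_eq (P : Subgroup G)
  have h1 := blockCoeff_eq_regular hM hB (k := (1 : G)) P.isPGroup'
    (by simpa using hM.1.ne_one) m hm
  rw [blockCoeff_eq_sum] at h1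
  have hG : (Nat.card G : ℂ) ≠ 0 := Nat.cast_ne_zero.2 Nat.card_pos.ne'
  simp only [irr_one_eq_charDegree, map_natCast] at h1
  rw [div_eq_inv_mul, mul_assoc] at h1
  have h2 := mul_left_cancel₀ (inv_ne_zero hG) h1
  have hdvd : Nat.card (P : Subgroup G) ∣
      ∑ χ ∈ Finset.univ.filter (· ∈ principalBlock M G), charDegree (χ : G → ℂ) ^ 2 := by
    refine ⟨∑ χ ∈ Finset.univ.filter (· ∈ principalBlock M G), charDegree (χ : G → ℂ) * m χ, ?_⟩
    rw [← Nat.cast_inj (R := ℂ)]
    push_cast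
    simpa [pow_two] using h2
  have hpos : 0 < ∑ χ ∈ Finset.univ.filter (· ∈ principalBlock M G), charDegree (χ : G → ℂ) ^ 2 :=
    Finset.sum_pos (fun ψ _ => pow_pos (charDegree_pos ψ) 2)
      ⟨principal G, Finset.mem_filter.2 ⟨Finset.mem_univ _, principal_mem_principalBlock⟩⟩
  have hA2 : ∑ χ ∈ Finset.univ.filter (· ∈ A), charDegree (χ : G → ℂ) ^ 2 = N.index := by
    haveI : Fintype (G ⧸ N) := Fintype.ofFinite _
    rw [Cfsg.Agent.CharX.sum_trivialOn' N (Finset.univ.filter (· ∈ A)) (fun χ => by simp [hA])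
      (fun f => charDegree f ^ 2), Subgroup.index, ← Cfsg.Agent.CharX.sum_deg_sq (G := G ⧸ N)]
    exact Finset.sum_congr rfl fun χ _ => rfl
  obtain ⟨k, hk⟩ := hidx
  have hle : N.index ≤ Nat.card (P : Subgroup G) := by
    rw [hk, Sylow.card_eq_multiplicity]
    refine Nat.pow_le_pow_right hM.1.pos ((hM.1.pow_dvd_iff_le_factorization Nat.card_pos.ne').1 ?_)
    rw [← hk]
    exact Subgroup.index_dvd_card _
  refine Set.Subset.antisymm hsub fun χ hχ => ?_
  by_contra hne
  have hlt : ∑ φ ∈ Finset.univ.filter (· ∈ principalBlock M G), charDegree (φ : G → ℂ) ^ 2 <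
      ∑ φ ∈ Finset.univ.filter (· ∈ A), charDegree (φ : G → ℂ) ^ 2 :=
    Finset.sum_lt_sum_of_subset
      (fun φ hφ => Finset.mem_filter.2 ⟨Finset.mem_univ _, hsub (Finset.mem_filter.1 hφ).2⟩)
      (Finset.mem_filter.2 ⟨Finset.mem_univ _, hχ⟩)
      (fun h => hne (Finset.mem_filter.1 h).2)
      (pow_pos (charDegree_pos χ) 2) (fun _ _ _ => Nat.zero_le _)
  rw [hA2] at hlt
  have := Nat.le_of_dvd hpos hdvd
  omega

end Cfsg.Agent.Blocks
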