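/-
The second main theorem on blocks.
-/
import Cfsg.Agent.Lib.Blocks.HeightsApp
import Cfsg.Agent.Lib.Blocks.Section
import Cfsg.Agent.Lib.Blocks.KernelBlock

set_option linter.unusedSectionVars false
set_option linter.style.haveILetI false

namespace Cfsg.Agent.Blocks

open Cfsg Cfsg.Agent.Char MonoidAlgebra
open scoped ComplexConjugate

universe u

variable {G : Type u} [Group G] [Fintype G] {p : ℕ} {M : Ideal AlgInt} [M.IsPrime]

/-! ## Projections on the regular elements -/

theorem blockPair_regular_singular (hM : IsPModular p M) {B : Set (IrrCharacter G)}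
    (hB : IsPBlock M B) {u w : G} (hu : ¬ p ∣ orderOf u) (hw : p ∣ orderOf w) :
    blockPair B u w = 0 := by
  obtain ⟨b, hb⟩ := exists_isPPart hM.1 w
  refine blockPair_eq_zero_of_pPart hM hB ((isPPart_one_iff hM.1).2 hu) hb fun h => ?_
  rw [isConj_one_right.1 h] at hb
  exact (isPPart_one_iff hM.1).1 hb hw

theorem sum_blockPair_mul (B B' : Set (IrrCharacter G)) (h : B = B' ∨ Disjoint B B') (u v : G)
    [Decidable (B = B')] :
    ∑ w : G, blockPair B u w * blockPair B' w v =
      if B = B' then (Nat.card G : ℂ) * blockPair B u v else 0 := by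
  classical
  have hG : (Nat.card G : ℂ) ≠ 0 := Nat.cast_ne_zero.2 Nat.card_pos.ne'
  have key : ∀ φ ψ : IrrCharacter G, ∑ w : G, conj ((φ : G → ℂ) w) * (ψ : G → ℂ) w =
      if φ = ψ then (Nat.card G : ℂ) else 0 := by
    intro φ ψ
    have h1 : classInner (ψ : G → ℂ) (φ : G → ℂ) = if φ = ψ then 1 else 0 := by
      by_cases e : φ = ψ
      · rw [if_pos e, e, classInner_self_irr ψ.2]
      · rw [if_neg e, classInner_irr_of_ne ψ.2 φ.2 fun h => e (Subtype.ext h.symm)]
    unfold classInner at h1
    have := congrArg (fun z => (Nat.card G : ℂ) * z) h1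
    simp only [← mul_assoc, mul_inv_cancel₀ hG, one_mul, mul_ite, mul_one, mul_zero] at this
    rw [← this]
    exact Finset.sum_congr rfl fun w _ => mul_comm _ _
  have e1 : ∑ w : G, blockPair B u w * blockPair B' w v =
      ∑ φ ∈ Finset.univ.filter (· ∈ B), ∑ ψ ∈ Finset.univ.filter (· ∈ B'),
        (φ : G → ℂ) u * conj ((ψ : G → ℂ) v) * if φ = ψ then (Nat.card G : ℂ) else 0 := by
    unfold blockPair
    simp only [← key, Finset.mul_sum, Finset.sum_mul]
    rw [Finset.sum_comm, Finset.sum_comm (s := Finset.univ.filter (· ∈ B))]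
    refine Finset.sum_congr rfl fun ψ _ => ?_
    rw [Finset.sum_comm]
    exact Finset.sum_congr rfl fun φ _ => Finset.sum_congr rfl fun w _ => by ring
  rw [e1]
  by_cases hBB : B = B'
  · subst hBB
    rw [if_pos rfl]
    unfold blockPair
    rw [Finset.mul_sum]
    refine Finset.sum_congr rfl fun φ hφ => ?_
    rw [Finset.sum_eq_single φ (fun ψ _ hne => by rw [if_neg (Ne.symm hne), mul_zero])
      (fun h => absurd hφ h), if_pos rfl]
    ring
  · rw [if_neg hBB]
    refine Finset.sum_eq_zero fun φ hφ => Finset.sum_eq_zero fun ψ hψ => ?_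
    rw [if_neg, mul_zero]
    rintro rfl
    exact Set.disjoint_left.1 (h.resolve_left hBB) (Finset.mem_filter.1 hφ).2
      (Finset.mem_filter.1 hψ).2

/-- A class function is the sum of its block parts. -/
theorem sum_blockPart {f : G → ℂ} (hf : IsClassFunction G f) (g : G) :
    ∑ B ∈ blocks M G, blockPart B f g = f g := by
  classical
  conv_rhs => rw [classFunction_eq_sum hf]
  simp only [blockPart_eq_sum, Finset.sum_filter, Finset.sum_apply, Pi.smul_apply, smul_eq_mul]
  rw [Finset.sum_comm]
  refine Finset.sum_congr rfl fun χ _ => ?_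
  rw [Finset.sum_eq_single (blockOf M (χ : G → ℂ)), if_pos (self_mem_blockOf χ)]
  · intro B hB hne
    rw [if_neg]
    exact fun h => hne (isPBlock_eq_blockOf (mem_blocks.1 hB) h)
  · exact fun h => absurd (mem_blocks.2 (isPBlock_blockOf χ)) h

theorem classInner_blockPart_self (B : Set (IrrCharacter G)) [DecidablePred (· ∈ B)]
    {f : G → ℂ} (hf : IsClassFunction G f) (hB : ∀ χ : IrrCharacter G, χ ∉ B →
      classInner f (χ : G → ℂ) = 0) : blockPart B f = f := by
  funext g
  conv_rhs => rw [classFunction_eq_sum hf]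
  rw [blockPart_eq_sum, Finset.sum_filter, Finset.sum_apply]
  refine Finset.sum_congr rfl fun χ _ => ?_
  simp only [Pi.smul_apply, smul_eq_mul]
  split_ifs with h
  · rfl
  · rw [hB χ h, zero_mul]

/-! ## The centraliser of a p-element -/

theorem centralizer_zpowers_eq (x : G) :
    Subgroup.centralizer (Subgroup.zpowers x : Set G) = Subgroup.centralizer ({x} : Set G) := by
  refine le_antisymm (Subgroup.centralizer_le (by simp)) fun u hu => ?_
  refine Subgroup.mem_centralizer_iff.2 fun q hq => ?_
  obtain ⟨n, rfl⟩ := Subgroup.mem_zpowers_iff.1 hq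
  exact ((show Commute x u from Subgroup.mem_centralizer_iff.1 hu x rfl).zpow_left n).eq

theorem isInducedBlock_unique {H : Subgroup G} [Fintype H] {b : Set (IrrCharacter H)}
    {B B' : Set (IrrCharacter G)} (h : IsInducedBlock M H b B) (h' : IsInducedBlock M H b B') :
    B = B' := by
  classical
  obtain ⟨ξ, hξ⟩ := isPBlock_nonempty h.1
  obtain ⟨χ, hχ⟩ := isPBlock_nonempty h.2.1
  obtain ⟨χ', hχ'⟩ := isPBlock_nonempty h'.2.1
  refine isPBlock_eq_of_mem h.2.1 h'.2.1 (isPBlock_mem_of_sameBlock h.2.1 hχ ?_) hχ'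
  intro g
  have := MemLocalIdeal.sub (h'.2.2 ξ hξ χ' hχ' g) (h.2.2 ξ hξ χ hχ g)
  rwa [sub_sub_sub_cancel_left] at this

/-- For the centraliser of a p-subgroup inducing is occurring in the restricted idempotent. -/
theorem mem_unitBlocks_iff_induced (hM : IsPModular p M) {P C : Subgroup G} [Fintype C]
    (hP : IsPGroup p P) (hC : C = Subgroup.centralizer (P : Set G)) (hPC : P ≤ C)
    {B : Set (IrrCharacter G)} (hB : IsPBlock M B) {b : Set (IrrCharacter C)} :
    b ∈ unitBlocks M (restrictElt C (blockEltR M B)) ↔ IsInducedBlock M C b B := by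
  classical
  have hN : C ≤ Subgroup.normalizer (P : Set G) := by
    intro c hc
    rw [hC] at hc
    refine Subgroup.mem_normalizer_iff.2 fun n => ⟨fun hn => ?_, fun hn => ?_⟩
    · rwa [← (Subgroup.mem_centralizer_iff.1 hc n hn), mul_inv_cancel_right]
    · have h := Subgroup.mem_centralizer_iff.1 (inv_mem hc) _ hn
      have e : c * n * c⁻¹ = n := by
        have : c⁻¹ * (c * n * c⁻¹) * c = c * n * c⁻¹ := by rw [← h, inv_mul_cancel_right]
        simpa [mul_assoc] using this.symm
      rwa [e] at hn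
  have he := isClassElt_blockEltR (M := M) B
  obtain ⟨χ, hχ⟩ := isPBlock_nonempty hB
  constructor
  · intro hb
    obtain ⟨hbb, hbu⟩ := mem_unitBlocks.1 hb
    obtain ⟨ξ, hξ⟩ := isPBlock_nonempty hbb
    obtain ⟨B', hind⟩ := exists_isInducedBlock hM hP hPC hC.ge hN hbb
    obtain ⟨χ', hχ'⟩ := isPBlock_nonempty hind.2.1
    have h1 := MemLocalIdeal.sub (hbu ξ hξ) (isInducedBlock_omegaR hind hξ hχ' he)
    have h3 : χ' ∈ B := mem_of_omegaR_blockEltR hB fun hmem => not_memLocalIdeal_one (M := M) (by
      have := MemLocalIdeal.sub hmem h1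
      simpa using this)
    rwa [← isPBlock_eq_of_mem hind.2.1 hB hχ' h3]
  · intro hind
    refine mem_unitBlocks.2 ⟨hind.1, fun ξ hξ => ?_⟩
    have := isInducedBlock_omegaR hind hξ hχ he
    rwa [omegaR_blockEltR hB, if_pos hχ] at this

/-- The function `c ↦ χ (x c)` on the centraliser of `x`. -/
def secFun (x : G) (C : Subgroup G) (χ : G → ℂ) : C → ℂ := fun c => χ (x * (c : G))

theorem isClassFunction_secFun {x : G} {C : Subgroup G}
    (hC : C = Subgroup.centralizer ({x} : Set G)) {χ : G → ℂ} (hχ : IsClassFunction G χ) :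
    IsClassFunction C (secFun x C χ) := by
  intro c d
  have hd : x * (d : G) = (d : G) * x :=
    Subgroup.mem_centralizer_iff.1 (hC.le d.2) x rfl
  show χ (x * ((d * c * d⁻¹ : C) : G)) = χ (x * (c : G))
  rw [← hχ (x * (c : G)) (d : G)]
  congr 1
  simp only [Subgroup.coe_mul, Subgroup.coe_inv, ← mul_assoc, hd]

theorem blockPart_secFun_pair (hM : IsPModular p M) {x : G} (hx : ∃ k, orderOf x = p ^ k)
    {C : Subgroup G} (hC : C = Subgroup.centralizer ({x} : Set G)) [Fintype C]
    {B : Set (IrrCharacter G)} [DecidablePred (· ∈ B)] (hB : IsPBlock M B)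
    {b : Set (IrrCharacter C)} [Decidable (b ∈ unitBlocks M (restrictElt C (blockEltR M B)))]
    (hb : IsPBlock M b) {u v : C} (hu : ¬ p ∣ orderOf u) (hv : ¬ p ∣ orderOf v) :
    ∑ χ ∈ Finset.univ.filter (· ∈ B),
        blockPart b (secFun x C (χ : G → ℂ)) u * conj ((χ : G → ℂ) (x * (v : G))) =
      if b ∈ unitBlocks M (restrictElt C (blockEltR M B)) then blockPair b u v else 0 := by
  classical
  have hC' : C = Subgroup.centralizer (Subgroup.zpowers x : Set G) := by
    rw [centralizer_zpowers_eq]; exact hC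
  set U := unitBlocks M (restrictElt C (blockEltR M B)) with hU
  have key : ∀ w : C, blockPair b u w *
      (∑ χ ∈ Finset.univ.filter (· ∈ B), (χ : G → ℂ) (x * (w : G)) * conj ((χ : G → ℂ) (x * (v : G)))) =
      ∑ b' ∈ U, blockPair b u w * blockPair b' w v := by
    intro w
    by_cases hw : p ∣ orderOf w
    · rw [blockPair_regular_singular hM hb hu hw, zero_mul]
      simp
    · rw [← Finset.mul_sum]
      congr 1
      have := blockPair_local hM hB x hx C hC' w v hw hv
      refine Eq.trans ?_ this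
      unfold blockPair
      exact Finset.sum_congr (by congr) fun _ _ => rfl
  have hG : (Nat.card C : ℂ) ≠ 0 := Nat.cast_ne_zero.2 Nat.card_pos.ne'
  calc ∑ χ ∈ Finset.univ.filter (· ∈ B),
        blockPart b (secFun x C (χ : G → ℂ)) u * conj ((χ : G → ℂ) (x * (v : G)))
      = (Nat.card C : ℂ)⁻¹ * ∑ w : C, blockPair b u w *
          (∑ χ ∈ Finset.univ.filter (· ∈ B),
            (χ : G → ℂ) (x * (w : G)) * conj ((χ : G → ℂ) (x * (v : G)))) := by
        simp only [blockPart_eq_pair, secFun, Finset.mul_sum, Finset.sum_mul]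
        rw [Finset.sum_comm]
        exact Finset.sum_congr rfl fun w _ => Finset.sum_congr rfl fun χ _ => by ring
    _ = (Nat.card C : ℂ)⁻¹ * ∑ b' ∈ U, ∑ w : C, blockPair b u w * blockPair b' w v := by
        rw [Finset.sum_congr rfl fun w _ => key w, Finset.sum_comm]
    _ = _ := by
        have e : ∀ b' ∈ U, ∑ w : C, blockPair b u w * blockPair b' w v =
            if b = b' then (Nat.card C : ℂ) * blockPair b u v else 0 := fun b' hb' =>
          sum_blockPair_mul b b' (or_iff_not_imp_left.2 fun hne =>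
            isPBlock_disjoint hb (mem_unitBlocks.1 hb').1 hne) u v
        rw [Finset.sum_congr rfl e, Finset.sum_ite_eq, mul_ite, mul_zero]
        split_ifs
        · rw [inv_mul_cancel_left₀ hG]
        · rfl

/-- The inner products of the block parts over a block. -/
theorem blockPart_secFun_gram (hM : IsPModular p M) {x : G} (hx : ∃ k, orderOf x = p ^ k)
    {C : Subgroup G} (hC : C = Subgroup.centralizer ({x} : Set G)) [Fintype C]
    {B : Set (IrrCharacter G)} [DecidablePred (· ∈ B)] (hB : IsPBlock M B)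
    {b : Set (IrrCharacter C)} [Decidable (b ∈ unitBlocks M (restrictElt C (blockEltR M B)))]
    (hb : IsPBlock M b) {u v : C} (hu : ¬ p ∣ orderOf u) (hv : ¬ p ∣ orderOf v) :
    ∑ χ ∈ Finset.univ.filter (· ∈ B),
        blockPart b (secFun x C (χ : G → ℂ)) u * conj (blockPart b (secFun x C (χ : G → ℂ)) v) =
      if b ∈ unitBlocks M (restrictElt C (blockEltR M B)) then blockPair b u v else 0 := by
  classical
  set U := unitBlocks M (restrictElt C (blockEltR M B)) with hU
  have hG : (Nat.card C : ℂ) ≠ 0 := Nat.cast_ne_zero.2 Nat.card_pos.ne'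
  calc ∑ χ ∈ Finset.univ.filter (· ∈ B),
        blockPart b (secFun x C (χ : G → ℂ)) u * conj (blockPart b (secFun x C (χ : G → ℂ)) v)
      = (Nat.card C : ℂ)⁻¹ * ∑ w : C, (∑ χ ∈ Finset.univ.filter (· ∈ B),
          blockPart b (secFun x C (χ : G → ℂ)) u * conj ((χ : G → ℂ) (x * (w : G)))) *
            blockPair b w v := by
        simp only [blockPart_eq_pair b _ v, map_mul, map_inv₀, map_natCast, map_sum,
          blockPair_conj, secFun, Finset.mul_sum, Finset.sum_mul]
        rw [Finset.sum_comm]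
        exact Finset.sum_congr rfl fun w _ => Finset.sum_congr rfl fun χ _ => by ring
    _ = (Nat.card C : ℂ)⁻¹ *
          ∑ w : C, (if b ∈ U then blockPair b u w else 0) * blockPair b w v := by
        congr 1
        refine Finset.sum_congr rfl fun w _ => ?_
        by_cases hw : p ∣ orderOf w
        · rw [← blockPair_conj b v w, blockPair_regular_singular hM hb hv hw, map_zero, mul_zero,
            mul_zero]
        · rw [blockPart_secFun_pair hM hx hC hB hb hu hw]
    _ = _ := by
        split_ifs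
        · rw [sum_blockPair_mul b b (Or.inl rfl), if_pos rfl, inv_mul_cancel_left₀ hG]
        · simp

/-- The second main theorem. -/
theorem blockPart_secFun_eq_zero (hM : IsPModular p M) {x : G} (hx : ∃ k, orderOf x = p ^ k)
    {C : Subgroup G} (hC : C = Subgroup.centralizer ({x} : Set G)) [Fintype C]
    {B : Set (IrrCharacter G)} (hB : IsPBlock M B) {χ : IrrCharacter G} (hχ : χ ∈ B)
    {b : Set (IrrCharacter C)} (hb : IsPBlock M b) (hnot : ¬ IsInducedBlock M C b B)
    {u : C} (hu : ¬ p ∣ orderOf u) : blockPart b (secFun x C (χ : G → ℂ)) u = 0 := by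
  classical
  obtain ⟨k, hk⟩ := hx
  have hU : b ∉ unitBlocks M (restrictElt C (blockEltR M B)) := by
    rw [mem_unitBlocks_iff_induced hM (P := Subgroup.zpowers x)
      (IsPGroup.of_card (n := k) (by rw [Nat.card_zpowers, hk]))
      (by rw [centralizer_zpowers_eq]; exact hC) ?_ hB]
    · exact hnot
    · rw [hC, Subgroup.zpowers_le]
      exact Subgroup.mem_centralizer_iff.2 fun q hq => by rw [Set.mem_singleton_iff.1 hq]
  have h := blockPart_secFun_gram hM ⟨k, hk⟩ hC hB hb hu hu
  rw [if_neg hU] at h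
  simp only [Complex.mul_conj, ← Complex.ofReal_sum, Complex.ofReal_eq_zero] at h
  exact Complex.normSq_eq_zero.1 ((Finset.sum_eq_zero_iff_of_nonneg
    fun _ _ => Complex.normSq_nonneg _).1 h χ (Finset.mem_filter.2 ⟨Finset.mem_univ _, hχ⟩))

theorem zpowers_le_centralizer_self (x : G) :
    Subgroup.zpowers x ≤ Subgroup.centralizer ({x} : Set G) :=
  Subgroup.zpowers_le.2 (Subgroup.mem_centralizer_iff.2 fun q hq => by
    rw [Set.mem_singleton_iff.1 hq])

theorem mem_unitBlocks_iff_induced' (hM : IsPModular p M) {x : G} (hx : ∃ k, orderOf x = p ^ k)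
    {C : Subgroup G} (hC : C = Subgroup.centralizer ({x} : Set G)) [Fintype C]
    {B : Set (IrrCharacter G)} (hB : IsPBlock M B) {b : Set (IrrCharacter C)} :
    b ∈ unitBlocks M (restrictElt C (blockEltR M B)) ↔ IsInducedBlock M C b B := by
  obtain ⟨k, hk⟩ := hx
  exact mem_unitBlocks_iff_induced hM (P := Subgroup.zpowers x)
    (IsPGroup.of_card (n := k) (by rw [Nat.card_zpowers, hk]))
    (by rw [centralizer_zpowers_eq]; exact hC)
    (by rw [hC]; exact zpowers_le_centralizer_self x) hB

theorem inducedBlockDefined_centralizer (hM : IsPModular p M) {x : G}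
    (hx : ∃ k, orderOf x = p ^ k) {C : Subgroup G}
    (hC : C = Subgroup.centralizer ({x} : Set G)) [Fintype C] {b : Set (IrrCharacter C)}
    (hb : IsPBlock M b) : InducedBlockDefined M C b := by
  obtain ⟨k, hk⟩ := hx
  have hCP : Subgroup.centralizer (Subgroup.zpowers x : Set G) = C := by
    rw [centralizer_zpowers_eq, hC]
  refine exists_isInducedBlock hM (P := Subgroup.zpowers x)
    (IsPGroup.of_card (n := k) (by rw [Nat.card_zpowers, hk]))
    (by rw [hC]; exact zpowers_le_centralizer_self x) hCP.le ?_ hb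
  intro c hc
  rw [← hCP] at hc
  refine Subgroup.mem_normalizer_iff.2 fun n => ⟨fun hn => ?_, fun hn => ?_⟩
  · rwa [← (Subgroup.mem_centralizer_iff.1 hc n hn), mul_inv_cancel_right]
  · have h := Subgroup.mem_centralizer_iff.1 (inv_mem hc) _ hn
    have e : c * n * c⁻¹ = n := by
      have : c⁻¹ * (c * n * c⁻¹) * c = c * n * c⁻¹ := by rw [← h, inv_mul_cancel_right]
      simpa [mul_assoc] using this.symm
    rwa [e] at hn

/-- With the third main theorem: on the section of `x` the principal block sees only the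
principal block of the centraliser. -/
theorem unitBlocks_principal (hM : IsPModular p M) {x : G} (hx : ∃ k, orderOf x = p ^ k)
    {C : Subgroup G} (hC : C = Subgroup.centralizer ({x} : Set G)) [Fintype C] :
    unitBlocks M (restrictElt C (blockEltR M (principalBlock M G))) = {principalBlock M C} := by
  classical
  have key : ∀ b : Set (IrrCharacter C), InducedBlockDefined M C b →
      (IsInducedBlock M C b (principalBlock M G) ↔ b = principalBlock M C) := fun b hb =>
    induced_iff_of_restrict_irr hM (principal G) isIrrCharacter_one (blockHeight_one hM)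
      (blockHeight_one hM) hb
  refine Finset.eq_singleton_iff_unique_mem.2 ⟨?_, fun b hb => ?_⟩
  · exact (mem_unitBlocks_iff_induced' hM hx hC (isPBlock_principalBlock M G)).2
      ((key _ (inducedBlockDefined_centralizer hM hx hC (isPBlock_principalBlock M C))).2 rfl)
  · have h1 := (mem_unitBlocks_iff_induced' hM hx hC (isPBlock_principalBlock M G)).1 hb
    exact (key b ⟨_, h1⟩).1 h1

theorem sum_normSq_section_principal (hM : IsPModular p M) {x : G}
    (hx : ∃ k, orderOf x = p ^ k) {C : Subgroup G}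
    (hC : C = Subgroup.centralizer ({x} : Set G)) [Fintype C] {y : C} (hy : ¬ p ∣ orderOf y) :
    blockPair (principalBlock M G) (x * (y : G)) (x * (y : G)) =
      blockPair (principalBlock M C) y y := by
  classical
  rw [blockPair_local hM (isPBlock_principalBlock M G) x hx C
    (by rw [centralizer_zpowers_eq]; exact hC) y y hy hy, unitBlocks_principal hM hx hC,
    Finset.sum_singleton]

theorem blockPair_self_eq (B : Set (IrrCharacter G)) (g : G) :
    blockPair B g g = ((∑ᶠ χ ∈ B, ‖(χ : G → ℂ) g‖ ^ 2 : ℝ) : ℂ) := by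
  classical
  rw [finsum_mem_eq_finite_toFinset_sum _ (Set.toFinite B), Complex.ofReal_sum]
  unfold blockPair
  refine Finset.sum_congr (by ext; simp) fun χ _ => ?_
  rw [Complex.mul_conj, Complex.normSq_eq_norm_sq]

theorem blockPair_principal_of_pComplement (hM : IsPModular p M) (N : Subgroup G) [N.Normal]
    (hN : ¬ p ∣ Nat.card N) (hidx : ∃ k, N.index = p ^ k) {y : G} (hy : ¬ p ∣ orderOf y) :
    blockPair (principalBlock M G) y y =
      ((p ^ (Nat.card G).factorization p : ℕ) : ℂ) := by
  classical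
  haveI := Fact.mk hM.1
  obtain ⟨k, hk⟩ := hidx
  have hyN : y ∈ N := by
    rw [← QuotientGroup.eq_one_iff]
    have h1 : orderOf (y : G ⧸ N) ∣ orderOf y := orderOf_map_dvd (QuotientGroup.mk' N) y
    have h2 : orderOf (y : G ⧸ N) ∣ p ^ k := hk ▸ orderOf_dvd_natCard _
    obtain ⟨i, -, hi⟩ := (Nat.dvd_prime_pow hM.1).1 h2
    rcases Nat.eq_zero_or_pos i with rfl | hi0
    · exact orderOf_eq_one_iff.1 (by simpa using hi)
    · exact absurd ((dvd_pow_self p hi0.ne').trans (hi ▸ h1)) hy
  rw [principalBlock_eq_trivialOn hM N hN ⟨k, hk⟩]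
  unfold blockPair
  set A : Set (IrrCharacter G) := {χ | ∀ n ∈ N, (χ : G → ℂ) n = (χ : G → ℂ) 1} with hA
  have h1 : ∀ χ ∈ Finset.univ.filter (· ∈ A), (χ : G → ℂ) y * conj ((χ : G → ℂ) y) =
      ((charDegree (χ : G → ℂ) ^ 2 : ℕ) : ℂ) := fun χ hχ => by
    rw [(Finset.mem_filter.1 hχ).2 y hyN, conj_irr_one, irr_one_eq_charDegree, Nat.cast_pow,
      pow_two]
  haveI : Fintype (G ⧸ N) := Fintype.ofFinite _
  refine Eq.trans (b := ((∑ χ ∈ Finset.univ.filter (· ∈ A), charDegree (χ : G → ℂ) ^ 2 : ℕ) : ℂ))
    ?_ ?_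
  · rw [Nat.cast_sum]
    exact Finset.sum_congr (by ext; simp) fun χ hχ => h1 χ (by simpa using hχ)
  rw [Nat.cast_inj,
    Cfsg.Agent.CharX.sum_trivialOn' N (Finset.univ.filter (· ∈ A)) (fun χ => by simp [hA])
      (fun f => charDegree f ^ 2)]
  refine Eq.trans (Finset.sum_congr rfl fun χ _ => rfl)
    ((Cfsg.Agent.CharX.sum_deg_sq (G := G ⧸ N)).trans ?_)
  have h3 : (Nat.card G).factorization p = k := by
    rw [← N.index_mul_card, hk, Nat.factorization_mul (pow_ne_zero _ hM.1.ne_zero) Nat.card_pos.ne']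
    simp [hM.1.factorization_pow, Nat.factorization_eq_zero_of_not_dvd hN, -Nat.card_eq_fintype_card]
  rw [h3, ← hk, Subgroup.index]

theorem irr_section_of_kernel (hM : IsPModular p M) {x : G} (hx : ∃ k, orderOf x = p ^ k)
    {C : Subgroup G} (hC : C = Subgroup.centralizer ({x} : Set G)) [Fintype C]
    {χ : IrrCharacter G} (hχ : χ ∈ principalBlock M G) (N : Subgroup C) [N.Normal]
    (hN : ¬ p ∣ Nat.card N) {v : C} (hv : v ∈ N) : (χ : G → ℂ) (x * (v : G)) = (χ : G → ℂ) x := by
  classical
  have hreg : ∀ w ∈ N, ¬ p ∣ orderOf w := fun w hw h =>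
    hN (h.trans (Subgroup.orderOf_dvd_natCard N hw))
  have hB := isPBlock_principalBlock M G
  have key : ∀ w : C, ¬ p ∣ orderOf w → (χ : G → ℂ) (x * (w : G)) =
      blockPart (principalBlock M C) (secFun x C (χ : G → ℂ)) w := by
    intro w hw
    have h := sum_blockPart (M := M)
      (isClassFunction_secFun hC (IsCharacter.isClassFunction (irr_isCharacter χ))) w
    rw [Finset.sum_eq_single (principalBlock M C)] at h
    · exact h.symm
    · intro b hb hne
      refine blockPart_secFun_eq_zero hM hx hC hB hχ (mem_blocks.1 hb) (fun hind => hne ?_) hw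
      exact Finset.mem_singleton.1 (unitBlocks_principal hM hx hC ▸
        (mem_unitBlocks_iff_induced' hM hx hC hB).2 hind)
    · exact fun h => absurd (mem_blocks.2 (isPBlock_principalBlock M C)) h
  have hker : ∀ φ ∈ principalBlock M C, (φ : C → ℂ) v = (φ : C → ℂ) 1 := fun φ hφ =>
    trivialOn_of_sameBlock hM N hN (χ := principal C) (ψ := φ) hφ (fun _ _ => rfl) v hv
  have h1 := key 1 (by simpa using hM.1.ne_one)
  rw [OneMemClass.coe_one, mul_one] at h1
  rw [key v (hreg v hv), h1, blockPart_eq_sum, blockPart_eq_sum]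
  exact Finset.sum_congr rfl fun φ hφ => by rw [hker φ (Finset.mem_filter.1 hφ).2]

/-- A height zero character has a non-zero component in every block of a centraliser inducing
its block. -/
theorem blockPart_secFun_ne_zero (hM : IsPModular p M) {x : G} (hx : ∃ k, orderOf x = p ^ k)
    {C : Subgroup G} (hC : C = Subgroup.centralizer ({x} : Set G)) [Fintype C]
    {B : Set (IrrCharacter G)} {b : Set (IrrCharacter C)} (hind : IsInducedBlock M C b B)
    {χ : IrrCharacter G} (hχ : χ ∈ B) (h0 : blockHeight p B (χ : G → ℂ) = 0) :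
    ∃ y : C, ¬ p ∣ orderOf y ∧ blockPart b (secFun x C (χ : G → ℂ)) y ≠ 0 := by
  classical
  by_contra hne
  push Not at hne
  obtain ⟨ψ, hψ⟩ := isPBlock_nonempty hind.1
  obtain ⟨k, hk⟩ := hx
  have hcl : IsClassFunction C (secFun x C (χ : G → ℂ)) :=
    isClassFunction_secFun hC (IsCharacter.isClassFunction (irr_isCharacter χ))
  have hres := IsCharacter.restrict (irr_isCharacter χ) C
  let X : MonoidAlgebra (locRing M) C := gaOfFun fun w =>
    if p ∣ orderOf w then 0 else ⟨secFun x C (χ : G → ℂ) w⁻¹, irr_memLocalRing χ _⟩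
  have hXc : ∀ w : C, ((X.coeff w : locRing M) : ℂ) =
      if p ∣ orderOf w then 0 else secFun x C (χ : G → ℂ) w⁻¹ := fun w => by
    simp only [X, coeff_gaOfFun]
    split_ifs <;> rfl
  have hX : IsClassElt X := by
    intro g h
    refine Subtype.ext ?_
    rw [hXc, hXc, show (h * g * h⁻¹)⁻¹ = h * g⁻¹ * h⁻¹ by group, hcl g⁻¹ h,
      ← MulAut.conj_apply, MulEquiv.orderOf_eq]
  have hzero : omegaR ψ X = 0 := by
    rw [omega_eq_sum_div]
    simp only [hXc]
    have e : ∑ w : C, (if p ∣ orderOf w then 0 else secFun x C (χ : G → ℂ) w⁻¹) * (ψ : C → ℂ) w =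
        ∑ w ∈ Finset.univ.filter (fun w : C => ¬ p ∣ orderOf w),
          secFun x C (χ : G → ℂ) w * conj ((ψ : C → ℂ) w) := by
      rw [Finset.sum_filter]
      refine Fintype.sum_equiv (Equiv.inv C) _ _ fun w => ?_
      simp only [Equiv.inv_apply, orderOf_inv, irr_inv, Complex.conj_conj]
      by_cases hw : p ∣ orderOf w <;> simp [hw]
    rw [e]
    have e2 : ∀ w : C, secFun x C (χ : G → ℂ) w =
        ∑ φ : IrrCharacter C, classInner (secFun x C (χ : G → ℂ)) (φ : C → ℂ) * (φ : C → ℂ) w :=
      fun w => by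
        have := congrFun (classFunction_eq_sum hcl) w
        simpa [Finset.sum_apply] using this
    have e3 : ∑ w ∈ Finset.univ.filter (fun w : C => ¬ p ∣ orderOf w),
        secFun x C (χ : G → ℂ) w * conj ((ψ : C → ℂ) w) =
        ∑ w ∈ Finset.univ.filter (fun w : C => ¬ p ∣ orderOf w),
          blockPart b (secFun x C (χ : G → ℂ)) w * conj ((ψ : C → ℂ) w) := by
      simp only [blockPart_eq_sum]
      conv_lhs =>
        arg 2; ext w; rw [e2 w, Finset.sum_mul]
      simp only [Finset.sum_mul]
      rw [Finset.sum_comm, Finset.sum_comm (t := Finset.univ.filter (· ∈ b)),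
        Finset.sum_filter (s := (Finset.univ : Finset (IrrCharacter C)))]
      refine Finset.sum_congr rfl fun φ _ => ?_
      split_ifs with hφ
      · rfl
      · simp only [mul_assoc, ← Finset.mul_sum]
        rw [sum_regular_eq_zero hM fun h => hφ (isPBlock_mem_of_sameBlock hind.1 hψ
          (sameBlock_symm h)), mul_zero]
    rw [e3, Finset.sum_eq_zero fun w hw => by rw [hne w (Finset.mem_filter.1 hw).2, zero_mul],
      zero_div]
  have hcongr : MemLocalIdeal M (omegaR ψ X -
      omegaR ψ (regElt M p (fun c : C => (χ : G → ℂ) c) hres)) := by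
    haveI : Finite (ConjClasses C) := Finite.of_surjective _ ConjClasses.mk_surjective
    haveI : Fintype (ConjClasses C) := Fintype.ofFinite _
    rw [omegaR_eq_sum ψ hX, omegaR_eq_sum ψ (isClassElt_regElt hres), ← Finset.sum_sub_distrib]
    refine memLocalIdeal_sum _ _ fun D _ => ?_
    rw [← sub_mul]
    refine MemLocalIdeal.mul_right ?_ (centralChar_memLocalRing _ _)
    rw [hXc, coeff_regElt]
    split_ifs with hD
    · simpa using memLocalIdeal_zero (M := M)
    · refine char_congr_regular hM (irr_isCharacter χ) ?_ hk ?_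
      · exact Subgroup.mem_centralizer_iff.1 (hC.le (D.out⁻¹).2) x rfl
      · rwa [Subgroup.orderOf_coe, orderOf_inv]
  obtain ⟨φ, hφ⟩ := isPBlock_nonempty hind.2.1
  have hc := omegaR_regElt_restrict (p := p) hind hψ hφ (irr_isCharacter χ)
  refine (omegaR_regElt_mem_iff hM hind.2.1 hχ hφ).1 ?_ h0
  have := MemLocalIdeal.neg (MemLocalIdeal.add hcongr hc)
  rw [hzero] at this
  simpa using this

end Cfsg.Agent.Blocks
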