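/-
A constrained group without p'-core has a single block.
-/
import Cfsg.Agent.Lib.Blocks.Degree

set_option linter.unusedSectionVars false
set_option linter.style.haveILetI false

namespace Cfsg.Agent.Blocks

open Cfsg

universe u

variable {G : Type u} [Group G] [Fintype G] {p : ℕ} {M : Ideal AlgInt} [M.IsPrime]

theorem sameBlock_of_centralizer_le (hM : IsPModular p M) (N : Subgroup G) [N.Normal]
    (hN : IsPGroup p N) (hC : Subgroup.centralizer (N : Set G) ≤ N) (χ ψ : IrrCharacter G) :
    SameBlock M (χ : G → ℂ) (ψ : G → ℂ) := by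
  haveI := Fact.mk hM.1
  have key : ∀ (φ : IrrCharacter G) (g : G), ¬ p ∣ orderOf g →
      ¬ MemLocalIdeal M (centralChar (φ : G → ℂ) g) → g = 1 := by
    intro φ g hr hu
    obtain ⟨k, hk⟩ := (IsPGroup.iff_orderOf).1 hN
      ⟨g, hC (mem_centralizer_of_not_memLocalIdeal hM N hN hu)⟩
    rw [← Subgroup.orderOf_coe] at hk
    rw [← orderOf_eq_one_iff]
    rcases Nat.eq_zero_or_pos k with h0 | h0
    · rw [hk, h0, pow_zero]
    · exact absurd (hk ▸ dvd_pow_self p h0.ne') hr
  have hdef : ∀ φ : IrrCharacter G,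
      blockDefect p (blockOf M (φ : G → ℂ)) = classExp p (1 : G) := by
    intro φ
    obtain ⟨d, hd⟩ := exists_defectClass (isPBlock_blockOf (M := M) φ)
    have h1 := key φ d (IsDefectClass.not_dvd_orderOf hM (isPBlock_blockOf φ) hd)
      (hd.2.2 φ (self_mem_blockOf φ))
    subst h1
    exact blockDefect_eq_classExp hM (isPBlock_blockOf φ) hd
  refine (sameBlock_iff_defectClasses hM χ ψ (hdef χ) (hdef ψ)).2 fun x hx _ => ?_
  by_cases h1 : x = 1
  · subst h1
    have h2 : ∀ φ : IrrCharacter G, centralChar (φ : G → ℂ) 1 =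
        ((Subgroup.centralizer ({1} : Set G)).index : ℂ) := fun φ => by
      rw [centralChar, mul_div_assoc, div_self (irr_one_ne_zero φ), mul_one]
    rw [h2, h2, sub_self]
    exact memLocalIdeal_zero
  · exact MemLocalIdeal.sub (by by_contra h; exact h1 (key χ x hx h))
      (by by_contra h; exact h1 (key ψ x hx h))

end Cfsg.Agent.Blocks
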