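import Cfsg.Agent.Lib.Blocks.Congruence

/-!
# The sum over the `p`-regular elements of a character in the principal block
-/

set_option linter.unusedSectionVars false
set_option linter.style.haveILetI false

namespace Cfsg.Agent.Blocks

open Cfsg Cfsg.Agent.Char Cfsg.Agent.CharX
open scoped ComplexConjugate

universe u

variable {G : Type u} [Group G] [Fintype G] {p : ℕ} {M : Ideal AlgInt} [M.IsPrime]

theorem centralizer_index_mulEquiv {H : Type*} [Group H] (e : G ≃* H) (g : G) :
    (Subgroup.centralizer ({e g} : Set H)).index = (Subgroup.centralizer ({g} : Set G)).index := by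
  rw [← Subgroup.index_comap_of_surjective (f := e.toMonoidHom) _ e.surjective]
  congr 1
  ext x
  simp only [Subgroup.mem_comap, Subgroup.mem_centralizer_singleton_iff, MulEquiv.coe_toMonoidHom,
    ← map_mul, e.injective.eq_iff]

theorem centralChar_one_fun (g : G) :
    centralChar (fun _ : G => (1 : ℂ)) g = ((Subgroup.centralizer ({g} : Set G)).index : ℂ) := by
  simp [centralChar]

theorem mem_principalBlock_iff {ψ : IrrCharacter G} : ψ ∈ principalBlock M G ↔ ∀ g : G,
    MemLocalIdeal M (((Subgroup.centralizer ({g} : Set G)).index : ℂ) -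
      centralChar (ψ : G → ℂ) g) := by
  simp only [← centralChar_one_fun]
  exact Iff.rfl

/-- The principal block is stable under automorphisms. -/
theorem mem_principalBlock_comp (e : G ≃* G) {ψ ψ' : IrrCharacter G}
    (h : ψ ∈ principalBlock M G) (h' : ∀ g, (ψ' : G → ℂ) g = (ψ : G → ℂ) (e g)) :
    ψ' ∈ principalBlock M G := by
  rw [mem_principalBlock_iff] at h ⊢
  intro g
  have := h (e g)
  unfold centralChar at this ⊢
  rw [centralizer_index_mulEquiv e g] at this
  rwa [h', h', map_one]

/-- The principal block is closed under multiplication by its linear characters. -/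
theorem mem_principalBlock_mul {f ψ ψ' : IrrCharacter G} (hf1 : (f : G → ℂ) 1 = 1)
    (hf : f ∈ principalBlock M G) (h : ψ ∈ principalBlock M G)
    (h' : ∀ g, (ψ' : G → ℂ) g = (f : G → ℂ) g * (ψ : G → ℂ) g) : ψ' ∈ principalBlock M G := by
  rw [mem_principalBlock_iff] at h hf ⊢
  intro g
  have h1 : MemLocalRing M ((f : G → ℂ) g) := mem_locRing_of_isIntegral (irr_isIntegral f g)
  have h2 := MemLocalIdeal.mul_left h1 (h g)
  have h3 := hf g
  have hc : centralChar (ψ' : G → ℂ) g = (f : G → ℂ) g * centralChar (ψ : G → ℂ) g := by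
    unfold centralChar
    rw [h', h', hf1, one_mul]; ring
  have hc' : centralChar (f : G → ℂ) g =
      ((Subgroup.centralizer ({g} : Set G)).index : ℂ) * (f : G → ℂ) g := by
    unfold centralChar
    rw [hf1, div_one]
  rw [hc'] at h3
  convert MemLocalIdeal.add h3 h2 using 1
  rw [hc]; ring

/-- At an element with class size prime to `p` a member of the principal block is congruent to
its degree. -/
theorem value_sub_one_mem (hM : IsPModular p M) {ψ : IrrCharacter G}
    (h : ψ ∈ principalBlock M G) {g : G}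
    (hg : ¬ p ∣ (Subgroup.centralizer ({g} : Set G)).index) :
    MemLocalIdeal M ((ψ : G → ℂ) g - (ψ : G → ℂ) 1) := by
  have hd : (ψ : G → ℂ) 1 ≠ 0 := IsIrrCharacter.one_ne_zero ψ.2
  have hi : ((Subgroup.centralizer ({g} : Set G)).index : ℂ) ≠ 0 :=
    Nat.cast_ne_zero.2 Subgroup.index_ne_zero_of_finite
  have e : (ψ : G → ℂ) g - (ψ : G → ℂ) 1 =
      -((ψ : G → ℂ) 1 * ((Subgroup.centralizer ({g} : Set G)).index : ℂ)⁻¹) *
        (((Subgroup.centralizer ({g} : Set G)).index : ℂ) - centralChar (ψ : G → ℂ) g) := by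
    unfold centralChar
    field_simp
    ring
  rw [e, neg_mul]
  refine MemLocalIdeal.neg (MemLocalIdeal.mul_left ((locRing M).mul_mem ?_
    (inv_natCast_memLocalRing hM hg)) (mem_principalBlock_iff.1 h g))
  rw [irr_deg ψ]
  exact natCast_mem (locRing M) _

/-- The `p`-regular elements centralising a Sylow subgroup are prime to `p` in number. -/
theorem not_dvd_card_regular_centralizer [Fact p.Prime] (P : Sylow p G) :
    ¬ p ∣ Nat.card {c : Subgroup.centralizer ((P : Subgroup G) : Set G) // ¬ p ∣ orderOf c} := by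
  have hp : p.Prime := Fact.out
  let C := Subgroup.centralizer ((P : Subgroup G) : Set G)
  haveI := Fintype.ofFinite C
  have hcentral : ∀ z : C, (∃ k, orderOf z = p ^ k) → ∀ c : C, Commute z c := by
    rintro z ⟨k, hk⟩ c
    have hz : IsPGroup p (Subgroup.zpowers (z : G)) :=
      IsPGroup.of_card (n := k) (by rw [Nat.card_zpowers, Subgroup.orderOf_coe, hk])
    have hnorm : Subgroup.zpowers (z : G) ≤ Subgroup.normalizer ((P : Subgroup G) : Set G) :=
      Subgroup.zpowers_le.2 (Subgroup.centralizer_le_normalizer _ z.2)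
    have hsup := hz.to_sup_of_normal_right' P.isPGroup' hnorm
    have hmem : (z : G) ∈ (P : Subgroup G) := by
      rw [← P.is_maximal' hsup le_sup_right]
      exact Subgroup.mem_sup_left (Subgroup.mem_zpowers _)
    exact Subtype.ext ((Subgroup.mem_centralizer_iff.1 c.2) z hmem)
  obtain ⟨S⟩ : Nonempty (Sylow p C) := inferInstance
  have hScomm : ∀ s ∈ (S : Subgroup C), ∀ c : C, Commute s c := fun s hs => by
    obtain ⟨k, hk⟩ := IsPGroup.iff_orderOf.1 S.isPGroup' ⟨s, hs⟩
    exact hcentral s ⟨k, by rwa [← Subgroup.orderOf_coe] at hk⟩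
  haveI : (S : Subgroup C).Normal := ⟨fun s hs c => by
    rwa [(hScomm s hs c).symm.eq, mul_inv_cancel_right]⟩
  have hall : ∀ z : C, (∃ k, orderOf z = p ^ k) → z ∈ (S : Subgroup C) := by
    rintro z ⟨k, hk⟩
    have hz : IsPGroup p (Subgroup.zpowers z) :=
      IsPGroup.of_card (n := k) (by rw [Nat.card_zpowers, hk])
    rw [← S.is_maximal' (hz.to_sup_of_normal_right S.isPGroup') le_sup_right]
    exact Subgroup.mem_sup_left (Subgroup.mem_zpowers _)
  let mul : Prod (S : Subgroup C) {c : C // ¬ p ∣ orderOf c} → C := fun x => x.1 * x.2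
  have hbij : Function.Bijective mul := by
    have hpart : ∀ x : Prod (S : Subgroup C) {c : C // ¬ p ∣ orderOf c},
        IsPPart p (mul x) (x.1 : C) := by
      rintro ⟨⟨s, hs⟩, ⟨r, hr⟩⟩
      obtain ⟨k, hk⟩ := IsPGroup.iff_orderOf.1 S.isPGroup' ⟨s, hs⟩
      exact ⟨r, rfl, hScomm s hs r, ⟨k, by rwa [← Subgroup.orderOf_coe] at hk⟩, hr⟩
    refine ⟨fun x y h => ?_, fun c => ?_⟩
    · have e := isPPart_unique hp (hpart x) (by rw [h]; exact hpart y)
      have h' : (x.1 : C) * x.2 = (y.1 : C) * y.2 := h
      rw [e] at h'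
      exact Prod.ext (Subtype.ext e) (Subtype.ext (mul_left_cancel h'))
    · obtain ⟨z, y, rfl, -, hz, hy⟩ := exists_isPPart hp c
      exact ⟨(⟨z, hall z hz⟩, ⟨y, hy⟩), rfl⟩
  have hcard := Nat.card_congr (Equiv.ofBijective mul hbij)
  rw [Nat.card_prod] at hcard
  have h := (S : Subgroup C).card_mul_index
  rw [← hcard] at h
  rw [← Nat.eq_of_mul_eq_mul_left Nat.card_pos h]
  exact S.not_dvd_index

/-- The sum over the `p`-regular elements of a principal block character of degree prime to `p`
is a unit at `M`. -/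
theorem sum_regular_not_mem (hM : IsPModular p M) {ψ : IrrCharacter G}
    (h : ψ ∈ principalBlock M G) (hdeg : ¬ p ∣ charDegree (ψ : G → ℂ))
    [DecidablePred fun x : G => ¬ p ∣ orderOf x] :
    ¬ MemLocalIdeal M (∑ x ∈ Finset.univ.filter (fun x : G => ¬ p ∣ orderOf x), (ψ : G → ℂ) x) := by
  classical
  haveI := Fact.mk hM.1
  haveI := resField_charP hM
  obtain ⟨P⟩ : Nonempty (Sylow p G) := inferInstance
  letI : MulAction (P : Subgroup G) G :=
    MulAction.compHom G ((MulAut.conj (G := G)).comp (P : Subgroup G).subtype)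
  have hsmul : ∀ (u : (P : Subgroup G)) (a : G), u • a = (u : G) * a * (u : G)⁻¹ := fun _ _ => rfl
  let v : G → locRing M := fun a => ⟨(ψ : G → ℂ) a, mem_locRing_of_isIntegral (irr_isIntegral ψ a)⟩
  let f : G → resField M := fun a => if ¬ p ∣ orderOf a then res M (v a) else 0
  have hf : ∀ (u : (P : Subgroup G)) (a : G), f (u • a) = f a := by
    intro u a
    have hv : v (u • a) = v a := Subtype.ext (by rw [hsmul]; exact irr_conj_invariant ψ a u)
    have ho : orderOf (u • a) = orderOf a := by
      rw [hsmul, ← MulAut.conj_apply, MulEquiv.orderOf_eq]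
    simp only [f, hv, ho]
  have hfix : ∀ a : G, a ∈ MulAction.fixedPoints (P : Subgroup G) G ↔
      a ∈ Subgroup.centralizer ((P : Subgroup G) : Set G) := by
    intro a
    rw [MulAction.mem_fixedPoints, Subgroup.mem_centralizer_iff]
    exact ⟨fun h u hu => mul_inv_eq_iff_eq_mul.1 (h ⟨u, hu⟩),
      fun h u => mul_inv_eq_iff_eq_mul.2 (h u u.2)⟩
  have hval : ∀ a : G, a ∈ Subgroup.centralizer ((P : Subgroup G) : Set G) →
      res M (v a) = res M (v 1) := by
    intro a ha
    refine res_eq_res_iff.2 (value_sub_one_mem hM h fun hd => ?_)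
    have hle : (P : Subgroup G) ≤ Subgroup.centralizer ({a} : Set G) := fun u hu =>
      Subgroup.mem_centralizer_singleton_iff.2 ((Subgroup.mem_centralizer_iff.1 ha) u hu)
    exact P.not_dvd_index (hd.trans (Subgroup.index_dvd_of_le hle))
  have key : res M (∑ a ∈ Finset.univ.filter (fun x : G => ¬ p ∣ orderOf x), v a) =
      (Nat.card {c : Subgroup.centralizer ((P : Subgroup G) : Set G) // ¬ p ∣ orderOf c} :
        resField M) * res M (v 1) := by
    rw [map_sum, Finset.sum_filter, sum_eq_sum_fixed P.isPGroup' f hf,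
      Finset.sum_congr rfl (fun a ha => show f a = if ¬ p ∣ orderOf a then res M (v 1) else 0 by
        simp only [f, hval a ((hfix a).1 (Finset.mem_filter.1 ha).2)]),
      ← Finset.sum_filter, Finset.sum_const, nsmul_eq_mul, ← Nat.card_eq_finsetCard]
    congr 2
    exact Nat.card_congr
      { toFun := fun a => ⟨⟨a.1, (hfix a.1).1 (Finset.mem_filter.1 (Finset.mem_filter.1 a.2).1).2⟩,
          by rw [← Subgroup.orderOf_coe]; exact (Finset.mem_filter.1 a.2).2⟩
        invFun := fun c => ⟨c.1.1, Finset.mem_filter.2 ⟨Finset.mem_filter.2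
          ⟨Finset.mem_univ _, (hfix _).2 c.1.2⟩, by rw [Subgroup.orderOf_coe]; exact c.2⟩⟩
        left_inv := fun _ => rfl
        right_inv := fun _ => rfl }
  intro hmem
  have h0 : res M (∑ a ∈ Finset.univ.filter (fun x : G => ¬ p ∣ orderOf x), v a) = 0 := by
    rw [res_eq_zero_iff, AddSubmonoidClass.coe_finsetSum]
    exact hmem
  rw [key, mul_eq_zero] at h0
  rcases h0 with h0 | h0
  · exact not_dvd_card_regular_centralizer P ((CharP.cast_eq_zero_iff (resField M) p _).1 h0)
  · rw [res_eq_zero_iff] at h0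
    refine hdeg ((natCast_memLocalIdeal_iff hM _).1 ?_)
    rw [← irr_deg ψ]
    exact h0

end Cfsg.Agent.Blocks
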