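/-
Averages over the primitive powers of a root of unity of prime power order.
-/
import Cfsg.Agent.Lib.Blocks.LocalRing
import Mathlib.RingTheory.RootsOfUnity.PrimitiveRoots
import Mathlib.Algebra.BigOperators.Field
import Mathlib.RingTheory.IntegralClosure.IntegrallyClosed
import Mathlib.RingTheory.RootsOfUnity.Complex
import Mathlib.Data.ZMod.Basic

set_option linter.unusedSectionVars false

namespace Cfsg.Agent.Blocks

open Cfsg
open scoped ComplexConjugate

theorem sum_pow_root {n : ℕ} (hn : n ≠ 0) {η : ℂ} (hη : IsPrimitiveRoot η n) (a b : ℕ) :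
    ∑ t ∈ Finset.range n, η ^ (t * a) * conj (η ^ (t * b)) =
      if a % n = b % n then (n : ℂ) else 0 := by
  have hη0 : η ≠ 0 := hη.ne_zero hn
  have hc : conj η = η⁻¹ := by
    rw [Complex.inv_eq_conj]
    exact Complex.norm_eq_one_of_pow_eq_one hη.pow_eq_one hn
  set ρ := η ^ a * (η⁻¹) ^ b with hρ
  have h1 : ∀ t, η ^ (t * a) * conj (η ^ (t * b)) = ρ ^ t := fun t => by
    rw [map_pow, hc, hρ, mul_pow, ← pow_mul, ← pow_mul, mul_comm t, mul_comm t]
  simp only [h1]
  have hiff : ρ = 1 ↔ a % n = b % n := by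
    rw [hρ, inv_pow, ← div_eq_mul_inv, div_eq_one_iff_eq (pow_ne_zero _ hη0)]
    rw [← pow_mod_eq_pow (hη.pow_eq_one) a, ← pow_mod_eq_pow (hη.pow_eq_one) b]
    exact ⟨fun h => hη.pow_inj (Nat.mod_lt _ hn.bot_lt) (Nat.mod_lt _ hn.bot_lt) h,
      fun h => by rw [h]⟩
  split_ifs with h
  · simp [hiff.2 h]
  · have h2 : ρ ≠ 1 := fun e => h (hiff.1 e)
    have h3 : ρ ^ n = 1 := by
      rw [hρ, mul_pow, ← pow_mul, ← pow_mul, mul_comm a, mul_comm b, pow_mul, pow_mul, inv_pow,
        hη.pow_eq_one, inv_one, one_pow, one_pow, one_mul]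
    rw [geom_sum_eq h2, h3, sub_self, zero_div]
where
  pow_mod_eq_pow {ζ : ℂ} {m : ℕ} (h : ζ ^ m = 1) (c : ℕ) : ζ ^ (c % m) = ζ ^ c := by
    conv_rhs => rw [← Nat.mod_add_div c m, pow_add, pow_mul, h, one_pow, mul_one]

theorem parseval_root {ι : Type*} [Fintype ι] {n : ℕ} (hn : n ≠ 0) {η : ℂ}
    (hη : IsPrimitiveRoot η n) (e : ι → ℕ) (c : ι → ℂ) :
    ∑ t ∈ Finset.range n, Complex.normSq (∑ i, η ^ (t * e i) * c i) =
      n * ∑ r ∈ Finset.range n,
        Complex.normSq (∑ i ∈ Finset.univ.filter (fun i => e i % n = r), c i) := by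
  classical
  apply Complex.ofReal_injective
  push_cast
  simp only [← Complex.mul_conj]
  calc ∑ t ∈ Finset.range n, (∑ i, η ^ (t * e i) * c i) * conj (∑ i, η ^ (t * e i) * c i)
      = ∑ i, ∑ j, c i * conj (c j) *
          ∑ t ∈ Finset.range n, η ^ (t * e i) * conj (η ^ (t * e j)) := by
        simp only [map_sum, Finset.sum_mul_sum]
        rw [Finset.sum_comm]
        refine Finset.sum_congr rfl fun i _ => ?_
        rw [Finset.sum_comm]
        refine Finset.sum_congr rfl fun j _ => ?_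
        rw [Finset.mul_sum]
        exact Finset.sum_congr rfl fun t _ => by rw [map_mul]; ring
    _ = ∑ i, ∑ j, if e i % n = e j % n then (n : ℂ) * (c i * conj (c j)) else 0 := by
        refine Finset.sum_congr rfl fun i _ => Finset.sum_congr rfl fun j _ => ?_
        rw [sum_pow_root hn hη]
        split_ifs <;> ring
    _ = _ := by
        simp only [map_sum, Finset.sum_filter]
        simp only [Finset.mul_sum, Finset.sum_mul]
        symm
        rw [Finset.sum_comm]
        refine (Finset.sum_congr rfl fun j _ => Finset.sum_comm).trans ?_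
        rw [Finset.sum_comm]
        refine Finset.sum_congr rfl fun i _ => Finset.sum_congr rfl fun j _ => ?_
        rw [Finset.sum_eq_single (e i % n)]
        · rw [if_pos rfl]
          by_cases hij : e i % n = e j % n
          · rw [if_pos hij.symm, if_pos hij]
          · rw [if_neg (Ne.symm hij), if_neg hij, map_zero, mul_zero, mul_zero]
        · intro r _ hr
          rw [if_neg (Ne.symm hr), zero_mul, mul_zero]
        · exact fun h => absurd (Finset.mem_range.2 (Nat.mod_lt _ hn.bot_lt)) h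

theorem sum_sum_normSq_sub {α : Type*} (S : Finset α) (f : α → ℂ) :
    ∑ a ∈ S, ∑ b ∈ S, Complex.normSq (f a - f b) =
      2 * ((S.card : ℝ) * ∑ a ∈ S, Complex.normSq (f a) - Complex.normSq (∑ a ∈ S, f a)) := by
  have hre : Complex.normSq (∑ a ∈ S, f a) = ∑ a ∈ S, ∑ b ∈ S, (f a * conj (f b)).re := by
    rw [← Complex.ofReal_re (Complex.normSq _), ← Complex.mul_conj, map_sum, Finset.sum_mul_sum,
      Complex.re_sum]
    simp only [Complex.re_sum]
  rw [hre]
  simp only [Complex.normSq_sub, Finset.sum_sub_distrib, Finset.sum_add_distrib, Finset.sum_const,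
    nsmul_eq_mul, ← Finset.mul_sum]
  ring

/-- The exponents prime to `p` below `n`. -/
def primExps (p n : ℕ) : Finset ℕ := (Finset.range n).filter fun t => ¬ p ∣ t

variable {p j : ℕ} {ζ : ℂ}

theorem card_primExps_add (hp : p ≠ 0) :
    (primExps p (p ^ (j + 1))).card + p ^ j = p ^ (j + 1) := by
  have hmul : ((Finset.range (p ^ (j + 1))).filter fun t => p ∣ t) =
      (Finset.range (p ^ j)).image (p * ·) := by
    ext t
    simp only [Finset.mem_filter, Finset.mem_range, Finset.mem_image]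
    constructor
    · rintro ⟨ht, s, rfl⟩
      exact ⟨s, Nat.lt_of_mul_lt_mul_left (a := p) (by rwa [← pow_succ']), rfl⟩
    · rintro ⟨s, hs, rfl⟩
      exact ⟨by rw [pow_succ']; exact Nat.mul_lt_mul_of_pos_left hs hp.bot_lt, dvd_mul_right p s⟩
  have := Finset.card_filter_add_card_filter_not (s := Finset.range (p ^ (j + 1))) (fun t => p ∣ t)
  rw [hmul, Finset.card_image_of_injective _ (mul_right_injective₀ hp), Finset.card_range,
    Finset.card_range] at this
  rw [primExps, add_comm]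
  exact this

theorem card_primExps (hp : p ≠ 0) : (primExps p (p ^ (j + 1))).card = p ^ j * (p - 1) := by
  have h := card_primExps_add (j := j) hp
  rw [Nat.mul_sub_one, ← pow_succ]
  omega

theorem one_mem_primExps (hp : 1 < p) : 1 ∈ primExps p (p ^ (j + 1)) :=
  Finset.mem_filter.2 ⟨Finset.mem_range.2 (Nat.one_lt_pow (by omega) hp),
    fun h => by have := Nat.le_of_dvd one_pos h; omega⟩

theorem sum_range_split (hp : p ≠ 0) (F : ℕ → ℝ) :
    ∑ t ∈ Finset.range (p ^ (j + 1)), F t =
      (∑ t ∈ primExps p (p ^ (j + 1)), F t) + ∑ s ∈ Finset.range (p ^ j), F (p * s) := by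
  rw [← Finset.sum_filter_add_sum_filter_not _ (fun t => ¬ p ∣ t)]
  congr 1
  refine (Finset.sum_bij (fun s _ => p * s) ?_ ?_ ?_ ?_).symm
  · intro s hs
    refine Finset.mem_filter.2 ⟨Finset.mem_range.2 ?_, by simp⟩
    rw [pow_succ']; exact Nat.mul_lt_mul_of_pos_left (Finset.mem_range.1 hs) hp.bot_lt
  · exact fun s _ s' _ h => mul_right_injective₀ hp h
  · intro t ht
    obtain ⟨ht, hd⟩ := Finset.mem_filter.1 ht
    obtain ⟨s, rfl⟩ := not_not.1 hd
    exact ⟨s, Finset.mem_range.2 (Nat.lt_of_mul_lt_mul_left (a := p)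
      (by rw [← pow_succ']; exact Finset.mem_range.1 ht)), rfl⟩
  · exact fun s _ => rfl

/-- The residues below `p ^ (j + 1)` over a residue below `p ^ j`. -/
def resSet (p j r : ℕ) : Finset ℕ :=
  (Finset.range (p ^ (j + 1))).filter fun m => m % p ^ j = r

theorem resSet_eq_image (hp : p ≠ 0) {r : ℕ} (hr : r < p ^ j) :
    resSet p j r = (Finset.range p).image fun a => r + p ^ j * a := by
  ext m
  simp only [resSet, Finset.mem_filter, Finset.mem_range, Finset.mem_image]
  constructor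
  · rintro ⟨hm, hmr⟩
    refine ⟨m / p ^ j, Nat.div_lt_of_lt_mul (by rw [← pow_succ]; exact hm), ?_⟩
    rw [← hmr]; exact Nat.mod_add_div m _
  · rintro ⟨a, ha, rfl⟩
    refine ⟨?_, by rw [Nat.add_mul_mod_self_left, Nat.mod_eq_of_lt hr]⟩
    calc r + p ^ j * a < p ^ j + p ^ j * a := by omega
      _ = p ^ j * (a + 1) := by ring
      _ ≤ p ^ j * p := Nat.mul_le_mul_left _ ha
      _ = p ^ (j + 1) := by rw [pow_succ]

theorem card_resSet (hp : p ≠ 0) {r : ℕ} (hr : r < p ^ j) : (resSet p j r).card = p := by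
  rw [resSet_eq_image hp hr, Finset.card_image_of_injective, Finset.card_range]
  exact fun a b h => mul_right_injective₀ (pow_ne_zero j hp) (Nat.add_left_cancel h)

/-- The trace of a squared absolute value through the differences of coefficient sums. -/
theorem sum_primExps_normSq {ι : Type*} [Fintype ι] (hp : p ≠ 0)
    (hζ : IsPrimitiveRoot ζ (p ^ (j + 1))) (e : ι → ℕ) (c : ι → ℂ) :
    2 * ∑ t ∈ primExps p (p ^ (j + 1)), Complex.normSq (∑ i, ζ ^ (t * e i) * c i) =
      (p ^ j : ℕ) * ∑ r ∈ Finset.range (p ^ j), ∑ m ∈ resSet p j r, ∑ m' ∈ resSet p j r,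
        Complex.normSq ((∑ i ∈ Finset.univ.filter (fun i => e i % p ^ (j + 1) = m), c i) -
          ∑ i ∈ Finset.univ.filter (fun i => e i % p ^ (j + 1) = m'), c i) := by
  classical
  set q := p ^ (j + 1) with hq
  set P := p ^ j with hP
  set C := fun m => ∑ i ∈ Finset.univ.filter (fun i => e i % q = m), c i with hC
  have hq0 : q ≠ 0 := pow_ne_zero _ hp
  have hP0 : P ≠ 0 := pow_ne_zero _ hp
  have hζp : IsPrimitiveRoot (ζ ^ p) P := hζ.pow hq0.bot_lt (by rw [hq, hP, pow_succ'])
  have h2 : ∑ s ∈ Finset.range P, Complex.normSq (∑ i, ζ ^ (p * s * e i) * c i) =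
      P * ∑ r ∈ Finset.range P, Complex.normSq (∑ m ∈ resSet p j r, C m) := by
    simp only [mul_assoc p, pow_mul ζ p]
    rw [parseval_root hP0 hζp e c]
    congr 1
    refine Finset.sum_congr rfl fun r hr => congrArg Complex.normSq ?_
    simp only [hC]
    rw [← Finset.sum_fiberwise_of_maps_to (g := fun i => e i % q) (t := resSet p j r)]
    · refine Finset.sum_congr rfl fun m hm => ?_
      refine Finset.sum_congr ?_ fun _ _ => rfl
      ext i
      simp only [Finset.mem_filter, Finset.mem_univ, true_and]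
      refine ⟨fun h => h.2, fun h => ⟨?_, h⟩⟩
      have := (Finset.mem_filter.1 hm).2
      rwa [← h, Nat.mod_mod_of_dvd _ (Dvd.intro p (pow_succ p j).symm)] at this
    · intro i hi
      refine Finset.mem_filter.2 ⟨Finset.mem_range.2 (Nat.mod_lt _ hq0.bot_lt), ?_⟩
      rw [Nat.mod_mod_of_dvd _ (Dvd.intro p (pow_succ p j).symm)]
      exact (Finset.mem_filter.1 hi).2
  have h1 := sum_range_split (j := j) hp fun t => Complex.normSq (∑ i, ζ ^ (t * e i) * c i)
  rw [parseval_root hq0 hζ e c, h2] at h1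
  have h3 : ∀ r ∈ Finset.range P, ∑ m ∈ resSet p j r, ∑ m' ∈ resSet p j r,
      Complex.normSq (C m - C m') = 2 * ((p : ℝ) * ∑ m ∈ resSet p j r, Complex.normSq (C m) -
        Complex.normSq (∑ m ∈ resSet p j r, C m)) := fun r hr => by
    rw [sum_sum_normSq_sub, card_resSet hp (Finset.mem_range.1 hr)]
  rw [Finset.sum_congr rfl h3, ← Finset.mul_sum, Finset.sum_sub_distrib, ← Finset.mul_sum]
  have h4 : ∑ r ∈ Finset.range P, ∑ m ∈ resSet p j r, Complex.normSq (C m) =
      ∑ m ∈ Finset.range q, Complex.normSq (C m) :=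
    Finset.sum_fiberwise_of_maps_to
      (fun m _ => Finset.mem_range.2 (Nat.mod_lt m hP0.bot_lt)) _
  rw [h4]
  have hqP : (q : ℝ) = (P : ℝ) * p := by rw [hq, hP]; push_cast; ring
  rw [hqP] at h1
  linear_combination (-2 : ℝ) * h1

/-- The weighted squared norm of a function. -/
noncomputable def qn {U : Type*} [Fintype U] (lam : ℝ) (v : U → ℂ) : ℝ :=
  lam * ∑ u, Complex.normSq (v u)

/-- An integral combination. -/
noncomputable def comb {ι U : Type*} [Fintype ι] (w : ι → U → ℂ) (n : ι → ℤ) : U → ℂ :=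
  fun u => ∑ i, (n i : ℂ) * w i u

theorem qn_nonneg {U : Type*} [Fintype U] {lam : ℝ} (hlam : 0 ≤ lam) (v : U → ℂ) : 0 ≤ qn lam v :=
  mul_nonneg hlam (Finset.sum_nonneg fun _ _ => Complex.normSq_nonneg _)

/-- The twisted sum of a family of functions. -/
noncomputable def twist {ι U : Type*} [Fintype ι] (ζ : ℂ) (e : ι → ℕ) (w : ι → U → ℂ) (t : ℕ) :
    U → ℂ :=
  fun u => ∑ i, ζ ^ (t * e i) * w i u

/-- The indicator of the indices with a given exponent. -/
def expInd {ι : Type*} (q : ℕ) (e : ι → ℕ) (m : ℕ) : ι → ℤ :=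
  fun i => if e i % q = m then 1 else 0

theorem comb_expInd {ι U : Type*} [Fintype ι] (q : ℕ) (e : ι → ℕ) (w : ι → U → ℂ) (m : ℕ) (u : U) :
    comb w (expInd q e m) u = ∑ i ∈ Finset.univ.filter (fun i => e i % q = m), w i u := by
  rw [Finset.sum_filter]
  refine Finset.sum_congr rfl fun i _ => ?_
  simp only [expInd]
  split_ifs <;> simp

theorem sum_primExps_qn {ι U : Type*} [Fintype ι] [Fintype U] (hp : p ≠ 0)
    (hζ : IsPrimitiveRoot ζ (p ^ (j + 1))) (e : ι → ℕ) (lam : ℝ) (w : ι → U → ℂ) :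
    2 * ∑ t ∈ primExps p (p ^ (j + 1)), qn lam (twist ζ e w t) =
      (p ^ j : ℕ) * ∑ r ∈ Finset.range (p ^ j), ∑ m ∈ resSet p j r, ∑ m' ∈ resSet p j r,
        qn lam (comb w (expInd (p ^ (j + 1)) e m - expInd (p ^ (j + 1)) e m')) := by
  have hs : ∀ n n' : ι → ℤ, comb w (n - n') = fun u => comb w n u - comb w n' u := fun n n' => by
    funext u
    simp only [comb, Pi.sub_apply, Int.cast_sub, sub_mul, Finset.sum_sub_distrib]
  simp only [hs, qn, comb_expInd, twist]
  set C := fun (m : ℕ) (u : U) =>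
    ∑ i ∈ Finset.univ.filter (fun i => e i % p ^ (j + 1) = m), w i u with hC
  calc 2 * ∑ t ∈ primExps p (p ^ (j + 1)),
        lam * ∑ u, Complex.normSq (∑ i, ζ ^ (t * e i) * w i u)
      = lam * ∑ u, 2 * ∑ t ∈ primExps p (p ^ (j + 1)),
          Complex.normSq (∑ i, ζ ^ (t * e i) * w i u) := by
        simp only [Finset.mul_sum]
        rw [Finset.sum_comm]
        exact Finset.sum_congr rfl fun _ _ => Finset.sum_congr rfl fun _ _ => by ring
    _ = lam * ∑ u, (p ^ j : ℕ) * ∑ r ∈ Finset.range (p ^ j), ∑ m ∈ resSet p j r,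
          ∑ m' ∈ resSet p j r, Complex.normSq (C m u - C m' u) := by
        rw [Finset.sum_congr rfl fun u _ => sum_primExps_normSq hp hζ e fun i => w i u]
    _ = _ := by
        simp only [Finset.mul_sum]
        rw [Finset.sum_comm]
        refine Finset.sum_congr rfl fun r _ => ?_
        rw [Finset.sum_comm]
        refine Finset.sum_congr rfl fun m _ => ?_
        rw [Finset.sum_comm]
        exact Finset.sum_congr rfl fun _ _ => Finset.sum_congr rfl fun _ _ => by
          simp only [hC]; ring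

/-- The trace lower bound for a family spanning an integral lattice with minimum `μ`. -/
theorem le_sum_primExps {ι U : Type*} [Fintype ι] [Fintype U] (hp : 1 < p)
    (hζ : IsPrimitiveRoot ζ (p ^ (j + 1))) (e : ι → ℕ) {lam μ : ℝ} (hlam : 0 ≤ lam) (hμ0 : 0 ≤ μ)
    (w : ι → U → ℂ) (hμ : ∀ n : ι → ℤ, comb w n ≠ 0 → μ ≤ qn lam (comb w n))
    (h1 : twist ζ e w 1 ≠ 0) :
    ((p ^ j * (p - 1) : ℕ) : ℝ) * μ ≤ ∑ t ∈ primExps p (p ^ (j + 1)), qn lam (twist ζ e w t) := by
  classical
  set q := p ^ (j + 1) with hq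
  set d := fun m m' => comb w (expInd q e m - expInd q e m') with hd
  by_cases hall : ∀ r ∈ Finset.range (p ^ j), ∀ m ∈ resSet p j r, ∀ m' ∈ resSet p j r, d m m' = 0
  · exfalso
    refine h1 (funext fun u => ?_)
    have h := sum_primExps_normSq (by omega : p ≠ 0) hζ e fun i => w i u
    have hz : ∀ r ∈ Finset.range (p ^ j), ∀ m ∈ resSet p j r, ∀ m' ∈ resSet p j r,
        Complex.normSq ((∑ i ∈ Finset.univ.filter (fun i => e i % q = m), w i u) -
          ∑ i ∈ Finset.univ.filter (fun i => e i % q = m'), w i u) = 0 := by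
      intro r hr m hm m' hm'
      have h2 := congrFun (hall r hr m hm m' hm') u
      simp only [hd, comb, Pi.sub_apply, Int.cast_sub, sub_mul, Finset.sum_sub_distrib,
        Pi.zero_apply] at h2
      rw [← comb_expInd, ← comb_expInd]
      simp only [comb, h2, map_zero]
    rw [Finset.sum_eq_zero fun r hr => Finset.sum_eq_zero fun m hm =>
      Finset.sum_eq_zero fun m' hm' => hz r hr m hm m' hm', mul_zero] at h
    exact Complex.normSq_eq_zero.1 ((Finset.sum_eq_zero_iff_of_nonneg
      fun _ _ => Complex.normSq_nonneg _).1 ((mul_eq_zero.1 h).resolve_left two_ne_zero) 1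
        (one_mem_primExps (j := j) hp))
  · push Not at hall
    obtain ⟨r, hr, m₀, hm₀, m₁, hm₁, hne⟩ := hall
    have hnn : ∀ a b, 0 ≤ qn lam (d a b) := fun a b => qn_nonneg hlam _
    have hsymm : ∀ a b, qn lam (d a b) = qn lam (d b a) := fun a b => by
      simp only [qn, hd, comb, Pi.sub_apply, Int.cast_sub, sub_mul, Finset.sum_sub_distrib]
      exact congrArg (lam * ·) (Finset.sum_congr rfl fun u _ => by rw [← Complex.normSq_neg, neg_sub])
    have hμ' : ∀ a b, d a b ≠ 0 → μ ≤ qn lam (d a b) := fun a b => hμ _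
    have hrow : ∀ m ∈ resSet p j r, m ≠ m₀ → μ ≤ qn lam (d m m₀) + qn lam (d m m₁) := by
      intro m _ _
      by_cases ha : d m m₀ = 0
      · by_cases hb : d m m₁ = 0
        · refine absurd ?_ hne
          funext u
          have h2 := congrFun ha u
          have h3 := congrFun hb u
          simp only [hd, comb, Pi.sub_apply, Int.cast_sub, sub_mul, Finset.sum_sub_distrib,
            Pi.zero_apply] at h2 h3 ⊢
          linear_combination h3 - h2
        · exact le_add_of_nonneg_of_le (hnn _ _) (hμ' _ _ hb)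
      · exact le_add_of_le_of_nonneg (hμ' _ _ ha) (hnn _ _)
    have hne01 : m₀ ≠ m₁ := by
      rintro rfl
      exact hne (funext fun u => by simp [hd, comb])
    -- the ordered pairs through `m₀` or `m₁`
    have hS := card_resSet (by omega : p ≠ 0) (Finset.mem_range.1 hr)
    set S := resSet p j r
    have hmem : m₁ ∈ S.erase m₀ := Finset.mem_erase.2 ⟨hne01.symm, hm₁⟩
    set T := (S.erase m₀).erase m₁ with hT
    have hTc : T.card + 2 = p := by
      rw [hT, Finset.card_erase_of_mem hmem, Finset.card_erase_of_mem hm₀, hS]; omega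
    have hsplit : ∀ F : ℕ → ℝ, ∑ m ∈ S, F m = F m₀ + (F m₁ + ∑ m ∈ T, F m) := fun F => by
      rw [← Finset.add_sum_erase _ _ hm₀, ← Finset.add_sum_erase _ _ hmem]
    have hlow : 2 * ((p - 1 : ℕ) : ℝ) * μ ≤ ∑ m ∈ S, ∑ m' ∈ S, qn lam (d m m') := by
      simp only [hsplit]
      have hz : ∀ a, qn lam (d a a) = 0 := fun a => by simp [qn, hd, comb]
      rw [hz, hz]
      simp only [Finset.sum_add_distrib]
      have h01 := hμ' _ _ hne
      have hsum : (T.card : ℝ) * μ ≤ ∑ m ∈ T, (qn lam (d m m₀) + qn lam (d m m₁)) := by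
        rw [← nsmul_eq_mul]
        exact Finset.card_nsmul_le_sum _ _ _ fun m hm => hrow m
          (Finset.mem_of_mem_erase (Finset.mem_of_mem_erase hm))
          (Finset.ne_of_mem_erase (Finset.mem_of_mem_erase hm))
      rw [Finset.sum_add_distrib] at hsum
      have hcast : ((p - 1 : ℕ) : ℝ) = (T.card : ℝ) + 1 := by
        rw [show p - 1 = T.card + 1 by omega]; push_cast; ring
      have hTT : 0 ≤ ∑ m ∈ T, ∑ m' ∈ T, qn lam (d m m') :=
        Finset.sum_nonneg fun _ _ => Finset.sum_nonneg fun _ _ => hnn _ _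
      have e0 : ∑ m ∈ T, qn lam (d m₀ m) = ∑ m ∈ T, qn lam (d m m₀) :=
        Finset.sum_congr rfl fun m _ => hsymm _ _
      have e1 : ∑ m ∈ T, qn lam (d m₁ m) = ∑ m ∈ T, qn lam (d m m₁) :=
        Finset.sum_congr rfl fun m _ => hsymm _ _
      rw [hcast, e0, e1, hsymm m₁ m₀]
      nlinarith
    have hle := Finset.single_le_sum
      (f := fun r => ∑ m ∈ resSet p j r, ∑ m' ∈ resSet p j r, qn lam (d m m'))
      (fun _ _ => Finset.sum_nonneg fun _ _ => Finset.sum_nonneg fun _ _ => hnn _ _) hr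
    have heq := sum_primExps_qn (by omega : p ≠ 0) hζ e lam w
    push_cast
    have hP : (0 : ℝ) ≤ ((p ^ j : ℕ) : ℝ) := Nat.cast_nonneg _
    have := mul_le_mul_of_nonneg_left (hlow.trans hle) hP
    push_cast at this heq
    nlinarith

/-- An integral quadratic form modulo two is linear. -/
theorem quad_mod_two {ι : Type*} [Fintype ι] (R : ι → ι → ℤ) (hR : ∀ a b, R a b = R b a)
    (n : ι → ℤ) :
    ((∑ a, ∑ b, n a * n b * R a b : ℤ) : ZMod 2) = ∑ a, (n a : ZMod 2) * (R a a : ZMod 2) := by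
  classical
  push_cast
  rw [← Finset.sum_product', ← Finset.sum_filter_add_sum_filter_not _ (fun x : ι × ι => x.1 = x.2)]
  have h2 : ∑ x ∈ (Finset.univ ×ˢ Finset.univ).filter (fun x : ι × ι => ¬ x.1 = x.2),
      (n x.1 : ZMod 2) * n x.2 * R x.1 x.2 = 0 := by
    refine Finset.sum_involution (fun x _ => (x.2, x.1)) ?_ ?_ ?_ ?_
    · intro x _
      rw [hR x.2 x.1, mul_comm (n x.2 : ZMod 2)]
      exact CharTwo.add_self_eq_zero _
    · intro x hx _ h
      exact (Finset.mem_filter.1 hx).2 (congrArg Prod.fst h).symm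
    · intro x hx
      exact Finset.mem_filter.2 ⟨by simp, Ne.symm (Finset.mem_filter.1 hx).2⟩
    · exact fun _ _ => rfl
  rw [h2, add_zero]
  refine Finset.sum_bij (fun x _ => x.1) (fun _ _ => Finset.mem_univ _) ?_ ?_ ?_
  · intro x hx y hy h
    exact Prod.ext h (((Finset.mem_filter.1 hx).2).symm.trans (h.trans (Finset.mem_filter.1 hy).2))
  · exact fun a _ => ⟨(a, a), Finset.mem_filter.2 ⟨by simp, rfl⟩, rfl⟩
  · intro x hx
    rw [← (Finset.mem_filter.1 hx).2]
    have : ∀ z : ZMod 2, z * z = z := by decide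
    rw [this]

section Two

variable {ι U : Type*} [Fintype ι] [Fintype U]

/-- The coordinates of a twisted sum in the basis of powers below `2 ^ j`. -/
def coord (j : ℕ) (e : ι → ℕ) (r : ℕ) : ι → ℤ :=
  expInd (2 ^ (j + 1)) e r - expInd (2 ^ (j + 1)) e (r + 2 ^ j)

theorem sum_primExps_two (hζ : IsPrimitiveRoot ζ (2 ^ (j + 1))) (e : ι → ℕ) (lam : ℝ)
    (w : ι → U → ℂ) :
    ∑ t ∈ primExps 2 (2 ^ (j + 1)), qn lam (twist ζ e w t) =
      (2 ^ j : ℕ) * ∑ r ∈ Finset.range (2 ^ j), qn lam (comb w (coord j e r)) := by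
  have h := sum_primExps_qn (by norm_num : (2 : ℕ) ≠ 0) hζ e lam w
  have hz : ∀ n : ι → ℤ, qn lam (comb w (n - n)) = 0 := fun n => by simp [qn, comb]
  have hs : ∀ n n' : ι → ℤ, qn lam (comb w (n - n')) = qn lam (comb w (n' - n)) := fun n n' => by
    simp only [qn, comb, Pi.sub_apply, Int.cast_sub, sub_mul, Finset.sum_sub_distrib]
    exact congrArg (lam * ·) (Finset.sum_congr rfl fun u _ => by rw [← Complex.normSq_neg, neg_sub])
  have h2 : ∀ r ∈ Finset.range (2 ^ j), ∑ m ∈ resSet 2 j r, ∑ m' ∈ resSet 2 j r,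
      qn lam (comb w (expInd (2 ^ (j + 1)) e m - expInd (2 ^ (j + 1)) e m')) =
      2 * qn lam (comb w (coord j e r)) := by
    intro r hr
    have hset : resSet 2 j r = {r, r + 2 ^ j} := by
      rw [resSet_eq_image (by norm_num) (Finset.mem_range.1 hr)]
      simp [Finset.range_add_one, Finset.image_insert, Finset.pair_comm]
    have hne : r ≠ r + 2 ^ j := by have := Nat.two_pow_pos j; omega
    simp only [hset, Finset.sum_pair hne, hz, coord]
    rw [hs (expInd (2 ^ (j + 1)) e (r + 2 ^ j))]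
    ring
  rw [Finset.sum_congr rfl h2, ← Finset.mul_sum] at h
  linarith

theorem sum_coord (e : ι → ℕ) (i : ι) :
    ∑ r ∈ Finset.range (2 ^ j), (coord j e r i : ZMod 2) = 1 := by
  have hlt : e i % 2 ^ (j + 1) < 2 * 2 ^ j := by
    rw [← pow_succ']; exact Nat.mod_lt _ (Nat.two_pow_pos _)
  simp only [coord, Pi.sub_apply, expInd, Int.cast_sub, CharTwo.sub_eq_add]
  rw [Finset.sum_add_distrib]
  by_cases h : e i % 2 ^ (j + 1) < 2 ^ j
  · rw [Finset.sum_eq_single_of_mem _ (Finset.mem_range.2 h), if_pos rfl,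
      Finset.sum_eq_zero (fun r _ => by rw [if_neg (by omega)]; rfl)]
    · simp
    · intro r _ hr; rw [if_neg (Ne.symm hr)]; rfl
  · rw [Finset.sum_eq_zero (fun r hr => by
      rw [if_neg (by have := Finset.mem_range.1 hr; omega)]; rfl),
      Finset.sum_eq_single_of_mem (e i % 2 ^ (j + 1) - 2 ^ j) (Finset.mem_range.2 (by omega)),
      if_pos (by omega)]
    · simp
    · intro r _ hr; rw [if_neg (by omega)]; rfl

/-- The average over the odd powers is an integer of known parity. -/
theorem exists_avg_two (hζ : IsPrimitiveRoot ζ (2 ^ (j + 1))) (e : ι → ℕ) (lam : ℝ)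
    (w : ι → U → ℂ) (R : ι → ι → ℤ) (hR : ∀ a b, R a b = R b a)
    (hw : ∀ n : ι → ℤ, qn lam (comb w n) = ((∑ a, ∑ b, n a * n b * R a b : ℤ) : ℝ)) :
    ∃ A : ℤ, ∑ t ∈ primExps 2 (2 ^ (j + 1)), qn lam (twist ζ e w t) = (2 ^ j : ℕ) * (A : ℝ) ∧
      (A : ZMod 2) = ((∑ a, ∑ b, R a b : ℤ) : ZMod 2) := by
  refine ⟨∑ r ∈ Finset.range (2 ^ j), ∑ a, ∑ b, coord j e r a * coord j e r b * R a b, ?_, ?_⟩
  · rw [sum_primExps_two hζ e lam w, Int.cast_sum]
    simp only [hw]
  · have h1 := quad_mod_two R hR fun _ => 1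
    simp only [one_mul, Int.cast_one] at h1
    rw [h1, Int.cast_sum]
    simp only [quad_mod_two R hR]
    rw [Finset.sum_comm]
    exact Finset.sum_congr rfl fun a _ => by rw [← Finset.sum_mul, sum_coord, one_mul]

/-- Twisted sums at odd powers in coordinates. -/
theorem twist_eq_coord (hζ : IsPrimitiveRoot ζ (2 ^ (j + 1))) (e : ι → ℕ) (w : ι → U → ℂ)
    {t : ℕ} (ht : ¬ 2 ∣ t) (u : U) :
    twist ζ e w t u = ∑ r ∈ Finset.range (2 ^ j), ζ ^ (t * r) * comb w (coord j e r) u := by
  have hhalf : ζ ^ 2 ^ j = -1 := by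
    have hp := hζ.pow (Nat.two_pow_pos _) (show 2 ^ (j + 1) = 2 ^ j * 2 from pow_succ 2 j)
    exact hp.eq_neg_one_of_two_right
  have hpt : (-1 : ℂ) ^ t = -1 := Odd.neg_one_pow (Nat.odd_iff.2 (by omega))
  simp only [comb, Finset.mul_sum, twist]
  rw [Finset.sum_comm]
  refine Finset.sum_congr rfl fun i _ => ?_
  simp only [coord, Pi.sub_apply, expInd, Int.cast_sub, sub_mul, mul_sub, Finset.sum_sub_distrib]
  set m := e i % 2 ^ (j + 1) with hm
  have hlt : m < 2 * 2 ^ j := by
    rw [hm, ← pow_succ']; exact Nat.mod_lt _ (Nat.two_pow_pos _)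
  have he : ζ ^ (t * e i) = ζ ^ (t * m) := by
    conv_lhs => rw [← Nat.mod_add_div (e i) (2 ^ (j + 1)), ← hm, mul_add, pow_add,
      mul_left_comm t, pow_mul ζ (2 ^ (j + 1)), hζ.pow_eq_one, one_pow, mul_one]
  rw [he]
  by_cases h : m < 2 ^ j
  · rw [Finset.sum_eq_single_of_mem m (Finset.mem_range.2 h) (fun r _ hr => by
        rw [if_neg (Ne.symm hr)]; simp),
      if_pos rfl, Finset.sum_eq_zero (fun r _ => by rw [if_neg (by omega)]; simp)]
    simp
  · rw [Finset.sum_eq_zero (fun r hr => by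
        rw [if_neg (by have := Finset.mem_range.1 hr; omega)]; simp),
      Finset.sum_eq_single_of_mem (m - 2 ^ j) (Finset.mem_range.2 (by omega)) (fun r _ hr => by
        rw [if_neg (by omega)]; simp),
      if_pos (by omega)]
    conv_lhs => rw [show m = 2 ^ j + (m - 2 ^ j) by omega, mul_add, pow_add, mul_comm t (2 ^ j),
      pow_mul, hhalf, hpt]
    simp

/-! ## Divisibility of the coordinates -/

variable {M : Ideal AlgInt} [M.IsPrime]

theorem exists_pi_pow (hM : IsPModular 2 M) : ∀ (j : ℕ) (ζ : ℂ),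
    IsPrimitiveRoot ζ (2 ^ (j + 1)) →
      ∃ u, MemLocalRing M u ∧ ¬ MemLocalIdeal M u ∧ (ζ - 1) ^ 2 ^ j = 2 * u := by
  intro j
  induction j with
  | zero =>
    intro ζ hζ
    refine ⟨(-1 : ℂ), mem_locRing.1 ((locRing M).neg_mem (locRing M).one_mem), fun h => ?_, ?_⟩
    · exact not_memLocalIdeal_one (M := M) (by simpa using MemLocalIdeal.neg h)
    · rw [pow_zero, pow_one, IsPrimitiveRoot.eq_neg_one_of_two_right (ζ := ζ) (by simpa using hζ)]
      norm_num
  | succ j ih =>
    intro ζ hζ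
    have hη : IsPrimitiveRoot (ζ ^ 2) (2 ^ (j + 1)) :=
      hζ.pow (Nat.two_pow_pos _) (pow_succ' 2 (j + 1))
    obtain ⟨u, hu, hun, hu2⟩ := ih _ hη
    have hπ : MemLocalIdeal M (ζ - 1) :=
      memLocalIdeal_sub_one_of_pow_eq_one hM hζ.pow_eq_one
    have hπ' : ζ - 1 ∈ locRing M := MemLocalIdeal.memLocalRing hπ
    set S := ∑ i ∈ Finset.range (2 ^ j), ((ζ - 1) ^ 2) ^ i * (ζ ^ 2 - 1) ^ (2 ^ j - 1 - i) with hS
    have hSR : S ∈ locRing M := by
      refine (locRing M).sum_mem fun i _ => (locRing M).mul_mem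
        ((locRing M).pow_mem ((locRing M).pow_mem hπ' _) _) ((locRing M).pow_mem ?_ _)
      exact (locRing M).sub_mem (mem_locRing_of_isIntegral
        (IsIntegral.pow (IsIntegral.of_pow (Nat.two_pow_pos _) (by rw [hζ.pow_eq_one]; exact isIntegral_one)) 2)) (locRing M).one_mem
    refine ⟨u - (ζ - 1) * S, mem_locRing.1
      ((locRing M).sub_mem (mem_locRing.2 hu) ((locRing M).mul_mem hπ' hSR)), fun h => hun ?_, ?_⟩
    · have := MemLocalIdeal.add h (MemLocalIdeal.mul_right hπ (mem_locRing.1 hSR))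
      simpa using this
    · have h := geom_sum₂_mul ((ζ - 1) ^ 2) (ζ ^ 2 - 1) (2 ^ j)
      rw [← hS, hu2, ← pow_mul, ← pow_succ'] at h
      linear_combination -h

theorem even_of_combination (hM : IsPModular 2 M) (hζ : IsPrimitiveRoot ζ (2 ^ (j + 1)))
    (E : ℕ → ℤ) (h : MemLocalRing M ((∑ r ∈ Finset.range (2 ^ j), (E r : ℂ) * ζ ^ r) / 2)) :
    ∀ r, r < 2 ^ j → 2 ∣ E r := by
  classical
  set P := 2 ^ j with hP
  set π := ζ - 1 with hπd
  obtain ⟨u, hu, hun, hu2⟩ := exists_pi_pow hM j ζ hζ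
  have hπ : MemLocalIdeal M π := memLocalIdeal_sub_one_of_pow_eq_one hM hζ.pow_eq_one
  have hπ' : π ∈ locRing M := MemLocalIdeal.memLocalRing hπ
  have hπ0 : π ≠ 0 := sub_ne_zero.2 (hζ.ne_one (Nat.one_lt_pow (by omega) (by norm_num)))
  have hu0 : u ≠ 0 := fun e => hun (e ▸ memLocalIdeal_zero)
  set T : ℕ → ℤ := fun i => ∑ r ∈ Finset.range P, (r.choose i : ℤ) * E r with hT
  have hx : ∑ r ∈ Finset.range P, (E r : ℂ) * ζ ^ r =
      ∑ i ∈ Finset.range P, (T i : ℂ) * π ^ i := by
    simp only [hT, Int.cast_sum, Int.cast_mul, Int.cast_natCast, Finset.sum_mul]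
    rw [Finset.sum_comm]
    refine Finset.sum_congr rfl fun r hr => ?_
    rw [show ζ = π + 1 by simp [hπd], add_pow]
    simp only [one_pow, mul_one, Finset.mul_sum]
    rw [← Finset.sum_subset (Finset.range_mono (Nat.succ_le_of_lt (Finset.mem_range.1 hr)))]
    · exact Finset.sum_congr rfl fun i _ => by ring
    · intro i _ hi
      rw [Nat.choose_eq_zero_of_lt (by simpa using hi)]
      simp
  rw [hx] at h
  have hTe : ∀ i, i < P → (2 : ℤ) ∣ T i := by
    intro i
    induction i using Nat.strong_induction_on with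
    | _ i ih =>
      intro hi
      -- 2 / π ^ i is in the local ideal
      have h2π : MemLocalIdeal M (2 / π ^ i) := by
        rw [show (2 : ℂ) / π ^ i = π ^ (P - i) * u⁻¹ by
          rw [div_eq_iff (pow_ne_zero _ hπ0), mul_right_comm, ← pow_add,
            Nat.sub_add_cancel hi.le, hu2, mul_inv_cancel_right₀ hu0]]
        refine MemLocalIdeal.mul_right ?_ (memLocalRing_inv hu hun)
        rw [show P - i = (P - i - 1) + 1 by omega, pow_succ]
        exact (fun hh => MemLocalIdeal.mul_left hh hπ) (mem_locRing.1 ((locRing M).pow_mem hπ' _))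
      have key : MemLocalIdeal M (T i : ℂ) := by
        have e : (T i : ℂ) = ((∑ l ∈ Finset.range P, (T l : ℂ) * π ^ l) / 2) * (2 / π ^ i) -
            ∑ l ∈ (Finset.range P).erase i, (T l : ℂ) * π ^ l / π ^ i := by
          rw [← Finset.sum_div, ← Finset.add_sum_erase _ _ (Finset.mem_range.2 hi)]
          field_simp
          ring
        rw [e]
        refine MemLocalIdeal.sub (MemLocalIdeal.mul_left h h2π) (memLocalIdeal_sum _ _ fun l hl => ?_)
        obtain ⟨hne, hl⟩ := Finset.mem_erase.1 hl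
        rcases Nat.lt_or_ge l i with hlt | hge
        · obtain ⟨c, hc⟩ := ih l hlt (Finset.mem_range.1 hl)
          rw [hc, show ((2 * c : ℤ) : ℂ) * π ^ l / π ^ i = (c : ℂ) * π ^ l * (2 / π ^ i) by
            push_cast; ring]
          exact (fun hh => MemLocalIdeal.mul_left hh h2π) (mem_locRing.1
            ((locRing M).mul_mem (intCast_mem (locRing M) c) ((locRing M).pow_mem hπ' _)))
        · rw [show (T l : ℂ) * π ^ l / π ^ i = ((T l : ℂ) * π ^ (l - i - 1)) * π by
            rw [div_eq_iff (pow_ne_zero _ hπ0), mul_assoc, mul_assoc, ← pow_succ', ← pow_add,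
              show l - i - 1 + (i + 1) = l by omega]]
          exact (fun hh => MemLocalIdeal.mul_left hh hπ) (mem_locRing.1
            ((locRing M).mul_mem (intCast_mem (locRing M) _) ((locRing M).pow_mem hπ' _)))
      have h2 : MemLocalIdeal M ((T i).natAbs : ℂ) := by
        rcases Int.natAbs_eq (T i) with e | e <;> rw [e] at key
        · simpa using key
        · simpa using MemLocalIdeal.neg key
      exact Int.natAbs_dvd_natAbs.1 (by simpa using (natCast_memLocalIdeal_iff hM _).1 h2)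
  suffices hs : ∀ d r, r < P → P - r ≤ d → (2 : ℤ) ∣ E r from fun r hr => hs P r hr (by omega)
  intro d
  induction d with
  | zero => intro r hr hd; omega
  | succ d ih =>
    intro r hr hd
    have h1 := hTe r hr
    rw [hT] at h1
    simp only at h1
    rw [← Finset.add_sum_erase _ _ (Finset.mem_range.2 hr), Nat.choose_self, Nat.cast_one,
      one_mul] at h1
    refine (dvd_add_left (Finset.dvd_sum fun l hl => ?_)).1 h1
    obtain ⟨hne, hl⟩ := Finset.mem_erase.1 hl
    rcases Nat.lt_or_ge l r with hlt | hge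
    · rw [Nat.choose_eq_zero_of_lt hlt]; simp
    · exact Dvd.dvd.mul_left (ih l (Finset.mem_range.1 hl) (by omega)) _

/-- Coordinates of an element divisible by a power of two are divisible by it. -/
theorem dvd_of_combination (hM : IsPModular 2 M) (hζ : IsPrimitiveRoot ζ (2 ^ (j + 1))) :
    ∀ (h : ℕ) (E : ℕ → ℤ),
      MemLocalRing M ((∑ r ∈ Finset.range (2 ^ j), (E r : ℂ) * ζ ^ r) / 2 ^ h) →
      ∀ r, r < 2 ^ j → 2 ^ h ∣ E r := by
  intro h
  induction h with
  | zero => intro E _ r _; simp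
  | succ h ih =>
    intro E hE
    have h2 : MemLocalRing M ((∑ r ∈ Finset.range (2 ^ j), (E r : ℂ) * ζ ^ r) / 2 ^ h) := by
      have h3 := (locRing M).mul_mem (natCast_mem (locRing M) 2) (mem_locRing.2 hE)
      rw [show (((2 : ℕ)) : ℂ) * ((∑ r ∈ Finset.range (2 ^ j), (E r : ℂ) * ζ ^ r) / 2 ^ (h + 1)) =
        (∑ r ∈ Finset.range (2 ^ j), (E r : ℂ) * ζ ^ r) / 2 ^ h by
          rw [pow_succ]; push_cast; ring] at h3
      exact h3
    choose c hc using ih E h2
    let F : ℕ → ℤ := fun r => if hr : r < 2 ^ j then c r hr else 0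
    have hF : ∀ r, r < 2 ^ j → E r = 2 ^ h * F r := fun r hr => by
      simp only [F, dif_pos hr]; exact hc r hr
    have h4 := even_of_combination hM hζ F (by
      convert hE using 1
      rw [Finset.sum_div, Finset.sum_div]
      refine Finset.sum_congr rfl fun r hr => ?_
      rw [hF r (Finset.mem_range.1 hr)]
      push_cast; field_simp; ring)
    intro r hr
    rw [hF r hr, pow_succ]
    exact mul_dvd_mul_left _ (h4 r hr)

end Two

end Cfsg.Agent.Blocks
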