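/-
Counting the characters of a block by subsections.
-/
import Cfsg.Agent.Lib.Blocks.SecondMain
import Cfsg.Prelude.Def_BlockRank
import Mathlib.LinearAlgebra.Trace

set_option linter.unusedSectionVars false
set_option linter.style.haveILetI false

namespace Cfsg.Agent.Blocks

open Cfsg MonoidAlgebra Cfsg.Agent.Char
open scoped ComplexConjugate

universe u

variable {G : Type u} [Group G] [Fintype G] {p : ℕ} {M : Ideal AlgInt} [M.IsPrime]

theorem sum_blockPair_diag (B : Set (IrrCharacter G)) :
    ∑ g : G, blockPair B g g = (Nat.card G : ℂ) * (Nat.card B : ℂ) := by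
  classical
  unfold blockPair
  rw [Finset.sum_comm]
  have h : ∀ χ : IrrCharacter G, ∑ g : G, (χ : G → ℂ) g * conj ((χ : G → ℂ) g) = Nat.card G := by
    intro χ
    have h1 := classInner_self_irr χ.2
    unfold classInner at h1
    have hG : (Nat.card G : ℂ) ≠ 0 := Nat.cast_ne_zero.2 Nat.card_pos.ne'
    rwa [inv_mul_eq_one₀ hG, eq_comm] at h1
  rw [Finset.sum_congr rfl fun χ _ => h χ, Finset.sum_const, nsmul_eq_mul, mul_comm,
    Nat.card_eq_fintype_card (α := B), Fintype.card_subtype]

/-- The rank of a block is the trace of the projection on its regular part. -/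
theorem blockRank_eq (hM : IsPModular p M) {b : Set (IrrCharacter G)} (hb : IsPBlock M b)
    [DecidablePred fun u : G => ¬ p ∣ orderOf u] :
    (blockRank p b : ℂ) =
      (Nat.card G : ℂ)⁻¹ * ∑ u ∈ Finset.univ.filter (fun u : G => ¬ p ∣ orderOf u),
        blockPair b u u := by
  classical
  let A : Matrix G G ℂ := Matrix.of fun u v =>
    if ¬ p ∣ orderOf u then (Nat.card G : ℂ)⁻¹ * blockPair b u v else 0
  set S := Submodule.span ℂ ((fun χ : IrrCharacter G => pRegularPart p (χ : G → ℂ)) '' b) with hS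
  have hA : ∀ f : G → ℂ, Matrix.toLin' A f = fun u =>
      if ¬ p ∣ orderOf u then blockPart b f u else 0 := by
    intro f
    funext u
    rw [Matrix.toLin'_apply, Matrix.mulVec, dotProduct]
    by_cases hu : p ∣ orderOf u
    · simp [A, hu]
    · simp only [A, Matrix.of_apply, not_not, if_pos hu, blockPart_eq_pair, Finset.mul_sum]
      exact Finset.sum_congr rfl fun v _ => by ring
  have hproj : LinearMap.IsProj S (Matrix.toLin' A) := by
    refine ⟨fun f => ?_, fun f hf => ?_⟩
    · have e : Matrix.toLin' A f = ∑ χ ∈ Finset.univ.filter (· ∈ b),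
          classInner f (χ : G → ℂ) • pRegularPart p (χ : G → ℂ) := by
        rw [hA]
        funext u
        simp only [Finset.sum_apply, Pi.smul_apply, smul_eq_mul, pRegularPart, IsPRegular,
          blockPart_eq_sum]
        by_cases hu : p ∣ orderOf u <;> simp [hu]
      rw [e]
      exact Submodule.sum_mem _ fun χ hχ => Submodule.smul_mem _ _
        (Submodule.subset_span ⟨χ, (Finset.mem_filter.1 hχ).2, rfl⟩)
    · induction hf using Submodule.span_induction with
      | mem f hf =>
        obtain ⟨χ, hχ, rfl⟩ := hf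
        rw [hA]
        funext u
        by_cases hu : p ∣ orderOf u
        · simp [pRegularPart, IsPRegular, hu]
        · simp only [pRegularPart, IsPRegular, hu, not_false_eq_true, if_true]
          have h2 : blockPart b (χ : G → ℂ) = (χ : G → ℂ) :=
            classInner_blockPart_self b (IsCharacter.isClassFunction (irr_isCharacter χ))
              fun ψ hψ => classInner_irr_of_ne χ.2 ψ.2 fun h => hψ (by
                rwa [← Subtype.ext h])
          rw [← congrFun h2 u, blockPart_eq_pair, blockPart_eq_pair]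
          congr 1
          refine Finset.sum_congr rfl fun v _ => ?_
          by_cases hv : p ∣ orderOf v
          · rw [blockPair_regular_singular hM hb hu hv, mul_zero, mul_zero]
          · simp [pRegularPart, IsPRegular, hv]
      | zero => simp
      | add f g _ _ h1 h2 => rw [map_add, h1, h2]
      | smul c f _ h1 => rw [map_smul, h1]
  have h1 := hproj.trace
  rw [Matrix.trace_toLin'_eq] at h1
  rw [blockRank, ← hS, ← h1]
  simp only [Matrix.trace, Matrix.diag, A, Matrix.of_apply, Finset.sum_filter, Finset.mul_sum,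
    mul_ite, mul_zero]

/-- Summation over the section of a `p`-element. -/
theorem sum_section (hp : p.Prime) {x : G} (hx : ∃ k, orderOf x = p ^ k) {C : Subgroup G}
    (hC : C = Subgroup.centralizer ({x} : Set G)) [Fintype C] {F : G → ℂ}
    (hF : ∀ g c : G, F (c * g * c⁻¹) = F g)
    [DecidablePred fun g : G => ∃ a, IsPPart p g a ∧ IsConj x a]
    [DecidablePred fun u : C => ¬ p ∣ orderOf u] :
    ∑ g ∈ Finset.univ.filter (fun g : G => ∃ a, IsPPart p g a ∧ IsConj x a), F g =
      (Nat.card G : ℂ) * (Nat.card C : ℂ)⁻¹ *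
        ∑ u ∈ Finset.univ.filter (fun u : C => ¬ p ∣ orderOf u), F (x * (u : G)) := by
  classical
  have hmem : ∀ c : C, Commute x (c : G) := fun c =>
    Subgroup.mem_centralizer_iff.1 (hC.le c.2) x rfl
  have hfib : ∀ g : G, (Finset.univ.filter fun c : G => IsPPart p g (c * x * c⁻¹)).card =
      if ∃ a, IsPPart p g a ∧ IsConj x a then Nat.card C else 0 := by
    intro g
    split_ifs with hg
    · obtain ⟨a, ha, hxa⟩ := hg
      obtain ⟨c0, rfl⟩ := isConj_iff.1 hxa
      have hmemC : ∀ c, c ∈ (Finset.univ.filter fun c : G => IsPPart p g (c * x * c⁻¹)) →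
          c0⁻¹ * c ∈ C := fun c hc => by
        have e := isPPart_unique hp (Finset.mem_filter.1 hc).2 ha
        rw [hC]
        refine Subgroup.mem_centralizer_iff.2 fun q hq => ?_
        rw [Set.mem_singleton_iff.1 hq]
        calc x * (c0⁻¹ * c) = c0⁻¹ * (c0 * x * c0⁻¹) * c := by group
          _ = c0⁻¹ * (c * x * c⁻¹) * c := by rw [e]
          _ = c0⁻¹ * c * x := by group
      rw [Nat.card_eq_fintype_card, ← Finset.card_univ]
      refine Finset.card_bij' (fun c hc => (⟨c0⁻¹ * c, hmemC c hc⟩ : C))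
        (fun d _ => c0 * (d : G)) (fun _ _ => Finset.mem_univ _) (fun d _ => ?_) (fun c _ => ?_)
        (fun d _ => ?_)
      · refine Finset.mem_filter.2 ⟨Finset.mem_univ _, ?_⟩
        rwa [show c0 * (d : G) * x * (c0 * (d : G))⁻¹ = c0 * x * c0⁻¹ by
          rw [mul_assoc c0, ← (hmem d).eq]; group]
      · simp
      · exact Subtype.ext (by simp)
    · refine Finset.card_eq_zero.2 (Finset.filter_eq_empty_iff.2 fun c _ h => hg ?_)
      exact ⟨_, h, isConj_iff.2 ⟨c, rfl⟩⟩
  have h1 : ∀ c : G, ∑ g ∈ Finset.univ.filter (fun g : G => IsPPart p g (c * x * c⁻¹)), F g =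
      ∑ u ∈ Finset.univ.filter (fun u : C => ¬ p ∣ orderOf u), F (x * (u : G)) := by
    intro c
    symm
    refine Finset.sum_bij (fun u _ => c * (x * (u : G)) * c⁻¹) ?_ ?_ ?_ ?_
    · intro u hu
      refine Finset.mem_filter.2 ⟨Finset.mem_univ _, IsPPart.conj ⟨(u : G), rfl, hmem u, hx, ?_⟩ c⟩
      rw [Subgroup.orderOf_coe]; exact (Finset.mem_filter.1 hu).2
    · intro u _ v _ h
      exact Subtype.ext (mul_left_cancel (mul_left_cancel (mul_right_cancel h)))
    · intro g hg
      obtain ⟨u, hxu, hxc, -, hu⟩ := by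
        have := IsPPart.conj (Finset.mem_filter.1 hg).2 c⁻¹
        rwa [show c⁻¹ * (c * x * c⁻¹) * c⁻¹⁻¹ = x by group, inv_inv] at this
      have huC : u ∈ C := by
        rw [hC]
        exact Subgroup.mem_centralizer_iff.2 fun q hq => by
          rw [Set.mem_singleton_iff.1 hq]; exact hxc.eq
      refine ⟨⟨u, huC⟩, Finset.mem_filter.2 ⟨Finset.mem_univ _, ?_⟩, ?_⟩
      · rwa [← Subgroup.orderOf_coe]
      · show c * (x * u) * c⁻¹ = g
        rw [hxu]; group
    · exact fun u _ => (hF _ _).symm
  have hC0 : (Nat.card C : ℂ) ≠ 0 := Nat.cast_ne_zero.2 Nat.card_pos.ne'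
  have key : (Nat.card C : ℂ) *
      ∑ g ∈ Finset.univ.filter (fun g : G => ∃ a, IsPPart p g a ∧ IsConj x a), F g =
      ∑ c : G, ∑ g ∈ Finset.univ.filter (fun g : G => IsPPart p g (c * x * c⁻¹)), F g := by
    simp only [Finset.sum_filter]
    rw [Finset.sum_comm, Finset.mul_sum]
    refine Finset.sum_congr rfl fun g _ => ?_
    rw [← Finset.sum_filter, Finset.sum_const, hfib g, nsmul_eq_mul]
    split_ifs <;> simp
  rw [Finset.sum_congr rfl fun c _ => h1 c, Finset.sum_const, Finset.card_univ, nsmul_eq_mul,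
    ← Nat.card_eq_fintype_card] at key
  rw [mul_assoc, mul_left_comm, ← key, inv_mul_cancel_left₀ hC0]

/-- Brauer's count of the characters of a block by subsections. -/
theorem card_eq_sum_blockRank (hM : IsPModular p M) {B : Set (IrrCharacter G)}
    (hB : IsPBlock M B) (X : Finset G) (hX : ∀ x ∈ X, ∃ k : ℕ, orderOf x = p ^ k)
    (hrep : ∀ g : G, (∃ k : ℕ, orderOf g = p ^ k) → ∃! x, x ∈ X ∧ IsConj g x) :
    Nat.card B = ∑ x ∈ X,
      ∑ᶠ b ∈ {b : Set (IrrCharacter ↥(Subgroup.centralizer ({x} : Set G))) |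
        IsInducedBlock M (Subgroup.centralizer ({x} : Set G)) b B}, blockRank p b := by
  classical
  have hG : (Nat.card G : ℂ) ≠ 0 := Nat.cast_ne_zero.2 Nat.card_pos.ne'
  rw [← Nat.cast_inj (R := ℂ), ← mul_right_inj' hG, ← sum_blockPair_diag, Nat.cast_sum,
    Finset.mul_sum]
  have hsplit : ∀ g : G, blockPair B g g = ∑ x ∈ X,
      if ∃ a, IsPPart p g a ∧ IsConj x a then blockPair B g g else 0 := by
    intro g
    obtain ⟨a, ha⟩ := exists_isPPart hM.1 g
    obtain ⟨x, ⟨hxX, hax⟩, huniq⟩ := hrep a (by obtain ⟨_, _, _, h, _⟩ := ha; exact h)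
    rw [Finset.sum_eq_single x, if_pos ⟨a, ha, hax.symm⟩]
    · intro y hy hne
      rw [if_neg]
      rintro ⟨a', ha', hya⟩
      exact hne (huniq y ⟨hy, isPPart_unique hM.1 ha' ha ▸ hya.symm⟩)
    · exact fun h => absurd hxX h
  rw [Finset.sum_congr rfl fun g _ => hsplit g, Finset.sum_comm]
  refine Finset.sum_congr rfl fun x hxX => ?_
  have hx := hX x hxX
  set C := Subgroup.centralizer ({x} : Set G) with hC
  haveI : Fintype C := Fintype.ofFinite _
  have hF : ∀ g c : G, blockPair B (c * g * c⁻¹) (c * g * c⁻¹) = blockPair B g g := fun g c => by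
    unfold blockPair
    exact Finset.sum_congr rfl fun χ _ => by rw [irr_conj_invariant χ g c]
  rw [← Finset.sum_filter, sum_section hM.1 hx hC hF, mul_assoc]
  congr 1
  rw [finsum_mem_eq_finite_toFinset_sum _ (Set.toFinite _), Nat.cast_sum]
  rw [Finset.sum_congr (s₂ := unitBlocks M (restrictElt C (blockEltR M B))) (by
    ext b
    rw [Set.Finite.mem_toFinset]
    exact (mem_unitBlocks_iff_induced' hM hx hC hB).symm) fun b hb =>
      blockRank_eq hM (mem_unitBlocks.1 hb).1, ← Finset.mul_sum]
  congr 1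
  rw [Finset.sum_comm]
  refine Finset.sum_congr rfl fun u hu => ?_
  exact blockPair_local hM hB x hx C (by rw [centralizer_zpowers_eq]) u u
    (Finset.mem_filter.1 hu).2 (Finset.mem_filter.1 hu).2

end Cfsg.Agent.Blocks
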