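/-
The contribution matrix of a subsection.
-/
import Cfsg.Agent.Lib.Blocks.Cyclotomic
import Cfsg.Agent.Lib.Blocks.Subsections
import Cfsg.Agent.Lib.Blocks.HeightsApp
import Cfsg.Agent.Lib.Blocks.Defect
import Cfsg.Agent.Lib.Char.DegreeCenter

set_option linter.unusedSectionVars false
set_option linter.style.haveILetI false

namespace Cfsg.Agent.Blocks

open Cfsg MonoidAlgebra Cfsg.Agent.Char
open scoped ComplexConjugate

universe u

variable {G : Type u} [Group G] [Fintype G] {p : ℕ} {M : Ideal AlgInt} [M.IsPrime]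

theorem intCast_memLocalIdeal_iff (hM : IsPModular p M) (n : ℤ) :
    MemLocalIdeal M (n : ℂ) ↔ (p : ℤ) ∣ n := by
  rcases Int.natAbs_eq n with e | e
  · rw [e, Int.cast_natCast, natCast_memLocalIdeal_iff hM, Int.natCast_dvd_natCast]
  · rw [e, Int.cast_neg, Int.cast_natCast, dvd_neg, Int.natCast_dvd_natCast]
    refine ⟨fun h => (natCast_memLocalIdeal_iff hM _).1 (by simpa using MemLocalIdeal.neg h),
      fun h => MemLocalIdeal.neg ((natCast_memLocalIdeal_iff hM _).2 h)⟩

theorem degExp_eq_add_height (hM : IsPModular p M) {B : Set (IrrCharacter G)} (hB : IsPBlock M B)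
    {χ : IrrCharacter G} (hχ : χ ∈ B) :
    (charDegree (χ : G → ℂ)).factorization p =
      (Nat.card G).factorization p - blockDefect p B + blockHeight p B (χ : G → ℂ) := by
  have := degExp_ge hM hB hχ
  rw [blockHeight, sInf_degExp_eq' hM hB]
  omega

/-! ## The pairing on the regular elements -/

/-- The pairing of the regular parts. -/
noncomputable def regPair (p : ℕ) (lam : ℝ) (f g : G → ℂ) : ℂ :=
  (lam : ℂ) * ∑ u, pRegularPart p f u * conj (pRegularPart p g u)

/-- The scale of the pairing for a block. -/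
noncomputable def blockScale (p : ℕ) (b : Set (IrrCharacter G)) : ℝ :=
  (p : ℝ) ^ blockDefect p b / (Nat.card G : ℝ)

theorem blockScale_nonneg (b : Set (IrrCharacter G)) : 0 ≤ blockScale p b :=
  div_nonneg (pow_nonneg (Nat.cast_nonneg _) _) (Nat.cast_nonneg _)

theorem qn_eq_regPair (lam : ℝ) (f : G → ℂ) :
    (qn lam (pRegularPart p f) : ℂ) = regPair p lam f f := by
  simp only [qn, regPair, Complex.mul_conj, Complex.ofReal_mul, Complex.ofReal_sum]

theorem regPair_conj (lam : ℝ) (f g : G → ℂ) : conj (regPair p lam f g) = regPair p lam g f := by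
  simp only [regPair, map_mul, Complex.conj_ofReal, map_sum, Complex.conj_conj]
  exact congrArg _ (Finset.sum_congr rfl fun u _ => mul_comm _ _)

theorem pRegularPart_apply (f : G → ℂ) (u : G) [Decidable (p ∣ orderOf u)] :
    pRegularPart p f u = if p ∣ orderOf u then 0 else f u := by
  by_cases h : p ∣ orderOf u <;> simp [pRegularPart, IsPRegular, h]

theorem regPair_eq_sum (lam : ℝ) (f g : G → ℂ) [DecidablePred fun u : G => ¬ p ∣ orderOf u] :
    regPair p lam f g = (lam : ℂ) *
      ∑ u ∈ Finset.univ.filter (fun u : G => ¬ p ∣ orderOf u), f u * conj (g u) := by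
  classical
  rw [regPair, Finset.sum_filter]
  refine congrArg _ (Finset.sum_congr rfl fun u _ => ?_)
  by_cases h : p ∣ orderOf u <;> simp [pRegularPart_apply, h]

theorem regPair_sum_left {ι : Type*} (s : Finset ι) (lam : ℝ) (c : ι → ℂ) (f : ι → G → ℂ)
    (g : G → ℂ) :
    regPair p lam (fun u => ∑ i ∈ s, c i * f i u) g = ∑ i ∈ s, c i * regPair p lam (f i) g := by
  classical
  simp only [regPair_eq_sum, Finset.sum_mul, Finset.mul_sum]
  rw [Finset.sum_comm]
  exact Finset.sum_congr rfl fun i _ => Finset.sum_congr rfl fun u _ => by ring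

theorem regPair_sum_right {ι : Type*} (s : Finset ι) (lam : ℝ) (c : ι → ℂ) (f : G → ℂ)
    (g : ι → G → ℂ) :
    regPair p lam f (fun u => ∑ i ∈ s, c i * g i u) =
      ∑ i ∈ s, conj (c i) * regPair p lam f (g i) := by
  rw [← regPair_conj, regPair_sum_left, map_sum]
  exact Finset.sum_congr rfl fun i _ => by rw [map_mul, regPair_conj]

/-! ## Combinations of the members of a block -/

/-- A combination of the members of a set of characters. -/
noncomputable def bcomb (b : Set (IrrCharacter G)) [DecidablePred (· ∈ b)]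
    (c : IrrCharacter G → ℂ) : G → ℂ :=
  fun u => ∑ θ ∈ Finset.univ.filter (· ∈ b), c θ * (θ : G → ℂ) u

theorem regPair_bcomb_left (b : Set (IrrCharacter G)) [DecidablePred (· ∈ b)] (lam : ℝ)
    (c : IrrCharacter G → ℂ) (g : G → ℂ) :
    regPair p lam (bcomb b c) g =
      ∑ θ ∈ Finset.univ.filter (· ∈ b), c θ * regPair p lam (θ : G → ℂ) g :=
  regPair_sum_left _ _ _ _ _

theorem regPair_bcomb_right (b : Set (IrrCharacter G)) [DecidablePred (· ∈ b)] (lam : ℝ)
    (c : IrrCharacter G → ℂ) (f : G → ℂ) :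
    regPair p lam f (bcomb b c) =
      ∑ θ ∈ Finset.univ.filter (· ∈ b), conj (c θ) * regPair p lam f (θ : G → ℂ) :=
  regPair_sum_right _ _ _ _ _

theorem blockPart_bcomb (b : Set (IrrCharacter G)) [DecidablePred (· ∈ b)]
    (c : IrrCharacter G → ℂ) : blockPart b (bcomb b c) = bcomb b c := by
  classical
  have e : bcomb b c = ∑ θ : IrrCharacter G, (if θ ∈ b then c θ else 0) • (θ : G → ℂ) := by
    funext u
    simp only [bcomb, Finset.sum_apply, Pi.smul_apply, smul_eq_mul, Finset.sum_filter, ite_mul,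
      zero_mul]
  funext u
  rw [blockPart_eq_sum]
  conv_lhs => rw [e]
  exact Finset.sum_congr rfl fun θ hθ => by
    rw [classInner_combination, if_pos (Finset.mem_filter.1 hθ).2]

theorem bcomb_single (b : Set (IrrCharacter G)) [DecidablePred (· ∈ b)] {θ : IrrCharacter G}
    (hθ : θ ∈ b) [DecidableEq (IrrCharacter G)] :
    bcomb b (fun η => if η = θ then 1 else 0) = (θ : G → ℂ) := by
  funext u
  simp only [bcomb, ite_mul, one_mul, zero_mul, Finset.sum_ite_eq', Finset.mem_filter,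
    Finset.mem_univ, true_and, hθ, if_true]

theorem sum_regular_pair (hM : IsPModular p M) {b : Set (IrrCharacter G)} (hb : IsPBlock M b)
    (f : G → ℂ) {u : G} (hu : ¬ p ∣ orderOf u) [DecidablePred fun u : G => ¬ p ∣ orderOf u] :
    ∑ w ∈ Finset.univ.filter (fun w : G => ¬ p ∣ orderOf w), blockPair b u w * f w =
      (Nat.card G : ℂ) * blockPart b f u := by
  classical
  rw [blockPart_eq_pair, mul_inv_cancel_left₀ (Nat.cast_ne_zero.2 Nat.card_pos.ne'),
    Finset.sum_filter]
  refine Finset.sum_congr rfl fun w _ => ?_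
  by_cases hw : p ∣ orderOf w
  · rw [if_neg (not_not.2 hw), blockPair_regular_singular hM hb hu hw, mul_zero]
  · rw [if_pos hw, mul_comm]

theorem regPair_blockPart (hM : IsPModular p M) {b : Set (IrrCharacter G)} (hb : IsPBlock M b)
    (lam : ℝ) (f : G → ℂ) {v : G → ℂ} (hv : blockPart b v = v) :
    regPair p lam f v = regPair p lam (blockPart b f) v := by
  classical
  have hG : (Nat.card G : ℂ) ≠ 0 := Nat.cast_ne_zero.2 Nat.card_pos.ne'
  rw [regPair_eq_sum, regPair_eq_sum]
  congr 1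
  refine mul_left_cancel₀ hG ?_
  rw [Finset.mul_sum, Finset.mul_sum]
  calc ∑ u ∈ Finset.univ.filter (fun u : G => ¬ p ∣ orderOf u), (Nat.card G : ℂ) * (f u * conj (v u))
      = ∑ u ∈ Finset.univ.filter (fun u : G => ¬ p ∣ orderOf u),
          ∑ w ∈ Finset.univ.filter (fun w : G => ¬ p ∣ orderOf w),
            f u * blockPair b w u * conj (v w) := by
        refine Finset.sum_congr rfl fun u hu => ?_
        have h := congrArg conj (sum_regular_pair hM hb v (Finset.mem_filter.1 hu).2)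
        rw [hv, map_sum, map_mul, map_natCast] at h
        simp only [map_mul, blockPair_conj] at h
        rw [mul_left_comm, ← h, Finset.mul_sum]
        exact Finset.sum_congr rfl fun w _ => by ring
    _ = _ := by
        rw [Finset.sum_comm]
        refine Finset.sum_congr rfl fun w hw => ?_
        rw [← mul_assoc, ← sum_regular_pair hM hb f (Finset.mem_filter.1 hw).2, Finset.sum_mul]
        exact Finset.sum_congr rfl fun u _ => by ring

/-! ## The integral matrix of a block -/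

theorem exists_rMat (hM : IsPModular p M) {b : Set (IrrCharacter G)} (hb : IsPBlock M b) :
    ∃ r : IrrCharacter G → IrrCharacter G → ℤ,
      (∀ θ ∈ b, ∀ η ∈ b,
        regPair p (blockScale p b) (θ : G → ℂ) (η : G → ℂ) = (r θ η : ℂ)) ∧
      (∀ θ η, r θ η = r η θ) ∧
      (∀ θ ∈ b, ∀ η ∈ b, ∀ ψ ∈ b, (p : ℤ) ∣ r θ η * r ψ ψ - r θ ψ * r ψ η) ∧
      (∀ θ ∈ b, ∀ ψ ∈ b, blockHeight p b (ψ : G → ℂ) = 0 →
        (¬ (p : ℤ) ∣ r θ ψ ↔ blockHeight p b (θ : G → ℂ) = 0)) := by
  classical
  set a := (Nat.card G).factorization p with ha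
  set q := blockDefect p b with hq
  have hqa : q ≤ a := blockDefect_le b
  have hg0 : (ordPrime p G : ℂ) ≠ 0 := Nat.cast_ne_zero.2 ordPrime_ne_zero
  have hpp : ((p ^ (a - q) : ℕ) : ℂ) ≠ 0 := Nat.cast_ne_zero.2 (pow_ne_zero _ hM.1.ne_zero)
  let W : IrrCharacter G → IrrCharacter G → ℂ := fun θ η =>
    omegaR η (regElt M p (θ : G → ℂ) (irr_isCharacter θ))
  let Gc : IrrCharacter G → ℂ := fun η =>
    (charDegree (η : G → ℂ) : ℂ) / ((p ^ (a - q) : ℕ) : ℂ) * (ordPrime p G : ℂ)⁻¹
  have hG : (Nat.card G : ℂ) = ((p ^ a : ℕ) : ℂ) * (ordPrime p G : ℂ) := by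
    rw [ordPrime, ha, ← Nat.cast_mul, Nat.ordProj_mul_ordCompl_eq_self]
  have hpair : ∀ θ η : IrrCharacter G,
      regPair p (blockScale p b) (θ : G → ℂ) (η : G → ℂ) =
        classInner (regTr p (θ : G → ℂ)) (η : G → ℂ) / ((p ^ (a - q) : ℕ) : ℂ) := by
    intro θ η
    have hpow : ((p ^ a : ℕ) : ℂ) = ((p ^ q : ℕ) : ℂ) * ((p ^ (a - q) : ℕ) : ℂ) := by
      rw [← Nat.cast_mul, ← pow_add, Nat.add_sub_cancel' hqa]
    have hq0 : ((p ^ q : ℕ) : ℂ) ≠ 0 := Nat.cast_ne_zero.2 (pow_ne_zero _ hM.1.ne_zero)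
    rw [classInner_regTr hM.1, regPair_eq_sum, blockScale, ← hq]
    push_cast
    rw [hG, hpow, show (p : ℂ) ^ q = ((p ^ q : ℕ) : ℂ) by push_cast; rfl,
      show ((Nat.card G / p ^ (Nat.card G).factorization p : ℕ) : ℂ) = (ordPrime p G : ℂ) from rfl,
      show ((p : ℂ) ^ (a - q)) = ((p ^ (a - q) : ℕ) : ℂ) by push_cast; rfl]
    field_simp
  have hWG : ∀ θ η : IrrCharacter G,
      regPair p (blockScale p b) (θ : G → ℂ) (η : G → ℂ) = W θ η * Gc η := fun θ η => by
    rw [hpair, classInner_regTr_eq hM (irr_isCharacter θ) η, irr_one_eq_charDegree η]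
    simp only [W, Gc]
    ring
  have hint : ∀ θ η : IrrCharacter G, ∃ z : ℤ, θ ∈ b → η ∈ b →
      regPair p (blockScale p b) (θ : G → ℂ) (η : G → ℂ) = (z : ℂ) := by
    intro θ η
    by_cases hη : η ∈ b
    · obtain ⟨m, hm, hmd, -⟩ := exists_mult hM (irr_isCharacter θ) η
      obtain ⟨z, rfl⟩ := (pow_dvd_pow (p : ℤ) (degExp_ge hM hb hη)).trans hmd
      refine ⟨z, fun _ _ => ?_⟩
      rw [hpair, hm]
      push_cast at hpp ⊢
      rw [mul_div_cancel_left₀ _ hpp]
    · exact ⟨0, fun _ h => absurd h hη⟩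
  choose z hz using hint
  let r : IrrCharacter G → IrrCharacter G → ℤ := fun θ η => if θ ∈ b ∧ η ∈ b then z θ η else 0
  have hr : ∀ θ ∈ b, ∀ η ∈ b,
      regPair p (blockScale p b) (θ : G → ℂ) (η : G → ℂ) = (r θ η : ℂ) := fun θ hθ η hη => by
    simp only [r, if_pos (And.intro hθ hη)]; exact hz θ η hθ hη
  have hGc : ∀ η ∈ b, MemLocalRing M (Gc η) := fun η hη => mem_locRing.1
    ((locRing M).mul_mem (memLocalRing_natDiv hM (by
      rw [hM.1.factorization_pow, Finsupp.single_eq_same]; exact degExp_ge hM hb hη))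
      (inv_ordPrime_mem hM))
  have hW : ∀ θ η : IrrCharacter G, MemLocalRing M (W θ η) := fun θ η =>
    omegaR_memLocalRing η (isClassElt_regElt _)
  refine ⟨r, hr, fun θ η => ?_, fun θ hθ η hη ψ hψ => ?_, fun θ hθ ψ hψ h0 => ?_⟩
  · by_cases h : θ ∈ b ∧ η ∈ b
    · have h1 := hr θ h.1 η h.2
      have h2 := hr η h.2 θ h.1
      rw [← regPair_conj, h1, map_intCast] at h2
      exact_mod_cast h2
    · simp only [r, if_neg h, if_neg (fun h' : η ∈ b ∧ θ ∈ b => h ⟨h'.2, h'.1⟩)]
  · rw [← intCast_memLocalIdeal_iff hM]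
    push_cast
    rw [← hr θ hθ η hη, ← hr ψ hψ ψ hψ, ← hr θ hθ ψ hψ, ← hr ψ hψ η hη]
    simp only [hWG]
    rw [show W θ η * Gc η * (W ψ ψ * Gc ψ) - W θ ψ * Gc ψ * (W ψ η * Gc η) =
      (Gc η * Gc ψ) * ((W θ η - W θ ψ) * W ψ ψ + W θ ψ * (W ψ ψ - W ψ η)) by ring]
    refine MemLocalIdeal.mul_left (mem_locRing.1 ((locRing M).mul_mem
      (mem_locRing.2 (hGc η hη)) (mem_locRing.2 (hGc ψ hψ))))
      (MemLocalIdeal.add (MemLocalIdeal.mul_right ?_ (hW ψ ψ)) (MemLocalIdeal.mul_left (hW θ ψ) ?_))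
    · exact omegaR_congr (isPBlock_sameBlock hb hη hψ) (isClassElt_regElt _)
    · exact omegaR_congr (isPBlock_sameBlock hb hψ hη) (isClassElt_regElt _)
  · rw [← not_iff_not.2 (intCast_memLocalIdeal_iff hM (r θ ψ)), ← hr θ hθ ψ hψ, hWG]
    have hu : ¬ MemLocalIdeal M (Gc ψ) := by
      intro hmem
      have := MemLocalIdeal.mul_left (mem_locRing.1 (natCast_mem (locRing M) (ordPrime p G))) hmem
      simp only [Gc] at this
      rw [mul_comm ((charDegree (ψ : G → ℂ) : ℂ) / _), mul_inv_cancel_left₀ hg0] at this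
      refine not_memLocalIdeal_natDiv hM (pow_ne_zero _ hM.1.ne_zero) (charDegree_pos ψ).ne' ?_ this
      rw [hM.1.factorization_pow, Finsupp.single_eq_same]
      exact ((blockHeight_eq_zero_iff hM hb hψ).1 h0).le
    rw [← not_iff_not.2 (omegaR_regElt_mem_iff hM hb hθ hψ) |>.trans not_not]
    refine not_iff_not.2 ⟨fun h => ?_, fun h => MemLocalIdeal.mul_right h (hGc ψ hψ)⟩
    exact (memLocalIdeal_mul_cases (hW θ ψ) (hGc ψ hψ) h).resolve_right hu

/-- The product rule for integral combinations. -/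
theorem sum_rMat_congr {ι : Type*} (s : Finset ι) {p : ℕ} (r : ι → ι → ℤ) {ψ : ι}
    (h : ∀ θ ∈ s, ∀ η ∈ s, (p : ℤ) ∣ r θ η * r ψ ψ - r θ ψ * r ψ η) (n n' : ι → ℤ) :
    (p : ℤ) ∣ (∑ θ ∈ s, ∑ η ∈ s, n θ * n' η * r θ η) * r ψ ψ -
      (∑ θ ∈ s, n θ * r θ ψ) * ∑ η ∈ s, n' η * r ψ η := by
  rw [Finset.sum_mul_sum, Finset.sum_mul, ← Finset.sum_sub_distrib]
  refine Finset.dvd_sum fun θ hθ => ?_
  rw [Finset.sum_mul, ← Finset.sum_sub_distrib]
  refine Finset.dvd_sum fun η hη => ?_
  rw [show n θ * n' η * r θ η * r ψ ψ - n θ * r θ ψ * (n' η * r ψ η) =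
    n θ * n' η * (r θ η * r ψ ψ - r θ ψ * r ψ η) by ring]
  exact (h θ hθ η hη).mul_left _

/-! ## The subsection -/

section Subsection

variable {x : G} {C : Subgroup G} [Fintype C] {b : Set (IrrCharacter C)} [DecidablePred (· ∈ b)]

theorem centralizer_pow_eq (hp : p.Prime) (hx : ∃ k, orderOf x = p ^ k) {t : ℕ} (ht : ¬ p ∣ t) :
    Subgroup.centralizer ({x ^ t} : Set G) = Subgroup.centralizer ({x} : Set G) := by
  obtain ⟨k, hk⟩ := hx
  obtain ⟨m, hm⟩ := exists_pow_eq_self_of_coprime (x := x) (n := t) (by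
    rw [hk]; exact Nat.Coprime.pow_right _ ((hp.coprime_iff_not_dvd.2 ht).symm))
  ext c
  simp only [Subgroup.mem_centralizer_singleton_iff]
  refine ⟨fun h => ?_, fun h => ((show Commute c x from h).pow_right t).eq⟩
  rw [← hm]
  exact ((show Commute c (x ^ t) from h).pow_right m).eq

theorem exists_pow_eq_one (hx : ∃ k, orderOf x = p ^ k) : ∃ j, x ^ p ^ (j + 1) = 1 := by
  obtain ⟨k, hk⟩ := hx
  exact ⟨k, by rw [pow_succ, pow_mul, ← hk, pow_orderOf_eq_one, one_pow]⟩

/-- The exponents of the central character values at `x`. -/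
theorem exists_exponents (hp : p ≠ 0) (hC : C = Subgroup.centralizer ({x} : Set G)) {j : ℕ}
    (hxj : x ^ p ^ (j + 1) = 1) {ζ : ℂ} (hζ : IsPrimitiveRoot ζ (p ^ (j + 1))) :
    ∃ e : IrrCharacter C → ℕ, ∀ (θ : IrrCharacter C) (t : ℕ) (u w : C), (w : G) = x ^ t →
      (θ : C → ℂ) (w * u) = ζ ^ (t * e θ) * (θ : C → ℂ) u := by
  classical
  have hxC : x ∈ C := by
    rw [hC]; exact Subgroup.mem_centralizer_singleton_iff.2 rfl
  have hcen : (⟨x, hxC⟩ : C) ∈ Subgroup.center C := by
    refine Subgroup.mem_center_iff.2 fun g => Subtype.ext ?_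
    have := g.2
    simp only [hC, Subgroup.mem_centralizer_singleton_iff] at this
    exact this
  have hq : p ^ (j + 1) ≠ 0 := pow_ne_zero _ hp
  have h : ∀ θ : IrrCharacter C, ∃ i : ℕ, ∀ (t : ℕ) (u : C),
      (θ : C → ℂ) ((⟨x, hxC⟩ : C) ^ t * u) = ζ ^ (t * i) * (θ : C → ℂ) u := by
    intro θ
    obtain ⟨c, -, hc, -⟩ := IsIrrCharacter.exists_central_scalar θ.2 hcen
    have ht : ∀ (t : ℕ) (u : C),
        (θ : C → ℂ) ((⟨x, hxC⟩ : C) ^ t * u) = c ^ t * (θ : C → ℂ) u := by
      intro t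
      induction t with
      | zero => intro u; simp
      | succ t ih =>
        intro u
        rw [pow_succ', mul_assoc, hc, ih, pow_succ']; ring
    have hc1 : c ^ p ^ (j + 1) = 1 := by
      have := ht (p ^ (j + 1)) 1
      rw [show (⟨x, hxC⟩ : C) ^ p ^ (j + 1) = 1 from Subtype.ext (by simpa using hxj),
        mul_one] at this
      exact mul_right_cancel₀ (irr_one_ne_zero θ) (this.symm.trans (one_mul _).symm)
    haveI : NeZero (p ^ (j + 1)) := ⟨hq⟩
    obtain ⟨i, -, hi⟩ := hζ.eq_pow_of_pow_eq_one hc1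
    exact ⟨i, fun t u => by rw [ht, ← hi, ← pow_mul, mul_comm i t]⟩
  choose e he using h
  refine ⟨e, fun θ t u w hw => ?_⟩
  rw [show w = (⟨x, hxC⟩ : C) ^ t from Subtype.ext (by simpa using hw)]
  exact he θ t u

/-- The multiplicities of the restriction. -/
theorem exists_mults (C : Subgroup G) [Fintype C] (χ : IrrCharacter G) :
    ∃ n : IrrCharacter C → ℕ, (∀ u : C, (χ : G → ℂ) u = ∑ θ, (n θ : ℂ) * (θ : C → ℂ) u) ∧
      ∀ θ : IrrCharacter C, classInner (fun h : C => (χ : G → ℂ) h) (θ : C → ℂ) = n θ := by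
  have hres := IsCharacter.restrict (irr_isCharacter χ) C
  choose n hn using fun θ : IrrCharacter C =>
    IsCharacter.exists_classInner_nat hres (irr_isCharacter θ)
  refine ⟨n, fun u => ?_, hn⟩
  have := congrFun (IsCharacter.eq_sum hres) u
  simp only [Finset.sum_apply, Pi.smul_apply, smul_eq_mul, hn] at this
  exact this

theorem blockPart_secFun_pow (hC : C = Subgroup.centralizer ({x} : Set G)) (χ : IrrCharacter G)
    {n : IrrCharacter C → ℕ} (hn : ∀ u : C, (χ : G → ℂ) u = ∑ θ, (n θ : ℂ) * (θ : C → ℂ) u)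
    {ζ : ℂ} {e : IrrCharacter C → ℕ}
    (he : ∀ (θ : IrrCharacter C) (t : ℕ) (u w : C), (w : G) = x ^ t →
      (θ : C → ℂ) (w * u) = ζ ^ (t * e θ) * (θ : C → ℂ) u) (t : ℕ) :
    blockPart b (secFun (x ^ t) C (χ : G → ℂ)) =
      bcomb b (fun θ => ζ ^ (t * e θ) * (n θ : ℂ)) := by
  classical
  have hxC : x ∈ C := by rw [hC]; exact Subgroup.mem_centralizer_singleton_iff.2 rfl
  have h1 : secFun (x ^ t) C (χ : G → ℂ) =
      ∑ θ : IrrCharacter C, (ζ ^ (t * e θ) * (n θ : ℂ)) • (θ : C → ℂ) := by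
    funext u
    rw [secFun, show x ^ t * (u : G) = (((⟨x ^ t, C.pow_mem hxC t⟩ : C) * u : C) : G) from rfl,
      hn, Finset.sum_apply]
    exact Finset.sum_congr rfl fun θ _ => by
      rw [he θ t u _ rfl, Pi.smul_apply, smul_eq_mul]; ring
  funext u
  rw [blockPart_eq_sum, h1]
  exact Finset.sum_congr rfl fun θ _ => by rw [classInner_combination]

variable {B : Set (IrrCharacter G)} [DecidablePred (· ∈ B)]

theorem blockScale_mul_card (b : Set (IrrCharacter C)) :
    (blockScale p b : ℂ) * (Nat.card C : ℂ) = ((p ^ blockDefect p b : ℕ) : ℂ) := by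
  rw [blockScale]
  push_cast
  exact div_mul_cancel₀ _ (Nat.cast_ne_zero.2 Nat.card_pos.ne')

/-- Bessel's equation over a block. -/
theorem sum_normSq_regPair (hM : IsPModular p M) (hx : ∃ k, orderOf x = p ^ k)
    (hC : C = Subgroup.centralizer ({x} : Set G)) (hind : IsInducedBlock M C b B)
    {v : C → ℂ} (hv : blockPart b v = v) :
    ∑ χ ∈ Finset.univ.filter (· ∈ B),
        (Complex.normSq (regPair p (blockScale p b) (secFun x C (χ : G → ℂ)) v) : ℂ) =
      ((p ^ blockDefect p b : ℕ) : ℂ) * regPair p (blockScale p b) v v := by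
  classical
  have hU : b ∈ unitBlocks M (restrictElt C (blockEltR M B)) :=
    (mem_unitBlocks_iff_induced' hM hx hC hind.2.1).2 hind
  simp only [← Complex.mul_conj]
  simp only [fun χ : IrrCharacter G => regPair_blockPart hM hind.1 (blockScale p b)
    (secFun x C (χ : G → ℂ)) hv, regPair_eq_sum, map_mul, map_sum, Complex.conj_conj,
    Complex.conj_ofReal, Finset.mul_sum, Finset.sum_mul]
  rw [Finset.sum_comm]
  refine Finset.sum_congr rfl fun u hu => ?_
  rw [Finset.sum_comm]
  have hu' := (Finset.mem_filter.1 hu).2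
  calc _ = (blockScale p b : ℂ) * (blockScale p b : ℂ) * v u *
        ∑ w ∈ Finset.univ.filter (fun w : C => ¬ p ∣ orderOf w), conj (v w) *
          (∑ χ ∈ Finset.univ.filter (· ∈ B), blockPart b (secFun x C (χ : G → ℂ)) w *
            conj (blockPart b (secFun x C (χ : G → ℂ)) u)) := by
        simp only [Finset.mul_sum]
        exact Finset.sum_congr rfl fun w _ => Finset.sum_congr rfl fun χ _ => by ring
    _ = (blockScale p b : ℂ) * (blockScale p b : ℂ) * v u *
        conj (∑ w ∈ Finset.univ.filter (fun w : C => ¬ p ∣ orderOf w), blockPair b u w * v w) := by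
        rw [map_sum]
        congr 1
        refine Finset.sum_congr rfl fun w hw => ?_
        rw [blockPart_secFun_gram hM hx hC hind.2.1 hind.1 (Finset.mem_filter.1 hw).2 hu',
          if_pos hU, map_mul, blockPair_conj, mul_comm]
    _ = _ := by
        rw [sum_regular_pair hM hind.1 v hu', hv, map_mul, map_natCast, ← blockScale_mul_card b]
        ring

/-- The trace of the contribution matrix. -/
theorem sum_regPair_self (hM : IsPModular p M) (hx : ∃ k, orderOf x = p ^ k)
    (hC : C = Subgroup.centralizer ({x} : Set G)) (hind : IsInducedBlock M C b B) :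
    ∑ χ ∈ Finset.univ.filter (· ∈ B),
        regPair p (blockScale p b) (blockPart b (secFun x C (χ : G → ℂ)))
          (blockPart b (secFun x C (χ : G → ℂ))) =
      ((p ^ blockDefect p b : ℕ) : ℂ) * (blockRank p b : ℂ) := by
  classical
  have hU : b ∈ unitBlocks M (restrictElt C (blockEltR M B)) :=
    (mem_unitBlocks_iff_induced' hM hx hC hind.2.1).2 hind
  simp only [regPair_eq_sum, ← Finset.mul_sum]
  rw [Finset.sum_comm, Finset.sum_congr rfl fun u hu => by
    rw [blockPart_secFun_gram hM hx hC hind.2.1 hind.1 (Finset.mem_filter.1 hu).2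
      (Finset.mem_filter.1 hu).2, if_pos hU]]
  rw [blockRank_eq hM hind.1, ← blockScale_mul_card b, mul_assoc,
    mul_inv_cancel_left₀ (Nat.cast_ne_zero.2 Nat.card_pos.ne')]

/-- The multiplicity sum against a height zero character detects height zero. -/
theorem dvd_mult_sum_iff (hM : IsPModular p M) (hind : IsInducedBlock M C b B)
    {χ : IrrCharacter G} (hχ : χ ∈ B) {n : IrrCharacter C → ℕ}
    (hn : ∀ u : C, (χ : G → ℂ) u = ∑ θ, (n θ : ℂ) * (θ : C → ℂ) u)
    {r : IrrCharacter C → IrrCharacter C → ℤ}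
    (hr : ∀ θ ∈ b, ∀ η ∈ b, regPair p (blockScale p b) (θ : C → ℂ) (η : C → ℂ) = (r θ η : ℂ))
    {ψ : IrrCharacter C} (hψ : ψ ∈ b) (hψ0 : blockHeight p b (ψ : C → ℂ) = 0) :
    (p : ℤ) ∣ ∑ θ ∈ Finset.univ.filter (· ∈ b), (n θ : ℤ) * r θ ψ ↔
      blockHeight p B (χ : G → ℂ) ≠ 0 := by
  classical
  have hψv : blockPart b (ψ : C → ℂ) = (ψ : C → ℂ) := by
    rw [← bcomb_single b hψ, blockPart_bcomb]
  set a := (Nat.card C).factorization p with ha
  set q := blockDefect p b with hq
  set res : C → ℂ := fun h => (χ : G → ℂ) h with hres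
  have hres' : res = ∑ θ : IrrCharacter C, (n θ : ℂ) • (θ : C → ℂ) := by
    funext u; rw [Finset.sum_apply]; exact hn u
  have hbp : blockPart b res = bcomb b fun θ => (n θ : ℂ) := by
    funext u
    rw [blockPart_eq_sum, hres']
    exact Finset.sum_congr rfl fun θ _ => by rw [classInner_combination]
  have hsum : ((∑ θ ∈ Finset.univ.filter (· ∈ b), (n θ : ℤ) * r θ ψ : ℤ) : ℂ) =
      regPair p (blockScale p b) res (ψ : C → ℂ) := by
    rw [regPair_blockPart hM hind.1 _ res hψv, hbp, regPair_bcomb_left]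
    push_cast
    exact Finset.sum_congr rfl fun θ hθ => by rw [hr θ (Finset.mem_filter.1 hθ).2 ψ hψ]
  have hqa : q ≤ a := blockDefect_le b
  have hdeg : (charDegree (ψ : C → ℂ)).factorization p = a - q :=
    (blockHeight_eq_zero_iff hM hind.1 hψ).1 hψ0
  have hpair : regPair p (blockScale p b) res (ψ : C → ℂ) =
      ((charDegree (ψ : C → ℂ) : ℂ) / ((p ^ (a - q) : ℕ) : ℂ)) *
        (classInner (regTr p res) (ψ : C → ℂ) / (ψ : C → ℂ) 1) := by
    have hd : (charDegree (ψ : C → ℂ) : ℂ) ≠ 0 := Nat.cast_ne_zero.2 (charDegree_pos ψ).ne'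
    have hq0 : (p : ℂ) ^ q ≠ 0 := pow_ne_zero _ (Nat.cast_ne_zero.2 hM.1.ne_zero)
    have hq1 : (p : ℂ) ^ (a - q) ≠ 0 := pow_ne_zero _ (Nat.cast_ne_zero.2 hM.1.ne_zero)
    have hg : (ordPrime p C : ℂ) ≠ 0 := Nat.cast_ne_zero.2 ordPrime_ne_zero
    have hG : (Nat.card C : ℂ) = (p : ℂ) ^ q * (p : ℂ) ^ (a - q) * (ordPrime p C : ℂ) := by
      rw [← pow_add, Nat.add_sub_cancel' hqa, ordPrime, ha, ← Nat.cast_pow, ← Nat.cast_mul,
        Nat.ordProj_mul_ordCompl_eq_self]
    rw [classInner_regTr hM.1, regPair_eq_sum, blockScale, irr_one_eq_charDegree ψ,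
      show ((Nat.card C / p ^ (Nat.card C).factorization p : ℕ) : ℂ) = (ordPrime p C : ℂ) from rfl]
    push_cast
    rw [← hq, hG]
    field_simp
  rw [← intCast_memLocalIdeal_iff hM, hsum, hpair]
  have hu : ¬ MemLocalIdeal M ((charDegree (ψ : C → ℂ) : ℂ) / ((p ^ (a - q) : ℕ) : ℂ)) :=
    not_memLocalIdeal_natDiv hM (pow_ne_zero _ hM.1.ne_zero) (charDegree_pos ψ).ne'
      (by rw [hM.1.factorization_pow, Finsupp.single_eq_same, hdeg])
  have hR : MemLocalRing M ((charDegree (ψ : C → ℂ) : ℂ) / ((p ^ (a - q) : ℕ) : ℂ)) :=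
    memLocalRing_natDiv hM (by rw [hM.1.factorization_pow, Finsupp.single_eq_same, hdeg])
  have hiff := restrict_mult_congr hM hind χ hψ
  constructor
  · intro h h0
    have h2 := MemLocalIdeal.mul_left (memLocalRing_inv hR hu) h
    rw [inv_mul_cancel_left₀ (fun e => hu (by rw [e]; exact memLocalIdeal_zero))] at h2
    exact hiff.1 h2 ⟨hχ, h0⟩
  · exact fun h => MemLocalIdeal.mul_left hR (hiff.2 fun hc => h hc.2)

/-- Sums over the regular elements weighted by the class lengths are sums over classes. -/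
theorem sum_regular_div_index (F : C → ℂ) (hF : IsClassFunction C F) [Fintype (ConjClasses C)] :
    ∑ w : C, F w / ((Subgroup.centralizer ({w} : Set C)).index : ℂ) =
      ∑ K : ConjClasses C, F K.out := by
  classical
  rw [← Finset.sum_fiberwise (Finset.univ : Finset C) ConjClasses.mk]
  refine Finset.sum_congr rfl fun K _ => ?_
  have hfil : (Finset.univ.filter fun w : C => ConjClasses.mk w = K) = classFinset K.out := by
    ext w
    rw [mem_classFinset, Finset.mem_filter, ← ConjClasses.mk_eq_mk_iff_isConj]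
    simp only [Finset.mem_univ, true_and]
    rw [show ConjClasses.mk (K.out) = K from Quotient.out_eq K, eq_comm]
  rw [hfil]
  have hc : ∀ w ∈ classFinset K.out, F w / ((Subgroup.centralizer ({w} : Set C)).index : ℂ) =
      F K.out / ((classFinset K.out).card : ℂ) := by
    intro w hw
    obtain ⟨c, rfl⟩ := isConj_iff.1 ((mem_classFinset).1 hw)
    rw [hF, ← card_classFinset,
      show classFinset (c * K.out * c⁻¹) = classFinset K.out by
        ext z
        simp only [mem_classFinset]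
        exact ⟨fun e => (isConj_iff.2 ⟨c, rfl⟩).trans e,
          fun e => (isConj_iff.2 ⟨c, rfl⟩).symm.trans e⟩]
  rw [Finset.sum_congr rfl hc, Finset.sum_const, nsmul_eq_mul, mul_div_cancel₀]
  exact Nat.cast_ne_zero.2 (Finset.card_ne_zero.2 ⟨K.out, mem_classFinset.2 (IsConj.refl _)⟩)

theorem card_centralizer_section (hp : p.Prime) (hx : ∃ k, orderOf x = p ^ k)
    (hC : C = Subgroup.centralizer ({x} : Set G)) {w : C} (hw : ¬ p ∣ orderOf w) :
    Nat.card (Subgroup.centralizer ({x * (w : G)} : Set G)) =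
      Nat.card (Subgroup.centralizer ({w} : Set C)) := by
  have hxw : Commute x (w : G) := Subgroup.mem_centralizer_iff.1 (hC.le w.2) x rfl
  have hpp : IsPPart p (x * (w : G)) x :=
    ⟨(w : G), rfl, hxw, hx, by rwa [Subgroup.orderOf_coe]⟩
  obtain ⟨i, hi⟩ := Subgroup.mem_zpowers_iff.1 (Cfsg.Agent.Blocks.IsPPart.mem_zpowers hp hpp)
  refine Nat.card_congr ?_
  have hgC : ∀ g : Subgroup.centralizer ({x * (w : G)} : Set G),
      (g : G) ∈ C ∧ Commute (g : G) (w : G) := by
    intro g
    have hg : Commute (g : G) (x * (w : G)) := Subgroup.mem_centralizer_singleton_iff.1 g.2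
    have hgx : Commute (g : G) x := by
      have h' := hg.zpow_right i
      rwa [hi] at h'
    refine ⟨hC.ge (Subgroup.mem_centralizer_singleton_iff.2 hgx.eq), ?_⟩
    have h2 := hgx.inv_right.mul_right hg
    rwa [inv_mul_cancel_left] at h2
  refine
    { toFun := fun g => ⟨⟨g, (hgC g).1⟩,
        Subgroup.mem_centralizer_singleton_iff.2 (Subtype.ext (hgC g).2.eq)⟩
      invFun := fun d => ⟨((d : C) : G), Subgroup.mem_centralizer_singleton_iff.2 ?_⟩
      left_inv := fun g => rfl
      right_inv := fun d => rfl }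
  have h1 : Commute ((d : C) : G) x :=
    (Subgroup.mem_centralizer_iff.1 (hC.le (d : C).2) x rfl).symm
  have h2 : Commute ((d : C) : G) (w : G) :=
    congrArg Subtype.val (Subgroup.mem_centralizer_singleton_iff.1 d.2)
  exact (h1.mul_right h2).eq

/-- At a major subsection the pairing has the divisibility given by the height. -/
theorem regPair_major (hM : IsPModular p M) (hx : ∃ k, orderOf x = p ^ k)
    (hC : C = Subgroup.centralizer ({x} : Set G)) (hind : IsInducedBlock M C b B)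
    (hd : blockDefect p b = blockDefect p B) {χ χ₀ : IrrCharacter G} (hχ : χ ∈ B) (hχ₀ : χ₀ ∈ B)
    (h0 : blockHeight p B (χ₀ : G → ℂ) = 0) {v : C → ℂ} (hv : IsClassFunction C v)
    (hvR : ∀ u, MemLocalRing M (conj (v u))) :
    MemLocalRing M (regPair p (blockScale p b) (secFun x C (χ : G → ℂ)) v /
        (p : ℂ) ^ blockHeight p B (χ : G → ℂ)) ∧
      (MemLocalIdeal M (regPair p (blockScale p b) (secFun x C (χ : G → ℂ)) v /
          (p : ℂ) ^ blockHeight p B (χ : G → ℂ)) ↔
        MemLocalIdeal M (regPair p (blockScale p b) (secFun x C (χ₀ : G → ℂ)) v)) := by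
  classical
  haveI : Finite (ConjClasses C) := Finite.of_surjective _ ConjClasses.mk_surjective
  haveI : Fintype (ConjClasses C) := Fintype.ofFinite _
  set d := blockDefect p B with hdd
  set a := (Nat.card G).factorization p with ha
  let S : IrrCharacter G → ℂ := fun φ => ∑ K : ConjClasses C,
    if p ∣ orderOf K.out then 0
    else conj (v K.out) * centralChar (φ : G → ℂ) (x * ((K.out : C) : G))
  have hSR : ∀ φ, MemLocalRing M (S φ) := fun φ => memLocalRing_sum _ _ fun K _ => by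
    split_ifs
    · exact (locRing M).zero_mem
    · exact (locRing M).mul_mem (mem_locRing.2 (hvR _)) (mem_locRing.2 (centralChar_memLocalRing _ _))
  have hScong : ∀ φ ∈ B, MemLocalIdeal M (S φ - S χ₀) := fun φ hφ => by
    simp only [S, ← Finset.sum_sub_distrib]
    refine memLocalIdeal_sum _ _ fun K _ => ?_
    split_ifs
    · simpa using memLocalIdeal_zero (M := M)
    · rw [← mul_sub]
      exact MemLocalIdeal.mul_left (hvR _) (isPBlock_sameBlock hind.2.1 hφ hχ₀ _)
  have key : ∀ φ : IrrCharacter G, regPair p (blockScale p b) (secFun x C (φ : G → ℂ)) v =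
      ((p ^ d * charDegree (φ : G → ℂ) : ℕ) : ℂ) / (Nat.card G : ℂ) * S φ := by
    intro φ
    let F : C → ℂ := fun w => if p ∣ orderOf w then 0
      else conj (v w) * centralChar (φ : G → ℂ) (x * (w : G))
    have hFc : IsClassFunction C F := by
      intro g h
      simp only [F]
      have ho : orderOf (h * g * h⁻¹) = orderOf g := by rw [← MulAut.conj_apply, MulEquiv.orderOf_eq]
      rw [ho, hv g h, centralChar_isConj φ (g := x * (g : G)) (h := x * ((h * g * h⁻¹ : C) : G)) ?_]
      refine isConj_iff.2 ⟨(h : G), ?_⟩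
      have hxh : Commute x (h : G) := Subgroup.mem_centralizer_iff.1 (hC.le h.2) x rfl
      simp only [Subgroup.coe_mul, Subgroup.coe_inv, ← mul_assoc, hxh.eq]
    have hS : S φ = ∑ w : C, F w / ((Subgroup.centralizer ({w} : Set C)).index : ℂ) := by
      rw [sum_regular_div_index F hFc]
    have hCn : (Nat.card C : ℂ) ≠ 0 := Nat.cast_ne_zero.2 Nat.card_pos.ne'
    have hGn : (Nat.card G : ℂ) ≠ 0 := Nat.cast_ne_zero.2 Nat.card_pos.ne'
    rw [hS, regPair_eq_sum, Finset.sum_filter, Finset.mul_sum, Finset.mul_sum]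
    refine Finset.sum_congr rfl fun w _ => ?_
    by_cases hw : p ∣ orderOf w
    · simp [F, hw]
    · simp only [F, if_neg hw, if_pos hw, secFun, blockScale, hd, centralChar,
        irr_one_eq_charDegree φ]
      have hi := congrArg (Nat.cast (R := ℂ))
        ((Subgroup.centralizer ({x * (w : G)} : Set G)).card_mul_index)
      rw [card_centralizer_section hM.1 hx hC hw] at hi
      have hj := congrArg (Nat.cast (R := ℂ)) (Subgroup.centralizer ({w} : Set C)).card_mul_index
      push_cast at hi hj ⊢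
      have hdφ : (charDegree (φ : G → ℂ) : ℂ) ≠ 0 := Nat.cast_ne_zero.2 (charDegree_pos φ).ne'
      have hiw : ((Subgroup.centralizer ({w} : Set C)).index : ℂ) ≠ 0 :=
        Nat.cast_ne_zero.2 Subgroup.index_ne_zero_of_finite
      rw [← hi, ← hj]
      have hcw : (Nat.card (Subgroup.centralizer ({w} : Set C)) : ℂ) ≠ 0 :=
        Nat.cast_ne_zero.2 Nat.card_pos.ne'
      have hix : ((Subgroup.centralizer ({x * (w : G)} : Set G)).index : ℂ) ≠ 0 :=
        Nat.cast_ne_zero.2 Subgroup.index_ne_zero_of_finite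
      field_simp
  set h := blockHeight p B (χ : G → ℂ) with hh
  have hG0 : (Nat.card G) ≠ 0 := Nat.card_pos.ne'
  have hfac : ∀ φ ∈ B, MemLocalRing M (((p ^ d * charDegree (φ : G → ℂ) : ℕ) : ℂ) /
        ((Nat.card G * p ^ blockHeight p B (φ : G → ℂ) : ℕ) : ℂ)) ∧
      ¬ MemLocalIdeal M (((p ^ d * charDegree (φ : G → ℂ) : ℕ) : ℂ) /
        ((Nat.card G * p ^ blockHeight p B (φ : G → ℂ) : ℕ) : ℂ)) := by
    intro φ hφ
    have hda : d ≤ a := blockDefect_le B
    have e : (p ^ d * charDegree (φ : G → ℂ)).factorization p =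
        (Nat.card G * p ^ blockHeight p B (φ : G → ℂ)).factorization p := by
      rw [Nat.factorization_mul (pow_ne_zero _ hM.1.ne_zero) (charDegree_pos φ).ne',
        Nat.factorization_mul hG0 (pow_ne_zero _ hM.1.ne_zero), Finsupp.add_apply,
        Finsupp.add_apply, hM.1.factorization_pow, hM.1.factorization_pow, Finsupp.single_eq_same,
        Finsupp.single_eq_same, degExp_eq_add_height hM hind.2.1 hφ]
      omega
    exact ⟨memLocalRing_natDiv hM e.ge, not_memLocalIdeal_natDiv hM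
      (mul_ne_zero hG0 (pow_ne_zero _ hM.1.ne_zero))
      (mul_ne_zero (pow_ne_zero _ hM.1.ne_zero) (charDegree_pos φ).ne') e.le⟩
  have hL : ∀ φ : IrrCharacter G, regPair p (blockScale p b) (secFun x C (φ : G → ℂ)) v /
      (p : ℂ) ^ blockHeight p B (φ : G → ℂ) = ((p ^ d * charDegree (φ : G → ℂ) : ℕ) : ℂ) /
        ((Nat.card G * p ^ blockHeight p B (φ : G → ℂ) : ℕ) : ℂ) * S φ := fun φ => by
    rw [key φ]
    push_cast
    ring
  refine ⟨?_, ?_⟩
  · rw [hL χ]
    exact (locRing M).mul_mem (mem_locRing.2 (hfac χ hχ).1) (mem_locRing.2 (hSR χ))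
  · have h00 := hL χ₀
    rw [h0, pow_zero, div_one] at h00
    have hf0 : MemLocalIdeal M (regPair p (blockScale p b) (secFun x C (χ₀ : G → ℂ)) v) ↔
        MemLocalIdeal M (S χ₀) := by
      have h' := hfac χ₀ hχ₀
      rw [h0] at h'
      rw [h00]
      exact ⟨fun hm => (memLocalIdeal_mul_cases h'.1 (hSR _) hm).resolve_left h'.2,
        fun hm => MemLocalIdeal.mul_left h'.1 hm⟩
    rw [hf0, hL χ]
    refine ⟨fun hm => ?_, fun hm => MemLocalIdeal.mul_left (hfac χ hχ).1 ?_⟩
    · have := MemLocalIdeal.sub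
        ((memLocalIdeal_mul_cases (hfac χ hχ).1 (hSR _) hm).resolve_left (hfac χ hχ).2) (hScong χ hχ)
      simpa using this
    · have := MemLocalIdeal.add (hScong χ hχ) hm
      simpa using this

end Subsection

end Cfsg.Agent.Blocks
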