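/-
Blocks of normal subgroups and the blocks above them.
-/
import Cfsg.Agent.Lib.Blocks.Misc
import Cfsg.Agent.Lib.Blocks.HeightsApp
import Cfsg.Agent.Lib.Char.Clifford

set_option linter.unusedSectionVars false
set_option linter.style.haveILetI false

namespace Cfsg.Agent.Blocks

open Cfsg MonoidAlgebra Cfsg.Agent.Char
open scoped ComplexConjugate

universe u

variable {G : Type u} [Group G] [Fintype G] {p : ℕ} {M : Ideal AlgInt} [M.IsPrime]
  (N : Subgroup G) [hN : N.Normal] [Fintype N]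

/-- The conjugate of an irreducible character of a normal subgroup. -/
noncomputable def cjIrr (g : G) (θ : IrrCharacter N) : IrrCharacter N :=
  ⟨conjChar N g (θ : N → ℂ), isIrrCharacter_conjChar N θ.2 g⟩

theorem cjIrr_apply (g : G) (θ : IrrCharacter N) :
    (cjIrr N g θ : N → ℂ) = conjChar N g (θ : N → ℂ) := rfl

theorem cjIrr_mul (g k : G) (θ : IrrCharacter N) : cjIrr N (g * k) θ = cjIrr N k (cjIrr N g θ) :=
  Subtype.ext (conjChar_mul N g k _)

theorem cjIrr_one (θ : IrrCharacter N) : cjIrr N 1 θ = θ := Subtype.ext (conjChar_one N _)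

theorem cjIrr_inv_left (g : G) (θ : IrrCharacter N) : cjIrr N g⁻¹ (cjIrr N g θ) = θ := by
  rw [← cjIrr_mul, mul_inv_cancel, cjIrr_one]

theorem conjHom_centralizer_index (g : G) (n : N) :
    (Subgroup.centralizer ({conjHom N g n} : Set N)).index =
      (Subgroup.centralizer ({n} : Set N)).index := by
  rw [← Subgroup.index_comap_of_surjective (f := conjHom N g) _ (conjHom_surjective N g)]
  congr 1
  ext x
  simp only [Subgroup.mem_comap, Subgroup.mem_centralizer_singleton_iff]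
  rw [← map_mul, ← map_mul]
  refine ⟨fun h => ?_, fun h => by rw [h]⟩
  have h' := congrArg (conjHom N g⁻¹) h
  rwa [← conjHom_mul, ← conjHom_mul, inv_mul_cancel, conjHom_one, conjHom_one] at h'

theorem centralChar_cjIrr (g : G) (θ : IrrCharacter N) (n : N) :
    centralChar (cjIrr N g θ : N → ℂ) n = centralChar (θ : N → ℂ) (conjHom N g n) := by
  have h1 : (cjIrr N g θ : N → ℂ) 1 = (θ : N → ℂ) 1 :=
    congrArg (θ : N → ℂ) (Subtype.ext (by simp))
  have h2 : (cjIrr N g θ : N → ℂ) n = (θ : N → ℂ) (conjHom N g n) := rfl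
  simp only [centralChar, h1, h2, conjHom_centralizer_index]

theorem sameBlock_cjIrr {θ φ : IrrCharacter N}
    (h : SameBlock M (θ : N → ℂ) (φ : N → ℂ)) (g : G) :
    SameBlock M (cjIrr N g θ : N → ℂ) (cjIrr N g φ : N → ℂ) := fun n => by
  rw [centralChar_cjIrr, centralChar_cjIrr]
  exact h _

/-- The average of the conjugates of a character. -/
theorem inducedCentralChar_normal (θ : IrrCharacter N) (n : N) :
    inducedCentralChar N (θ : N → ℂ) (n : G) =
      ((Subgroup.centralizer ({(n : G)} : Set G)).index : ℂ) *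
        (((Nat.card G : ℂ) * (θ : N → ℂ) 1)⁻¹ * ∑ x : G, conjChar N x (θ : N → ℂ) n) := by
  rw [inducedCentralChar_eq_centralChar, centralChar, indFun_normal_apply, indFun_one_apply,
    ← N.card_mul_index]
  push_cast
  have h1 : (Nat.card N : ℂ) ≠ 0 := Nat.cast_ne_zero.2 Nat.card_pos.ne'
  have h2 : (N.index : ℂ) ≠ 0 := Nat.cast_ne_zero.2 Subgroup.index_ne_zero_of_finite
  have h3 := irr_one_ne_zero θ
  field_simp

theorem sum_conjChar_eq (θ : N → ℂ) :
    ∑ x : G, conjChar N x θ = (Nat.card (inertia N θ) : ℂ) • ∑ φ ∈ conjOrbit N θ, φ := by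
  classical
  rw [Finset.smul_sum, ← Finset.sum_fiberwise_of_maps_to (t := conjOrbit N θ)
    (g := fun x : G => conjChar N x θ) (fun x _ => (mem_conjOrbit N).2 ⟨x, rfl⟩)]
  refine Finset.sum_congr rfl fun φ hφ => ?_
  rw [Finset.sum_congr rfl (g := fun _ => φ) fun x hx => (Finset.mem_filter.1 hx).2,
    Finset.sum_const, ← Nat.cast_smul_eq_nsmul ℂ, ← card_fiber N hφ, Nat.card_eq_fintype_card,
    Fintype.card_subtype]

/-- A constituent of the restriction is detected by the central characters on `N`. -/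
theorem constituent_iff (χ : IrrCharacter G) (θ : IrrCharacter N) :
    classInner (fun n : N => (χ : G → ℂ) n) (θ : N → ℂ) ≠ 0 ↔
      ∀ n : N, centralChar (χ : G → ℂ) (n : G) = inducedCentralChar N (θ : N → ℂ) (n : G) := by
  classical
  have hG : (Nat.card G : ℂ) ≠ 0 := Nat.cast_ne_zero.2 Nat.card_pos.ne'
  have hθ := irr_one_ne_zero θ
  have hχ := irr_one_ne_zero χ
  have hiff : ∀ n : N, centralChar (χ : G → ℂ) (n : G) = inducedCentralChar N (θ : N → ℂ) (n : G) ↔
      (χ : G → ℂ) (n : G) =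
        (χ : G → ℂ) 1 * (((Nat.card G : ℂ) * (θ : N → ℂ) 1)⁻¹ *
          ∑ x : G, conjChar N x (θ : N → ℂ) n) := by
    intro n
    rw [inducedCentralChar_normal, centralChar, mul_div_assoc]
    have hi : ((Subgroup.centralizer ({(n : G)} : Set G)).index : ℂ) ≠ 0 :=
      Nat.cast_ne_zero.2 Subgroup.index_ne_zero_of_finite
    rw [mul_right_inj' hi, div_eq_iff hχ, mul_comm]
  simp only [hiff]
  constructor
  · intro h n
    have h1 := congrFun (clifford N χ.2 θ.2 h) n
    have h2 := clifford_degree N χ.2 θ.2 h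
    have h3 := congrFun (sum_conjChar_eq N (θ : N → ℂ)) n
    simp only [Pi.smul_apply, Finset.sum_apply, smul_eq_mul] at h1 h3
    rw [h3, h1, h2, ← (inertia N (θ : N → ℂ)).card_mul_index]
    push_cast
    have hT : (Nat.card (inertia N (θ : N → ℂ)) : ℂ) ≠ 0 :=
      Nat.cast_ne_zero.2 Nat.card_pos.ne'
    have hi : ((inertia N (θ : N → ℂ)).index : ℂ) ≠ 0 :=
      Nat.cast_ne_zero.2 Subgroup.index_ne_zero_of_finite
    field_simp
  · intro h
    have e : (fun n : N => (χ : G → ℂ) n) =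
        ((χ : G → ℂ) 1 * ((Nat.card G : ℂ) * (θ : N → ℂ) 1)⁻¹) •
          ∑ x : G, conjChar N x (θ : N → ℂ) := by
      funext n
      simp only [Pi.smul_apply, Finset.sum_apply, smul_eq_mul]
      rw [h n, mul_assoc]
    rw [e, classInner_smul_left, classInner_sum_left,
      Finset.sum_congr rfl fun x _ => classInner_irr (isIrrCharacter_conjChar N θ.2 x) θ.2,
      Finset.sum_boole]
    refine mul_ne_zero (mul_ne_zero hχ (inv_ne_zero (mul_ne_zero hG hθ))) (Nat.cast_ne_zero.2 ?_)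
    exact Finset.card_ne_zero.2 ⟨1, Finset.mem_filter.2 ⟨Finset.mem_univ _, conjChar_one N _⟩⟩

theorem exists_over (θ : IrrCharacter N) :
    ∃ χ : IrrCharacter G, classInner (fun n : N => (χ : G → ℂ) n) (θ : N → ℂ) ≠ 0 := by
  obtain ⟨χ, hχ⟩ := IsCharacter.exists_constituent
    (isCharacter_indFun N (IsIrrCharacter.isCharacter θ.2)) fun h => by
      have h1 : indFun N (θ : N → ℂ) 1 = 0 := by rw [h]; rfl
      rw [indFun_one_apply] at h1
      exact mul_ne_zero (Nat.cast_ne_zero.2 Subgroup.index_ne_zero_of_finite)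
        (irr_one_ne_zero θ) h1
  refine ⟨χ, fun h => hχ ?_⟩
  rw [← classInner_conj_symm,
    classInner_indFun_right N (θ : N → ℂ) (IsCharacter.isClassFunction (irr_isCharacter χ)), h,
    map_zero]

/-- The congruence attached to a pair of a block of `G` and a block of `N` over which it lies. -/
theorem covering_congr {B : Set (IrrCharacter G)} (hB : IsPBlock M B) {b : Set (IrrCharacter N)}
    (hb : IsPBlock M b) {χ₀ : IrrCharacter G} (hχ₀ : χ₀ ∈ B) {θ₀ : IrrCharacter N} (hθ₀ : θ₀ ∈ b)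
    (h : classInner (fun n : N => (χ₀ : G → ℂ) n) (θ₀ : N → ℂ) ≠ 0)
    {χ : IrrCharacter G} (hχ : χ ∈ B) {θ : IrrCharacter N} (hθ : θ ∈ b) (n : N) :
    MemLocalIdeal M
      (centralChar (χ : G → ℂ) (n : G) - inducedCentralChar N (θ : N → ℂ) (n : G)) := by
  have h1 := isPBlock_sameBlock hB hχ hχ₀ (n : G)
  have h2 := omegaR_congr (isPBlock_sameBlock hb hθ₀ hθ)
    (IsClassElt.restrictElt (isClassElt_classSum (R := locRing M) (n : G)) N)
  rw [← inducedCentralChar_eq, ← inducedCentralChar_eq] at h2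
  have h3 : MemLocalIdeal M (centralChar (χ₀ : G → ℂ) (n : G) -
      inducedCentralChar N (θ₀ : N → ℂ) (n : G)) := by
    rw [(constituent_iff N χ₀ θ₀).1 h n, sub_self]
    exact memLocalIdeal_zero
  have := MemLocalIdeal.add (MemLocalIdeal.add h1 h3) h2
  simpa using this

/-- Two characters of `N` whose induced central characters are congruent lie in conjugate blocks. -/
theorem exists_conj_sameBlock {θ θ' : IrrCharacter N}
    (h : ∀ n : N, MemLocalIdeal M (inducedCentralChar N (θ : N → ℂ) (n : G) -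
      inducedCentralChar N (θ' : N → ℂ) (n : G))) :
    ∃ g : G, SameBlock M (θ : N → ℂ) (cjIrr N g θ' : N → ℂ) := by
  classical
  haveI : Finite (ConjClasses G) := Finite.of_surjective _ ConjClasses.mk_surjective
  haveI : Fintype (ConjClasses G) := Fintype.ofFinite _
  set U : Set (IrrCharacter N) :=
    {φ | ∃ g : G, SameBlock M (φ : N → ℂ) (cjIrr N g θ' : N → ℂ)} with hU
  let S : Finset (Set (IrrCharacter N)) :=
    Finset.univ.image fun g : G => blockOf M (cjIrr N g θ' : N → ℂ)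
  have hSblk : ∀ B ∈ S, IsPBlock M B := fun B hB => by
    obtain ⟨g, -, rfl⟩ := Finset.mem_image.1 hB
    exact isPBlock_blockOf _
  have hmemS : ∀ φ : IrrCharacter N, blockOf M (φ : N → ℂ) ∈ S ↔ φ ∈ U := fun φ => by
    constructor
    · intro hm
      obtain ⟨g, -, hg⟩ := Finset.mem_image.1 hm
      exact ⟨g, sameBlock_symm ((blockOf_eq_iff _ φ).1 hg)⟩
    · rintro ⟨g, hg⟩
      exact Finset.mem_image.2 ⟨g, Finset.mem_univ _, (blockOf_eq_iff _ φ).2 (sameBlock_symm hg)⟩
  set e := ∑ B ∈ S, blockEltR M B with he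
  have hec : IsClassElt e := IsClassElt.sum _ _ fun B _ => isClassElt_blockEltR B
  have hω : ∀ φ : IrrCharacter N, omegaR φ e = if φ ∈ U then 1 else 0 := fun φ => by
    rw [he, omegaR_sum_blockEltR S hSblk]
    simp only [hmemS]
  have hcoef : ∀ n : N, (e.coeff n : ℂ) = blockCoeff U n := by
    have h1 : toC e = blockElt U := classElt_ext (IsClassElt.toC hec) (isClassElt_blockElt U)
      fun φ => by
        show omegaR φ e = _
        rw [hω, omega_blockElt]
    intro n
    rw [← coeff_toC, h1, coeff_blockElt]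
  have hUconj : ∀ (g : G) (φ : IrrCharacter N), φ ∈ U → cjIrr N g φ ∈ U := by
    rintro g φ ⟨k, hk⟩
    refine ⟨k * g, ?_⟩
    rw [cjIrr_mul]
    exact sameBlock_cjIrr N hk g
  have hinv : ∀ (g : G) (n : N), blockCoeff U (conjHom N g n) = blockCoeff U n := by
    intro g n
    rw [blockCoeff_eq_sum, blockCoeff_eq_sum]
    congr 1
    refine Finset.sum_bij' (fun φ _ => cjIrr N g φ) (fun φ _ => cjIrr N g⁻¹ φ)
      (fun φ hφ => Finset.mem_filter.2 ⟨Finset.mem_univ _, hUconj g φ (Finset.mem_filter.1 hφ).2⟩)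
      (fun φ hφ => Finset.mem_filter.2 ⟨Finset.mem_univ _, hUconj g⁻¹ φ (Finset.mem_filter.1 hφ).2⟩)
      (fun φ _ => cjIrr_inv_left N g φ) (fun φ _ => by
        simpa using cjIrr_inv_left N g⁻¹ φ) fun φ _ => ?_
    have h1 : (cjIrr N g φ : N → ℂ) 1 = (φ : N → ℂ) 1 :=
      congrArg (φ : N → ℂ) (Subtype.ext (by simp))
    rw [h1]
    rfl
  let x : MonoidAlgebra (locRing M) G := gaOfFun fun g => if hg : g ∈ N then e.coeff ⟨g, hg⟩ else 0
  have hx : IsClassElt x := isClassElt_gaOfFun fun g k => by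
    by_cases hg : g ∈ N
    · rw [dif_pos hg, dif_pos (hN.conj_mem g hg k)]
      refine Subtype.ext ?_
      rw [hcoef, hcoef]
      exact hinv k ⟨g, hg⟩
    · rw [dif_neg hg, dif_neg]
      intro hk
      exact hg (by simpa [mul_assoc] using hN.conj_mem _ hk k⁻¹)
  have hres : restrictElt N x = e := gaExt fun n => by
    simp [x, coeff_restrictElt]
  have key : MemLocalIdeal M (omegaR θ (restrictElt N x) - omegaR θ' (restrictElt N x)) := by
    let F : IrrCharacter N → MonoidAlgebra (locRing M) G →+ ℂ := fun φ => AddMonoidHom.mk'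
      (fun y => omegaR φ (restrictElt N y)) fun a b => by rw [restrictElt_add, omegaR_add]
    have h1 : ∀ φ : IrrCharacter N, omegaR φ (restrictElt N x) = ∑ C : ConjClasses G,
        (x.coeff C.out : ℂ) * inducedCentralChar N (φ : N → ℂ) C.out := by
      intro φ
      conv_lhs => rw [classElt_eq_sum_classSum hx]
      refine (map_sum (F φ) _ _).trans (Finset.sum_congr rfl fun C _ => ?_)
      simp only [F, AddMonoidHom.mk'_apply, restrictElt_smul, omegaR_smul, ← inducedCentralChar_eq]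
    rw [h1, h1, ← Finset.sum_sub_distrib]
    refine memLocalIdeal_sum _ _ fun C _ => ?_
    rw [← mul_sub]
    by_cases hC : C.out ∈ N
    · exact MemLocalIdeal.mul_left (x.coeff C.out).2 (h ⟨C.out, hC⟩)
    · have : x.coeff C.out = 0 := by simp [x, hC]
      rw [this]
      simpa using memLocalIdeal_zero (M := M)
  rw [hres, hω, hω, if_pos (show θ' ∈ U from ⟨1, by rw [cjIrr_one]; exact sameBlock_refl _⟩)]
    at key
  by_contra hne
  rw [if_neg (show θ ∉ U from fun hm => hne hm), zero_sub] at key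
  exact not_memLocalIdeal_one (M := M) (by simpa using MemLocalIdeal.neg key)

theorem constituent_cjIrr (χ : IrrCharacter G) (θ : IrrCharacter N) (g : G) :
    classInner (fun n : N => (χ : G → ℂ) n) (cjIrr N g θ : N → ℂ) =
      classInner (fun n : N => (χ : G → ℂ) n) (θ : N → ℂ) :=
  classInner_restrict_conjChar N (IsCharacter.isClassFunction (irr_isCharacter χ)) _ g

/-- The congruence characterises covering. -/
theorem covers_iff {B : Set (IrrCharacter G)} (hB : IsPBlock M B) {b : Set (IrrCharacter N)}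
    (hb : IsPBlock M b) :
    (∃ χ ∈ B, ∃ θ ∈ b, classInner (fun n : N => (χ : G → ℂ) n) (θ : N → ℂ) ≠ 0) ↔
      ∀ χ ∈ B, ∀ θ ∈ b, ∀ n : N, MemLocalIdeal M
        (centralChar (χ : G → ℂ) (n : G) - inducedCentralChar N (θ : N → ℂ) (n : G)) := by
  refine ⟨fun ⟨χ₀, hχ₀, θ₀, hθ₀, h⟩ χ hχ θ hθ n => covering_congr N hB hb hχ₀ hθ₀ h hχ hθ n,
    fun h => ?_⟩
  obtain ⟨χ, hχ⟩ := isPBlock_nonempty hB
  obtain ⟨θ, hθ⟩ := isPBlock_nonempty hb
  obtain ⟨θ', hθ'⟩ := exists_restrict_constituent χ.2 N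
  obtain ⟨g, hg⟩ := exists_conj_sameBlock (M := M) N (θ := θ) (θ' := θ') fun n => by
    have h1 := h χ hχ θ hθ n
    rw [(constituent_iff N χ θ').1 hθ' n] at h1
    simpa using MemLocalIdeal.neg h1
  exact ⟨χ, hχ, cjIrr N g θ', isPBlock_mem_of_sameBlock hb hθ hg,
    by rw [constituent_cjIrr]; exact hθ'⟩

/-- The constituents over a block lie in one orbit of blocks. -/
theorem constituents_conjugate_blocks {B : Set (IrrCharacter G)} (hB : IsPBlock M B)
    {b : Set (IrrCharacter N)} (hb : IsPBlock M b) {χ : IrrCharacter G} (hχ : χ ∈ B)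
    {θ : IrrCharacter N} (hθ : θ ∈ b)
    (hcon : classInner (fun n : N => (χ : G → ℂ) n) (θ : N → ℂ) ≠ 0)
    {χ' : IrrCharacter G} (hχ' : χ' ∈ B) {ψ : IrrCharacter N}
    (hψ : classInner (fun n : N => (χ' : G → ℂ) n) (ψ : N → ℂ) ≠ 0) :
    ∃ g : G, ∃ θ' ∈ b, (ψ : N → ℂ) = conjChar N g (θ' : N → ℂ) := by
  obtain ⟨g, hg⟩ := exists_conj_sameBlock (M := M) N (θ := θ) (θ' := ψ) fun n => by
    have h1 := covering_congr N hB hb hχ hθ hcon hχ' hθ n
    rw [(constituent_iff N χ' ψ).1 hψ n] at h1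
    simpa using MemLocalIdeal.neg h1
  refine ⟨g⁻¹, cjIrr N g ψ, isPBlock_mem_of_sameBlock hb hθ hg, ?_⟩
  rw [← cjIrr_apply, cjIrr_inv_left]

/-- Over a normal subgroup of `p`-power index a block of `N` is covered exactly once. -/
theorem existsUnique_covering (hM : IsPModular p M) (hidx : ∃ k : ℕ, N.index = p ^ k)
    {b : Set (IrrCharacter N)} (hb : IsPBlock M b) :
    ∃! B : Set (IrrCharacter G), IsPBlock M B ∧
      ∃ χ ∈ B, ∃ θ ∈ b, classInner (fun n : N => (χ : G → ℂ) n) (θ : N → ℂ) ≠ 0 := by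
  classical
  haveI := Fact.mk hM.1
  obtain ⟨θ₀, hθ₀⟩ := isPBlock_nonempty hb
  obtain ⟨χ₀, h₀⟩ := exists_over N θ₀
  refine ⟨blockOf M (χ₀ : G → ℂ), ⟨isPBlock_blockOf _, χ₀, self_mem_blockOf _, θ₀, hθ₀, h₀⟩, ?_⟩
  rintro B ⟨hB, χ₁, hχ₁, θ₁, hθ₁, h₁⟩
  by_contra hne
  haveI : Finite (ConjClasses G) := Finite.of_surjective _ ConjClasses.mk_surjective
  haveI : Fintype (ConjClasses G) := Fintype.ofFinite _
  set x := blockEltR M B with hxd
  have hx : IsClassElt x := isClassElt_blockEltR B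
  have hsupp : ∀ g : G, g ∉ N → MemLocalIdeal M (x.coeff g : ℂ) := by
    intro g hg
    rw [hxd, coeff_blockEltR hB, blockCoeff_eq_zero_of_singular hM hB]
    · exact memLocalIdeal_zero
    · by_contra hreg
      refine hg ?_
      obtain ⟨k, hk⟩ := hidx
      have h1 := N.pow_index_mem g
      rw [hk] at h1
      obtain ⟨m, hm⟩ := exists_pow_eq_self_of_coprime (x := g) (n := p ^ k)
        (((hM.1.coprime_iff_not_dvd).2 hreg).pow_left k)
      exact hm ▸ N.pow_mem h1 m
  have hom : ∀ (χ : IrrCharacter G),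
      (∀ n : N, MemLocalIdeal M (centralChar (χ : G → ℂ) (n : G) -
        inducedCentralChar N (θ₀ : N → ℂ) (n : G))) →
      MemLocalIdeal M (omegaR χ x - ∑ C ∈ Finset.univ.filter (fun C : ConjClasses G => C.out ∈ N),
        (x.coeff C.out : ℂ) * inducedCentralChar N (θ₀ : N → ℂ) C.out) := by
    intro χ hh
    rw [omegaR_eq_sum χ hx, ← Finset.sum_filter_add_sum_filter_not Finset.univ
      (fun C : ConjClasses G => C.out ∈ N), add_sub_right_comm, ← Finset.sum_sub_distrib]
    refine MemLocalIdeal.add (memLocalIdeal_sum _ _ fun C hC => ?_)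
      (memLocalIdeal_sum _ _ fun C hC => ?_)
    · rw [← mul_sub]
      exact MemLocalIdeal.mul_left (x.coeff C.out).2 (hh ⟨C.out, (Finset.mem_filter.1 hC).2⟩)
    · exact MemLocalIdeal.mul_right (hsupp _ (Finset.mem_filter.1 hC).2)
        (centralChar_memLocalRing χ _)
  have ha := hom χ₁ fun n => covering_congr N hB hb hχ₁ hθ₁ h₁ hχ₁ hθ₀ n
  have hc := hom χ₀ fun n => by
    rw [(constituent_iff N χ₀ θ₀).1 h₀ n, sub_self]; exact memLocalIdeal_zero
  have hd := MemLocalIdeal.sub ha hc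
  have hn : χ₀ ∉ B := fun hm => hne (isPBlock_eq_blockOf hB hm)
  rw [hxd, omegaR_blockEltR hB, omegaR_blockEltR hB, if_pos hχ₁, if_neg hn] at hd
  exact not_memLocalIdeal_one (M := M) (by simpa using hd)

/-- Over a normal `p'`-subgroup all characters of a block have the same constituents. -/
theorem constituent_of_sameBlock (hM : IsPModular p M) (hNp : ¬ p ∣ Nat.card N)
    {χ ψ : IrrCharacter G} (h : SameBlock M (χ : G → ℂ) (ψ : G → ℂ)) {θ : IrrCharacter N}
    (hθ : classInner (fun n : N => (χ : G → ℂ) n) (θ : N → ℂ) ≠ 0) :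
    classInner (fun n : N => (ψ : G → ℂ) n) (θ : N → ℂ) ≠ 0 := by
  have hz : ∀ φ : IrrCharacter N, blockOf M (φ : N → ℂ) = {φ} := fun φ => by
    refine blockOf_eq_singleton hM φ ?_
    have h1 : (Nat.card N).factorization p = 0 := Nat.factorization_eq_zero_of_not_dvd hNp
    have h2 := degExp_le_card (p := p) φ
    omega
  obtain ⟨θ', hθ'⟩ := exists_restrict_constituent ψ.2 N
  obtain ⟨g, hg⟩ := exists_conj_sameBlock (M := M) N (θ := θ) (θ' := θ') fun n => by
    rw [← (constituent_iff N χ θ).1 hθ n, ← (constituent_iff N ψ θ').1 hθ' n]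
    exact h (n : G)
  have hm : cjIrr N g θ' ∈ blockOf M (θ : N → ℂ) := hg
  rw [hz, Set.mem_singleton_iff] at hm
  rw [← hm, constituent_cjIrr]
  exact hθ'

/-- The blocks of a group with a normal `p`-complement. -/
theorem sameBlock_iff_common_constituent (hM : IsPModular p M) (hNp : ¬ p ∣ Nat.card N)
    (hidx : ∃ k : ℕ, N.index = p ^ k) (χ ψ : IrrCharacter G) :
    SameBlock M (χ : G → ℂ) (ψ : G → ℂ) ↔ ∃ θ : IrrCharacter N,
      classInner (fun n : N => (χ : G → ℂ) n) (θ : N → ℂ) ≠ 0 ∧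
        classInner (fun n : N => (ψ : G → ℂ) n) (θ : N → ℂ) ≠ 0 := by
  refine ⟨fun h => ?_, fun ⟨θ, h1, h2⟩ => ?_⟩
  · obtain ⟨θ, hθ⟩ := exists_restrict_constituent χ.2 N
    exact ⟨θ, hθ, constituent_of_sameBlock N hM hNp h hθ⟩
  · obtain ⟨B, -, hu⟩ := existsUnique_covering N hM hidx (isPBlock_blockOf (M := M) θ)
    have e1 := hu _ ⟨isPBlock_blockOf χ, χ, self_mem_blockOf χ, θ, self_mem_blockOf θ, h1⟩
    have e2 := hu _ ⟨isPBlock_blockOf ψ, ψ, self_mem_blockOf ψ, θ, self_mem_blockOf θ, h2⟩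
    exact (blockOf_eq_iff χ ψ).1 (e1.trans e2.symm)

end Cfsg.Agent.Blocks
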