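/-
The principal 2-block of a group with a Klein four Sylow 2-subgroup and one class of involutions.
-/
import Cfsg.Agent.Lib.Blocks.Subsections
import Cfsg.Agent.Lib.Blocks.Misc
import Cfsg.Agent.Lib.Small.KleinFour
import Cfsg.Agent.Lib.Involutions.Counting
import Mathlib.GroupTheory.Transfer

set_option linter.unusedSectionVars false
set_option linter.style.haveILetI false

namespace Cfsg.Agent.Blocks.Klein

open Cfsg MonoidAlgebra Cfsg.Agent.Char Cfsg.Agent.Blocks
open scoped ComplexConjugate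

universe u

variable {G : Type u} [Group G] [Fintype G] {M : Ideal AlgInt} [M.IsPrime]

/-- A Sylow 2-subgroup of order 4 and exponent 2. -/
structure IsV4 (P : Sylow 2 G) : Prop where
  card : Nat.card (P : Subgroup G) = 4
  sq : ∀ x ∈ (P : Subgroup G), x * x = 1

theorem IsV4.klein {P : Sylow 2 G} (h : IsV4 P) : IsKleinFour (P : Subgroup G) := by
  haveI : Nontrivial (P : Subgroup G) :=
    Finite.one_lt_card_iff_nontrivial.1 (by rw [h.card]; norm_num)
  refine ⟨h.card, ?_⟩
  have hd : Monoid.exponent (P : Subgroup G) ∣ 2 :=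
    Monoid.exponent_dvd_of_forall_pow_eq_one fun x => Subtype.ext (by
      rw [pow_two]; exact h.sq x x.2)
  rcases (Nat.dvd_prime Nat.prime_two).1 hd with h1 | h1
  · exact absurd (Monoid.exp_eq_one_iff.1 h1) (not_subsingleton _)
  · exact h1

theorem IsV4.of_klein {P : Sylow 2 G} (h : IsKleinFour (P : Subgroup G)) : IsV4 P :=
  ⟨h.card_four, fun _ hx => Small.klein_mul_self h hx⟩

theorem IsV4.other {P : Sylow 2 G} (h : IsV4 P) (Q : Sylow 2 G) : IsV4 Q := by
  obtain ⟨g, rfl⟩ := MulAction.exists_smul_eq G P Q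
  refine ⟨?_, fun x hx => ?_⟩
  · rw [Sylow.card_eq_multiplicity, ← h.card, Sylow.card_eq_multiplicity]
  · rw [Sylow.coe_subgroup_smul] at hx
    obtain ⟨y, hy, rfl⟩ := hx
    show MulAut.conj g y * MulAut.conj g y = 1
    rw [← map_mul, h.sq y hy, map_one]

theorem exists_sylow_mem {z : G} {k : ℕ} (hz : orderOf z = 2 ^ k) : ∃ Q : Sylow 2 G, z ∈ Q := by
  obtain ⟨Q, hQ⟩ := (IsPGroup.of_card (n := k)
    (by rw [Nat.card_zpowers, hz] : Nat.card (Subgroup.zpowers z) = 2 ^ k)).exists_le_sylow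
  exact ⟨Q, hQ (Subgroup.mem_zpowers z)⟩

theorem two_elt {P : Sylow 2 G} (h : IsV4 P) {a : G} (ha : ∃ k, orderOf a = 2 ^ k) (ha1 : a ≠ 1) :
    orderOf a = 2 := by
  obtain ⟨k, hk⟩ := ha
  obtain ⟨Q, hQ⟩ := exists_sylow_mem hk
  exact orderOf_eq_prime (by rw [pow_two]; exact (h.other Q).sq a hQ) ha1

/-- The centraliser of an involution in a Klein four Sylow subgroup has a normal 2-complement. -/
theorem exists_complement {P : Sylow 2 G} (h : IsV4 P) {z : G} (hz : orderOf z = 2)
    (hzP : z ∈ (P : Subgroup G)) :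
    ∃ (Q : Sylow 2 (Subgroup.centralizer ({z} : Set G)))
      (N : Subgroup (Subgroup.centralizer ({z} : Set G))), N.Normal ∧
      Subgroup.IsComplement' N Q ∧
      ((Q : Subgroup (Subgroup.centralizer ({z} : Set G))).map
        (Subgroup.centralizer ({z} : Set G)).subtype = (P : Subgroup G)) := by
  classical
  set C := Subgroup.centralizer ({z} : Set G) with hC
  have hK := h.klein
  have hPC : (P : Subgroup G) ≤ C := fun q hq =>
    Subgroup.mem_centralizer_iff.2 fun w hw => by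
      rw [Set.mem_singleton_iff.1 hw]; exact (Small.klein_commute hK hzP hq).eq
  let Q : Sylow 2 C := P.subtype hPC
  have hz1 : z ≠ 1 := fun h1 => by simp [h1] at hz
  have hQeq : (Q : Subgroup C) = (P : Subgroup G).subgroupOf C := rfl
  have hcen : Subgroup.normalizer ((Q : Subgroup C) : Set C) ≤
      Subgroup.centralizer ((Q : Subgroup C) : Set C) := by
    intro n hn
    refine Subgroup.mem_centralizer_iff.2 fun q hq => Subtype.ext ?_
    have hq' : (q : G) ∈ (P : Subgroup G) := hq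
    have hnP : (n : G) ∈ Subgroup.normalizer ((P : Subgroup G) : Set G) := by
      refine Subgroup.mem_normalizer_iff.2 fun w => ⟨fun hw => ?_, fun hw => ?_⟩
      · exact ((Subgroup.mem_normalizer_iff.1 hn) ⟨w, hPC hw⟩).1 hw
      · have hwC : w ∈ C := by
          have := C.mul_mem (C.mul_mem (C.inv_mem n.2) (hPC hw)) n.2
          simpa [mul_assoc] using this
        exact ((Subgroup.mem_normalizer_iff.1 hn) ⟨w, hwC⟩).2 hw
    show (q : G) * (n : G) = (n : G) * (q : G)
    by_contra hne'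
    have hne : (n : G) * q * (n : G)⁻¹ ≠ q := fun e =>
      hne' (mul_inv_eq_iff_eq_mul.1 e).symm
    have hq1 : (q : G) ≠ 1 := fun e => hne (by rw [e]; group)
    have hnz : (n : G) * z * (n : G)⁻¹ = z := by
      rw [mul_inv_eq_iff_eq_mul]
      exact (Subgroup.mem_centralizer_iff.1 n.2 z rfl).symm
    have hqz : (q : G) ≠ z := fun e => hne (by rw [e]; exact hnz)
    have hr := Small.klein_conj_mem hnP hq'
    have hrz : (n : G) * q * (n : G)⁻¹ ≠ z := fun e => hqz (by
      rw [← hnz] at e; exact mul_left_cancel (mul_right_cancel e))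
    have hr' := Small.klein_eq_mul hK hzP hq' hr hz1 hq1 hqz.symm (by simpa using hq1) hrz hne
    apply Small.no_swap hK hnP hq' hq1 hne
    rw [hr', show (n : G) * (z * q) * (n : G)⁻¹ = ((n : G) * z * (n : G)⁻¹) * (n * q * (n : G)⁻¹) by
      group, hnz, hr', ← mul_assoc, Small.klein_mul_self hK hzP, one_mul]
  refine ⟨Q, _, inferInstance, MonoidHom.ker_transferSylow_isComplement' Q hcen, ?_⟩
  rw [hQeq, Subgroup.subgroupOf_map_subtype, inf_eq_left.2 hPC]

/-- The data of the centraliser of an involution. -/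
theorem exists_data {P : Sylow 2 G} (h : IsV4 P) {z : G} (hz : orderOf z = 2) {C : Subgroup G}
    (hC : C = Subgroup.centralizer ({z} : Set G)) :
    ∃ N : Subgroup C, N.Normal ∧ ¬ 2 ∣ Nat.card N ∧ N.index = 4 ∧
      ∀ v : C, ¬ 2 ∣ orderOf v ↔ v ∈ N := by
  classical
  subst hC
  obtain ⟨P', hP'⟩ := exists_sylow_mem (k := 1) hz
  obtain ⟨Q, N, hN, hcompl, hmap⟩ := exists_complement (h.other P') hz hP'
  have hQ4 : Nat.card (Q : Subgroup (Subgroup.centralizer ({z} : Set G))) = 4 := by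
    rw [← (h.other P').card, ← hmap, Subgroup.card_map_of_injective Subtype.val_injective]
  have hidx : N.index = 4 := by rw [hcompl.symm.index_eq_card, hQ4]
  have hodd : ¬ 2 ∣ Nat.card N := by
    rw [← hcompl.index_eq_card]; exact Q.not_dvd_index
  refine ⟨N, hN, hodd, hidx, fun v => ⟨fun hv => ?_, fun hv h2 => ?_⟩⟩
  · have h4 := hidx ▸ N.pow_index_mem v
    have hco : Nat.Coprime 4 (orderOf v) :=
      (Nat.Coprime.pow_left 2 ((Nat.prime_two.coprime_iff_not_dvd).2 hv) : Nat.Coprime (2 ^ 2) _)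
    obtain ⟨m, hm⟩ := exists_pow_eq_self_of_coprime hco
    rw [← hm]
    exact N.pow_mem h4 m
  · exact hodd (h2.trans (Subgroup.orderOf_dvd_natCard N hv))

section

variable {P : Sylow 2 G} (h : IsV4 P)
  (hone : ∀ s t : G, orderOf s = 2 → orderOf t = 2 → IsConj s t)
  {z : G} (hz : orderOf z = 2) {C : Subgroup G}
  (hC : C = Subgroup.centralizer ({z} : Set G)) [Fintype C]

include h hone hz hC

theorem sum_split {F : G → ℂ} (hF : ∀ g c : G, F (c * g * c⁻¹) = F g)
    [DecidablePred fun g : G => ¬ 2 ∣ orderOf g] [DecidablePred fun v : C => ¬ 2 ∣ orderOf v] :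
    ∑ g, F g = ∑ g ∈ Finset.univ.filter (fun g : G => ¬ 2 ∣ orderOf g), F g +
      (Nat.card G : ℂ) * (Nat.card C : ℂ)⁻¹ *
        ∑ v ∈ Finset.univ.filter (fun v : C => ¬ 2 ∣ orderOf v), F (z * (v : G)) := by
  classical
  rw [← sum_section Nat.prime_two ⟨1, hz⟩ hC hF,
    ← Finset.sum_filter_add_sum_filter_not Finset.univ (fun g : G => ¬ 2 ∣ orderOf g)]
  congr 1
  refine Finset.sum_congr (Finset.filter_congr fun g _ => ?_) fun _ _ => rfl
  rw [not_not]
  obtain ⟨a, ha⟩ := exists_isPPart Nat.prime_two g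
  constructor
  · intro hg
    have ha1 : a ≠ 1 := fun e => (isPPart_one_iff Nat.prime_two).1 (e ▸ ha) hg
    obtain ⟨_, _, _, hk, _⟩ := id ha
    exact ⟨a, ha, hone z a hz (two_elt h hk ha1)⟩
  · rintro ⟨b, hb, hzb⟩
    by_contra hg
    rw [isPPart_unique Nat.prime_two hb ((isPPart_one_iff Nat.prime_two).2 hg)] at hzb
    rw [isConj_one_left.1 hzb] at hz
    simp at hz

theorem value_section (hM : IsPModular 2 M) {ζ : IrrCharacter G} (hζ : ζ ∈ principalBlock M G)
    {v : C} (hv : ¬ 2 ∣ orderOf v) : (ζ : G → ℂ) (z * (v : G)) = (ζ : G → ℂ) z := by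
  obtain ⟨N, hN, hodd, -, hreg⟩ := exists_data h hz hC
  exact irr_section_of_kernel hM ⟨1, hz⟩ hC hζ N hodd ((hreg v).1 hv)

theorem card_regular [DecidablePred fun v : C => ¬ 2 ∣ orderOf v] :
    4 * (Finset.univ.filter fun v : C => ¬ 2 ∣ orderOf v).card = Nat.card C := by
  classical
  obtain ⟨N, hN, -, hidx, hreg⟩ := exists_data h hz hC
  rw [← N.index_mul_card, hidx]
  congr 1
  rw [Nat.card_eq_fintype_card, Fintype.card_subtype]
  exact congrArg Finset.card (Finset.filter_congr fun v _ => hreg v)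

theorem sum_sq_value (hM : IsPModular 2 M) :
    blockPair (principalBlock M G) z z = 4 := by
  obtain ⟨N, hN, hodd, hidx, -⟩ := exists_data h hz hC
  have h1 := sum_normSq_section_principal hM ⟨1, hz⟩ hC (y := (1 : C)) (by simp)
  rw [OneMemClass.coe_one, mul_one] at h1
  rw [h1, blockPair_principal_of_pComplement hM N hodd ⟨2, hidx⟩ (by simp)]
  rw [← N.index_mul_card, hidx, Nat.factorization_mul (by norm_num) Nat.card_pos.ne']
  rw [Finsupp.add_apply, Nat.factorization_eq_zero_of_not_dvd hodd,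
    show (4 : ℕ) = 2 ^ 2 by norm_num, Nat.prime_two.factorization_pow]
  norm_num

end

theorem one_class_of_no_complement {P : Sylow 2 G} (h : IsV4 P) {g₀ : ℕ}
    (hG : Nat.card G = 4 * g₀) (hnc : ¬ ∃ N : Subgroup G, N.Normal ∧ Nat.card N = g₀) :
    ∀ s t : G, orderOf s = 2 → orderOf t = 2 → IsConj s t := by
  classical
  have hK := h.klein
  have hnot : ¬ Subgroup.normalizer ((P : Subgroup G) : Set G) ≤
      Subgroup.centralizer ((P : Subgroup G) : Set G) := by
    intro hle
    have hc := MonoidHom.ker_transferSylow_isComplement' P hle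
    refine hnc ⟨(MonoidHom.transferSylow P hle).ker, inferInstance, ?_⟩
    have := hc.card_mul
    rw [h.card, hG] at this
    omega
  obtain ⟨n, hn, hnC⟩ := SetLike.not_le_iff_exists.1 hnot
  obtain ⟨a, ha, hne⟩ : ∃ a ∈ (P : Subgroup G), n * a * n⁻¹ ≠ a := by
    by_contra hall
    push Not at hall
    exact hnC (Subgroup.mem_centralizer_iff.2 fun a ha => (mul_inv_eq_iff_eq_mul.1 (hall a ha)).symm)
  have ha1 : a ≠ 1 := fun e => hne (by rw [e]; group)
  have key : ∀ s : G, orderOf s = 2 → IsConj a s := by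
    intro s hs
    obtain ⟨Q, hQ⟩ := exists_sylow_mem (k := 1) hs
    obtain ⟨g, rfl⟩ := MulAction.exists_smul_eq G P Q
    change s ∈ ((g • P : Sylow 2 G) : Subgroup G) at hQ
    rw [Sylow.coe_subgroup_smul] at hQ
    obtain ⟨y, hy, rfl⟩ := hQ
    have hy1 : y ≠ 1 := fun e => by
      change orderOf (MulAut.conj g y) = 2 at hs
      rw [e, map_one, orderOf_one] at hs; omega
    exact (Small.transitive_of_moved hK hn ha ha1 hne hy hy1).trans (isConj_iff.2 ⟨g, rfl⟩)
  exact fun s t hs ht => (key s hs).symm.trans (key t ht)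

section

variable {P : Sylow 2 G} (h : IsV4 P)
  (hone : ∀ s t : G, orderOf s = 2 → orderOf t = 2 → IsConj s t)
  {z : G} (hz : orderOf z = 2) (hM : IsPModular 2 M)

include h hone hz hM

theorem exists_value {ζ : IrrCharacter G} (hζ : ζ ∈ principalBlock M G) :
    ∃ n : ℤ, (ζ : G → ℂ) z = (n : ℂ) ∧ n ≠ 0 ∧ (4 : ℤ) ∣ (charDegree (ζ : G → ℂ) : ℤ) - n := by
  classical
  obtain ⟨n, hn, -⟩ := char_involution ζ hz
  have hinv : ∀ s : G, orderOf s = 2 → (ζ : G → ℂ) s = (n : ℂ) := fun s hs => by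
    rw [← hn, irr_isConj ζ (hone s z hs hz)]
  refine ⟨n, hn, fun h0 => ?_, ?_⟩
  · have h1 := degExp_of_vanish hM ζ fun g hg => by rw [hinv g hg, h0, Int.cast_zero]
    have h2 := blockOf_eq_singleton hM ζ h1
    rw [← isPBlock_eq_blockOf (isPBlock_principalBlock M G) hζ] at h2
    have h3 : principal G ∈ ({ζ} : Set (IrrCharacter G)) := h2 ▸ principal_mem_principalBlock
    have h4 : (ζ : G → ℂ) z = 1 := by rw [← Set.mem_singleton_iff.1 h3]; rfl
    rw [hn, h0, Int.cast_zero] at h4
    exact zero_ne_one h4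
  · obtain ⟨m, hm⟩ := exists_sum_subgroup_eq (P : Subgroup G) ζ
    have h1 : ∀ x ∈ Finset.univ.erase (1 : (P : Subgroup G)), (ζ : G → ℂ) (x : G) = (n : ℂ) :=
      fun x hx => hinv _ (orderOf_eq_prime (by rw [pow_two]; exact h.sq _ x.2)
        fun e => (Finset.mem_erase.1 hx).1 (Subtype.ext e))
    rw [← Finset.add_sum_erase _ _ (Finset.mem_univ (1 : (P : Subgroup G))),
      Finset.sum_congr rfl h1, Finset.sum_const, Finset.card_erase_of_mem (Finset.mem_univ _),
      Finset.card_univ, ← Nat.card_eq_fintype_card, h.card, OneMemClass.coe_one,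
      irr_one_eq_charDegree, nsmul_eq_mul] at hm
    have hm' : (((charDegree (ζ : G → ℂ) : ℤ) + 3 * n : ℤ) : ℂ) = ((4 * (m : ℤ) : ℤ) : ℂ) := by
      push_cast
      simpa using hm
    have := Int.cast_inj.1 hm'
    omega

theorem value_sq {ζ : IrrCharacter G} (hζ : ζ ∈ principalBlock M G) :
    (ζ : G → ℂ) z = 1 ∨ (ζ : G → ℂ) z = -1 := by
  classical
  obtain ⟨n, hn, hn0, -⟩ := exists_value h hone hz hM hζ
  by_cases hp : ζ = principal G
  · left; rw [hp]; rfl
  have hsum := sum_sq_value (M := M) h hone hz (C := Subgroup.centralizer ({z} : Set G)) rfl hM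
  rw [blockPair_self_eq, finsum_mem_eq_finite_toFinset_sum _ (Set.toFinite _)] at hsum
  have hsum' : ∑ i ∈ (Set.toFinite (principalBlock M G)).toFinset, ‖(i : G → ℂ) z‖ ^ 2 = 4 := by
    exact_mod_cast hsum
  have hsub : ({principal G, ζ} : Finset (IrrCharacter G)) ⊆
      (Set.toFinite (principalBlock M G)).toFinset := by
    intro i hi
    rw [Set.Finite.mem_toFinset]
    rcases Finset.mem_insert.1 hi with rfl | hi
    · exact principal_mem_principalBlock
    · rwa [Finset.mem_singleton.1 hi]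
  have hle := Finset.sum_le_sum_of_subset_of_nonneg hsub
    (f := fun i : IrrCharacter G => ‖(i : G → ℂ) z‖ ^ 2) fun _ _ _ => by positivity
  rw [Finset.sum_pair (Ne.symm hp), hsum', hn,
    show ((principal G : IrrCharacter G) : G → ℂ) z = 1 from rfl, norm_one, one_pow,
    Complex.norm_intCast, sq_abs] at hle
  have hle' : n ^ 2 ≤ 3 := by exact_mod_cast (by linarith : (n : ℝ) ^ 2 ≤ 3)
  have : n = 1 ∨ n = -1 := by
    have : -1 ≤ n ∧ n ≤ 1 := ⟨by nlinarith, by nlinarith⟩
    omega
  rcases this with rfl | rfl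
  · left; simpa using hn
  · right; simpa using hn

theorem card_principal : Nat.card (principalBlock M G) = 4 := by
  classical
  have hsum := sum_sq_value (M := M) h hone hz (C := Subgroup.centralizer ({z} : Set G)) rfl hM
  rw [blockPair_self_eq, finsum_mem_eq_finite_toFinset_sum _ (Set.toFinite _),
    Finset.sum_congr rfl (g := fun _ => (1 : ℝ)) fun i hi => by
      rcases value_sq h hone hz hM ((Set.Finite.mem_toFinset _).1 hi) with e | e <;> simp [e],
    Finset.sum_const, nsmul_one, ← Set.ncard_eq_toFinset_card _] at hsum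
  rw [Nat.card_coe_set_eq]
  exact_mod_cast hsum

theorem regular_relation {y : G} (hy : ¬ 2 ∣ orderOf y) [hd : DecidablePred (· ∈ principalBlock M G)] :
    ∑ ζ ∈ Finset.univ.filter (· ∈ principalBlock M G), (ζ : G → ℂ) y * (ζ : G → ℂ) z = 0 := by
  classical
  refine Eq.trans ?_ (blockPair_regular_singular hM (isPBlock_principalBlock M G) hy (w := z) (by rw [hz]))
  unfold blockPair
  refine Finset.sum_congr (by ext; simp) fun ζ hζ => ?_
  rcases value_sq h hone hz hM (ζ := ζ) (by simpa using hζ) with e | e <;> simp [e]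

theorem rank_principal : blockRank 2 (principalBlock M G) = 3 := by
  classical
  set C := Subgroup.centralizer ({z} : Set G) with hC
  haveI : Fintype C := Fintype.ofFinite _
  have hB := isPBlock_principalBlock M G
  have hG : (Nat.card G : ℂ) ≠ 0 := Nat.cast_ne_zero.2 Nat.card_pos.ne'
  have hC0 : (Nat.card C : ℂ) ≠ 0 := Nat.cast_ne_zero.2 Nat.card_pos.ne'
  have h1 := sum_split (C := C) h hone hz hC
    (F := fun g => blockPair (principalBlock M G) g g) fun g c => by
      unfold blockPair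
      exact Finset.sum_congr rfl fun χ _ => by rw [irr_conj_invariant χ g c]
  have h2 : ∀ v ∈ Finset.univ.filter (fun v : C => ¬ 2 ∣ orderOf v),
      blockPair (principalBlock M G) (z * (v : G)) (z * (v : G)) = 4 := by
    intro v hv
    rw [← sum_sq_value (M := M) h hone hz hC hM]
    unfold blockPair
    refine Finset.sum_congr rfl fun χ hχ => ?_
    rw [value_section h hone hz hC hM (Finset.mem_filter.1 hχ).2 (Finset.mem_filter.1 hv).2]
  rw [sum_blockPair_diag, card_principal h hone hz hM, Finset.sum_congr rfl h2, Finset.sum_const,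
    nsmul_eq_mul] at h1
  rw [← Nat.cast_inj (R := ℂ), blockRank_eq hM hB]
  have h4 : (4 : ℂ) * ((Finset.univ.filter fun v : C => ¬ 2 ∣ orderOf v).card : ℂ) = Nat.card C := by
    exact_mod_cast card_regular h hone hz hC
  field_simp at h1 ⊢
  push_cast at h1 ⊢
  apply mul_right_cancel₀ hC0
  linear_combination -h1 - (Nat.card G : ℂ) * h4

/-- The four characters of the principal block. -/
theorem exists_principal_list : ∃ a b c : IrrCharacter G, ∃ ε : ℤ, (ε = 1 ∨ ε = -1) ∧
    (a : G → ℂ) ≠ (fun _ => 1) ∧ (b : G → ℂ) ≠ (fun _ => 1) ∧ a ≠ b ∧ a ≠ c ∧ b ≠ c ∧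
    principalBlock M G =
      {χ : IrrCharacter G | (χ : G → ℂ) = (fun _ => 1) ∨ χ = a ∨ χ = b ∨ χ = c} ∧
    ((a : G → ℂ) z = 1 ∧ (b : G → ℂ) z = (ε : ℂ) ∧ (c : G → ℂ) z = -1) ∧
    ∀ y : G, ¬ 2 ∣ orderOf y →
      1 + (a : G → ℂ) y + (ε : ℂ) * (b : G → ℂ) y - (c : G → ℂ) y = 0 := by
  classical
  set S := Finset.univ.filter (· ∈ principalBlock M G) with hS
  have hmem : ∀ χ, χ ∈ S ↔ χ ∈ principalBlock M G := fun χ => by simp [hS]
  set T := S.erase (principal G) with hT
  have hScard : S.card = 4 := by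
    rw [← card_principal h hone hz hM, Nat.card_eq_fintype_card, Fintype.card_subtype, hS]
  have h1S : principal G ∈ S := (hmem _).2 principal_mem_principalBlock
  have hTcard : T.card = 3 := by rw [hT, Finset.card_erase_of_mem h1S, hScard]
  have hrel : ∀ y : G, ¬ 2 ∣ orderOf y →
      1 + ∑ ζ ∈ T, (ζ : G → ℂ) y * (ζ : G → ℂ) z = 0 := by
    intro y hy
    have := regular_relation h hone hz hM hy
    rw [← hS, ← Finset.add_sum_erase _ _ h1S, ← hT] at this
    simpa [show ((principal G : IrrCharacter G) : G → ℂ) = fun _ => 1 from rfl] using this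
  have hval : ∀ ζ ∈ T, (ζ : G → ℂ) z = 1 ∨ (ζ : G → ℂ) z = -1 := fun ζ hζ =>
    value_sq h hone hz hM ((hmem ζ).1 (Finset.mem_of_mem_erase hζ))
  have hexists : ∀ s : ℂ, (s = 1 ∨ s = -1) → ∃ ζ ∈ T, (ζ : G → ℂ) z = s := by
    intro s hs
    by_contra hall
    push Not at hall
    have e : ∀ ζ ∈ T, (ζ : G → ℂ) z = -s := fun ζ hζ => by
      rcases hval ζ hζ with e | e <;> rcases hs with rfl | rfl <;>
        first | exact absurd e (hall ζ hζ) | simp [e]
    have h0 := hrel 1 (by simp)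
    rw [Finset.sum_congr rfl fun ζ hζ => by rw [e ζ hζ, irr_one_eq_charDegree],
      ← Finset.sum_mul, ← Nat.cast_sum] at h0
    have hge : T.card • 1 ≤ ∑ ζ ∈ T, charDegree (ζ : G → ℂ) :=
      Finset.card_nsmul_le_sum T _ 1 fun ζ _ => charDegree_pos ζ
    rw [hTcard, smul_eq_mul] at hge
    rcases hs with rfl | rfl
    · have h0' : ((1 + (∑ ζ ∈ T, charDegree (ζ : G → ℂ) : ℕ) * (-1) : ℤ) : ℂ) = ((0 : ℤ) : ℂ) := by
        push_cast; simpa using h0
      have := Int.cast_inj.1 h0'
      omega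
    · have h0' : ((1 + (∑ ζ ∈ T, charDegree (ζ : G → ℂ) : ℕ) * 1 : ℤ) : ℂ) = ((0 : ℤ) : ℂ) := by
        push_cast; simpa using h0
      have := Int.cast_inj.1 h0'
      omega
  obtain ⟨a, haT, ha⟩ := hexists 1 (Or.inl rfl)
  obtain ⟨c, hcT, hc⟩ := hexists (-1) (Or.inr rfl)
  have hac : a ≠ c := fun e => by rw [e, hc] at ha; norm_num at ha
  have hrest : ((T.erase a).erase c).card = 1 := by
    rw [Finset.card_erase_of_mem (Finset.mem_erase.2 ⟨hac.symm, hcT⟩),
      Finset.card_erase_of_mem haT, hTcard]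
  obtain ⟨b, hb⟩ := Finset.card_eq_one.1 hrest
  have hbmem : b ∈ (T.erase a).erase c := hb ▸ Finset.mem_singleton_self b
  obtain ⟨hbc, hba, hbT⟩ := by simpa only [Finset.mem_erase] using hbmem
  obtain ⟨ε, hε, hbv⟩ : ∃ ε : ℤ, (ε = 1 ∨ ε = -1) ∧ (b : G → ℂ) z = (ε : ℂ) := by
    rcases hval b hbT with e | e
    · exact ⟨1, Or.inl rfl, by simpa using e⟩
    · exact ⟨-1, Or.inr rfl, by simpa using e⟩
  have hne1 : ∀ ζ ∈ T, (ζ : G → ℂ) ≠ fun _ => 1 := fun ζ hζ e =>
    Finset.ne_of_mem_erase hζ (Subtype.ext e)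
  refine ⟨a, b, c, ε, hε, hne1 a haT, hne1 b hbT, Ne.symm hba, hac, hbc, ?_, ⟨ha, hbv, hc⟩,
    fun y hy => ?_⟩
  · ext χ
    rw [Set.mem_ofPred_eq, ← hmem]
    constructor
    · intro hχ
      by_cases e1 : χ = principal G
      · left; rw [e1]; rfl
      by_cases e2 : χ = a
      · exact Or.inr (Or.inl e2)
      by_cases e3 : χ = c
      · exact Or.inr (Or.inr (Or.inr e3))
      have : χ ∈ (T.erase a).erase c :=
        Finset.mem_erase.2 ⟨e3, Finset.mem_erase.2 ⟨e2, Finset.mem_erase.2 ⟨e1, hχ⟩⟩⟩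
      rw [hb] at this
      exact Or.inr (Or.inr (Or.inl (Finset.mem_singleton.1 this)))
    · rintro (e | rfl | rfl | rfl)
      · exact (show χ = principal G from Subtype.ext e) ▸ h1S
      · exact Finset.mem_of_mem_erase haT
      · exact Finset.mem_of_mem_erase hbT
      · exact Finset.mem_of_mem_erase hcT
  · have h0 := hrel y hy
    rw [← Finset.add_sum_erase _ _ haT, ← Finset.add_sum_erase _ _
      (Finset.mem_erase.2 ⟨hac.symm, hcT⟩), hb, Finset.sum_singleton, ha, hbv, hc] at h0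
    linear_combination h0

end

end Cfsg.Agent.Blocks.Klein
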