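/-
The order formula for a group with a Klein four Sylow 2-subgroup.
-/
import Cfsg.Agent.Lib.Blocks.KleinFour

set_option linter.unusedSectionVars false
set_option linter.style.haveILetI false

namespace Cfsg.Agent.Blocks.Klein

open Cfsg MonoidAlgebra Cfsg.Agent.Char Cfsg.Agent.Blocks Cfsg.Agent.Invol
open scoped ComplexConjugate

universe u

variable {G : Type u} [Group G] [Fintype G] {M : Ideal AlgInt} [M.IsPrime]

theorem coeff_invol_sq [DecidableEq G] (g : G) :
    let X : MonoidAlgebra ℂ G := gaOfFun fun a => if orderOf a = 2 then 1 else 0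
    (X * X).coeff g = (Nat.card (Pairs g) : ℂ) := by
  classical
  intro X
  rw [coeff_mul_univ]
  simp only [X, coeff_gaOfFun, mul_ite, mul_one, mul_zero, ← ite_and]
  rw [Finset.sum_boole, Nat.cast_inj, Nat.card_eq_fintype_card, ← Finset.card_univ]
  refine Finset.card_bij' (fun a ha => (⟨(a, a⁻¹ * g), (Finset.mem_filter.1 ha).2.2,
      (Finset.mem_filter.1 ha).2.1, mul_inv_cancel_left a g⟩ : Pairs g))
    (fun p _ => p.1.1) (fun _ _ => Finset.mem_univ _) (fun p _ => ?_) (fun a _ => rfl)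
    (fun p _ => ?_)
  · refine Finset.mem_filter.2 ⟨Finset.mem_univ _, ?_, p.2.1⟩
    have e : p.1.1⁻¹ * g = p.1.2 := inv_mul_eq_iff_eq_mul.2 p.2.2.2.symm
    rw [e]
    exact p.2.2.1
  · refine Subtype.ext (Prod.ext rfl ?_)
    exact inv_mul_eq_iff_eq_mul.2 p.2.2.2.symm

theorem sum_pairs_mul (χ : IrrCharacter G) {z : G} (hz : orderOf z = 2)
    (hone : ∀ s t : G, orderOf s = 2 → orderOf t = 2 → IsConj s t) :
    ∑ g : G, (Nat.card (Pairs g) : ℂ) * (χ : G → ℂ) g =
      ((Subgroup.centralizer ({z} : Set G)).index : ℂ) ^ 2 * (χ : G → ℂ) z ^ 2 /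
        (χ : G → ℂ) 1 := by
  classical
  set X : MonoidAlgebra ℂ G := gaOfFun fun a => if orderOf a = 2 then 1 else 0 with hX
  have hXz : X = classSum ℂ z := gaExt fun a => by
    rw [coeff_classSum, hX, coeff_gaOfFun]
    refine if_congr ⟨fun ha => hone z a hz ha, fun hc => ?_⟩ rfl rfl
    obtain ⟨c, rfl⟩ := isConj_iff.1 hc
    rw [← MulAut.conj_apply, MulEquiv.orderOf_eq, hz]
  have hω : omega χ X =
      ((Subgroup.centralizer ({z} : Set G)).index : ℂ) * (χ : G → ℂ) z / (χ : G → ℂ) 1 := by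
    rw [hXz, omega_classSum]
    rfl
  have h2 : omega χ (X * X) = omega χ X * omega χ X :=
    omega_mul χ (hXz ▸ isClassElt_classSum z) (hXz ▸ isClassElt_classSum z)
  rw [hω, omega] at h2
  simp only [hX, coeff_invol_sq] at h2
  have h1 := irr_one_ne_zero χ
  field_simp at h2 ⊢
  linear_combination h2

/-- The pairs of involutions whose product lies in the section of `z` above `z`. -/
theorem sum_pairs_section {P : Sylow 2 G} (h : IsV4 P) {z : G} (hz : orderOf z = 2)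
    (hzP : z ∈ (P : Subgroup G)) {C : Subgroup G}
    (hC : C = Subgroup.centralizer ({z} : Set G)) [Fintype C]
    [DecidablePred fun v : C => ¬ 2 ∣ orderOf v] :
    (∑ v ∈ Finset.univ.filter (fun v : C => ¬ 2 ∣ orderOf v), Nat.card (Pairs (z * (v : G)))) *
        Nat.card (Subgroup.centralizer ((P : Subgroup G) : Set G)) ^ 2 =
      2 * Nat.card C ^ 2 := by
  classical
  subst hC
  obtain ⟨N₁, hN₁, hodd₁, hidx₁, hreg₁⟩ :=
    exists_data h hz (C := Subgroup.centralizer ({z} : Set G)) rfl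
  obtain ⟨Q, N, hN, hcompl, hmap⟩ := exists_complement h hz hzP
  let C := Subgroup.centralizer ({z} : Set G)
  have hK := h.klein
  have hzC : z ∈ C := Subgroup.mem_centralizer_iff.2 fun w hw => by
    rw [Set.mem_singleton_iff.1 hw]
  have hPC : ∀ w ∈ (P : Subgroup G), w ∈ C := fun w hw => by
    rw [← hmap] at hw
    obtain ⟨c, -, rfl⟩ := hw
    exact c.2
  have hQiff : ∀ c : C, c ∈ (Q : Subgroup C) ↔ (c : G) ∈ (P : Subgroup G) := fun c => by
    rw [← hmap]; simp
  set π := QuotientGroup.mk' N with hπ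
  have hker : ∀ c : C, π c = 1 ↔ c ∈ N := fun c => QuotientGroup.eq_one_iff c
  have hinj : ∀ a b : C, a ∈ (Q : Subgroup C) → b ∈ (Q : Subgroup C) → π a = π b → a = b := by
    intro a b ha hb hab
    have h1 : a⁻¹ * b ∈ N := QuotientGroup.eq.1 hab
    have h2 : a⁻¹ * b ∈ (Q : Subgroup C) := mul_mem (inv_mem ha) hb
    have h3 := Subgroup.disjoint_def.1 hcompl.disjoint h1 h2
    exact inv_mul_eq_one.1 h3
  have hcomm : ∀ q ∈ (Q : Subgroup C), ∀ c : C, π (c * q * c⁻¹) = π q := by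
    intro q hq c
    obtain ⟨⟨n, q'⟩, hnq⟩ := hcompl.2 c
    simp only at hnq
    have hπc : π c = π q' := by rw [← hnq, map_mul, (hker _).2 n.2, one_mul]
    have hcm : (q' : C) * q = q * q' := Subtype.ext
      (Small.klein_commute hK ((hQiff _).1 q'.2) ((hQiff _).1 hq)).eq
    rw [map_mul, map_mul, map_inv, hπc, ← map_inv, ← map_mul, ← map_mul, hcm, mul_inv_cancel_right]
  obtain ⟨qG, hqP, hq1, hqz⟩ : ∃ q ∈ (P : Subgroup G), q ≠ 1 ∧ q ≠ z := by
    by_contra hall
    push Not at hall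
    have hsub : ((P : Subgroup G) : Set G) ⊆ {1, z} := fun w hw => by
      by_cases e : w = 1
      · exact Or.inl e
      · exact Or.inr (hall w hw e)
    have := Set.ncard_le_ncard hsub (Set.toFinite _)
    rw [← Nat.card_coe_set_eq, show Nat.card ((P : Subgroup G) : Set G) = 4 from h.card] at this
    have h2 : ({1, z} : Set G).ncard ≤ 2 := by
      refine (Set.ncard_insert_le _ _).trans ?_
      simp
    omega
  have hz1 : z ≠ 1 := fun e => by rw [e, orderOf_one] at hz; omega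
  set zc : C := ⟨z, hzC⟩ with hzc
  set q : C := ⟨qG, hPC _ hqP⟩ with hq
  set r : C := zc * q with hr
  have hzQ : zc ∈ (Q : Subgroup C) := (hQiff _).2 hzP
  have hqQ : q ∈ (Q : Subgroup C) := (hQiff _).2 hqP
  have hrQ : r ∈ (Q : Subgroup C) := mul_mem hzQ hqQ
  have hsqz : zc * zc = 1 := Subtype.ext (h.sq z hzP)
  have hsqq : q * q = 1 := Subtype.ext (h.sq qG hqP)
  have hzq : zc * q = q * zc := Subtype.ext (Small.klein_commute hK hzP hqP).eq
  -- the classes
  set S := Finset.univ.filter (fun a : C => orderOf a = 2) with hS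
  set Kq := Finset.univ.filter (fun a : C => IsConj q a) with hKq
  set Kr := Finset.univ.filter (fun a : C => IsConj r a) with hKr
  have hQcases : ∀ w ∈ (Q : Subgroup C), w = 1 ∨ w = zc ∨ w = q ∨ w = r := by
    intro w hw
    by_cases e1 : w = 1
    · exact Or.inl e1
    by_cases e2 : w = zc
    · exact Or.inr (Or.inl e2)
    by_cases e3 : w = q
    · exact Or.inr (Or.inr (Or.inl e3))
    refine Or.inr (Or.inr (Or.inr (Subtype.ext ?_)))
    exact Small.klein_eq_mul hK hzP hqP ((hQiff _).1 hw) hz1 hq1 hqz.symm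
      (fun e => e1 (Subtype.ext e)) (fun e => e2 (Subtype.ext e)) (fun e => e3 (Subtype.ext e))
  have hrep : ∀ a : C, orderOf a = 2 → ∃ w ∈ (Q : Subgroup C), w ≠ 1 ∧ IsConj w a := by
    intro a ha
    obtain ⟨R, haR⟩ := exists_sylow_mem (k := 1) ha
    obtain ⟨g, rfl⟩ := MulAction.exists_smul_eq C Q R
    change a ∈ ((g • Q : Sylow 2 C) : Subgroup C) at haR
    rw [Sylow.coe_subgroup_smul] at haR
    obtain ⟨w, hw, rfl⟩ := haR
    refine ⟨w, hw, fun e => ?_, isConj_iff.2 ⟨g, rfl⟩⟩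
    change orderOf (MulAut.conj g w) = 2 at ha
    rw [e, map_one, orderOf_one] at ha
    omega
  have hπ_conj : ∀ w ∈ (Q : Subgroup C), ∀ a : C, IsConj w a → π a = π w := by
    intro w hw a hwa
    obtain ⟨c, rfl⟩ := isConj_iff.1 hwa
    exact hcomm w hw c
  have hord : ∀ w : C, w * w = 1 → w ≠ 1 → ∀ a : C, IsConj w a → orderOf a = 2 := by
    intro w hw hw1 a hwa
    obtain ⟨c, rfl⟩ := isConj_iff.1 hwa
    rw [← MulAut.conj_apply, MulEquiv.orderOf_eq]
    exact orderOf_eq_prime (by rw [pow_two]; exact hw) hw1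
  have hq1' : q ≠ 1 := fun e => hq1 (congrArg Subtype.val e)
  have hqz' : q ≠ zc := fun e => hqz (congrArg Subtype.val e)
  have hr1 : r ≠ 1 := fun e => hqz' (by
    calc q = zc * zc * q := by rw [hsqz, one_mul]
      _ = zc * r := by rw [hr, mul_assoc]
      _ = zc := by rw [e, mul_one])
  have hrr : r * r = 1 := by
    rw [hr]
    calc zc * q * (zc * q) = zc * (q * zc) * q := by simp only [mul_assoc]
      _ = zc * (zc * q) * q := by rw [hzq]
      _ = (zc * zc) * (q * q) := by simp only [mul_assoc]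
      _ = 1 := by rw [hsqz, hsqq, one_mul]
  have hne_qr : q ≠ r := fun e => hz1 (congrArg Subtype.val
    (mul_eq_right.1 (e.symm.trans rfl) : zc = 1))
  have hrq : r * q = zc := by rw [hr, mul_assoc, hsqq, mul_one]
  have hqr : q * r = zc := by rw [hr, ← mul_assoc, ← hzq, mul_assoc, hsqq, mul_one]
  have hS' : (S ×ˢ S).filter (fun ab => π (ab.1 * ab.2) = π zc) = (Kq ×ˢ Kr) ∪ (Kr ×ˢ Kq) := by
    ext ⟨a, b⟩
    simp only [Finset.mem_filter, Finset.mem_product, Finset.mem_union, hS, hKq, hKr,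
      Finset.mem_univ, true_and]
    constructor
    · rintro ⟨⟨ha, hb⟩, hab⟩
      obtain ⟨w, hw, hw1, hwa⟩ := hrep a ha
      obtain ⟨w', hw', hw1', hwb⟩ := hrep b hb
      rw [map_mul, hπ_conj w hw a hwa, hπ_conj w' hw' b hwb, ← map_mul] at hab
      have e : w * w' = zc := hinj _ _ (mul_mem hw hw') hzQ hab
      rcases hQcases w hw with rfl | rfl | rfl | rfl
      · exact absurd rfl hw1
      · exact absurd (mul_eq_left.1 e) hw1'
      · left; exact ⟨hwa, by rwa [← mul_left_cancel (e.trans hqr.symm)]⟩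
      · right; exact ⟨hwa, by rwa [← mul_left_cancel (e.trans hrq.symm)]⟩
    · rintro (⟨ha, hb⟩ | ⟨ha, hb⟩)
      · refine ⟨⟨hord q hsqq hq1' a ha, hord r hrr hr1 b hb⟩, ?_⟩
        rw [map_mul, hπ_conj q hqQ a ha, hπ_conj r hrQ b hb, ← map_mul, hqr]
      · refine ⟨⟨hord r hrr hr1 a ha, hord q hsqq hq1' b hb⟩, ?_⟩
        rw [map_mul, hπ_conj r hrQ a ha, hπ_conj q hqQ b hb, ← map_mul, hrq]
  have hdisj : Disjoint (Kq ×ˢ Kr) (Kr ×ˢ Kq) := by
    rw [Finset.disjoint_left]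
    rintro ⟨a, b⟩ h1 h2
    simp only [Finset.mem_product, hKq, hKr, Finset.mem_filter, Finset.mem_univ, true_and] at h1 h2
    exact hne_qr (hinj _ _ hqQ hrQ ((hπ_conj q hqQ a h1.1).symm.trans (hπ_conj r hrQ a h2.1)))
  -- class sizes
  set cP := Nat.card (Subgroup.centralizer ((P : Subgroup G) : Set G)) with hcP
  have hcls : ∀ w : C, w ∈ (Q : Subgroup C) → w ≠ 1 → w ≠ zc →
      (Finset.univ.filter fun a : C => IsConj w a).card * cP = Nat.card C := by
    intro w hw hw1 hwz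
    have hcard : (Finset.univ.filter fun a : C => IsConj w a).card =
        (Subgroup.centralizer ({w} : Set C)).index := by
      rw [← card_isConj_eq_index w, Nat.card_eq_fintype_card, Fintype.card_subtype]
    have hcen : Nat.card (Subgroup.centralizer ({w} : Set C)) = cP := by
      have hwP := (hQiff w).1 hw
      have hmem : ∀ x : G, x ∈ Subgroup.centralizer ((P : Subgroup G) : Set G) ↔
          x ∈ C ∧ (w : G) * x = x * (w : G) := by
        intro x
        refine ⟨fun hx => ⟨?_, Subgroup.mem_centralizer_iff.1 hx _ hwP⟩, fun ⟨hxC, hxw⟩ => ?_⟩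
        · exact Subgroup.mem_centralizer_iff.2 fun y hy => by
            rw [Set.mem_singleton_iff.1 hy]; exact Subgroup.mem_centralizer_iff.1 hx z hzP
        · refine Subgroup.mem_centralizer_iff.2 fun y hy => ?_
          have hxz : z * x = x * z := Subgroup.mem_centralizer_iff.1 hxC z rfl
          by_cases e1 : y = 1
          · rw [e1, one_mul, mul_one]
          by_cases e2 : y = z
          · rw [e2]; exact hxz
          by_cases e3 : y = (w : G)
          · rw [e3]; exact hxw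
          rw [Small.klein_eq_mul hK hzP hwP hy hz1 (fun e => hw1 (Subtype.ext e))
            (fun e => hwz (Subtype.ext e.symm)) e1 e2 e3]
          exact (Commute.mul_left (show Commute z x from hxz) hxw).eq
      rw [hcP]
      refine Nat.card_congr
        { toFun := fun x => ⟨((x : C) : G), (hmem _).2 ⟨(x : C).2, ?_⟩⟩
          invFun := fun x => ⟨⟨x, ((hmem _).1 x.2).1⟩, Subgroup.mem_centralizer_singleton_iff.2 ?_⟩
          left_inv := fun _ => rfl
          right_inv := fun _ => rfl }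
      · exact (congrArg Subtype.val (Subgroup.mem_centralizer_singleton_iff.1 x.2)).symm
      · exact Subtype.ext ((hmem _).1 x.2).2.symm
    rw [hcard, ← hcen, mul_comm, Subgroup.card_mul_index]
  have hA := hcls q hqQ hq1' hqz'
  have hB := hcls r hrQ hr1 (fun e => hq1' (mul_eq_left.1 (hr.symm.trans e)))
  -- regular elements are the elements of N
  have hNeq : ∀ v : C, ¬ 2 ∣ orderOf v ↔ v ∈ N := by
    have hle : N ≤ N₁ := fun v hv => by
      refine (hreg₁ v).1 fun h2 => ?_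
      have hcN : ¬ 2 ∣ Nat.card N := by rw [← hcompl.index_eq_card]; exact Q.not_dvd_index
      exact hcN (h2.trans ((Subgroup.orderOf_dvd_natCard N hv)))
    have hQ4 : Nat.card (Q : Subgroup C) = 4 := by
      rw [← h.card, ← hmap, Subgroup.card_map_of_injective Subtype.val_injective]
    have hidx : N.index = 4 := by rw [hcompl.symm.index_eq_card, hQ4]
    have heq : N = N₁ := by
      refine le_antisymm hle fun v hv => ?_
      have hrel : N.relIndex N₁ = 1 := by
        have h5 := Subgroup.relIndex_mul_index hle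
        rw [hidx, hidx₁] at h5
        omega
      exact Subgroup.relIndex_eq_one.1 hrel hv
    exact heq ▸ hreg₁
  -- bijection with the pairs
  have key : ∑ v ∈ Finset.univ.filter (fun v : C => ¬ 2 ∣ orderOf v),
      Nat.card (Pairs (z * (v : G))) =
      ((S ×ˢ S).filter (fun ab => π (ab.1 * ab.2) = π zc)).card := by
    have hmemC : ∀ v : C, v ∈ N → ∀ p : Pairs (z * (v : G)), p.1.1 ∈ C ∧ p.1.2 ∈ C := by
      intro v hv p
      have hvz : Commute z (v : G) := Subgroup.mem_centralizer_iff.1 v.2 z rfl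
      have hreg : ¬ 2 ∣ orderOf (v : G) := by
        rw [Subgroup.orderOf_coe]; exact (hNeq v).2 hv
      have hpp : IsPPart 2 (z * (v : G)) z := ⟨v, rfl, hvz, ⟨1, hz⟩, hreg⟩
      have h1 := IsPPart.conj hpp p.1.1
      rw [pair_fst_inverts p] at h1
      have h2 := isPPart_unique Nat.prime_two h1 (IsPPart.inv hpp)
      rw [inv_eq_of_mul_eq_one_right (h.sq z hzP), mul_inv_eq_iff_eq_mul] at h2
      have ha : p.1.1 ∈ C := Subgroup.mem_centralizer_iff.2 fun w hw => by
        rw [Set.mem_singleton_iff.1 hw]; exact h2.symm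
      refine ⟨ha, ?_⟩
      rw [show p.1.2 = p.1.1⁻¹ * (z * (v : G)) from
        (inv_mul_eq_iff_eq_mul.2 p.2.2.2.symm).symm]
      exact C.mul_mem (C.inv_mem ha) (C.mul_mem hzC v.2)
    simp only [Nat.card_eq_fintype_card, ← Finset.card_univ]
    rw [← Finset.card_sigma]
    refine Finset.card_bij (fun vp hvp => ((⟨vp.2.1.1, (hmemC vp.1 ((hNeq _).1
        (Finset.mem_filter.1 (Finset.mem_sigma.1 hvp).1).2) vp.2).1⟩ : C),
      (⟨vp.2.1.2, (hmemC vp.1 ((hNeq _).1
        (Finset.mem_filter.1 (Finset.mem_sigma.1 hvp).1).2) vp.2).2⟩ : C))) ?_ ?_ ?_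
    · rintro ⟨v, p⟩ hvp
      have hv := (hNeq _).1 (Finset.mem_filter.1 (Finset.mem_sigma.1 hvp).1).2
      refine Finset.mem_filter.2 ⟨Finset.mem_product.2 ⟨?_, ?_⟩, ?_⟩
      · exact Finset.mem_filter.2 ⟨Finset.mem_univ _, by rw [← Subgroup.orderOf_coe]; exact p.2.1⟩
      · exact Finset.mem_filter.2 ⟨Finset.mem_univ _,
          by rw [← Subgroup.orderOf_coe]; exact p.2.2.1⟩
      · have e : ((⟨p.1.1, (hmemC v hv p).1⟩ : C) * ⟨p.1.2, (hmemC v hv p).2⟩) = zc * v :=
          Subtype.ext p.2.2.2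
        rw [e, map_mul, (hker v).2 hv, mul_one]
    · rintro ⟨v, p⟩ _ ⟨v', p'⟩ _ e
      simp only [Prod.mk.injEq, Subtype.mk.injEq] at e
      have hv : v = v' := Subtype.ext (mul_left_cancel (a := z)
        (p.2.2.2.symm.trans ((congrArg₂ (· * ·) e.1 e.2).trans p'.2.2.2)))
      subst hv
      rw [pair_fst_injective _ e.1]
    · rintro ⟨a, b⟩ hab
      obtain ⟨hab', hπab⟩ := Finset.mem_filter.1 hab
      obtain ⟨ha, hb⟩ := Finset.mem_product.1 hab'
      set v : C := zc⁻¹ * (a * b) with hv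
      have hvN : v ∈ N := (hker v).1 (by rw [hv, map_mul, map_inv, hπab, inv_mul_cancel])
      refine ⟨⟨v, ⟨((a : G), (b : G)), ?_, ?_, ?_⟩⟩, Finset.mem_sigma.2
        ⟨Finset.mem_filter.2 ⟨Finset.mem_univ _, (hNeq v).2 hvN⟩, Finset.mem_univ _⟩, rfl⟩
      · rw [Subgroup.orderOf_coe]; exact (Finset.mem_filter.1 ha).2
      · rw [Subgroup.orderOf_coe]; exact (Finset.mem_filter.1 hb).2
      · simp [hv, hzc]
  rw [key, hS', Finset.card_union_of_disjoint hdisj, Finset.card_product, Finset.card_product]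
  calc (Kq.card * Kr.card + Kr.card * Kq.card) * cP ^ 2
      = 2 * ((Kq.card * cP) * (Kr.card * cP)) := by ring
    _ = _ := by rw [hA, hB]; ring

/-- Brauer's order equation. -/
theorem order_equation {P : Sylow 2 G} (h : IsV4 P)
    (hone : ∀ s t : G, orderOf s = 2 → orderOf t = 2 → IsConj s t) {z : G} (hz : orderOf z = 2)
    (hzP : z ∈ (P : Subgroup G)) (hM : IsPModular 2 M) [DecidablePred (· ∈ principalBlock M G)] :
    (Nat.card G : ℂ) * (∑ ζ ∈ Finset.univ.filter (· ∈ principalBlock M G),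
        (ζ : G → ℂ) z / (ζ : G → ℂ) 1) *
      (Nat.card (Subgroup.centralizer ((P : Subgroup G) : Set G)) : ℂ) ^ 2 =
      8 * (Nat.card (Subgroup.centralizer ({z} : Set G)) : ℂ) ^ 3 := by
  classical
  set C := Subgroup.centralizer ({z} : Set G) with hC
  haveI : Fintype C := Fintype.ofFinite _
  set S := Finset.univ.filter (· ∈ principalBlock M G) with hS
  have hmem : ∀ ζ, ζ ∈ S ↔ ζ ∈ principalBlock M G := fun ζ => by simp [hS]
  set F : G → ℂ := fun g => (Nat.card (Pairs g) : ℂ) *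
    ∑ ζ ∈ S, (ζ : G → ℂ) g * (ζ : G → ℂ) z with hF
  have hpairs : ∀ g c : G, Nat.card (Pairs (c * g * c⁻¹)) = Nat.card (Pairs g) := fun g c => by
    refine (Nat.card_congr (((MulAut.conj c).toEquiv.prodCongr (MulAut.conj c).toEquiv).subtypeEquiv
      fun p => ?_)).symm
    simp only [Equiv.prodCongr_apply, Prod.map, MulEquiv.toEquiv_eq_coe, MulEquiv.coe_toEquiv,
      MulEquiv.orderOf_eq, ← map_mul]
    rw [← MulAut.conj_apply c g, (MulAut.conj c).injective.eq_iff]
  have hFc : ∀ g c : G, F (c * g * c⁻¹) = F g := fun g c => by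
    simp only [hF, hpairs]
    congr 1
    exact Finset.sum_congr rfl fun χ _ => by rw [irr_conj_invariant χ g c]
  have hsplit := sum_split (C := C) h hone hz hC hFc
  have hreg0 : ∀ g ∈ Finset.univ.filter (fun g : G => ¬ 2 ∣ orderOf g), F g = 0 := fun g hg => by
    simp only [hF]
    refine mul_eq_zero_of_right _ ?_
    refine Eq.trans (Finset.sum_congr ?_ fun _ _ => rfl)
      (regular_relation h hone hz hM (Finset.mem_filter.1 hg).2)
    ext; simp [hS]
  have hsec : ∀ v ∈ Finset.univ.filter (fun v : C => ¬ 2 ∣ orderOf v),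
      F (z * (v : G)) = 4 * (Nat.card (Pairs (z * (v : G))) : ℂ) := fun v hv => by
    simp only [hF]
    rw [mul_comm]
    congr 1
    rw [← sum_sq_value (M := M) h hone hz hC hM]
    unfold blockPair
    refine Finset.sum_congr (by ext; simp [hS]) fun ζ hζ => ?_
    rw [value_section h hone hz hC hM (by simpa using hζ) (Finset.mem_filter.1 hv).2]
    rcases value_sq h hone hz hM (ζ := ζ) (by simpa using hζ) with e | e <;> simp [e]
  rw [Finset.sum_eq_zero hreg0, zero_add, Finset.sum_congr rfl hsec, ← Finset.mul_sum,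
    ← Nat.cast_sum] at hsplit
  have hlhs : ∑ g, F g = ((C.index : ℂ)) ^ 2 * ∑ ζ ∈ S, (ζ : G → ℂ) z / (ζ : G → ℂ) 1 := by
    simp only [hF, Finset.mul_sum]
    rw [Finset.sum_comm]
    refine Finset.sum_congr rfl fun ζ hζ => ?_
    simp only [← mul_assoc, ← Finset.sum_mul]
    rw [sum_pairs_mul ζ hz hone]
    rcases value_sq h hone hz hM ((hmem ζ).1 hζ) with e | e <;> rw [e] <;> ring
  have hsum := sum_pairs_section h hz hzP hC
  have hcard : (Nat.card C : ℂ) * (C.index : ℂ) = Nat.card G := by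
    exact_mod_cast C.card_mul_index
  have hC0 : (Nat.card C : ℂ) ≠ 0 := Nat.cast_ne_zero.2 Nat.card_pos.ne'
  have hi0 : (C.index : ℂ) ≠ 0 := Nat.cast_ne_zero.2 Subgroup.index_ne_zero_of_finite
  set T : ℕ := ∑ v ∈ Finset.univ.filter (fun v : C => ¬ 2 ∣ orderOf v),
    Nat.card (Pairs (z * (v : G))) with hT
  have hsum' : (T : ℂ) *
      (Nat.card (Subgroup.centralizer ((P : Subgroup G) : Set G)) : ℂ) ^ 2 =
      2 * (Nat.card C : ℂ) ^ 2 := by
    exact_mod_cast hsum
  rw [hlhs, ← hcard] at hsplit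
  rw [← hcard]
  field_simp at hsplit ⊢
  linear_combination
    (Nat.card (Subgroup.centralizer ((P : Subgroup G) : Set G)) : ℂ) ^ 2 * hsplit + 4 * hsum'

end Cfsg.Agent.Blocks.Klein

namespace Cfsg.Agent.Blocks.Klein

open Cfsg MonoidAlgebra Cfsg.Agent.Char Cfsg.Agent.Blocks

universe v

variable {G : Type v} [Group G] [Fintype G] {M : Ideal AlgInt} [M.IsPrime]

/-- Without a normal 2-complement a Sylow subgroup of order four is a Klein four-group. -/
theorem isV4_of_order {g₀ : ℕ} (hg₀ : Odd g₀) (hG : Nat.card G = 4 * g₀)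
    (hnc : ¬ ∃ N : Subgroup G, N.Normal ∧ Nat.card N = g₀) (P : Sylow 2 G) : IsV4 P := by
  classical
  have hcard : Nat.card (P : Subgroup G) = 4 := by
    rw [Sylow.card_eq_multiplicity, hG,
      Nat.factorization_mul (by norm_num) (Nat.pos_iff_ne_zero.1 hg₀.pos), Finsupp.add_apply,
      Nat.factorization_eq_zero_of_not_dvd hg₀.not_two_dvd_nat,
      show (4 : ℕ) = 2 ^ 2 by norm_num, Nat.prime_two.factorization_pow]
    simp
  refine ⟨hcard, fun x hx => ?_⟩
  by_contra hne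
  have hx4 : x ^ 4 = 1 := by
    have h1 : (⟨x, hx⟩ : (P : Subgroup G)) ^ 4 = 1 := hcard ▸ pow_card_eq_one'
    exact congrArg Subtype.val h1
  have hord : orderOf (⟨x, hx⟩ : (P : Subgroup G)) = Nat.card (P : Subgroup G) := by
    rw [hcard, Subgroup.orderOf_mk]
    refine orderOf_eq_prime_pow (p := 2) (n := 1) ?_ hx4
    simpa [pow_two] using hne
  have hcyc : IsCyclic (P : Subgroup G) := isCyclic_of_orderOf_eq_card _ hord
  have hle := IsCyclic.normalizer_le_centralizer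
    ((Nat.minFac_eq_two_iff _).2 ⟨2 * g₀, by rw [hG]; ring⟩) hcyc
  have hc := MonoidHom.ker_transferSylow_isComplement' P hle
  refine hnc ⟨(MonoidHom.transferSylow P hle).ker, inferInstance, ?_⟩
  have := hc.card_mul
  rw [hcard, hG] at this
  omega

/-- The sum over a principal block given as a list. -/
theorem sum_principal_list {A : Type*} [AddCommMonoid A] {χ₁ χ₂ χ₃ : IrrCharacter G}
    [DecidablePred (· ∈ principalBlock M G)]
    (hB : principalBlock M G = {χ : IrrCharacter G | (χ : G → ℂ) = (fun _ => 1) ∨ χ = χ₁ ∨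
      χ = χ₂ ∨ χ = χ₃})
    (hdist : (χ₁ : G → ℂ) ≠ (fun _ => 1) ∧ (χ₂ : G → ℂ) ≠ (fun _ => 1) ∧
      (χ₃ : G → ℂ) ≠ (fun _ => 1) ∧ χ₁ ≠ χ₂ ∧ χ₁ ≠ χ₃ ∧ χ₂ ≠ χ₃) (f : IrrCharacter G → A) :
    ∑ ζ ∈ Finset.univ.filter (· ∈ principalBlock M G), f ζ =
      f (principal G) + (f χ₁ + (f χ₂ + f χ₃)) := by
  classical
  have e : Finset.univ.filter (· ∈ principalBlock M G) =
      ({principal G, χ₁, χ₂, χ₃} : Finset (IrrCharacter G)) := by
    ext χ
    simp only [Finset.mem_filter, Finset.mem_univ, true_and, hB, Set.mem_ofPred_eq,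
      Finset.mem_insert, Finset.mem_singleton]
    exact or_congr ⟨fun h => Subtype.ext h, fun h => by rw [h]; rfl⟩ Iff.rfl
  obtain ⟨d1, d2, d3, d12, d13, d23⟩ := hdist
  have n1 : principal G ≠ χ₁ := fun h => d1 (by rw [← h]; rfl)
  have n2 : principal G ≠ χ₂ := fun h => d2 (by rw [← h]; rfl)
  have n3 : principal G ≠ χ₃ := fun h => d3 (by rw [← h]; rfl)
  rw [e, Finset.sum_insert (by simp [n1, n2, n3]), Finset.sum_insert (by simp [d12, d13]),
    Finset.sum_pair d23]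

theorem order_formula {g₀ : ℕ} (hg₀ : Odd g₀) (hG : Nat.card G = 4 * g₀)
    (hnc : ¬ ∃ N : Subgroup G, N.Normal ∧ Nat.card N = g₀) (P : Sylow 2 G) {J : G}
    (hJ : J ∈ (P : Subgroup G)) (hJ2 : orderOf J = 2) (hM : IsPModular 2 M)
    {χ₁ χ₂ χ₃ : IrrCharacter G} {ε₁ ε₂ ε₃ : ℤ}
    (hB : principalBlock M G = {χ : IrrCharacter G | (χ : G → ℂ) = (fun _ => 1) ∨ χ = χ₁ ∨
      χ = χ₂ ∨ χ = χ₃})
    (hdist : (χ₁ : G → ℂ) ≠ (fun _ => 1) ∧ (χ₂ : G → ℂ) ≠ (fun _ => 1) ∧
      (χ₃ : G → ℂ) ≠ (fun _ => 1) ∧ χ₁ ≠ χ₂ ∧ χ₁ ≠ χ₃ ∧ χ₂ ≠ χ₃)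
    (hε : (ε₁ = 1 ∨ ε₁ = -1) ∧ (ε₂ = 1 ∨ ε₂ = -1) ∧ (ε₃ = 1 ∨ ε₃ = -1))
    (hval : (χ₁ : G → ℂ) J = ε₁ ∧ (χ₂ : G → ℂ) J = ε₂ ∧ (χ₃ : G → ℂ) J = ε₃) :
    (1 + (ε₁ : ℚ) * charDegree (χ₁ : G → ℂ) + ε₂ * charDegree (χ₂ : G → ℂ) +
        ε₃ * charDegree (χ₃ : G → ℂ) = 0) ∧
    ((charDegree (χ₁ : G → ℂ) : ℚ) + ε₁) * (charDegree (χ₂ : G → ℂ) + ε₂) *
        (charDegree (χ₃ : G → ℂ) + ε₃) ≠ 0 ∧
    (Nat.card G : ℚ) = 8 * (((charDegree (χ₁ : G → ℂ) : ℚ) * charDegree (χ₂ : G → ℂ) *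
        charDegree (χ₃ : G → ℂ)) / ((charDegree (χ₁ : G → ℂ) + ε₁) *
        (charDegree (χ₂ : G → ℂ) + ε₂) * (charDegree (χ₃ : G → ℂ) + ε₃))) *
      (Nat.card (Subgroup.centralizer ({J} : Set G)) : ℚ) ^ 3 /
        (Nat.card (Subgroup.centralizer ((P : Subgroup G) : Set G)) : ℚ) ^ 2 := by
  classical
  have h := isV4_of_order hg₀ hG hnc P
  have hone := one_class_of_no_complement h hG hnc
  have heq := order_equation h hone hJ2 hJ hM
  have hrel := regular_relation (M := M) h hone hJ2 hM (y := (1 : G)) (by simp)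
  rw [sum_principal_list hB hdist] at heq hrel
  obtain ⟨v1, v2, v3⟩ := hval
  have hp1 : ((principal G : IrrCharacter G) : G → ℂ) J = 1 := rfl
  have hp2 : ((principal G : IrrCharacter G) : G → ℂ) 1 = 1 := rfl
  simp only [hp1, hp2, v1, v2, v3, irr_one_eq_charDegree, div_one] at heq hrel
  have hx1 : (charDegree (χ₁ : G → ℂ) : ℚ) ≠ 0 := Nat.cast_ne_zero.2 (charDegree_pos χ₁).ne'
  have hx2 : (charDegree (χ₂ : G → ℂ) : ℚ) ≠ 0 := Nat.cast_ne_zero.2 (charDegree_pos χ₂).ne'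
  have hx3 : (charDegree (χ₃ : G → ℂ) : ℚ) ≠ 0 := Nat.cast_ne_zero.2 (charDegree_pos χ₃).ne'
  set x1 : ℕ := charDegree (χ₁ : G → ℂ)
  set x2 : ℕ := charDegree (χ₂ : G → ℂ)
  set x3 : ℕ := charDegree (χ₃ : G → ℂ)
  set c : ℕ := Nat.card (Subgroup.centralizer ({J} : Set G))
  set cP : ℕ := Nat.card (Subgroup.centralizer ((P : Subgroup G) : Set G))
  have hq : (Nat.card G : ℚ) * (1 + ((ε₁ : ℚ) / x1 + ((ε₂ : ℚ) / x2 + (ε₃ : ℚ) / x3))) *
      (cP : ℚ) ^ 2 = 8 * (c : ℚ) ^ 3 := by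
    apply Rat.cast_injective (α := ℂ)
    push_cast
    exact heq
  have hr : 1 + (ε₁ : ℚ) * x1 + ε₂ * x2 + ε₃ * x3 = 0 := by
    apply Rat.cast_injective (α := ℂ)
    push_cast
    linear_combination hrel
  have hc : (c : ℚ) ≠ 0 := Nat.cast_ne_zero.2 Nat.card_pos.ne'
  have hcP : (cP : ℚ) ≠ 0 := Nat.cast_ne_zero.2 Nat.card_pos.ne'
  have hprod : ((x1 : ℚ) + ε₁) * (x2 + ε₂) * (x3 + ε₃) =
      x1 * x2 * x3 * (1 + ((ε₁ : ℚ) / x1 + ((ε₂ : ℚ) / x2 + (ε₃ : ℚ) / x3))) := by
    field_simp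
    rcases hε with ⟨rfl | rfl, rfl | rfl, rfl | rfl⟩ <;> push_cast at hr ⊢ <;>
      first | linear_combination hr | linear_combination (-1 : ℚ) * hr
  have hS : (1 + ((ε₁ : ℚ) / x1 + ((ε₂ : ℚ) / x2 + (ε₃ : ℚ) / x3))) ≠ 0 := fun e0 => by
    rw [e0, mul_zero, zero_mul] at hq
    exact hc (pow_eq_zero_iff (by norm_num) |>.1 (by linarith : (c : ℚ) ^ 3 = 0))
  refine ⟨hr, by rw [hprod]; positivity, ?_⟩
  rw [hprod]
  set S := 1 + ((ε₁ : ℚ) / x1 + ((ε₂ : ℚ) / x2 + (ε₃ : ℚ) / x3)) with hSdef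
  clear_value S
  field_simp
  linear_combination hq

end Cfsg.Agent.Blocks.Klein
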