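import Cfsg.Agent.Lib.Blocks.DihedralBlock

/-!
Counting products of two involutions in a group with dihedral Sylow 2-subgroups and one class of
involutions.
-/

set_option linter.style.haveILetI false
set_option linter.unusedSectionVars false

namespace Cfsg.Agent.DihBlock

open Cfsg Cfsg.Agent.TwoFus Cfsg.Agent.Char Cfsg.Agent.Blocks

universe u

variable {G : Type u} [Group G] [Fintype G]

theorem card_conj_image [DecidableEq G] (C : Subgroup G) (t : G) [Fintype C] :
    (Finset.univ.image fun c : C => (c : G) * t * (c : G)⁻¹).card *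
      Nat.card {c : C // (c : G) * t = t * (c : G)} = Nat.card C := by
  classical
  set K := Finset.univ.image fun c : C => (c : G) * t * (c : G)⁻¹ with hK
  rw [Nat.card_eq_fintype_card (α := C), ← Finset.card_univ,
    Finset.card_eq_sum_card_fiberwise (f := fun c : C => (c : G) * t * (c : G)⁻¹) (t := K)
      (fun c _ => Finset.mem_image_of_mem _ (Finset.mem_univ c)),
    Finset.sum_congr rfl fun a ha => ?_, Finset.sum_const, smul_eq_mul]
  obtain ⟨c₀, -, rfl⟩ := Finset.mem_image.1 ha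
  rw [Nat.card_eq_fintype_card, Fintype.card_subtype]
  refine Finset.card_equiv (Equiv.mulLeft c₀⁻¹) fun c => ?_
  simp only [Finset.mem_filter, Finset.mem_univ, true_and, Equiv.coe_mulLeft, Subgroup.coe_mul,
    Subgroup.coe_inv]
  constructor
  · intro h
    calc (c₀ : G)⁻¹ * c * t = (c₀ : G)⁻¹ * ((c : G) * t * (c : G)⁻¹) * c := by group
      _ = (c₀ : G)⁻¹ * ((c₀ : G) * t * (c₀ : G)⁻¹) * c := by rw [h]
      _ = t * ((c₀ : G)⁻¹ * c) := by group
  · intro h
    calc (c : G) * t * (c : G)⁻¹ = (c₀ : G) * ((c₀ : G)⁻¹ * c * t) * (c : G)⁻¹ := by group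
      _ = (c₀ : G) * (t * ((c₀ : G)⁻¹ * c)) * (c : G)⁻¹ := by rw [h]
      _ = (c₀ : G) * t * (c₀ : G)⁻¹ := by group

theorem order_conj' (c a : G) : orderOf (c * a * c⁻¹) = orderOf a := by
  rw [show c * a * c⁻¹ = MulAut.conj c a from rfl, MulEquiv.orderOf_eq]

theorem card_centralizer_pair (J t : G) :
    Nat.card {c : ↥(Subgroup.centralizer ({J} : Set G)) // (c : G) * t = t * (c : G)} =
      Nat.card ↥(Subgroup.centralizer ({J, t} : Set G)) :=
  Nat.card_congr
    { toFun := fun c => ⟨(c.1 : G), Subgroup.mem_centralizer_iff.2 fun v hv => by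
        rcases hv with rfl | rfl
        · exact (Subgroup.mem_centralizer_singleton_iff.1 c.1.2).symm
        · exact c.2.symm⟩
      invFun := fun c => ⟨⟨(c : G), Subgroup.mem_centralizer_singleton_iff.2
        (Subgroup.mem_centralizer_iff.1 c.2 J (by simp)).symm⟩,
        (Subgroup.mem_centralizer_iff.1 c.2 t (by simp)).symm⟩
      left_inv := fun c => rfl
      right_inv := fun c => rfl }

variable {P : Sylow 2 G} (d : Dih (P : Subgroup G))

theorem refl_inv {s : G} (hs : s ∈ (P : Subgroup G)) (hsx : s ∉ Subgroup.zpowers d.x) (i : ℤ) :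
    s * d.x ^ i * s⁻¹ = d.x ^ (-i) := by
  rcases d.cases s hs with ⟨j, rfl⟩ | ⟨j, rfl⟩
  · exact absurd (Subgroup.zpow_mem_zpowers d.x j) hsx
  · rw [show d.x ^ j * d.y * d.x ^ i * (d.x ^ j * d.y)⁻¹ =
      d.x ^ j * (d.y * d.x ^ i * d.y⁻¹) * (d.x ^ j)⁻¹ by group, conj_x_zpow, ← zpow_neg,
      (Commute.zpow_zpow_self d.x j (-i)).eq, mul_inv_cancel_right]

/-- Reflections are conjugate in the Sylow subgroup to one of two. -/
theorem refl_cases (i : ℤ) : ∃ s ∈ (P : Subgroup G),
    d.x ^ i * d.y = s * d.y * s⁻¹ ∨ d.x ^ i * d.y = s * (d.x * d.y) * s⁻¹ := by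
  have key : ∀ k : ℤ, ∀ j : ℤ, d.x ^ k * (d.x ^ j * d.y) * (d.x ^ k)⁻¹ = d.x ^ (j + 2 * k) * d.y := by
    intro k j
    rw [← zpow_neg, mul_assoc, mul_assoc, d.swap, ← mul_assoc, ← mul_assoc, ← zpow_add, ← zpow_add]
    congr 2; ring
  rcases Int.even_or_odd' i with ⟨k, rfl | rfl⟩
  · refine ⟨d.x ^ k, mem_zpow d k, Or.inl ?_⟩
    have := key k 0
    rw [zpow_zero, one_mul, zero_add] at this
    exact this.symm
  · refine ⟨d.x ^ k, mem_zpow d k, Or.inr ?_⟩
    have := key k 1
    rw [zpow_one] at this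
    rw [this, add_comm]

theorem not_conj_refl {s : G} (hs : s ∈ (P : Subgroup G)) : s * d.y * s⁻¹ ≠ d.x * d.y := by
  intro h
  have hodd : ∀ a : ℤ, d.x ^ (2 * a) = d.x → False := fun a ha => by
    have h1 : d.x ^ (2 * a - 1) = 1 := by rw [zpow_sub, zpow_one, ha, mul_inv_cancel]
    rw [d.zpow_eq_one] at h1
    obtain ⟨k, hk⟩ := d.even
    obtain ⟨c, hc⟩ := h1
    rw [hk] at hc
    push_cast at hc
    have : 2 * (a - (k : ℤ) * c) = 1 := by linarith
    omega
  rcases d.cases s hs with ⟨j, rfl⟩ | ⟨j, rfl⟩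
  · refine hodd j ?_
    rw [← zpow_neg, mul_assoc, d.swap, ← mul_assoc, ← zpow_add, mul_left_inj] at h
    rw [show 2 * j = j + - -j by ring]
    exact h
  · refine hodd j ?_
    have e : d.x ^ j * d.y * d.y * (d.x ^ j * d.y)⁻¹ = d.x ^ (2 * j) * d.y := by
      rw [inv_eq_of_mul_eq_one_right (d.form_sq j), mul_assoc (d.x ^ j) d.y d.y, d.yy, mul_one,
        ← mul_assoc, ← zpow_add]
      congr 2; ring
    rw [e, mul_left_inj] at h
    exact h

variable {M : Ideal AlgInt} [M.IsPrime]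

set_option maxHeartbeats 1000000 in
/-- The order formula. -/
theorem order_formula (hM : IsPModular 2 M) {ζ : ℂ} (hζ : IsPrimitiveRoot ζ d.m) {h : ℕ}
    (hh : d.m = 2 * h) (h2 : 2 ≤ h) (heven : 2 ∣ h)
    (hy : IsConj d.z d.y) (hxy : IsConj d.z (d.x * d.y))
    (χ₁ : IrrCharacter G) (hχ₁ : χ₁ ∈ principalBlock M G) (h1 : χ₁ ≠ principal G) (δ : ℤ)
    (hδ : δ = 1 ∨ δ = -1) (hval : ∀ l : ℕ, 0 < l → l < d.m → (χ₁ : G → ℂ) (d.x ^ l) = δ) :
    (charDegree (χ₁ : G → ℂ) : ℤ) ≠ δ ∧
      (Nat.card G : ℚ) * ((charDegree (χ₁ : G → ℂ) : ℚ) - δ) ^ 2 =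
        2 * (charDegree (χ₁ : G → ℂ) : ℚ) * ((charDegree (χ₁ : G → ℂ) : ℚ) + δ) *
          (Nat.card ↥(Subgroup.centralizer ({d.z} : Set G)) : ℚ) ^ 3 *
          (1 / (Nat.card ↥(Subgroup.centralizer ({d.z, d.y} : Set G)) : ℚ) +
            1 / (Nat.card ↥(Subgroup.centralizer ({d.z, d.x * d.y} : Set G)) : ℚ)) ^ 2 := by
  classical
  haveI : Fact (Nat.Prime 2) := ⟨Nat.prime_two⟩
  obtain ⟨χ', χ₂, χ₃, q, e, ea, eb, he, hea, heb, n1, n2, n3, -, -, -, -, -, hB, hv, hrel⟩ :=
    block_structure d hζ hM hh h2 heven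
  have hm : 4 ≤ d.m := by omega
  have hnd : ∀ l, 0 < l → l < d.m → ¬ d.m ∣ l := fun l hl hlm hd => by
    have := Nat.le_of_dvd hl hd; omega
  -- identification
  have hsame : χ₁ = χ' ∧ δ = e := by
    have v1 := hv 1 (hnd 1 one_pos (by omega))
    have v2 := hv 2 (hnd 2 two_pos (by omega))
    have vh := hv h (hnd h (by omega) (by omega))
    have u1 := hval 1 one_pos (by omega)
    have u2 := hval 2 two_pos (by omega)
    have uh := hval h (by omega) (by omega)
    rcases (hB χ₁).1 hχ₁ with rfl | rfl | rfl | rfl | ⟨j, ⟨hj1, hjh⟩, rfl⟩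
    · exact absurd rfl h1
    · refine ⟨rfl, ?_⟩
      exact_mod_cast u1.symm.trans v1.1
    · exfalso
      have e1 := u1.symm.trans v1.2.1
      have e2 := u2.symm.trans v2.2.1
      norm_num at e1 e2
      have e1' : δ = ea := by exact_mod_cast e1
      have e2' : δ = -ea := by exact_mod_cast e2
      omega
    · exfalso
      have e1 := u1.symm.trans v1.2.2.1
      have e2 := u2.symm.trans v2.2.2.1
      norm_num at e1 e2
      have e1' : δ = eb := by exact_mod_cast e1
      have e2' : δ = -eb := by exact_mod_cast e2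
      omega
    · exfalso
      have hz : ∀ k : ℕ, (ζ ^ (k * h)) * (ζ ^ (k * h)) = 1 := fun k => by
        rw [← pow_add, ← mul_add, ← two_mul, ← hh, mul_comm, pow_mul, hζ.pow_eq_one, one_pow]
      have hsq := uh.symm.trans (vh.2.2.2 j hj1 hjh)
      rcases mul_self_eq_one_iff.1 (hz j) with r | r <;>
        rcases mul_self_eq_one_iff.1 (hz (d.m - j)) with r' | r' <;> rw [r, r'] at hsq <;>
        norm_num at hsq <;>
        rcases hδ with rfl | rfl <;> rcases he with rfl | rfl <;> norm_num at hsq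
  obtain ⟨rfl, rfl⟩ := hsame
  have h1h : 1 < h := h2
  set F : G → ℂ := fun g => 1 + (δ : ℂ) * (χ₁ : G → ℂ) g - (δ : ℂ) * (q 1 : G → ℂ) g with hF
  have hqB : q 1 ∈ principalBlock M G :=
    (hB _).2 (Or.inr (Or.inr (Or.inr (Or.inr ⟨1, ⟨le_rfl, h1h⟩, rfl⟩))))
  have hFodd : ∀ g : G, ¬ 2 ∣ orderOf g → F g = 0 := fun g hg => (hrel g hg).2 1 le_rfl h1h
  have hFconj : ∀ a b : G, IsConj a b → F a = F b := fun a b hab => by
    simp only [hF, irr_isConj χ₁ hab, irr_isConj (q 1) hab]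
  have hδ2 : (δ : ℂ) * δ = 1 := by rcases hδ with rfl | rfl <;> norm_num
  have hFx : ∀ l : ℕ, F (d.x ^ l) = 2 - ζ ^ l - ζ ^ ((d.m - 1) * l) := by
    intro l
    by_cases hl : d.m ∣ l
    · rw [(x_pow_eq_one_iff d l).2 hl, hFodd 1 (by simp), (hζ.pow_eq_one_iff_dvd l).2 hl,
        (hζ.pow_eq_one_iff_dvd _).2 (Dvd.dvd.mul_left hl _)]
      ring
    · obtain ⟨a1, -, -, a4⟩ := hv l hl
      simp only [hF, a1, a4 1 le_rfl h1h, one_mul, ← mul_assoc, hδ2]
      ring
  have hFsec : ∀ g a b : G, a * b = g → Commute a b → (∃ k, orderOf a = 2 ^ k) → ¬ 2 ∣ orderOf b →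
      a ≠ 1 → F g = F a := by
    intro g a b hab hc hk hb ha
    simp only [hF, section_const hM hχ₁ hab hc hk hb (complement_all d hk ha),
      section_const hM hqB hab hc hk hb (complement_all d hk ha)]
  have hFsum : ∀ D : ℕ, ∑ k ∈ Finset.range h, F (d.x ^ (D + 2 * k)) = (d.m : ℂ) := by
    intro D
    have hgeo : ∀ a : ℕ, ¬ d.m ∣ 2 * a → ∑ k ∈ Finset.range h, ζ ^ (a * (D + 2 * k)) = 0 := by
      intro a ha
      have hne : ζ ^ (2 * a) ≠ 1 := fun e' => ha ((hζ.pow_eq_one_iff_dvd _).1 e')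
      simp only [mul_add, pow_add, ← Finset.mul_sum, ← mul_assoc, mul_comm a 2, pow_mul _ (2 * a)]
      rw [geom_sum_eq hne, ← pow_mul ζ (2 * a) h, show 2 * a * h = d.m * a by rw [hh]; ring,
        (hζ.pow_eq_one_iff_dvd _).2 (dvd_mul_right d.m a), sub_self, zero_div, mul_zero]
    have g1 := hgeo 1 (fun hd => by have := Nat.le_of_dvd two_pos (by simpa using hd); omega)
    have g2 := hgeo (d.m - 1) (fun hd => by
      obtain ⟨c, hc⟩ := hd
      have : c < 2 := Nat.lt_of_mul_lt_mul_left (show d.m * c < d.m * 2 by omega)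
      interval_cases c <;> omega)
    simp only [one_mul] at g1
    simp only [hFx, Finset.sum_sub_distrib]
    rw [g1, g2, Finset.sum_const, Finset.card_range, nsmul_eq_mul, hh]
    push_cast
    ring
  -- one class of involutions
  have hone : ∀ a : G, orderOf a = 2 → IsConj d.z a := by
    intro a ha
    have ha1 : a ≠ 1 := fun e' => by simp [e'] at ha
    rcases classify d ⟨1, by rw [ha, pow_one]⟩ ha1 with hc | ⟨i, hi, hc⟩ | ⟨i, hi, -⟩
    · exact hc.symm
    · exfalso
      obtain ⟨g, hg⟩ := isConj_iff.1 hc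
      apply hi
      rw [← hg, show g * a * g⁻¹ * (g * a * g⁻¹) = g * (a ^ 2) * g⁻¹ by rw [pow_two]; group, ← ha,
        pow_orderOf_eq_one, mul_one, mul_inv_cancel]
    · exfalso
      obtain ⟨s, -, e' | e'⟩ := refl_cases d i
      · exact hi (e' ▸ ((isConj_iff.2 ⟨s, rfl⟩ : IsConj d.y _).symm.trans hy.symm))
      · exact hi (e' ▸ ((isConj_iff.2 ⟨s, rfl⟩ : IsConj (d.x * d.y) _).symm.trans hxy.symm))
  have hz2 : orderOf d.z = 2 := orderOf_eq_prime (by rw [pow_two, d.zz]) d.z_ne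
  have hI : ∀ a : G, a ∈ classFinset d.z ↔ orderOf a = 2 := fun a => by
    rw [mem_classFinset]
    refine ⟨fun hc => ?_, hone a⟩
    obtain ⟨c, rfl⟩ := isConj_iff.1 hc
    rw [order_conj', hz2]
  set I := classFinset d.z with hIdef
  set W : G → Finset G := fun w => I.filter fun a => a * w = w * a ∧ a ≠ w with hW
  -- the centralizer
  set C := Subgroup.centralizer ({d.z} : Set G) with hC
  haveI : Fintype C := Fintype.ofFinite C
  obtain ⟨hCc, hCfac⟩ := data_z d
  obtain ⟨N, hN, hcop, k₀, hk₀⟩ := PBasic.hasNormalPComplement_iff.1 hCc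
  have hNodd : ∀ c ∈ N, ¬ 2 ∣ orderOf c := fun c hc hd => (Nat.prime_two.coprime_iff_not_dvd).1 hcop.symm
    (hd.trans (Subgroup.orderOf_dvd_natCard N hc))
  have hPC : (P : Subgroup G) ≤ C := fun s hs => Subgroup.mem_centralizer_singleton_iff.2 (d.z_comm hs)
  set ρ : ↥(P : Subgroup G) →* C ⧸ N := (QuotientGroup.mk' N).comp (Subgroup.inclusion hPC) with hρ
  have hρinj : Function.Injective ρ := by
    rw [← MonoidHom.ker_eq_bot_iff, eq_bot_iff]
    intro s hs
    rw [MonoidHom.mem_ker, hρ, MonoidHom.comp_apply, QuotientGroup.mk'_apply,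
      QuotientGroup.eq_one_iff] at hs
    obtain ⟨k, hk⟩ := IsPGroup.iff_orderOf.1 P.2 s
    have h5 := hNodd _ hs
    rw [← Subgroup.orderOf_coe, Subgroup.coe_inclusion, Subgroup.orderOf_coe, hk] at h5
    rcases Nat.eq_zero_or_pos k with rfl | hk'
    · exact Subgroup.mem_bot.2 (orderOf_eq_one_iff.1 (by simpa using hk))
    · exact absurd (dvd_pow_self 2 hk'.ne') h5
  have hρsurj : Function.Surjective ρ := by
    haveI : Fintype (C ⧸ N) := Fintype.ofFinite _
    refine ((Function.Injective.bijective_of_nat_card_le hρinj ?_).2)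
    rw [show Nat.card ↥(P : Subgroup G) = 2 * d.m from d.card, ← hCfac, show Nat.card (C ⧸ N) = 2 ^ k₀ from hk₀]
    refine Nat.le_of_dvd (by positivity) (pow_dvd_pow 2 ?_)
    refine (Nat.Prime.pow_dvd_iff_le_factorization Nat.prime_two Nat.card_pos.ne').1 ?_
    exact hk₀ ▸ Subgroup.index_dvd_card N
  have hlift : ∀ c : C, ∃ s : ↥(P : Subgroup G), (c : C ⧸ N) = ρ s := fun c => by
    obtain ⟨s, hs⟩ := hρsurj (c : C ⧸ N); exact ⟨s, hs.symm⟩
  choose s hs using hlift
  have hsmul : ∀ a b : C, s (a * b) = s a * s b := fun a b => hρinj (by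
    rw [map_mul, ← hs, ← hs, ← hs, QuotientGroup.mk_mul])
  have hsP : ∀ p : ↥(P : Subgroup G), s (Subgroup.inclusion hPC p) = p := fun p => hρinj (by
    rw [← hs]; rfl)
  set zC : C := ⟨d.z, Subgroup.mem_centralizer_singleton_iff.2 rfl⟩ with hzC
  have hWmem : ∀ {a : G}, a ∈ W d.z → orderOf a = 2 ∧ a ≠ d.z ∧ a ∈ C := fun {a} ha => by
    obtain ⟨h3, h4, h5⟩ := Finset.mem_filter.1 ha
    exact ⟨(hI a).1 h3, h5, Subgroup.mem_centralizer_singleton_iff.2 h4⟩
  have hWrefl : ∀ a : C, (a : G) ∈ W d.z →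
      ((s a : ↥(P : Subgroup G)) : G) ∉ Subgroup.zpowers d.x := by
    intro a ha hmem
    obtain ⟨h3, h4, -⟩ := hWmem ha
    have ha2 : a * a = 1 := Subtype.ext (by
      have h5 := pow_orderOf_eq_one (a : G)
      rw [h3, pow_two] at h5
      exact h5)
    have hs2 : (s a : G) * (s a : G) = 1 := by
      rw [← Subgroup.coe_mul, ← hsmul, ha2, show (1 : C) = Subgroup.inclusion hPC 1 from rfl, hsP]
      rfl
    have hodd : ∀ c : C, c ∈ N → c * c = 1 → c = 1 := fun c hc h2' => by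
      by_contra hne
      exact hNodd c hc (by rw [orderOf_eq_prime (by rw [pow_two]; exact h2') hne])
    rcases d.sq_cases hmem hs2 with h5 | h5
    · have h6 : s a = 1 := Subtype.ext h5
      have h7 : a ∈ N := by rw [← QuotientGroup.eq_one_iff, hs a, h6, map_one]
      have h8 := hodd a h7 ha2
      rw [h8, OneMemClass.coe_one, orderOf_one] at h3
      omega
    · have hcomm : a * zC = zC * a :=
        Subtype.ext (Subgroup.mem_centralizer_singleton_iff.1 a.2)
      have hzz : zC * zC = 1 := Subtype.ext d.zz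
      have h7 : a * zC ∈ N := by
        rw [← QuotientGroup.eq_one_iff, hs, hsmul]
        have h9 : s zC = ⟨d.z, (Subgroup.zpowers_le.2 d.hx) d.z_mem⟩ :=
          hsP ⟨d.z, (Subgroup.zpowers_le.2 d.hx) d.z_mem⟩
        rw [h9, show s a = ⟨d.z, (Subgroup.zpowers_le.2 d.hx) d.z_mem⟩ from Subtype.ext h5,
          show (⟨d.z, (Subgroup.zpowers_le.2 d.hx) d.z_mem⟩ : ↥(P : Subgroup G)) *
            ⟨d.z, (Subgroup.zpowers_le.2 d.hx) d.z_mem⟩ = 1 from Subtype.ext d.zz, map_one]
      have h8 : a * zC = 1 := hodd _ h7 (by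
        rw [mul_assoc, ← mul_assoc zC a, ← hcomm, mul_assoc a zC zC, hzz, mul_one, ha2])
      refine h4 ?_
      have h10 : a = zC := mul_right_cancel (h8.trans hzz.symm)
      exact congrArg Subtype.val h10
  -- values on products
  have hkey : ∀ a b : C, (a : G) ∈ W d.z → (b : G) ∈ W d.z →
      F ((a : G) * b) = F ((s a : G) * (s b : G)) ∧
      (2 ∣ orderOf ((a : G) * b) → ((a : G) * b) ^ (orderOf ((a : G) * b) / 2) = d.z) := by
    intro a b ha hb
    have hcyc : ((s (a * b) : ↥(P : Subgroup G)) : G) ∈ Subgroup.zpowers d.x := by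
      have h5 := d.idx _ (s a).2 _ (s b).2 (hWrefl a ha) (hWrefl b hb)
      rw [inv_eq_of_mul_eq_one_right (d.out_sq _ (s a).2 (hWrefl a ha))] at h5
      rw [hsmul]; exact h5
    rw [show (s a : G) * (s b : G) = ((s (a * b) : ↥(P : Subgroup G)) : G) by rw [hsmul]; rfl,
      show (a : G) * (b : G) = ((a * b : C) : G) from rfl]
    set g := a * b with hg
    obtain ⟨y, v, hyv, hyc, ⟨k, hk⟩, hv'⟩ := exists_isPPart Nat.prime_two g
    have hvN : v ∈ N := by
      rw [← QuotientGroup.eq_one_iff, ← orderOf_eq_one_iff]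
      exact Nat.eq_one_of_dvd_coprimes (a := 2 ^ k₀) (b := orderOf v)
        ((Nat.prime_two.coprime_iff_not_dvd.2 hv').pow_left k₀)
        (hk₀ ▸ orderOf_dvd_natCard _) (orderOf_map_dvd (QuotientGroup.mk' N) v)
    have hsy : s y = s g := hρinj (by
      rw [← hs, ← hs, ← hyv, QuotientGroup.mk_mul, (QuotientGroup.eq_one_iff v).2 hvN, mul_one])
    refine ⟨?_, fun h2' => ?_⟩
    · have hFg : F (g : G) = F (y : G) := by
        by_cases hy1 : y = 1
        · rw [hy1, one_mul] at hyv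
          rw [hy1, OneMemClass.coe_one, hFodd 1 (by simp),
            hFodd _ (by rw [← hyv, Subgroup.orderOf_coe]; exact hv')]
        · exact hFsec _ (y : G) (v : G) (by rw [← Subgroup.coe_mul, hyv]) (congrArg Subtype.val hyc)
            ⟨k, by rw [Subgroup.orderOf_coe]; exact hk⟩ (by rw [Subgroup.orderOf_coe]; exact hv')
            (fun e' => hy1 (Subtype.ext e'))
      rw [hFg]
      refine hFconj _ _ ?_
      obtain ⟨c, hc⟩ := exists_conj_mem (P.subtype hPC) hk
      set p : ↥(P : Subgroup G) := ⟨((c * y * c⁻¹ : C) : G), hc⟩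
      have hp : s (c * y * c⁻¹) = p := hsP p
      have hp' : p = s c * s y * s c⁻¹ := by rw [← hp, hsmul, hsmul]
      have hinv : s c⁻¹ = (s c)⁻¹ := eq_inv_of_mul_eq_one_right (by
        rw [← hsmul, mul_inv_cancel, show (1 : C) = Subgroup.inclusion hPC 1 from rfl, hsP])
      have e1 : IsConj (y : G) ((p : ↥(P : Subgroup G)) : G) := isConj_iff.2 ⟨(c : G), by simp [p]⟩
      refine e1.trans (IsConj.symm (isConj_iff.2 ⟨((s c : ↥(P : Subgroup G)) : G), ?_⟩))
      rw [hp', hinv, hsy]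
      simp
    · have ho : orderOf (g : G) = orderOf g := Subgroup.orderOf_coe g
      rw [ho] at h2' ⊢
      set w := g ^ (orderOf g / 2) with hw
      have hw2 : orderOf w = 2 := by
        rw [hw, orderOf_pow_of_dvd (by have := orderOf_pos g; omega) (Nat.div_dvd_of_dvd h2'),
          Nat.div_div_self h2' (orderOf_pos g).ne']
      have hww : w * w = 1 := by rw [← pow_two, ← hw2, pow_orderOf_eq_one]
      have hwN : w ∉ N := fun hm => hNodd w hm (by rw [hw2])
      have hpow : ∀ n : ℕ, s (g ^ n) = s g ^ n := by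
        intro n
        induction n with
        | zero => rw [pow_zero, pow_zero, show (1 : C) = Subgroup.inclusion hPC 1 from rfl, hsP]
        | succ n ih => rw [pow_succ, hsmul, ih, pow_succ]
      have hswmem : (s w : G) ∈ Subgroup.zpowers d.x := by
        rw [hw, hpow, Subgroup.coe_pow]; exact pow_mem hcyc _
      have hs1 : s w ≠ 1 := fun e' => hwN (by rw [← QuotientGroup.eq_one_iff, hs, e', map_one])
      have hs2 : (s w : G) * (s w : G) = 1 := by
        rw [← Subgroup.coe_mul, ← hsmul, hww, show (1 : C) = Subgroup.inclusion hPC 1 from rfl, hsP]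
        rfl
      have hsz : s w = s zC := by
        rw [show s zC = (⟨d.z, (Subgroup.zpowers_le.2 d.hx) d.z_mem⟩ : ↥(P : Subgroup G)) from
          hsP ⟨d.z, (Subgroup.zpowers_le.2 d.hx) d.z_mem⟩]
        exact Subtype.ext ((d.sq_cases hswmem hs2).resolve_left fun e' => hs1 (Subtype.ext e'))
      have hcomm : w * zC = zC * w := Subtype.ext (Subgroup.mem_centralizer_singleton_iff.1 w.2)
      have hzz : zC * zC = 1 := Subtype.ext d.zz
      have hmem : w * zC ∈ N := by
        have h9 : s zC = (⟨d.z, (Subgroup.zpowers_le.2 d.hx) d.z_mem⟩ : ↥(P : Subgroup G)) :=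
          hsP ⟨d.z, (Subgroup.zpowers_le.2 d.hx) d.z_mem⟩
        rw [← QuotientGroup.eq_one_iff, hs, hsmul, hsz, h9,
          show (⟨d.z, (Subgroup.zpowers_le.2 d.hx) d.z_mem⟩ : ↥(P : Subgroup G)) *
            ⟨d.z, (Subgroup.zpowers_le.2 d.hx) d.z_mem⟩ = 1 from Subtype.ext d.zz, map_one]
      have hwz : w * zC = 1 := by
        by_contra hne
        refine hNodd _ hmem ?_
        rw [orderOf_eq_prime (p := 2) ?_ hne]
        rw [pow_two, mul_assoc, ← mul_assoc zC w, ← hcomm, mul_assoc w zC zC, hzz, mul_one, hww]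
      have hwzC : w = zC := mul_right_cancel (hwz.trans hzz.symm)
      rw [← Subgroup.coe_pow, ← hw, hwzC]
  -- the local sum
  have hlocal : ∑ a ∈ W d.z, ∑ b ∈ W d.z, F (a * b) = 2 * ((W d.z).card : ℂ) ^ 2 := by
    have hinner : ∀ a ∈ W d.z, ∑ b ∈ W d.z, F (a * b) = 2 * ((W d.z).card : ℂ) := by
      intro a ha
      set a' : C := ⟨a, (hWmem ha).2.2⟩ with ha'
      have hk : ∀ k ∈ Finset.range h, ∑ b ∈ W d.z, F (a * b) =
          ∑ b ∈ W d.z, F (a * ((d.x ^ k)⁻¹ * b * d.x ^ k)) := by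
        intro k _
        refine (Finset.sum_equiv (MulAut.conj (d.x ^ k)⁻¹).toEquiv (fun b => ?_) (fun b _ => ?_)).symm
        · have hcz : d.x ^ k * d.z = d.z * d.x ^ k := d.z_comm (pow_mem d.hx k)
          simp only [hW, Finset.mem_filter, MulEquiv.toEquiv_eq_coe, MulEquiv.coe_toEquiv,
            MulAut.conj_apply, inv_inv, hI, orderOf_eq_iff two_pos]
          rw [← orderOf_eq_iff two_pos, ← orderOf_eq_iff two_pos]
          refine and_congr (by rw [show (d.x ^ k)⁻¹ * b * d.x ^ k = (d.x ^ k)⁻¹ * b * ((d.x ^ k)⁻¹)⁻¹ by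
            rw [inv_inv], order_conj']) (and_congr ?_ (not_congr ?_))
          · constructor
            · intro h5
              calc (d.x ^ k)⁻¹ * b * d.x ^ k * d.z = (d.x ^ k)⁻¹ * b * (d.x ^ k * d.z) := by group
                _ = (d.x ^ k)⁻¹ * (b * d.z) * d.x ^ k := by rw [hcz]; group
                _ = (d.x ^ k)⁻¹ * (d.z * b) * d.x ^ k := by rw [h5]
                _ = (d.x ^ k)⁻¹ * d.z * d.x ^ k * ((d.x ^ k)⁻¹ * b * d.x ^ k) := by group
                _ = d.z * ((d.x ^ k)⁻¹ * b * d.x ^ k) := by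
                  rw [mul_assoc (d.x ^ k)⁻¹ d.z, ← hcz, inv_mul_cancel_left]
            · intro h5
              calc b * d.z = d.x ^ k * ((d.x ^ k)⁻¹ * b * d.x ^ k * ((d.x ^ k)⁻¹ * d.z * d.x ^ k)) *
                    (d.x ^ k)⁻¹ := by group
                _ = d.x ^ k * (d.z * ((d.x ^ k)⁻¹ * b * d.x ^ k)) * (d.x ^ k)⁻¹ := by
                  rw [mul_assoc (d.x ^ k)⁻¹ d.z, ← hcz, inv_mul_cancel_left, h5]
                _ = (d.x ^ k * d.z) * (d.x ^ k)⁻¹ * b := by group
                _ = d.z * b := by rw [hcz, mul_inv_cancel_right]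
          · constructor
            · intro h5; rw [h5, mul_assoc, ← hcz, inv_mul_cancel_left]
            · intro h5
              calc b = d.x ^ k * ((d.x ^ k)⁻¹ * b * d.x ^ k) * (d.x ^ k)⁻¹ := by group
                _ = d.z := by rw [h5, hcz, mul_inv_cancel_right]
        · simp only [MulEquiv.toEquiv_eq_coe, MulEquiv.coe_toEquiv, MulAut.conj_apply, inv_inv]
      have hh' : (h : ℂ) * ∑ b ∈ W d.z, F (a * b) = (h : ℂ) * (2 * ((W d.z).card : ℂ)) := by
        calc (h : ℂ) * ∑ b ∈ W d.z, F (a * b)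
            = ∑ k ∈ Finset.range h, ∑ b ∈ W d.z, F (a * ((d.x ^ k)⁻¹ * b * d.x ^ k)) := by
              rw [← Finset.sum_congr rfl hk, Finset.sum_const, Finset.card_range, nsmul_eq_mul]
          _ = ∑ b ∈ W d.z, ∑ k ∈ Finset.range h, F (a * ((d.x ^ k)⁻¹ * b * d.x ^ k)) :=
              Finset.sum_comm
          _ = ∑ _b ∈ W d.z, (d.m : ℂ) := by
              refine Finset.sum_congr rfl fun b hb => ?_
              set b' : C := ⟨b, (hWmem hb).2.2⟩ with hb'
              obtain ⟨D, hD⟩ : ∃ D : ℕ, d.x ^ D = (s a' : G) * (s b' : G) := by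
                have h5 := d.idx _ (s a').2 _ (s b').2 (hWrefl a' ha) (hWrefl b' hb)
                rw [inv_eq_of_mul_eq_one_right (d.out_sq _ (s a').2 (hWrefl a' ha))] at h5
                exact mem_powers_iff_mem_zpowers.2 h5
              rw [← hFsum D]
              refine Finset.sum_congr rfl fun k hk' => ?_
              set xk : C := Subgroup.inclusion hPC ⟨d.x ^ k, pow_mem d.hx k⟩ with hxk
              have hbk : (((xk⁻¹ * b' * xk : C)) : G) ∈ W d.z := by
                obtain ⟨q1, q2, q3⟩ := hWmem hb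
                have hcz : d.x ^ k * d.z = d.z * d.x ^ k := d.z_comm (pow_mem d.hx k)
                refine Finset.mem_filter.2 ⟨(hI _).2 ?_, ?_, fun e' => q2 ?_⟩
                · rw [show ((xk⁻¹ * b' * xk : C) : G) = (d.x ^ k)⁻¹ * b * ((d.x ^ k)⁻¹)⁻¹ by
                    rw [inv_inv]; rfl, order_conj', q1]
                · exact Subgroup.mem_centralizer_singleton_iff.1 (xk⁻¹ * b' * xk : C).2
                · have e'' : (d.x ^ k)⁻¹ * b * d.x ^ k = d.z := e'
                  calc b = d.x ^ k * ((d.x ^ k)⁻¹ * b * d.x ^ k) * (d.x ^ k)⁻¹ := by group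
                    _ = d.z := by rw [e'', hcz, mul_inv_cancel_right]
              have h5 := (hkey a' (xk⁻¹ * b' * xk) ha hbk).1
              have hsx : s xk = ⟨d.x ^ k, pow_mem d.hx k⟩ := hsP _
              have hsxi : s xk⁻¹ = (s xk)⁻¹ := eq_inv_of_mul_eq_one_right (by
                rw [← hsmul, mul_inv_cancel, show (1 : C) = Subgroup.inclusion hPC 1 from rfl, hsP])
              rw [hsmul, hsmul, hsxi, hsx] at h5
              refine h5.trans (congrArg F ?_)
              simp only [Subgroup.coe_mul, Subgroup.coe_inv]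
              have hr := refl_inv d (s b').2 (hWrefl b' hb) (-(k : ℤ))
              have hbb := d.out_sq _ (s b').2 (hWrefl b' hb)
              rw [zpow_neg, zpow_natCast, neg_neg, zpow_natCast,
                inv_eq_of_mul_eq_one_right hbb] at hr
              rw [pow_add, hD]
              calc (s a' : G) * ((d.x ^ k)⁻¹ * (s b' : G) * d.x ^ k)
                  = (s a' : G) * ((s b' : G) * ((s b' : G) * (d.x ^ k)⁻¹ * (s b' : G)) * d.x ^ k) := by
                    rw [← mul_assoc (s b' : G) ((s b' : G) * (d.x ^ k)⁻¹), ← mul_assoc (s b' : G) (s b' : G), hbb,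
                      one_mul]
                _ = (s a' : G) * (s b' : G) * d.x ^ (2 * k) := by
                    rw [hr, two_mul, pow_add]; simp only [mul_assoc]
          _ = (h : ℂ) * (2 * ((W d.z).card : ℂ)) := by
              rw [Finset.sum_const, nsmul_eq_mul, hh]; push_cast; ring
      exact mul_left_cancel₀ (Nat.cast_ne_zero.2 (by omega)) hh'
    rw [Finset.sum_congr rfl hinner, Finset.sum_const, nsmul_eq_mul]
    ring
  have hconjW : ∀ w ∈ I, ∀ c : G, c * d.z * c⁻¹ = w → ∀ a : G,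
      (a ∈ W w ↔ c⁻¹ * a * c ∈ W d.z) := by
    intro w _ c hc a
    simp only [hW, Finset.mem_filter, hI]
    have ho : orderOf (c⁻¹ * a * c) = orderOf a := by
      rw [show c⁻¹ * a * c = MulAut.conj c⁻¹ a by simp, MulEquiv.orderOf_eq]
    rw [ho, ← hc]
    refine and_congr_right fun _ => and_congr ⟨fun h5 => ?_, fun h5 => ?_⟩ (not_congr ⟨fun h5 => ?_, fun h5 => ?_⟩)
    · calc c⁻¹ * a * c * d.z = c⁻¹ * (a * (c * d.z * c⁻¹)) * c := by group
        _ = c⁻¹ * (c * d.z * c⁻¹ * a) * c := by rw [h5]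
        _ = d.z * (c⁻¹ * a * c) := by group
    · calc a * (c * d.z * c⁻¹) = c * (c⁻¹ * a * c * d.z) * c⁻¹ := by group
        _ = c * (d.z * (c⁻¹ * a * c)) * c⁻¹ := by rw [h5]
        _ = c * d.z * c⁻¹ * a := by group
    · rw [h5]; group
    · rw [← h5]; group
  have hglobal : ∑ a ∈ I, ∑ b ∈ I, F (a * b) = (I.card : ℂ) * (2 * ((W d.z).card : ℂ) ^ 2) := by
    have hpoint : ∀ a ∈ I, ∀ b ∈ I,
        F (a * b) = ∑ w ∈ I, if a ∈ W w ∧ b ∈ W w then F (a * b) else 0 := by
      intro a ha b hb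
      by_cases h0 : F (a * b) = 0
      · rw [h0]; simp
      have ha2 : orderOf a = 2 := (hI a).1 ha
      have hb2 : orderOf b = 2 := (hI b).1 hb
      have haa : a * a = 1 := by rw [← pow_two, ← ha2, pow_orderOf_eq_one]
      have hbb : b * b = 1 := by rw [← pow_two, ← hb2, pow_orderOf_eq_one]
      set g := a * b with hg
      have hg2 : 2 ∣ orderOf g := by by_contra hn; exact h0 (hFodd g hn)
      set w₀ := g ^ (orderOf g / 2) with hw₀
      have hw2 : orderOf w₀ = 2 := by
        rw [hw₀, orderOf_pow_of_dvd (by have := orderOf_pos g; omega) (Nat.div_dvd_of_dvd hg2),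
          Nat.div_div_self hg2 (orderOf_pos g).ne']
      have hww : w₀ * w₀ = 1 := by rw [← pow_two, ← hw2, pow_orderOf_eq_one]
      have hgw : Commute g w₀ := Commute.self_pow g _
      have hag : a * g * a⁻¹ = g⁻¹ := by
        rw [hg, mul_inv_rev, ← mul_assoc, haa, one_mul, inv_eq_of_mul_eq_one_right haa,
          inv_eq_of_mul_eq_one_right hbb]
      have hbg : b * g * b⁻¹ = g⁻¹ := by
        rw [hg, mul_inv_rev, inv_eq_of_mul_eq_one_right haa, inv_eq_of_mul_eq_one_right hbb,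
          mul_assoc, mul_assoc a b b, hbb, mul_one]
      have hcom : ∀ t, t * g * t⁻¹ = g⁻¹ → t * w₀ = w₀ * t := by
        intro t ht
        rw [← mul_inv_eq_iff_eq_mul, hw₀, ← conj_pow, ht, inv_pow, ← hw₀]
        exact inv_eq_of_mul_eq_one_right hww
      have hane : a ≠ w₀ := fun e' => by
        have h5 : a * g * a⁻¹ = g := by rw [e', hgw.symm.eq, mul_inv_cancel_right]
        rw [hag] at h5
        have h6 : orderOf g ∣ 2 := orderOf_dvd_of_pow_eq_one (by
          rw [pow_two]; nth_rewrite 1 [← h5]; exact inv_mul_cancel g)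
        have h7 : orderOf g = 2 := le_antisymm (Nat.le_of_dvd two_pos h6)
          (Nat.le_of_dvd (orderOf_pos g) hg2)
        have h8 : w₀ = g := by rw [hw₀, h7, show 2 / 2 = 1 from rfl, pow_one]
        rw [h8, hg] at e'
        rw [left_eq_mul.1 e', orderOf_one] at hb2
        omega
      have hbne : b ≠ w₀ := fun e' => by
        have h5 : b * g * b⁻¹ = g := by rw [e', hgw.symm.eq, mul_inv_cancel_right]
        rw [hbg] at h5
        have h6 : orderOf g ∣ 2 := orderOf_dvd_of_pow_eq_one (by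
          rw [pow_two]; nth_rewrite 1 [← h5]; exact inv_mul_cancel g)
        have h7 : orderOf g = 2 := le_antisymm (Nat.le_of_dvd two_pos h6)
          (Nat.le_of_dvd (orderOf_pos g) hg2)
        have h8 : w₀ = g := by rw [hw₀, h7, show 2 / 2 = 1 from rfl, pow_one]
        rw [h8, hg] at e'
        rw [right_eq_mul.1 e', orderOf_one] at ha2
        omega
      rw [Finset.sum_eq_single_of_mem w₀ ((hI _).2 hw2) fun w hw hne => ?_,
        if_pos ⟨Finset.mem_filter.2 ⟨ha, hcom a hag, hane⟩, Finset.mem_filter.2 ⟨hb, hcom b hbg, hbne⟩⟩]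
      rw [if_neg]
      rintro ⟨hwa, hwb⟩
      refine hne ?_
      obtain ⟨c, hc⟩ := isConj_iff.1 (mem_classFinset.1 hw)
      have h5a := (hconjW w hw c hc a).1 hwa
      have h5b := (hconjW w hw c hc b).1 hwb
      have heq : c⁻¹ * a * c * (c⁻¹ * b * c) = c⁻¹ * g * c⁻¹⁻¹ := by rw [hg]; group
      have h6 := (hkey ⟨_, (hWmem h5a).2.2⟩ ⟨_, (hWmem h5b).2.2⟩ h5a h5b).2
      simp only [heq] at h6
      rw [show c⁻¹ * g * c⁻¹⁻¹ = MulAut.conj c⁻¹ g from rfl, MulEquiv.orderOf_eq, ← map_pow, ← hw₀] at h6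
      have h7 := h6 hg2
      rw [MulAut.conj_apply, inv_inv] at h7
      rw [← hc, ← h7]
      group
    calc ∑ a ∈ I, ∑ b ∈ I, F (a * b)
        = ∑ w ∈ I, ∑ a ∈ W w, ∑ b ∈ W w, F (a * b) := by
          rw [Finset.sum_congr rfl fun a ha => Finset.sum_congr rfl fun b hb => hpoint a ha b hb,
            Finset.sum_congr rfl fun a _ => Finset.sum_comm, Finset.sum_comm]
          refine Finset.sum_congr rfl fun w _ => ?_
          have hsub : ∀ x, x ∈ W w → x ∈ I := fun x hx => Finset.filter_subset _ _ hx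
          rw [← Finset.sum_subset hsub (fun a _ ha => Finset.sum_eq_zero fun b _ =>
            if_neg fun hh'' => ha hh''.1)]
          refine Finset.sum_congr rfl fun a ha => ?_
          rw [← Finset.sum_subset hsub (fun b _ hb => if_neg fun hh'' => hb hh''.2)]
          exact Finset.sum_congr rfl fun b hb => if_pos ⟨ha, hb⟩
      _ = ∑ _w ∈ I, 2 * ((W d.z).card : ℂ) ^ 2 := by
          refine Finset.sum_congr rfl fun w hw => ?_
          obtain ⟨c, hc⟩ := isConj_iff.1 (mem_classFinset.1 hw)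
          rw [← hlocal]
          refine Finset.sum_equiv (MulAut.conj c⁻¹).toEquiv (fun a => ?_) (fun a _ => ?_)
          · simp only [MulEquiv.toEquiv_eq_coe, MulEquiv.coe_toEquiv, MulAut.conj_apply, inv_inv]
            exact hconjW w hw c hc a
          refine Finset.sum_equiv (MulAut.conj c⁻¹).toEquiv (fun b => ?_) (fun b _ => ?_)
          · simp only [MulEquiv.toEquiv_eq_coe, MulEquiv.coe_toEquiv, MulAut.conj_apply, inv_inv]
            exact hconjW w hw c hc b
          simp only [MulEquiv.toEquiv_eq_coe, MulEquiv.coe_toEquiv]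
          rw [← map_mul]
          exact hFconj _ _ (isConj_iff.2 ⟨c⁻¹, rfl⟩)
      _ = (I.card : ℂ) * (2 * ((W d.z).card : ℂ) ^ 2) := by rw [Finset.sum_const, nsmul_eq_mul]
  -- the two classes
  have hclasses : W d.z = (Finset.univ.image fun c : C => (c : G) * d.y * (c : G)⁻¹) ∪
      (Finset.univ.image fun c : C => (c : G) * (d.x * d.y) * (c : G)⁻¹) := by
    ext a
    constructor
    · intro ha
      obtain ⟨q1, q2, q3⟩ := hWmem ha
      obtain ⟨c, hc⟩ := exists_conj_mem (P.subtype hPC) (a := (⟨a, q3⟩ : C)) (k := 1)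
        (by rw [Subgroup.orderOf_mk, q1, pow_one])
      have hcP : (c : G) * a * (c : G)⁻¹ ∈ (P : Subgroup G) := hc
      have hcz : (c : G) * d.z = d.z * c := Subgroup.mem_centralizer_singleton_iff.1 c.2
      have hsq : (c : G) * a * (c : G)⁻¹ * ((c : G) * a * (c : G)⁻¹) = 1 := by
        rw [show (c : G) * a * (c : G)⁻¹ * ((c : G) * a * (c : G)⁻¹) = (c : G) * a ^ 2 * (c : G)⁻¹ by
          rw [pow_two]; group, ← q1, pow_orderOf_eq_one, mul_one, mul_inv_cancel]
      rcases d.cases _ hcP with ⟨i, hi⟩ | ⟨i, hi⟩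
      · exfalso
        rcases d.sq_cases (hi ▸ Subgroup.zpow_mem_zpowers d.x i) hsq with e' | e'
        · rw [conj_eq_one_iff] at e'; rw [e', orderOf_one] at q1; omega
        · refine q2 ?_
          calc a = (c : G)⁻¹ * ((c : G) * a * (c : G)⁻¹) * c := by group
            _ = d.z := by rw [e', mul_assoc, ← hcz, inv_mul_cancel_left]
      · obtain ⟨p, hp, e' | e'⟩ := refl_cases d i
        · refine Finset.mem_union_left _ (Finset.mem_image.2
            ⟨c⁻¹ * ⟨p, hPC hp⟩, Finset.mem_univ _, ?_⟩)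
          rw [e'] at hi
          calc _ = (c : G)⁻¹ * (p * d.y * p⁻¹) * c := by simp [mul_assoc]
            _ = a := by rw [← hi]; group
        · refine Finset.mem_union_right _ (Finset.mem_image.2
            ⟨c⁻¹ * ⟨p, hPC hp⟩, Finset.mem_univ _, ?_⟩)
          rw [e'] at hi
          calc _ = (c : G)⁻¹ * (p * (d.x * d.y) * p⁻¹) * c := by simp [mul_assoc]
            _ = a := by rw [← hi]; group
    · intro ha
      obtain ⟨t, htP, htx, c, rfl⟩ : ∃ t ∈ (P : Subgroup G), t ∉ Subgroup.zpowers d.x ∧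
          ∃ c : C, (c : G) * t * (c : G)⁻¹ = a := by
        rcases Finset.mem_union.1 ha with hm' | hm' <;> obtain ⟨c, -, rfl⟩ := Finset.mem_image.1 hm'
        · exact ⟨d.y, d.hy, d.ynot, c, rfl⟩
        · exact ⟨d.x * d.y, mul_mem d.hx d.hy, by simpa using d.form_not_mem 1, c, rfl⟩
      have hcz : (c : G) * d.z = d.z * c := Subgroup.mem_centralizer_singleton_iff.1 c.2
      refine Finset.mem_filter.2 ⟨(hI _).2 ?_, ?_, fun e' => htx ?_⟩
      · rw [order_conj']
        exact orderOf_eq_prime (by rw [pow_two]; exact d.out_sq t htP htx)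
          fun e' => htx (e' ▸ one_mem _)
      · exact Subgroup.mem_centralizer_singleton_iff.1
          (mul_mem (mul_mem c.2 (hPC htP)) (inv_mem c.2))
      · have e'' : t = d.z := by
          calc t = (c : G)⁻¹ * ((c : G) * t * (c : G)⁻¹) * c := by group
            _ = d.z := by rw [e', mul_assoc, ← hcz, inv_mul_cancel_left]
        rw [e'']; exact d.z_mem
  have hdisj : Disjoint (Finset.univ.image fun c : C => (c : G) * d.y * (c : G)⁻¹)
      (Finset.univ.image fun c : C => (c : G) * (d.x * d.y) * (c : G)⁻¹) := by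
    rw [Finset.disjoint_left]
    intro a ha hb
    obtain ⟨c, -, rfl⟩ := Finset.mem_image.1 ha
    obtain ⟨c', -, hc'⟩ := Finset.mem_image.1 hb
    set y' : ↥(P : Subgroup G) := ⟨d.y, d.hy⟩
    set xy' : ↥(P : Subgroup G) := ⟨d.x * d.y, mul_mem d.hx d.hy⟩
    have hconj : c'⁻¹ * c * Subgroup.inclusion hPC y' * (c'⁻¹ * c)⁻¹ = Subgroup.inclusion hPC xy' := by
      refine Subtype.ext ?_
      show (c' : G)⁻¹ * c * d.y * ((c' : G)⁻¹ * c)⁻¹ = d.x * d.y
      calc _ = (c' : G)⁻¹ * ((c : G) * d.y * (c : G)⁻¹) * c' := by group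
        _ = d.x * d.y := by rw [← hc']; group
    set t := c'⁻¹ * c
    have h5 : s t * y' * s t⁻¹ = xy' := by
      rw [← hsP xy', ← hconj, hsmul _ t⁻¹, hsmul t, hsP]
    have hinv : s t⁻¹ = (s t)⁻¹ := eq_inv_of_mul_eq_one_right (by
      rw [← hsmul, mul_inv_cancel, show (1 : C) = Subgroup.inclusion hPC 1 from rfl, hsP])
    rw [hinv] at h5
    exact not_conj_refl d (s t).2 (congrArg Subtype.val h5)
  have hWcard : ((W d.z).card : ℚ) = (Nat.card C : ℚ) *
      (1 / (Nat.card ↥(Subgroup.centralizer ({d.z, d.y} : Set G)) : ℚ) +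
        1 / (Nat.card ↥(Subgroup.centralizer ({d.z, d.x * d.y} : Set G)) : ℚ)) := by
    have k1 := card_conj_image C d.y
    have k2 := card_conj_image C (d.x * d.y)
    rw [card_centralizer_pair] at k1 k2
    have k1' : (((Finset.univ.image fun c : C => (c : G) * d.y * (c : G)⁻¹).card : ℚ) *
        (Nat.card ↥(Subgroup.centralizer ({d.z, d.y} : Set G)) : ℚ)) = (Nat.card C : ℚ) := by
      exact_mod_cast k1
    have k2' : (((Finset.univ.image fun c : C => (c : G) * (d.x * d.y) * (c : G)⁻¹).card : ℚ) *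
        (Nat.card ↥(Subgroup.centralizer ({d.z, d.x * d.y} : Set G)) : ℚ)) = (Nat.card C : ℚ) := by
      exact_mod_cast k2
    rw [hclasses, Finset.card_union_of_disjoint hdisj, Nat.cast_add, mul_add]
    congr 1
    · rw [mul_one_div, ← k1', mul_div_cancel_right₀ _ (Nat.cast_ne_zero.2 Nat.card_pos.ne')]
    · rw [mul_one_div, ← k2', mul_div_cancel_right₀ _ (Nat.cast_ne_zero.2 Nat.card_pos.ne')]
  -- the characters
  have hscal : ∀ χ : IrrCharacter G, ∑ a ∈ I, ∑ b ∈ I, (χ : G → ℂ) (a * b) =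
      (I.card : ℂ) ^ 2 * ((χ : G → ℂ) d.z ^ 2 / (χ : G → ℂ) 1) := by
    intro χ
    have hx : IsClassElt (classSum ℂ d.z) := isClassElt_classSum _
    have hsum' : classSum ℂ d.z = ∑ a ∈ I, MonoidAlgebra.single a (1 : ℂ) := by
      refine gaExt fun y => ?_
      rw [coeff_classSum, MonoidAlgebra.coeff_sum, Finset.sum_apply']
      simp only [MonoidAlgebra.coeff_single, Finsupp.single_apply, Finset.sum_ite_eq', hIdef,
        mem_classFinset]
    have hom : ∀ g : G, omega χ (MonoidAlgebra.single g (1 : ℂ)) = (χ : G → ℂ) g / (χ : G → ℂ) 1 := by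
      intro g
      simp [omega, Finsupp.single_apply]
    have h2' := omega_mul χ hx hx
    rw [omega_classSum, centralChar, ← card_classFinset, ← hIdef] at h2'
    rw [hsum', Finset.sum_mul, omega_sum] at h2'
    simp only [Finset.mul_sum, omega_sum, MonoidAlgebra.single_mul_single, mul_one, hom,
      ← Finset.sum_div] at h2'
    rw [div_eq_iff (irr_one_ne_zero χ)] at h2'
    rw [h2']
    field_simp [irr_one_ne_zero χ]
  have hz1 : (χ₁ : G → ℂ) d.z = (δ : ℂ) := by rw [z_eq d hh]; exact hval h (by omega) (by omega)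
  have hq2 : (q 1 : G → ℂ) d.z ^ 2 = 4 := by
    rw [z_eq d hh, (hv h (hnd h (by omega) (by omega))).2.2.2 1 le_rfl h1h, one_mul]
    have hzh : ζ ^ h = -1 := by
      have e1 : ζ ^ h * ζ ^ h = 1 := by rw [← pow_add, ← two_mul, ← hh, hζ.pow_eq_one]
      exact (mul_self_eq_one_iff.1 e1).resolve_left fun e' => by
        have := Nat.le_of_dvd (by omega) ((hζ.pow_eq_one_iff_dvd h).1 e'); omega
    have hodd : Odd (d.m - 1) := ⟨h - 1, by omega⟩
    rw [mul_comm (d.m - 1), pow_mul, hzh, hodd.neg_one_pow, mul_pow, pow_two (δ : ℂ), hδ2]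
    norm_num
  have hlhs : ∑ a ∈ I, ∑ b ∈ I, F (a * b) = (I.card : ℂ) ^ 2 *
      (1 + (δ : ℂ) / (charDegree (χ₁ : G → ℂ) : ℂ) - (δ : ℂ) * 4 / (charDegree (q 1 : G → ℂ) : ℂ)) := by
    simp only [hF, Finset.sum_sub_distrib, Finset.sum_add_distrib, ← Finset.mul_sum, hscal, hz1, hq2,
      pow_two (δ : ℂ), hδ2, irr_one_eq_charDegree, Finset.sum_const, nsmul_eq_mul, mul_one]
    ring
  have hIne : (I.card : ℂ) ≠ 0 := Nat.cast_ne_zero.2
    (Finset.card_ne_zero.2 ⟨_, mem_classFinset.2 (IsConj.refl _)⟩)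
  rw [hlhs, pow_two (I.card : ℂ), mul_assoc] at hglobal
  have hX := mul_left_cancel₀ hIne hglobal
  set x₁ := charDegree (χ₁ : G → ℂ) with hx₁
  set xq := charDegree (q 1 : G → ℂ) with hxq
  have hXq : (I.card : ℚ) * (1 + (δ : ℚ) / (x₁ : ℚ) - (δ : ℚ) * 4 / (xq : ℚ)) =
      2 * ((W d.z).card : ℚ) ^ 2 := by
    have h5 : (((I.card : ℚ) * (1 + (δ : ℚ) / (x₁ : ℚ) - (δ : ℚ) * 4 / (xq : ℚ)) : ℚ) : ℂ) =
        ((2 * ((W d.z).card : ℚ) ^ 2 : ℚ) : ℂ) := by
      push_cast
      exact hX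
    exact_mod_cast h5
  have hdeg : (xq : ℤ) = x₁ + δ := by
    have h5 := (hrel 1 (by simp)).2 1 le_rfl h1h
    rw [irr_one_eq_charDegree, irr_one_eq_charDegree] at h5
    have h6 : (1 + δ * x₁ - δ * xq : ℤ) = 0 := by exact_mod_cast h5
    rcases hδ with rfl | rfl <;> omega
  have hcG : (Nat.card G : ℚ) = (I.card : ℚ) * (Nat.card C : ℚ) := by
    have := C.index_mul_card
    rw [show C.index = I.card from (card_classFinset d.z).symm] at this
    exact_mod_cast this.symm
  have hx₁0 : (x₁ : ℚ) ≠ 0 := Nat.cast_ne_zero.2 fun h0 => irr_one_ne_zero χ₁ (by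
    rw [irr_one_eq_charDegree, ← hx₁, h0, Nat.cast_zero])
  have hxq0 : (xq : ℚ) ≠ 0 := Nat.cast_ne_zero.2 fun h0 => irr_one_ne_zero (q 1) (by
    rw [irr_one_eq_charDegree, ← hxq, h0, Nat.cast_zero])
  have hxqQ : (xq : ℚ) = (x₁ : ℚ) + δ := by exact_mod_cast hdeg
  have hδQ : (δ : ℚ) * δ = 1 := by rcases hδ with rfl | rfl <;> norm_num
  have hident : ((x₁ : ℚ) - δ) ^ 2 =
      (x₁ : ℚ) * ((x₁ : ℚ) + δ) * (1 + (δ : ℚ) / (x₁ : ℚ) - (δ : ℚ) * 4 / (xq : ℚ)) := by
    have e1 : (x₁ : ℚ) * ((δ : ℚ) / x₁) = δ := mul_div_cancel₀ _ hx₁0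
    have e2 : ((x₁ : ℚ) + δ) * ((δ : ℚ) * 4 / xq) = δ * 4 := by
      rw [← hxqQ]; exact mul_div_cancel₀ _ hxq0
    linear_combination -((x₁ : ℚ) + δ) * e1 + (x₁ : ℚ) * e2
  refine ⟨fun heq => ?_, ?_⟩
  · have h0 : ((x₁ : ℚ) - δ) ^ 2 = 0 := by
      rw [show (x₁ : ℚ) = (δ : ℚ) from by exact_mod_cast heq]; ring
    rw [hident] at h0
    have h5 : (1 + (δ : ℚ) / (x₁ : ℚ) - (δ : ℚ) * 4 / (xq : ℚ)) = 0 :=
      (mul_eq_zero.1 h0).resolve_left (mul_ne_zero hx₁0 (hxqQ ▸ hxq0))
    rw [h5, mul_zero] at hXq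
    have h6 : ((W d.z).card : ℚ) = 0 := by nlinarith [sq_nonneg ((W d.z).card : ℚ)]
    have h7 : d.y ∈ W d.z := by
      rw [hclasses]; exact Finset.mem_union_left _ (Finset.mem_image.2 ⟨1, Finset.mem_univ _, by simp⟩)
    exact (Finset.card_pos.2 ⟨_, h7⟩).ne' (by exact_mod_cast h6)
  · rw [hident, hcG]
    rw [hWcard] at hXq
    linear_combination (x₁ : ℚ) * ((x₁ : ℚ) + δ) * (Nat.card C : ℚ) * hXq

end Cfsg.Agent.DihBlock
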