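import Cfsg.Agent.Lib.Blocks.HomocyclicChars
import Cfsg.Agent.Lib.Transfer.Fusion
import Cfsg.Agent.Lib.BrauerSuzuki.Sylow
import Mathlib.GroupTheory.SpecificGroups.Cyclic
import Mathlib.Data.ZMod.Basic

/-!
Brauer's theorem on a homocyclic Sylow 2-subgroup of rank two.
-/

set_option linter.style.haveILetI false
set_option linter.unusedSectionVars false

namespace Cfsg.Agent.Homocyclic

open Cfsg

universe u

variable {G : Type u} [Group G] [Fintype G]

/-- What is used of the Sylow subgroup. -/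
structure Shape (P : Subgroup G) : Prop where
  comm : ∀ x ∈ P, ∀ y ∈ P, x * y = y * x
  large : 16 ∣ Nat.card P
  not_elementary : ∃ x ∈ P, x * x ≠ 1
  invol : ∃ x ∈ P, x * x = 1 ∧ x ≠ 1
  three : ∀ a ∈ P, ∀ b ∈ P, ∀ c ∈ P, ∀ d ∈ P, a * a = 1 → b * b = 1 → c * c = 1 → d * d = 1 →
    a ≠ 1 → b ≠ 1 → c ≠ 1 → d ≠ 1 → a ≠ b → a ≠ c → b ≠ c → d = a ∨ d = b ∨ d = c

theorem two_torsion {m : ℕ} (hm : 1 ≤ m) (x : ZMod (2 ^ m)) (hx : x + x = 0) :
    x = 0 ∨ x = ((2 ^ (m - 1) : ℕ) : ZMod (2 ^ m)) := by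
  haveI : NeZero (2 ^ m) := ⟨by positivity⟩
  have h : 2 ^ m ∣ x.val + x.val := by
    rw [← ZMod.natCast_eq_zero_iff, Nat.cast_add, ZMod.natCast_zmod_val]
    exact hx
  have hlt := ZMod.val_lt x
  have h2 : 2 ^ m = 2 * 2 ^ (m - 1) := by rw [← pow_succ', Nat.sub_add_cancel hm]
  obtain ⟨c, hc⟩ := h
  have hc2 : c < 2 := by nlinarith
  interval_cases c
  · left
    rw [← ZMod.natCast_zmod_val x, show x.val = 0 by omega, Nat.cast_zero]
  · right
    rw [← ZMod.natCast_zmod_val x, show x.val = 2 ^ (m - 1) by omega]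

theorem shape_of_equiv {P : Subgroup G} {m : ℕ} (hm : 2 ≤ m)
    (e : P ≃* Multiplicative (ZMod (2 ^ m) × ZMod (2 ^ m))) : Shape P := by
  classical
  haveI : NeZero (2 ^ m) := ⟨by positivity⟩
  haveI : Fact (1 < 2 ^ m) := ⟨Nat.one_lt_two_pow (by omega)⟩
  set h : ZMod (2 ^ m) := ((2 ^ (m - 1) : ℕ) : ZMod (2 ^ m)) with hh
  have h2 : 2 ^ m = 2 * 2 ^ (m - 1) := by rw [← pow_succ', Nat.sub_add_cancel (by omega)]
  have hne : h ≠ 0 := by
    rw [hh, Ne, ZMod.natCast_eq_zero_iff]
    intro hd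
    have := Nat.le_of_dvd (by positivity) hd
    have : 0 < 2 ^ (m - 1) := by positivity
    omega
  have hhh : h + h = 0 := by
    rw [hh, ← Nat.cast_add, ZMod.natCast_eq_zero_iff, h2, two_mul]
  set V : Finset (Multiplicative (ZMod (2 ^ m) × ZMod (2 ^ m))) :=
    {Multiplicative.ofAdd (h, 0), Multiplicative.ofAdd (0, h), Multiplicative.ofAdd (h, h)} with hV
  have hmem : ∀ a : P, (a : G) * a = 1 → (a : G) ≠ 1 → e a ∈ V := by
    intro a ha ha1
    have h1 : e a * e a = 1 := by rw [← map_mul, show a * a = 1 from Subtype.ext ha, map_one]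
    have h0 : e a ≠ 1 := fun hc =>
      ha1 (congrArg Subtype.val ((EmbeddingLike.map_eq_one_iff (f := e)).1 hc))
    obtain ⟨u, v⟩ : ZMod (2 ^ m) × ZMod (2 ^ m) := Multiplicative.toAdd (e a)
    generalize hea : e a = w at h1 h0 ⊢
    obtain ⟨⟨u, v⟩, rfl⟩ := Multiplicative.ofAdd.surjective w
    have hu := congrArg Prod.fst (congrArg Multiplicative.toAdd h1)
    have hv := congrArg Prod.snd (congrArg Multiplicative.toAdd h1)
    simp only [toAdd_mul, toAdd_ofAdd, toAdd_one, Prod.fst_add, Prod.snd_add, Prod.fst_zero,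
      Prod.snd_zero] at hu hv
    rcases two_torsion (by omega) u hu with rfl | rfl <;>
      rcases two_torsion (by omega) v hv with rfl | rfl
    · exact absurd rfl h0
    all_goals simp [hV, hh]
  refine ⟨fun x hx y hy => ?_, ?_, ?_, ?_, ?_⟩
  · have h1 : e (⟨x, hx⟩ * ⟨y, hy⟩) = e (⟨y, hy⟩ * ⟨x, hx⟩) := by rw [map_mul, map_mul, mul_comm]
    exact congrArg Subtype.val (e.injective h1)
  · rw [Nat.card_congr e.toEquiv, Nat.card_congr Multiplicative.toAdd, Nat.card_prod, Nat.card_zmod,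
      ← pow_add]
    exact pow_dvd_pow 2 (show 4 ≤ m + m by omega)
  · refine ⟨_, (e.symm (Multiplicative.ofAdd (1, 0))).2, fun hc => ?_⟩
    have h1 : e.symm (Multiplicative.ofAdd (1, 0)) * e.symm (Multiplicative.ofAdd (1, 0)) = 1 :=
      Subtype.ext hc
    rw [← map_mul, EmbeddingLike.map_eq_one_iff] at h1
    have h1' := congrArg Prod.fst (congrArg Multiplicative.toAdd h1)
    simp only [toAdd_mul, toAdd_ofAdd, toAdd_one, Prod.fst_add, Prod.fst_zero] at h1'
    rcases two_torsion (by omega) 1 h1' with h3 | h3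
    · exact one_ne_zero h3
    · have h4 := congrArg ZMod.val h3
      have hp : 2 ≤ 2 ^ (m - 1) := le_self_pow₀ (by norm_num) (by omega)
      rw [ZMod.val_one, ZMod.val_natCast, Nat.mod_eq_of_lt (by omega)] at h4
      omega
  · refine ⟨_, (e.symm (Multiplicative.ofAdd (h, 0))).2, ?_, ?_⟩
    · have h1 : e.symm (Multiplicative.ofAdd (h, 0)) * e.symm (Multiplicative.ofAdd (h, 0)) = 1 := by
        rw [← map_mul, ← ofAdd_add, Prod.mk_add_mk, hhh, add_zero, Prod.mk_zero_zero, ofAdd_zero,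
          map_one]
      exact congrArg Subtype.val h1
    · intro hc
      have h1 : e.symm (Multiplicative.ofAdd (h, 0)) = 1 := Subtype.ext hc
      rw [EmbeddingLike.map_eq_one_iff] at h1
      exact hne (congrArg Prod.fst (congrArg Multiplicative.toAdd h1))
  · intro a ha b hb c hc d hd a2 b2 c2 d2 a1 b1 c1 d1 hab hac hbc
    by_contra hno
    push Not at hno
    set F : Finset P := {⟨a, ha⟩, ⟨b, hb⟩, ⟨c, hc⟩, ⟨d, hd⟩} with hF
    have hsub : F.image e ⊆ V := fun y hy => by
      obtain ⟨x, hx, rfl⟩ := Finset.mem_image.1 hy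
      simp only [hF, Finset.mem_insert, Finset.mem_singleton] at hx
      rcases hx with rfl | rfl | rfl | rfl
      · exact hmem _ a2 a1
      · exact hmem _ b2 b1
      · exact hmem _ c2 c1
      · exact hmem _ d2 d1
    have hle := (Finset.card_le_card hsub).trans Finset.card_le_three
    rw [Finset.card_image_of_injective _ e.injective, hF,
      Finset.card_insert_of_notMem (by simp [hab, hac, hno.1.symm]),
      Finset.card_insert_of_notMem (by simp [hbc, hno.2.1.symm]),
      Finset.card_pair (by simp [hno.2.2.symm])] at hle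
    omega

variable {P : Sylow 2 G}

omit [Fintype G] in
theorem conj_two (v y : G) : v ^ 2 * y * (v ^ 2)⁻¹ = v * (v * y * v⁻¹) * v⁻¹ := by
  simp [pow_two, mul_assoc]

omit [Fintype G] in
theorem conj_three (v y : G) : v ^ 3 * y * (v ^ 3)⁻¹ = v * (v * (v * y * v⁻¹) * v⁻¹) * v⁻¹ := by
  simp [pow_succ, mul_assoc]

/-- Conjugates of a member of the Sylow subgroup under an odd element of the normalizer: the
fixed points are all or nothing. -/
theorem centralizes_of_odd (hS : Shape (P : Subgroup G)) {v : G}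
    (hv : v ∈ Subgroup.normalizer ((P : Subgroup G) : Set G)) (hodd : ¬ 2 ∣ orderOf v)
    {x : G} (hx : x ∈ (P : Subgroup G)) (hx1 : x ≠ 1) (hfix : v * x * v⁻¹ = x) :
    ∀ y ∈ (P : Subgroup G), v * y * v⁻¹ = y := by
  haveI : Fact (Nat.Prime 2) := ⟨Nat.prime_two⟩
  have hmem : ∀ {y}, y ∈ (P : Subgroup G) → v * y * v⁻¹ ∈ (P : Subgroup G) := fun {y} hy =>
    (Subgroup.mem_normalizer_iff.1 hv y).1 hy
  -- an involution is fixed
  obtain ⟨z, hzP, hz2, hz1, hzf⟩ : ∃ z ∈ (P : Subgroup G), z * z = 1 ∧ z ≠ 1 ∧ v * z * v⁻¹ = z := by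
    obtain ⟨k, hk⟩ := IsPGroup.iff_orderOf.1 P.2 ⟨x, hx⟩
    rw [Subgroup.orderOf_mk] at hk
    have hpow : x ^ 2 ^ k = 1 := by rw [← hk]; exact pow_orderOf_eq_one x
    clear hk
    induction k generalizing x with
    | zero => simp at hpow; exact absurd hpow hx1
    | succ k ih =>
      by_cases h : x * x = 1
      · exact ⟨x, hx, h, hx1, hfix⟩
      · refine ih (mul_mem hx hx) h ?_ ?_
        · calc v * (x * x) * v⁻¹ = v * x * v⁻¹ * (v * x * v⁻¹) := by group
            _ = x * x := by rw [hfix]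
        · rw [← pow_two, ← pow_mul, ← pow_succ']; exact hpow
  have hconjpow : ∀ (n : ℕ) (y : G), v * y * v⁻¹ = y → v ^ n * y * (v ^ n)⁻¹ = y := by
    intro n y hy
    induction n with
    | zero => simp
    | succ n ih =>
      rw [pow_succ, show v ^ n * v * y * (v ^ n * v)⁻¹ = v ^ n * (v * y * v⁻¹) * (v ^ n)⁻¹ by group,
        hy, ih]
  -- every involution is fixed
  have hinv : ∀ j ∈ (P : Subgroup G), j * j = 1 → j ≠ 1 → v * j * v⁻¹ = j := by
    intro j hj hj2 hj1
    by_contra hne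
    set k := v * j * v⁻¹ with hk
    have hjz : j ≠ z := fun e => hne (by rw [hk, e, hzf])
    have hk2 : k * k = 1 := by
      rw [hk, show v * j * v⁻¹ * (v * j * v⁻¹) = v * (j * j) * v⁻¹ by group, hj2, mul_one,
        mul_inv_cancel]
    have hk1 : k ≠ 1 := fun e => hj1 (conj_eq_one_iff.1 (hk ▸ e))
    have hkz : k ≠ z := fun e => hjz (by
      have h1 : v * j * v⁻¹ = v * z * v⁻¹ := by rw [← hk, e, hzf]
      simpa using h1)
    set l := v * k * v⁻¹ with hl
    have hl2 : l * l = 1 := by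
      rw [hl, show v * k * v⁻¹ * (v * k * v⁻¹) = v * (k * k) * v⁻¹ by group, hk2, mul_one,
        mul_inv_cancel]
    have hl1 : l ≠ 1 := fun e => hk1 (conj_eq_one_iff.1 (hl ▸ e))
    rcases hS.three z hzP j hj k (hmem hj) l (hmem (hmem hj)) hz2 hj2 hk2 hl2 hz1 hj1 hk1 hl1
      hjz.symm hkz.symm (Ne.symm hne) with e | e | e
    · refine hkz ?_
      have h1 : v * k * v⁻¹ = v * z * v⁻¹ := by rw [← hl, e, hzf]
      simpa using h1
    · have h2 : v ^ 2 * j * (v ^ 2)⁻¹ = j := by
        rw [conj_two, ← hk, ← hl, e]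
      obtain ⟨q, hq⟩ : Odd (orderOf v) := Nat.odd_iff.2 (by omega)
      have h3 : ∀ n : ℕ, (v ^ 2) ^ n * j * ((v ^ 2) ^ n)⁻¹ = j := by
        intro n
        induction n with
        | zero => simp
        | succ n ih =>
          rw [pow_succ, show (v ^ 2) ^ n * v ^ 2 * j * ((v ^ 2) ^ n * v ^ 2)⁻¹ =
            (v ^ 2) ^ n * (v ^ 2 * j * (v ^ 2)⁻¹) * ((v ^ 2) ^ n)⁻¹ by group, h2, ih]
      have h4 := h3 (q + 1)
      rw [← pow_mul, show 2 * (q + 1) = orderOf v + 1 by omega, pow_succ, pow_orderOf_eq_one,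
        one_mul] at h4
      exact hne h4
    · refine hne ?_
      have h1 : v * k * v⁻¹ = v * j * v⁻¹ := by rw [← hl, e, hk]
      simpa using h1
  -- hence everything
  intro y hy
  obtain ⟨k, hk⟩ := IsPGroup.iff_orderOf.1 P.2 ⟨y, hy⟩
  rw [Subgroup.orderOf_mk] at hk
  have hpow : y ^ 2 ^ k = 1 := by rw [← hk]; exact pow_orderOf_eq_one y
  clear hk
  induction k generalizing y with
  | zero => simp at hpow; simp [hpow]
  | succ k ih =>
    have h1 := ih (y * y) (mul_mem hy hy) (by rw [← pow_two, ← pow_mul, ← pow_succ']; exact hpow)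
    set i := y⁻¹ * (v * y * v⁻¹) with hi
    have hiP : i ∈ (P : Subgroup G) := mul_mem (inv_mem hy) (hmem hy)
    have hyi : v * y * v⁻¹ = y * i := by rw [hi, mul_inv_cancel_left]
    have hi2 : i * i = 1 := by
      have e1 : v * (y * y) * v⁻¹ = y * y * (i * i) := by
        calc v * (y * y) * v⁻¹ = v * y * v⁻¹ * (v * y * v⁻¹) := by group
          _ = y * (i * y) * i := by rw [hyi]; group
          _ = y * (y * i) * i := by rw [hS.comm i hiP y hy]
          _ = y * y * (i * i) := by group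
      rw [h1] at e1
      exact mul_left_cancel (a := y * y) (by rw [mul_one]; exact e1.symm)
    have hif : v * i * v⁻¹ = i := by
      by_cases hi1 : i = 1
      · simp [hi1]
      · exact hinv i hiP hi2 hi1
    have hn : ∀ n : ℕ, v ^ n * y * (v ^ n)⁻¹ = y * i ^ n := by
      intro n
      induction n with
      | zero => simp
      | succ n ihn =>
        rw [pow_succ, show v ^ n * v * y * (v ^ n * v)⁻¹ = v ^ n * (v * y * v⁻¹) * (v ^ n)⁻¹ by group,
          hyi, show v ^ n * (y * i) * (v ^ n)⁻¹ =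
            v ^ n * y * (v ^ n)⁻¹ * (v ^ n * i * (v ^ n)⁻¹) by group, ihn, hconjpow n i hif,
          mul_assoc, ← pow_succ]
    obtain ⟨q, hq⟩ : Odd (orderOf v) := Nat.odd_iff.2 (by omega)
    have h5 := hn (orderOf v)
    rw [pow_orderOf_eq_one, one_mul, inv_one, mul_one, hq, pow_succ, pow_mul, pow_two, hi2, one_pow,
      one_mul] at h5
    rw [hyi]
    exact h5.symm

/-- The odd part of an element of the normalizer carries its action. -/
theorem exists_odd_part (hS : Shape (P : Subgroup G)) {n : G}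
    (hn : n ∈ Subgroup.normalizer ((P : Subgroup G) : Set G)) :
    ∃ v ∈ Subgroup.normalizer ((P : Subgroup G) : Set G), ¬ 2 ∣ orderOf v ∧
      (∀ y ∈ (P : Subgroup G), n * y * n⁻¹ = v * y * v⁻¹) ∧ v ∈ Subgroup.zpowers n := by
  haveI : Fact (Nat.Prime 2) := ⟨Nat.prime_two⟩
  obtain ⟨a, b, hab, hua, hvb, ⟨k, hk⟩, hb⟩ := Cfsg.Agent.PBasic.exists_pPart_mul (p := 2) n
  have hle := Subgroup.zpowers_le.2 hn
  have haP : a ∈ (P : Subgroup G) := by
    have h1 : IsPGroup 2 (Subgroup.zpowers a ⊔ (P : Subgroup G) : Subgroup G) :=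
      IsPGroup.to_sup_of_normal_right' (IsPGroup.of_card (n := k) (by rw [Nat.card_zpowers, hk])) P.2
        (Subgroup.zpowers_le.2 (hle hua))
    exact (P.is_maximal' h1 le_sup_right).le (Subgroup.mem_sup_left (Subgroup.mem_zpowers a))
  refine ⟨b, hle hvb, (Nat.prime_two.coprime_iff_not_dvd).1 hb.symm, fun y hy => ?_, hvb⟩
  have hyb : b * y * b⁻¹ ∈ (P : Subgroup G) := (Subgroup.mem_normalizer_iff.1 (hle hvb) y).1 hy
  rw [← hab, show a * b * y * (a * b)⁻¹ = a * (b * y * b⁻¹) * a⁻¹ by group, hS.comm a haP _ hyb,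
    mul_inv_cancel_right]

theorem centralizes_of_fix (hS : Shape (P : Subgroup G)) {n : G}
    (hn : n ∈ Subgroup.normalizer ((P : Subgroup G) : Set G))
    {x : G} (hx : x ∈ (P : Subgroup G)) (hx1 : x ≠ 1) (hfix : n * x * n⁻¹ = x) :
    n ∈ Subgroup.centralizer ((P : Subgroup G) : Set G) := by
  obtain ⟨v, hv, hodd, hact, -⟩ := exists_odd_part hS hn
  have h := centralizes_of_odd hS hv hodd hx hx1 (by rw [← hact x hx]; exact hfix)
  refine Subgroup.mem_centralizer_iff.2 fun y hy => ?_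
  exact (mul_inv_eq_iff_eq_mul.1 ((hact y hy).trans (h y hy))).symm

/-- A normal subgroup above the Sylow subgroup in which it is central is the Sylow subgroup. -/
theorem eq_of_local_central (hO : ∀ N : Subgroup G, N.Normal → Odd (Nat.card N) → N = ⊥)
    (L : Subgroup G) [L.Normal] (hPL : (P : Subgroup G) ≤ L)
    (h : ∀ n ∈ L, n ∈ Subgroup.normalizer ((P : Subgroup G) : Set G) →
      n ∈ Subgroup.centralizer ((P : Subgroup G) : Set G)) :
    L = (P : Subgroup G) := by
  classical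
  haveI : Fact (Nat.Prime 2) := ⟨Nat.prime_two⟩
  set Q : Sylow 2 L := P.subtype hPL with hQ
  have hmemQ : ∀ y : L, y ∈ (Q : Subgroup L) ↔ (y : G) ∈ (P : Subgroup G) := fun y => Iff.rfl
  have hle : Subgroup.normalizer ((Q : Subgroup L) : Set L) ≤
      Subgroup.centralizer ((Q : Subgroup L) : Set L) := by
    intro n hn
    have hnG : (n : G) ∈ Subgroup.normalizer ((P : Subgroup G) : Set G) := by
      refine Subgroup.mem_normalizer_iff.2 fun y => ⟨fun hy => ?_, fun hy => ?_⟩
      · exact (hmemQ _).1 ((Subgroup.mem_normalizer_iff.1 hn ⟨y, hPL hy⟩).1 hy)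
      · have hyL : y ∈ L := by
          have h1 : (n : G)⁻¹ * ((n : G) * y * (n : G)⁻¹) * n ∈ L :=
            mul_mem (mul_mem (inv_mem n.2) (hPL hy)) n.2
          simpa [mul_assoc] using h1
        exact (Subgroup.mem_normalizer_iff.1 hn ⟨y, hyL⟩).2 hy
    exact Subgroup.mem_centralizer_iff.2 fun y hy => Subtype.ext
      (Subgroup.mem_centralizer_iff.1 (h n n.2 hnG) (y : G) hy)
  obtain ⟨Q', K, hK, hKc⟩ := Fusion.hasNormalPComplement_of_normalizer_le_centralizer Q hle
  have hKbot : K = ⊥ := by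
    have h1 : K ≤ Cfsg.pPrimeCore 2 L := by
      refine le_sSup ⟨hK, ?_⟩
      have h2 := Q'.not_dvd_index
      rw [show (Q' : Subgroup L).index = Nat.card K from hKc.index_eq_card] at h2
      exact (Nat.prime_two.coprime_iff_not_dvd.2 h2).symm
    have h2 := Cfsg.Agent.FittingCores.pPrimeCore_map_subtype_le 2 (inferInstance : L.Normal)
    rw [Cfsg.Agent.BrauerSuzuki.pPrimeCore_two_eq_bot hO, le_bot_iff,
      Subgroup.map_eq_bot_iff_of_injective _ L.subtype_injective] at h2
    exact le_bot_iff.1 (h2 ▸ h1)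
  have hcard := hKc.card_mul_card
  rw [hKbot, Subgroup.card_bot, one_mul, Nat.card_congr (Q'.equiv Q).toEquiv] at hcard
  have hQP : Nat.card (Q : Subgroup L) = Nat.card (P : Subgroup G) :=
    Nat.card_congr (Subgroup.subgroupOfEquivOfLe hPL).toEquiv
  exact (Subgroup.eq_of_le_of_card_ge hPL (by rw [← hQP, hcard])).symm

variable {M : Ideal AlgInt} [M.IsPrime]

/-- With fusion in the normalizer a linear character trivial on the Sylow subgroup exists. -/
theorem exists_linear_of_moved (hM : IsPModular 2 M) (hS : Shape (P : Subgroup G))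
    (h : ¬ Subgroup.normalizer ((P : Subgroup G) : Set G) ≤
      Subgroup.centralizer ((P : Subgroup G) : Set G)) :
    ∃ χ : IrrCharacter G, χ ≠ Cfsg.Agent.Char.principal G ∧ (χ : G → ℂ) 1 = 1 ∧
      ∀ x ∈ (P : Subgroup G), (χ : G → ℂ) x = 1 := by
  classical
  haveI : Fact (Nat.Prime 2) := ⟨Nat.prime_two⟩
  obtain ⟨n₁, hn₁, hn₁C⟩ := SetLike.not_le_iff_exists.1 h
  obtain ⟨v, hv, hodd, hact, -⟩ := exists_odd_part hS hn₁
  have hvC : v ∉ Subgroup.centralizer ((P : Subgroup G) : Set G) := fun hc => hn₁C (by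
    refine Subgroup.mem_centralizer_iff.2 fun y hy => ?_
    refine (mul_inv_eq_iff_eq_mul.1 ((hact y hy).trans ?_)).symm
    rw [← Subgroup.mem_centralizer_iff.1 hc y hy, mul_inv_cancel_right])
  have hmem : ∀ {y}, y ∈ (P : Subgroup G) → v * y * v⁻¹ ∈ (P : Subgroup G) := fun {y} hy =>
    (Subgroup.mem_normalizer_iff.1 hv y).1 hy
  have hfree : ∀ y ∈ (P : Subgroup G), v * y * v⁻¹ = y → y = 1 := fun y hy hf => by
    by_contra h1
    exact hvC (centralizes_of_fix hS hv hy h1 hf)
  have hfree2 : ∀ y ∈ (P : Subgroup G), v * (v * y * v⁻¹) * v⁻¹ = y → y = 1 := fun y hy hf => by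
    by_contra h1
    have hv2 : v ^ 2 ∈ Subgroup.centralizer ((P : Subgroup G) : Set G) := by
      refine centralizes_of_fix hS (pow_mem hv 2) hy h1 ?_
      rw [conj_two]; exact hf
    refine hvC ?_
    obtain ⟨q, hq⟩ : Odd (orderOf v) := Nat.odd_iff.2 (by omega)
    have h3 := pow_mem hv2 (q + 1)
    rwa [← pow_mul, show 2 * (q + 1) = orderOf v + 1 by omega, pow_succ, pow_orderOf_eq_one,
      one_mul] at h3
  let σ : ↥(P : Subgroup G) ≃* ↥(P : Subgroup G) :=
    { toFun := fun x => ⟨v * x * v⁻¹, hmem x.2⟩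
      invFun := fun x => ⟨v⁻¹ * x * v, by
        have h1 := (Subgroup.mem_normalizer_iff.1 hv (v⁻¹ * (x : G) * v)).2
        exact h1 (by simp [mul_assoc])⟩
      left_inv := fun x => Subtype.ext (by simp [mul_assoc])
      right_inv := fun x => Subtype.ext (by simp [mul_assoc])
      map_mul' := fun x y => Subtype.ext (by simp [mul_assoc]) }
  obtain ⟨j, hjP, hj2, hj1⟩ := hS.invol
  set a₁ := v * j * v⁻¹ with ha₁
  set a₂ := v * a₁ * v⁻¹ with ha₂
  have hsqc : ∀ {w y : G}, y * y = 1 → (w * y * w⁻¹) * (w * y * w⁻¹) = 1 := fun {w y} hy => by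
    rw [show w * y * w⁻¹ * (w * y * w⁻¹) = w * (y * y) * w⁻¹ by group, hy, mul_one, mul_inv_cancel]
  have hnec : ∀ {w y : G}, y ≠ 1 → w * y * w⁻¹ ≠ 1 := fun hy e => hy (conj_eq_one_iff.1 e)
  have hd1 : j ≠ a₁ := fun e => hj1 (hfree j hjP e.symm)
  have hd2 : j ≠ a₂ := fun e => hj1 (hfree2 j hjP e.symm)
  have hd3 : a₁ ≠ a₂ := fun e => hnec hj1 (hfree a₁ (hmem hjP) e.symm)
  have horb : ∀ {y : G}, y ∈ (P : Subgroup G) → y * y = 1 → y ≠ 1 → y = j ∨ y = a₁ ∨ y = a₂ :=
    fun {y} hy hy2 hy1 => hS.three j hjP a₁ (hmem hjP) a₂ (hmem (hmem hjP)) y hy hj2 (hsqc hj2)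
      (hsqc (hsqc hj2)) hy2 hj1 (hnec hj1) (hnec (hnec hj1)) hy1 hd1 hd2 hd3
  -- every element of the normalizer acts as a power of `v`
  have hpow : ∀ n ∈ Subgroup.normalizer ((P : Subgroup G) : Set G), ∃ i < 3,
      (v ^ i)⁻¹ * n ∈ Subgroup.centralizer ((P : Subgroup G) : Set G) := by
    intro n hn
    have hnj : n * j * n⁻¹ ∈ (P : Subgroup G) := (Subgroup.mem_normalizer_iff.1 hn j).1 hjP
    have main : ∀ i, n * j * n⁻¹ = v ^ i * j * (v ^ i)⁻¹ →
        (v ^ i)⁻¹ * n ∈ Subgroup.centralizer ((P : Subgroup G) : Set G) := fun i hi => by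
      refine centralizes_of_fix hS (mul_mem (inv_mem (pow_mem hv i)) hn) hjP hj1 ?_
      rw [show (v ^ i)⁻¹ * n * j * ((v ^ i)⁻¹ * n)⁻¹ = (v ^ i)⁻¹ * (n * j * n⁻¹) * v ^ i by group,
        hi]
      group
    rcases horb hnj (hsqc hj2) (hnec hj1) with e | e | e
    · exact ⟨0, by norm_num, main 0 (by rw [e]; simp)⟩
    · exact ⟨1, by norm_num, main 1 (by rw [e, pow_one])⟩
    · exact ⟨2, by norm_num, main 2 (by rw [e, ha₂, ha₁, conj_two])⟩
  have hv3 : ∀ y ∈ (P : Subgroup G), v * (v * (v * y * v⁻¹) * v⁻¹) * v⁻¹ = y := by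
    intro y hy
    have h3 : v ^ 3 ∈ Subgroup.centralizer ((P : Subgroup G) : Set G) := by
      refine centralizes_of_fix hS (pow_mem hv 3) hjP hj1 ?_
      rw [conj_three, ← ha₁, ← ha₂]
      rcases horb (hmem (hmem (hmem hjP))) (hsqc (hsqc (hsqc hj2))) (hnec (hnec (hnec hj1)))
        with e | e | e
      · exact e
      · exfalso
        refine hd2 ?_
        have e' : v * a₂ * v⁻¹ = v * j * v⁻¹ := by rw [← ha₁]; exact e
        exact (mul_left_cancel (mul_right_cancel e')).symm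
      · exfalso
        refine hd3 ?_
        have e' : v * a₂ * v⁻¹ = v * a₁ * v⁻¹ := by rw [← ha₂]; exact e
        exact (mul_left_cancel (mul_right_cancel e')).symm
    have h4 := Subgroup.mem_centralizer_iff.1 h3 y hy
    rw [← conj_three, ← h4,
      mul_inv_cancel_right]
  have hF : Fused P σ := by
    refine ⟨fun x y => Subtype.ext (hS.comm x x.2 y y.2), fun x => Subtype.ext (hv3 x x.2),
      fun x hx => Subtype.ext (hfree x x.2 (congrArg Subtype.val hx)),
      fun x => isConj_iff.2 ⟨v, rfl⟩, ?_, hS.large, ?_, ?_, ?_, ?_⟩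
    · intro x y hxy
      obtain ⟨g, hg⟩ := isConj_iff.1 hxy
      haveI : IsMulCommutative (P : Subgroup G) :=
        ⟨⟨fun a b => Subtype.ext (hS.comm a a.2 b b.2)⟩⟩
      obtain ⟨n, hn, hne⟩ := P.conj_eq_normalizer_conj_of_mem (x : G) g⁻¹ x.2
        (by rw [inv_inv, hg]; exact y.2)
      rw [inv_inv, hg] at hne
      obtain ⟨i, hi, hc⟩ := hpow n⁻¹ (inv_mem hn)
      have e1 : (y : G) = v ^ i * (x : G) * (v ^ i)⁻¹ := by
        rw [hne]
        have h2 := Subgroup.mem_centralizer_iff.1 hc (x : G) x.2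
        calc n⁻¹ * (x : G) * n
            = v ^ i * ((v ^ i)⁻¹ * n⁻¹ * (x : G)) * ((v ^ i)⁻¹ * n⁻¹)⁻¹ * (v ^ i)⁻¹ := by group
          _ = v ^ i * ((x : G) * ((v ^ i)⁻¹ * n⁻¹)) * ((v ^ i)⁻¹ * n⁻¹)⁻¹ * (v ^ i)⁻¹ := by
            rw [h2]
          _ = v ^ i * (x : G) * (v ^ i)⁻¹ := by group
      interval_cases i
      · left; exact Subtype.ext (by simpa using e1)
      · right; left; exact Subtype.ext (by rw [pow_one] at e1; exact e1)
      · right; right
        exact Subtype.ext (e1.trans (conj_two v x))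
    · obtain ⟨x, hx, hx2⟩ := hS.not_elementary
      exact ⟨⟨x, hx⟩, fun e => hx2 (congrArg Subtype.val e)⟩
    · obtain ⟨x, hx, hx2, hx1⟩ := hS.invol
      exact ⟨⟨x, hx⟩, Subtype.ext hx2, fun e => hx1 (congrArg Subtype.val e)⟩
    all_goals
      intro x hx
      set C := Subgroup.centralizer ({(x : G)} : Set G) with hC
      have hPC : (P : Subgroup G) ≤ C := fun y hy =>
        Subgroup.mem_centralizer_singleton_iff.2 (hS.comm y hy x x.2)
      set Q : Sylow 2 C := P.subtype hPC with hQ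
      have hQP : Nat.card (Q : Subgroup C) = Nat.card (P : Subgroup G) :=
        Nat.card_congr (Subgroup.subgroupOfEquivOfLe hPC).toEquiv
    · have hle : Subgroup.normalizer ((Q : Subgroup C) : Set C) ≤
          Subgroup.centralizer ((Q : Subgroup C) : Set C) := by
        intro n hn
        have hnG : (n : G) ∈ Subgroup.normalizer ((P : Subgroup G) : Set G) := by
          refine Subgroup.mem_normalizer_iff.2 fun y => ⟨fun hy => ?_, fun hy => ?_⟩
          · exact (Subgroup.mem_normalizer_iff.1 hn ⟨y, hPC hy⟩).1 hy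
          · have hyC : y ∈ C := by
              have h1 : (n : G)⁻¹ * ((n : G) * y * (n : G)⁻¹) * n ∈ C :=
                mul_mem (mul_mem (inv_mem n.2) (hPC hy)) n.2
              simpa [mul_assoc] using h1
            exact (Subgroup.mem_normalizer_iff.1 hn ⟨y, hyC⟩).2 hy
        have hcn := centralizes_of_fix hS hnG x.2 (fun e => hx (Subtype.ext e))
          (by rw [Subgroup.mem_centralizer_singleton_iff.1 n.2, mul_inv_cancel_right])
        exact Subgroup.mem_centralizer_iff.2 fun y hy => Subtype.ext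
          (Subgroup.mem_centralizer_iff.1 hcn (y : G) hy)
      obtain ⟨Q', K, hK, hKc⟩ := Fusion.hasNormalPComplement_of_normalizer_le_centralizer Q hle
      refine ⟨K, hK, ?_, ?_⟩
      · rw [← hKc.index_eq_card]
        exact Q'.not_dvd_index
      · obtain ⟨k, hk⟩ := IsPGroup.iff_card.1 Q'.2
        exact ⟨k, by rw [hKc.symm.index_eq_card, hk]⟩
    · rw [← Q.card_eq_multiplicity, hQP]
  exact exists_linear hF hM

theorem main (hM : IsPModular 2 M) (hS : Shape (P : Subgroup G))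
    (hO : ∀ N : Subgroup G, N.Normal → Odd (Nat.card N) → N = ⊥) :
    (P : Subgroup G).Normal ∧
      Subgroup.centralizer ((P : Subgroup G) : Set G) = (P : Subgroup G) ∧
      ((P : Subgroup G).index = 1 ∨ (P : Subgroup G).index = 3) := by
  classical
  haveI : Fact (Nat.Prime 2) := ⟨Nat.prime_two⟩
  set T : Set G := {g : G | ∃ k : ℕ, orderOf g = 2 ^ k} with hT
  set L := Subgroup.closure T with hL
  haveI hLn : L.Normal := ⟨fun x hx g => by
    have hle : L ≤ L.comap (MulAut.conj g).toMonoidHom := (Subgroup.closure_le _).2 fun y hy => by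
      obtain ⟨k, hk⟩ := hy
      exact Subgroup.subset_closure ⟨k, (orderOf_injective (MulAut.conj g).toMonoidHom
        (MulAut.conj g).injective y).trans hk⟩
    exact hle hx⟩
  have hPT : ∀ x ∈ (P : Subgroup G), x ∈ T := fun x hx => by
    obtain ⟨k, hk⟩ := IsPGroup.iff_orderOf.1 P.2 ⟨x, hx⟩
    exact ⟨k, by rwa [Subgroup.orderOf_mk] at hk⟩
  have hPL : (P : Subgroup G) ≤ L := fun x hx => Subgroup.subset_closure (hPT x hx)
  have hLP : L = (P : Subgroup G) := by
    by_contra hne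
    haveI : Fintype L := Fintype.ofFinite L
    set Q : Sylow 2 L := P.subtype hPL with hQ
    have hQP : Nat.card (Q : Subgroup L) = Nat.card (P : Subgroup G) :=
      Nat.card_congr (Subgroup.subgroupOfEquivOfLe hPL).toEquiv
    have hSQ : Shape (Q : Subgroup L) := by
      refine ⟨fun x hx y hy => Subtype.ext (hS.comm _ hx _ hy), hQP ▸ hS.large, ?_, ?_,
        fun a ha b hb c hc d hd a2 b2 c2 d2 a1 b1 c1 d1 hab hac hbc => ?_⟩
      · obtain ⟨x, hx, hx2⟩ := hS.not_elementary
        exact ⟨⟨x, hPL hx⟩, hx, fun e => hx2 (congrArg Subtype.val e)⟩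
      · obtain ⟨x, hx, hx2, hx1⟩ := hS.invol
        exact ⟨⟨x, hPL hx⟩, hx, Subtype.ext hx2, fun e => hx1 (congrArg Subtype.val e)⟩
      · have inj : ∀ {u w : L}, u ≠ w → (u : G) ≠ w := fun h e => h (Subtype.ext e)
        rcases hS.three _ ha _ hb _ hc _ hd (congrArg Subtype.val a2) (congrArg Subtype.val b2)
          (congrArg Subtype.val c2) (congrArg Subtype.val d2) (inj a1) (inj b1) (inj c1) (inj d1)
          (inj hab) (inj hac) (inj hbc) with e | e | e
        · exact Or.inl (Subtype.ext e)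
        · exact Or.inr (Or.inl (Subtype.ext e))
        · exact Or.inr (Or.inr (Subtype.ext e))
    by_cases hle : Subgroup.normalizer ((Q : Subgroup L) : Set L) ≤
        Subgroup.centralizer ((Q : Subgroup L) : Set L)
    · refine hne (eq_of_local_central hO L hPL fun n hnL hn => ?_)
      have hn' : (⟨n, hnL⟩ : L) ∈ Subgroup.normalizer ((Q : Subgroup L) : Set L) :=
        Subgroup.mem_normalizer_iff.2 fun y => Subgroup.mem_normalizer_iff.1 hn (y : G)
      exact Subgroup.mem_centralizer_iff.2 fun y hy => congrArg Subtype.val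
        (Subgroup.mem_centralizer_iff.1 (hle hn') ⟨y, hPL hy⟩ hy)
    · obtain ⟨χ, hχ1, hχd, hχP⟩ := exists_linear_of_moved hM hSQ hle
      obtain ⟨N, hNn, hmem, -⟩ := Cfsg.Agent.Char.IsCharacter.exists_kernel
        (Cfsg.Agent.Blocks.irr_isCharacter χ)
      have hgen : ∀ x : L, (x : G) ∈ T → x ∈ N := by
        intro x hx
        obtain ⟨k, hk⟩ := hx
        rw [Subgroup.orderOf_coe] at hk
        obtain ⟨R, hR⟩ := (IsPGroup.of_card (n := k) (by rw [Nat.card_zpowers, hk]) :
          IsPGroup 2 (Subgroup.zpowers x)).exists_le_sylow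
        obtain ⟨g, hg⟩ := MulAction.exists_smul_eq L R Q
        have h1 : g * x * g⁻¹ ∈ (Q : Subgroup L) := by
          rw [← hg, Sylow.coe_subgroup_smul]
          exact Subgroup.smul_mem_pointwise_smul x (MulAut.conj g) _ (hR (Subgroup.mem_zpowers x))
        have h2 : g * x * g⁻¹ ∈ N := (hmem _).2 (by rw [hχP _ h1, hχd])
        have h3 := hNn.conj_mem _ h2 g⁻¹
        simpa [mul_assoc] using h3
      have htop : N = ⊤ := by
        rw [eq_top_iff]
        refine le_trans (le_of_eq ?_) ((Subgroup.closure_le _).2 fun x hx => hgen x hx)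
        exact (Subgroup.closure_closure_coe_preimage (k := T)).symm
      refine hχ1 (Subtype.ext (funext fun x => ?_))
      rw [((hmem x).1 (htop ▸ Subgroup.mem_top x)), hχd]
      rfl
  haveI hPn : (P : Subgroup G).Normal := hLP ▸ hLn
  haveI : (Subgroup.centralizer ((P : Subgroup G) : Set G)).Normal :=
    Cfsg.Agent.Blocks.centralizer_normal_of_normal _
  have hPC : (P : Subgroup G) ≤ Subgroup.centralizer ((P : Subgroup G) : Set G) := fun x hx =>
    Subgroup.mem_centralizer_iff.2 fun y hy => hS.comm y hy x hx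
  have hCP : Subgroup.centralizer ((P : Subgroup G) : Set G) = (P : Subgroup G) :=
    eq_of_local_central hO _ hPC fun n hn _ => hn
  refine ⟨hPn, hCP, ?_⟩
  have hodd := P.not_dvd_index
  suffices hle : (P : Subgroup G).index ≤ 3 by
    have := Nat.pos_of_ne_zero (Subgroup.index_ne_zero_of_finite (H := (P : Subgroup G)))
    omega
  -- the cosets are determined by the image of one involution
  obtain ⟨j, hjP, hj2, hj1⟩ := hS.invol
  have hnorm : ∀ g : G, g ∈ Subgroup.normalizer ((P : Subgroup G) : Set G) := fun g => by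
    rw [Subgroup.normalizer_eq_top]; exact Subgroup.mem_top g
  set V : Finset G := Finset.univ.filter fun y => y ∈ (P : Subgroup G) ∧ y * y = 1 ∧ y ≠ 1 with hV
  have hV3 : V.card ≤ 3 := by
    by_contra hgt
    obtain ⟨W, hW, hW4⟩ := Finset.exists_subset_card_eq (show 4 ≤ V.card by omega)
    obtain ⟨a, ha⟩ := Finset.card_pos.1 (show 0 < W.card by omega)
    obtain ⟨b, c, d, hbc, hbd, hcd, he⟩ := Finset.card_eq_three.1
      (show (W.erase a).card = 3 by rw [Finset.card_erase_of_mem ha]; omega)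
    have hb : b ∈ W.erase a := by simp [he]
    have hc : c ∈ W.erase a := by simp [he]
    have hd : d ∈ W.erase a := by simp [he]
    obtain ⟨-, a0, a2, a1⟩ := Finset.mem_filter.1 (hW ha)
    obtain ⟨-, b0, b2, b1⟩ := Finset.mem_filter.1 (hW (Finset.mem_of_mem_erase hb))
    obtain ⟨-, c0, c2, c1⟩ := Finset.mem_filter.1 (hW (Finset.mem_of_mem_erase hc))
    obtain ⟨-, d0, d2, d1⟩ := Finset.mem_filter.1 (hW (Finset.mem_of_mem_erase hd))
    rcases hS.three a a0 b b0 c c0 d d0 a2 b2 c2 d2 a1 b1 c1 d1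
      (Ne.symm (Finset.ne_of_mem_erase hb)) (Ne.symm (Finset.ne_of_mem_erase hc)) hbc with e | e | e
    · exact Finset.ne_of_mem_erase hd e
    · exact hbd e.symm
    · exact hcd e.symm
  haveI : Fintype (G ⧸ (P : Subgroup G)) := Fintype.ofFinite _
  rw [Subgroup.index, Nat.card_eq_fintype_card, ← Finset.card_univ]
  refine le_trans (Finset.card_le_card_of_injOn (fun q => q.out * j * q.out⁻¹) ?_ ?_) hV3
  · intro q _
    refine Finset.mem_filter.2 ⟨Finset.mem_univ _, hPn.conj_mem j hjP _, ?_, fun e => hj1 (conj_eq_one_iff.1 e)⟩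
    rw [show q.out * j * q.out⁻¹ * (q.out * j * q.out⁻¹) = q.out * (j * j) * q.out⁻¹ by group, hj2,
      mul_one, mul_inv_cancel]
  · intro q _ r _ hqr
    have h1 : q.out⁻¹ * r.out ∈ (P : Subgroup G) := by
      refine hCP.le ?_
      refine centralizes_of_fix hS (hnorm _) hjP hj1 ?_
      simp only at hqr
      rw [show q.out⁻¹ * r.out * j * (q.out⁻¹ * r.out)⁻¹ =
        q.out⁻¹ * (r.out * j * r.out⁻¹) * q.out by group, ← hqr]
      group
    exact (QuotientGroup.out_eq' q).symm.trans ((QuotientGroup.eq.2 h1).trans (QuotientGroup.out_eq' r))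

end Cfsg.Agent.Homocyclic
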