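/-
Exact divisibility of a truncated character.
-/
import Cfsg.Agent.Lib.Blocks.Heights
import Cfsg.Agent.Lib.Char.Induction
import Cfsg.Agent.Lib.Char.GlaubermanMod

set_option linter.unusedSectionVars false
set_option linter.style.haveILetI false

namespace Cfsg.Agent.Blocks

open Cfsg Cfsg.Agent.Char
open scoped ComplexConjugate

universe u

variable {G : Type u} [Group G] [Fintype G] {p : ℕ} {M : Ideal AlgInt} [M.IsPrime]

theorem exact_divisibility (hM : IsPModular p M) (χ : IrrCharacter G) :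
    IsGeneralizedCharacter G (fun x : G => if p ∣ orderOf x then (0 : ℂ) else
      ((p ^ ((Nat.card G).factorization p - (charDegree (χ : G → ℂ)).factorization p) : ℕ) : ℂ) *
        (χ : G → ℂ) x) ∧
    ¬ IsGeneralizedCharacter G (fun x : G => if p ∣ orderOf x then (0 : ℂ) else
      ((p ^ (Nat.card G).factorization p : ℕ) : ℂ) /
        ((p ^ ((charDegree (χ : G → ℂ)).factorization p + 1) : ℕ) : ℂ) * (χ : G → ℂ) x) := by
  classical
  set a := (Nat.card G).factorization p with ha
  set c := (charDegree (χ : G → ℂ)).factorization p with hc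
  have hca : c ≤ a := degExp_le_card χ
  have hp0 : (p : ℂ) ≠ 0 := Nat.cast_ne_zero.2 hM.1.ne_zero
  have hscale : ∀ (k : ℂ) (ψ : G → ℂ),
      classInner (fun x : G => if p ∣ orderOf x then 0 else k * (χ : G → ℂ) x) ψ =
        k / ((p ^ a : ℕ) : ℂ) * classInner (regTr p (χ : G → ℂ)) ψ := by
    intro k ψ
    rw [← classInner_smul_left]
    congr 1
    funext x
    simp only [Pi.smul_apply, smul_eq_mul, regTr, ← ha]
    split_ifs
    · simp
    · push_cast; field_simp
  -- the multiplicities are divisible by the p-part of the degree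
  have hdvd : ∀ ψ : IrrCharacter G, ∃ z : ℤ,
      classInner (regTr p (χ : G → ℂ)) (ψ : G → ℂ) = (((p : ℤ) ^ c * z : ℤ) : ℂ) ∧
        (∀ m : ℤ, classInner (regTr p (ψ : G → ℂ)) (χ : G → ℂ) = (m : ℂ) → m = (p : ℤ) ^ c * z) := by
    intro ψ
    obtain ⟨m, hm, ⟨z, hz⟩, -⟩ := exists_mult hM (irr_isCharacter ψ) χ
    refine ⟨z, ?_, fun m' hm' => ?_⟩
    · have hs : classInner (regTr p (χ : G → ℂ)) (ψ : G → ℂ) =
          conj (classInner (regTr p (ψ : G → ℂ)) (χ : G → ℂ)) := by
        rw [classInner_conj_symm]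
        unfold classInner regTr
        congr 1
        refine Finset.sum_congr rfl fun x _ => ?_
        split_ifs
        · simp
        · rw [map_mul, map_natCast]; ring
      rw [hs, hm, map_intCast, hz]
    · rw [← hz]; exact_mod_cast hm'.symm.trans hm
  refine ⟨isGeneralizedCharacter_of_classInner (fun x y => ?_) fun ψ => ?_, fun hgen => ?_⟩
  · simp only [← MulAut.conj_apply, MulEquiv.orderOf_eq]
    rw [MulAut.conj_apply, IsCharacter.isClassFunction (irr_isCharacter χ) x y]
  · obtain ⟨z, hz, -⟩ := hdvd ψ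
    refine ⟨z, ?_⟩
    rw [hscale, hz]
    have : p ^ a = p ^ (a - c) * p ^ c := by rw [← pow_add, Nat.sub_add_cancel hca]
    rw [this]
    push_cast
    field_simp
  · have hB := isPBlock_blockOf (M := M) χ
    obtain ⟨ψ, hψ, h0⟩ := exists_heightZero hM hB
    obtain ⟨z, hz, hz'⟩ := hdvd ψ
    obtain ⟨m, hm, hm0, hmv⟩ := (blockHeight_zero_iff_mult hM hB hψ (self_mem_blockOf χ)).1 h0
    obtain ⟨k, hk⟩ := IsGeneralizedCharacter.exists_classInner_int hgen ⟨(ψ : G → ℂ), 0, irr_isCharacter ψ, isCharacter_zero, (sub_zero _).symm⟩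
    rw [hscale, hz] at hk
    have hmz := hz' m hm
    have e : (p : ℤ) * k = z := by
      have : ((p : ℂ) * k) = (z : ℂ) := by
        rw [← hk]; push_cast; field_simp; ring
      exact_mod_cast this
    rw [hmz, ← e, ← mul_assoc, ← pow_succ] at hmv hm0
    have hk0 : k ≠ 0 := right_ne_zero_of_mul hm0
    haveI := Fact.mk hM.1
    rw [padicValInt.mul (pow_ne_zero _ (Int.natCast_ne_zero.2 hM.1.ne_zero)) hk0] at hmv
    have h1 : padicValInt p ((p : ℤ) ^ (c + 1)) = c + 1 := by
      rw [← Nat.cast_pow, padicValInt.of_nat, padicValNat.prime_pow]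
    rw [h1] at hmv
    omega

theorem exists_isPModular_witness (p : ℕ) [Fact p.Prime] :
    ∃ M : Ideal AlgInt, IsPModular p M :=
  Cfsg.Agent.GlaubermanMod.exists_isPModular p

end Cfsg.Agent.Blocks
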