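/-
Coherence for integer vectors with differences of norm two.
-/
import Mathlib.Algebra.BigOperators.Group.Finset.Basic
import Mathlib.Algebra.Order.BigOperators.Group.Finset
import Mathlib.Tactic

namespace Cfsg.Agent.ExPrincipal

variable {X I : Type*} [DecidableEq X] [DecidableEq I]

/-- The difference of two unit vectors. -/
def ud (a b χ : X) : ℤ := (if χ = a then 1 else 0) - (if χ = b then 1 else 0)

theorem sum_mul_ud (S : Finset X) (f : X → ℤ) {a b : X} (ha : a ∈ S) (hb : b ∈ S) :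
    ∑ χ ∈ S, f χ * ud a b χ = f a - f b := by
  simp [ud, mul_sub, Finset.sum_sub_distrib, ha, hb]

theorem exists_ud (S : Finset X) (w deg : X → ℤ) (hdeg : ∀ χ ∈ S, 0 < deg χ)
    (h2 : ∑ χ ∈ S, w χ * w χ = 2) (h0 : ∑ χ ∈ S, w χ * deg χ = 0) :
    ∃ a ∈ S, ∃ b ∈ S, a ≠ b ∧ ∀ χ ∈ S, w χ = ud a b χ := by
  obtain ⟨a, ha, hpos⟩ : ∃ a ∈ S, 0 < w a := by
    by_contra h
    push Not at h
    have := (Finset.sum_eq_zero_iff_of_nonpos fun χ hχ =>
      mul_nonpos_of_nonpos_of_nonneg (h χ hχ) (hdeg χ hχ).le).1 h0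
    rw [Finset.sum_eq_zero fun χ hχ => by
      rw [(mul_eq_zero.1 (this χ hχ)).resolve_right (hdeg χ hχ).ne', mul_zero]] at h2
    norm_num at h2
  obtain ⟨b, hb, hneg⟩ : ∃ b ∈ S, w b < 0 := by
    by_contra h
    push Not at h
    have := (Finset.sum_eq_zero_iff_of_nonneg fun χ hχ =>
      mul_nonneg (h χ hχ) (hdeg χ hχ).le).1 h0 a ha
    exact hpos.ne' ((mul_eq_zero.1 this).resolve_right (hdeg a ha).ne')
  have hab : a ≠ b := fun e => by subst e; omega
  have hb' : b ∈ S.erase a := Finset.mem_erase.2 ⟨hab.symm, hb⟩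
  have hsplit : ∑ χ ∈ S, w χ * w χ =
      w a * w a + (w b * w b + ∑ χ ∈ (S.erase a).erase b, w χ * w χ) := by
    rw [← Finset.add_sum_erase S _ ha, ← Finset.add_sum_erase _ _ hb']
  have hnn : ∀ χ ∈ (S.erase a).erase b, 0 ≤ w χ * w χ := fun χ _ => mul_self_nonneg _
  have hr := Finset.sum_nonneg hnn
  have h3 : ∑ χ ∈ (S.erase a).erase b, w χ * w χ = 0 := by nlinarith
  have hwa : w a = 1 := by nlinarith
  have hwb : w b = -1 := by nlinarith
  refine ⟨a, ha, b, hb, hab, fun χ hχ => ?_⟩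
  by_cases h1 : χ = a
  · subst h1; simp [ud, hwa, hab]
  by_cases h2 : χ = b
  · subst h2; simp [ud, hwb, h1]
  have := (Finset.sum_eq_zero_iff_of_nonneg hnn).1 h3 χ
    (Finset.mem_erase.2 ⟨h2, Finset.mem_erase.2 ⟨h1, hχ⟩⟩)
  simp [ud, h1, h2, mul_self_eq_zero.1 this]

/-- Differences of norm two with the standard inner products are coherent. -/
theorem coherent (S : Finset X) (O : Finset I) (v : I → X → ℤ) (deg : X → ℤ)
    (hO : 2 ≤ O.card) (hdeg : ∀ χ ∈ S, 0 < deg χ)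
    (hgram : ∀ i ∈ O, ∀ j ∈ O, ∀ k ∈ O, ∀ l ∈ O,
      ∑ χ ∈ S, (v i χ - v j χ) * (v k χ - v l χ) =
        (if i = k then 1 else 0) - (if i = l then 1 else 0) - (if j = k then 1 else 0) +
          (if j = l then 1 else 0))
    (h0 : ∀ i ∈ O, ∀ j ∈ O, ∑ χ ∈ S, (v i χ - v j χ) * deg χ = 0) :
    ∃ (δ : ℤ) (η : I → X), (δ = 1 ∨ δ = -1) ∧ (∀ i ∈ O, η i ∈ S) ∧ Set.InjOn η O ∧
      ∀ i ∈ O, ∀ j ∈ O, ∀ χ ∈ S, v i χ - v j χ = δ * ud (η i) (η j) χ := by
  obtain ⟨i₀, hi₀⟩ := Finset.card_pos.1 (by omega : 0 < O.card)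
  have hrep : ∀ i : I, ∃ q : X × X, i ∈ O.erase i₀ → q.1 ∈ S ∧ q.2 ∈ S ∧ q.1 ≠ q.2 ∧
      ∀ χ ∈ S, v i χ - v i₀ χ = ud q.1 q.2 χ := by
    intro i
    obtain ⟨i₁, hi₁⟩ := Finset.card_pos.1
      (by rw [Finset.card_erase_of_mem hi₀]; omega : 0 < (O.erase i₀).card)
    by_cases hi : i ∈ O.erase i₀
    · obtain ⟨hne, hiO⟩ := Finset.mem_erase.1 hi
      obtain ⟨a, ha, b, hb, hab, hw⟩ := exists_ud S (fun χ => v i χ - v i₀ χ) deg hdeg (by
        rw [hgram i hiO i₀ hi₀ i hiO i₀ hi₀]; simp [hne, Ne.symm hne]) (h0 i hiO i₀ hi₀)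
      exact ⟨(a, b), fun _ => ⟨ha, hb, hab, hw⟩⟩
    · obtain ⟨hne, hiO⟩ := Finset.mem_erase.1 hi₁
      obtain ⟨a, ha, b, hb, hab, hw⟩ := exists_ud S (fun χ => v i₁ χ - v i₀ χ) deg hdeg (by
        rw [hgram i₁ hiO i₀ hi₀ i₁ hiO i₀ hi₀]; simp [hne, Ne.symm hne]) (h0 i₁ hiO i₀ hi₀)
      exact ⟨(a, b), fun h => absurd h hi⟩
  choose q hq using hrep
  set A : I → X := fun i => (q i).1
  set B : I → X := fun i => (q i).2
  have key : ∀ i ∈ O.erase i₀, ∀ k ∈ O.erase i₀, i ≠ k →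
      (A i = A k ∧ B i ≠ B k) ∨ (A i ≠ A k ∧ B i = B k) := by
    intro i hi k hk hik
    obtain ⟨ha, hb, hab, hw⟩ := hq i hi
    obtain ⟨ha', hb', hab', hw'⟩ := hq k hk
    obtain ⟨hi1, hiO⟩ := Finset.mem_erase.1 hi
    obtain ⟨hk1, hkO⟩ := Finset.mem_erase.1 hk
    have e := hgram i hiO i₀ hi₀ k hkO i₀ hi₀
    rw [Finset.sum_congr rfl fun χ hχ => by rw [hw χ hχ, hw' χ hχ],
      sum_mul_ud S _ ha' hb'] at e
    simp [hik, hi1, Ne.symm hk1, ud] at e
    simp only [A, B]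
    by_cases h1 : (q i).1 = (q k).1 <;> by_cases h2 : (q i).2 = (q k).2
    · simp [h1, h2, hab', Ne.symm hab'] at e
    · exact Or.inl ⟨h1, h2⟩
    · exact Or.inr ⟨h1, h2⟩
    · exfalso
      simp [Ne.symm h1, Ne.symm h2] at e
      split_ifs at e <;> simp at e
  have hcommon : (∀ i ∈ O.erase i₀, ∀ k ∈ O.erase i₀, A i = A k) ∨
      (∀ i ∈ O.erase i₀, ∀ k ∈ O.erase i₀, B i = B k) := by
    by_contra hc
    simp only [not_or, not_forall] at hc
    obtain ⟨⟨i, hi, k, hk, hA⟩, i', hi', k', hk', hB⟩ := hc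
    have hik : i ≠ k := fun e => hA (by rw [e])
    have hBik : B i = B k := ((key i hi k hk hik).resolve_left fun h => hA h.1).2
    have hall : ∀ l ∈ O.erase i₀, B l = B i := by
      intro l hl
      by_contra hne
      have h1 := (key l hl i hi fun e => hne (by rw [e])).resolve_right fun h => hne h.2
      have h2 := (key l hl k hk fun e => hne (by rw [e, hBik])).resolve_right
        fun h => hne (h.2.trans hBik.symm)
      exact hA (h1.1.symm.trans h2.1)
    exact hB ((hall i' hi').trans (hall k' hk').symm)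
  obtain ⟨i₁, hi₁⟩ := Finset.card_pos.1
    (by rw [Finset.card_erase_of_mem hi₀]; omega : 0 < (O.erase i₀).card)
  obtain ⟨δ, E, hδ, hE⟩ : ∃ (δ : ℤ) (E : I → X), (δ = 1 ∨ δ = -1) ∧ (∀ i ∈ O, E i ∈ S) ∧
      Set.InjOn E O ∧ ∀ i ∈ O, ∀ χ ∈ S, v i χ - v i₀ χ = δ * ud (E i) (E i₀) χ := by
    rcases hcommon with hA | hB
    · refine ⟨-1, fun i => if i = i₀ then A i₁ else B i, Or.inr rfl, fun i hi => ?_, ?_,
        fun i hi χ hχ => ?_⟩
      · dsimp only
        split_ifs with h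
        · exact (hq i₁ hi₁).1
        · exact (hq i (Finset.mem_erase.2 ⟨h, hi⟩)).2.1
      · intro i hi k hk e
        simp only at e
        split_ifs at e with h1 h2 h2
        · rw [h1, h2]
        · exact absurd ((hA k (Finset.mem_erase.2 ⟨h2, hk⟩) i₁ hi₁).trans e)
            (hq k (Finset.mem_erase.2 ⟨h2, hk⟩)).2.2.1
        · exact absurd ((hA i (Finset.mem_erase.2 ⟨h1, hi⟩) i₁ hi₁).trans e.symm)
            (hq i (Finset.mem_erase.2 ⟨h1, hi⟩)).2.2.1
        · by_contra hik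
          have hi' := Finset.mem_erase.2 ⟨h1, hi⟩
          have hk' := Finset.mem_erase.2 ⟨h2, hk⟩
          exact ((key i hi' k hk' hik).resolve_right fun h => h.1 (hA i hi' k hk')).2 e
      · by_cases h : i = i₀
        · subst h; simp [ud]
        · have hi' := Finset.mem_erase.2 ⟨h, hi⟩
          rw [(hq i hi').2.2.2 χ hχ]
          dsimp only
          rw [if_neg h, if_pos rfl, show A i₁ = A i from hA i₁ hi₁ i hi']
          simp [ud, A, B]
    · refine ⟨1, fun i => if i = i₀ then B i₁ else A i, Or.inl rfl, fun i hi => ?_, ?_,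
        fun i hi χ hχ => ?_⟩
      · dsimp only
        split_ifs with h
        · exact (hq i₁ hi₁).2.1
        · exact (hq i (Finset.mem_erase.2 ⟨h, hi⟩)).1
      · intro i hi k hk e
        simp only at e
        split_ifs at e with h1 h2 h2
        · rw [h1, h2]
        · exact absurd (((hB k (Finset.mem_erase.2 ⟨h2, hk⟩) i₁ hi₁).trans e).symm)
            (hq k (Finset.mem_erase.2 ⟨h2, hk⟩)).2.2.1
        · exact absurd (((hB i (Finset.mem_erase.2 ⟨h1, hi⟩) i₁ hi₁).trans e.symm).symm)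
            (hq i (Finset.mem_erase.2 ⟨h1, hi⟩)).2.2.1
        · by_contra hik
          have hi' := Finset.mem_erase.2 ⟨h1, hi⟩
          have hk' := Finset.mem_erase.2 ⟨h2, hk⟩
          exact ((key i hi' k hk' hik).resolve_left fun h => h.2 (hB i hi' k hk')).1 e
      · by_cases h : i = i₀
        · subst h; simp [ud]
        · have hi' := Finset.mem_erase.2 ⟨h, hi⟩
          rw [(hq i hi').2.2.2 χ hχ]
          dsimp only
          rw [if_neg h, if_pos rfl, show B i₁ = B i from hB i₁ hi₁ i hi',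
            one_mul]
  refine ⟨δ, E, hδ, hE.1, hE.2.1, fun i hi j hj χ hχ => ?_⟩
  have e1 := hE.2.2 i hi χ hχ
  have e2 := hE.2.2 j hj χ hχ
  simp only [ud] at e1 e2 ⊢
  linear_combination e1 - e2

end Cfsg.Agent.ExPrincipal
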