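/-
Abelian Sylow subgroups with a fixed-point-free normalizer: local facts and the dual orbits.
-/
import Cfsg.Agent.Lib.Blocks.SecondMain
import Cfsg.Agent.Lib.BrauerPairs.SuzukiOrth
import Mathlib.GroupTheory.Transfer
import Mathlib.GroupTheory.FiniteAbelian.Duality
import Mathlib.Analysis.Complex.Polynomial.Basic

set_option linter.unusedSectionVars false
set_option linter.style.haveILetI false

namespace Cfsg.Agent.ExPrincipal

open Cfsg Cfsg.Agent.Char Cfsg.Agent.Blocks Cfsg.Agent.BrauerPairs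
open scoped ComplexConjugate

universe u

variable {G : Type u} [Group G] [Fintype G] {p : ℕ}

/-- The hypotheses. -/
structure Data (P : Sylow p G) (m : ℕ) : Prop where
  comm : ∀ a ∈ (P : Subgroup G), ∀ b ∈ (P : Subgroup G), a * b = b * a
  one_lt : 1 < m
  lt : m + 1 < Nat.card P
  index : (Subgroup.centralizer ((P : Subgroup G) : Set G)).relIndex
    (Subgroup.normalizer ((P : Subgroup G) : Set G)) = m
  fpf : ∀ y ∈ (P : Subgroup G), y ≠ 1 →
    ∀ n ∈ Subgroup.normalizer ((P : Subgroup G) : Set G), n * y = y * n →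
      n ∈ Subgroup.centralizer ((P : Subgroup G) : Set G)

/-- The linear characters of a subgroup. -/
abbrev Dual (H : Subgroup G) : Type u := H →* ℂˣ

/-- Conjugation of linear characters. -/
def Rel (P : Sylow p G) (ψ ψ' : Dual (P : Subgroup G)) : Prop :=
  ∃ n : G, n ∈ Subgroup.normalizer ((P : Subgroup G) : Set G) ∧
    ∀ w w' : (P : Subgroup G), (w' : G) = n * w * n⁻¹ → ψ' w' = ψ w

/-- The conjugate character. -/
def tw (P : Sylow p G) (n : Subgroup.normalizer ((P : Subgroup G) : Set G))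
    (ψ : Dual (P : Subgroup G)) : Dual (P : Subgroup G) :=
  ψ.comp ((Subgroup.normalizerMonoidHom (P : Subgroup G)) n⁻¹).toMonoidHom

theorem tw_apply (P : Sylow p G) (n : Subgroup.normalizer ((P : Subgroup G) : Set G))
    (ψ : Dual (P : Subgroup G)) (w w' : (P : Subgroup G))
    (hw : (w' : G) = (n : G)⁻¹ * w * n) : tw P n ψ w = ψ w' := by
  refine congrArg ψ (Subtype.ext ?_)
  show ((n⁻¹ : Subgroup.normalizer ((P : Subgroup G) : Set G)) : G) * w *
    ((n⁻¹ : Subgroup.normalizer ((P : Subgroup G) : Set G)) : G)⁻¹ = w'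
  rw [hw, Subgroup.coe_inv, inv_inv]

theorem rel_iff (P : Sylow p G) {ψ ψ' : Dual (P : Subgroup G)} :
    Rel P ψ ψ' ↔ ∃ n, ψ' = tw P n ψ := by
  constructor
  · rintro ⟨n, hn, h⟩
    refine ⟨⟨n, hn⟩, MonoidHom.ext fun w => ?_⟩
    have hw : n⁻¹ * (w : G) * n ∈ (P : Subgroup G) := by
      have := (Subgroup.mem_normalizer_iff.1 (inv_mem hn) _).1 w.2
      simpa using this
    rw [tw_apply P ⟨n, hn⟩ ψ w ⟨_, hw⟩ rfl]
    exact h ⟨_, hw⟩ w (by simp [mul_assoc])
  · rintro ⟨n, rfl⟩
    refine ⟨n, n.2, fun w w' hw => tw_apply P n ψ w' w ?_⟩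
    rw [hw]; group

theorem tw_mul (P : Sylow p G) (a b : Subgroup.normalizer ((P : Subgroup G) : Set G))
    (ψ : Dual (P : Subgroup G)) : tw P (a * b) ψ = tw P a (tw P b ψ) := by
  unfold tw
  rw [mul_inv_rev, map_mul]
  rfl

theorem tw_one (P : Sylow p G) (ψ : Dual (P : Subgroup G)) : tw P 1 ψ = ψ := by
  unfold tw
  rw [inv_one, map_one]
  rfl

theorem tw_triv (P : Sylow p G) (n : Subgroup.normalizer ((P : Subgroup G) : Set G)) :
    tw P n 1 = 1 := rfl

theorem centralizer_le (P : Sylow p G) :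
    Subgroup.centralizer ((P : Subgroup G) : Set G) ≤
      Subgroup.normalizer ((P : Subgroup G) : Set G) :=
  Subgroup.centralizer_le_normalizer _

namespace Data

variable [Fact p.Prime] {P : Sylow p G} {m : ℕ} (h : Data P m)

include h

theorem le_centralizer : (P : Subgroup G) ≤ Subgroup.centralizer ((P : Subgroup G) : Set G) :=
  fun a ha => Subgroup.mem_centralizer_iff.2 fun b hb => h.comm b hb a ha

theorem card_normalizer : Nat.card (Subgroup.normalizer ((P : Subgroup G) : Set G)) =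
    m * Nat.card (Subgroup.centralizer ((P : Subgroup G) : Set G)) := by
  rw [← h.index, Subgroup.relIndex]
  rw [← Nat.card_congr (Subgroup.subgroupOfEquivOfLe (centralizer_le P)).toEquiv,
    Subgroup.index_mul_card]

theorem fusion {y : G} (hy : y ∈ (P : Subgroup G)) {g : G} (hg : g * y * g⁻¹ ∈ (P : Subgroup G)) :
    ∃ n ∈ Subgroup.normalizer ((P : Subgroup G) : Set G), n * y * n⁻¹ = g * y * g⁻¹ := by
  obtain ⟨n, hn, e⟩ := P.conj_eq_normalizer_conj_of_mem_centralizer y g⁻¹ (h.le_centralizer hy)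
    (by simpa using h.le_centralizer hg)
  exact ⟨n⁻¹, inv_mem hn, by simpa using e.symm⟩

theorem sylow_le_centralizer {y : G} (hy : y ∈ (P : Subgroup G)) :
    (P : Subgroup G) ≤ Subgroup.centralizer ({y} : Set G) := fun a ha =>
  Subgroup.mem_centralizer_singleton_iff.2 (h.comm a ha y hy)

theorem factorization_centralizer {y : G} (hy : y ∈ (P : Subgroup G)) :
    p ^ (Nat.card (Subgroup.centralizer ({y} : Set G))).factorization p =
      Nat.card (P : Subgroup G) := by
  rw [← Sylow.card_eq_multiplicity (P.subtype (h.sylow_le_centralizer hy)), Sylow.coe_subtype,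
    Nat.card_congr (Subgroup.subgroupOfEquivOfLe (h.sylow_le_centralizer hy)).toEquiv]

/-- Burnside: the centralizers of non-trivial elements have normal complements. -/
theorem exists_complement {y : G} (hy : y ∈ (P : Subgroup G)) (hy1 : y ≠ 1) :
    ∃ K : Subgroup (Subgroup.centralizer ({y} : Set G)), K.Normal ∧
      ¬ p ∣ Nat.card K ∧ K.index = Nat.card (P : Subgroup G) ∧
      Subgroup.IsComplement' K ((P : Subgroup G).subgroupOf (Subgroup.centralizer ({y} : Set G))) := by
  let Q := P.subtype (h.sylow_le_centralizer hy)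
  have hQ : Subgroup.normalizer ((Q : Subgroup (Subgroup.centralizer ({y} : Set G))) : Set (Subgroup.centralizer ({y} : Set G))) ≤
      Subgroup.centralizer ((Q : Subgroup (Subgroup.centralizer ({y} : Set G))) : Set (Subgroup.centralizer ({y} : Set G))) := by
    intro x hx
    have hxN : (x : G) ∈ Subgroup.normalizer ((P : Subgroup G) : Set G) := by
      refine Subgroup.mem_normalizer_iff.2 fun z => ?_
      have hxy : (x : G) ∈ Subgroup.centralizer ({y} : Set G) := x.2
      constructor
      · intro hz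
        have := (Subgroup.mem_normalizer_iff.1 hx ⟨z, h.sylow_le_centralizer hy hz⟩).1 hz
        exact this
      · intro hz
        have hzc : z ∈ Subgroup.centralizer ({y} : Set G) := by
          have := Subgroup.mul_mem _ (Subgroup.mul_mem _ (inv_mem hxy)
            (h.sylow_le_centralizer hy hz)) hxy
          simpa [mul_assoc] using this
        exact (Subgroup.mem_normalizer_iff.1 hx ⟨z, hzc⟩).2 hz
    have hxc := h.fpf y hy hy1 _ hxN (Subgroup.mem_centralizer_singleton_iff.1 x.2)
    exact Subgroup.mem_centralizer_iff.2 fun q hq =>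
      Subtype.ext (Subgroup.mem_centralizer_iff.1 hxc q hq)
  have hc := MonoidHom.ker_transferSylow_isComplement' Q hQ
  refine ⟨(MonoidHom.transferSylow Q hQ).ker, inferInstance, ?_, ?_, hc⟩
  · exact MonoidHom.not_dvd_card_ker_transferSylow Q hQ
  · rw [hc.symm.index_eq_card, Sylow.coe_subtype,
      Nat.card_congr (Subgroup.subgroupOfEquivOfLe (h.sylow_le_centralizer hy)).toEquiv]

theorem exists_orderOf {y : G} (hy : y ∈ (P : Subgroup G)) : ∃ k, orderOf y = p ^ k := by
  obtain ⟨k, hk⟩ := IsPGroup.iff_orderOf.1 P.isPGroup' ⟨y, hy⟩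
  exact ⟨k, by rw [← hk, ← Subgroup.orderOf_coe]⟩

theorem index_pow {y : G} (hy : y ∈ (P : Subgroup G))
    {K : Subgroup (Subgroup.centralizer ({y} : Set G))} (hK : K.index = Nat.card (P : Subgroup G)) :
    ∃ k, K.index = p ^ k := by
  obtain ⟨k, hk⟩ := P.isPGroup'.exists_card_eq
  exact ⟨k, hK.trans hk⟩

variable {M : Ideal AlgInt} [M.IsPrime]

theorem degSq_eq (hM : IsPModular p M) {y : G} (hy : y ∈ (P : Subgroup G)) (hy1 : y ≠ 1) :
    (degSq (principalBlock M (Subgroup.centralizer ({y} : Set G))) : ℂ) =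
      Nat.card (P : Subgroup G) := by
  haveI : Fintype (Subgroup.centralizer ({y} : Set G)) := Fintype.ofFinite _
  obtain ⟨K, hKn, hK, hKi, -⟩ := h.exists_complement hy hy1
  haveI := hKn
  rw [← blockPair_one_one, blockPair_principal_of_pComplement hM K hK (h.index_pow hy hKi)
    (by simpa using hM.1.ne_one), h.factorization_centralizer hy]

/-- The characters of the principal block are constant on sections. -/
theorem section_const (hM : IsPModular p M) {χ : IrrCharacter G} (hχ : χ ∈ principalBlock M G)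
    {z y : G} (hz : IsPPart p z y) (hy : y ∈ (P : Subgroup G)) (hy1 : y ≠ 1) :
    (χ : G → ℂ) z = (χ : G → ℂ) y := by
  obtain ⟨x, rfl, hc, -, hx⟩ := hz
  haveI : Fintype (Subgroup.centralizer ({y} : Set G)) := Fintype.ofFinite _
  obtain ⟨K, hKn, hK, hKi, -⟩ := h.exists_complement hy hy1
  haveI := hKn
  have hxC : x ∈ Subgroup.centralizer ({y} : Set G) :=
    Subgroup.mem_centralizer_singleton_iff.2 hc.eq.symm
  have hxK : (⟨x, hxC⟩ : Subgroup.centralizer ({y} : Set G)) ∈ K := by
    obtain ⟨k, hk⟩ := h.index_pow hy hKi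
    have h1 : orderOf ((⟨x, hxC⟩ : Subgroup.centralizer ({y} : Set G)) :
        Subgroup.centralizer ({y} : Set G) ⧸ K) ∣ orderOf x := by
      have := orderOf_map_dvd (QuotientGroup.mk' K) (⟨x, hxC⟩ : Subgroup.centralizer ({y} : Set G))
      rwa [Subgroup.orderOf_mk] at this
    have hd := orderOf_dvd_natCard ((⟨x, hxC⟩ : Subgroup.centralizer ({y} : Set G)) :
        Subgroup.centralizer ({y} : Set G) ⧸ K)
    rw [← Subgroup.index_eq_card, hk] at hd
    obtain ⟨i, -, hi⟩ := (Nat.dvd_prime_pow hM.1).1 hd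
    rcases Nat.eq_zero_or_pos i with rfl | hi0
    · exact (QuotientGroup.eq_one_iff _).1 (orderOf_eq_one_iff.1 (hi.trans (pow_zero p)))
    · exact absurd ((dvd_pow_self p hi0.ne').trans (hi ▸ h1)) hx
  exact irr_section_of_kernel hM (h.exists_orderOf hy) rfl hχ K hK hxK

/-- A class meeting the Sylow subgroup has size prime to `p`. -/
theorem value_ne_zero (hM : IsPModular p M) {χ : IrrCharacter G} (hχ : χ ∈ principalBlock M G)
    {y : G} (hy : y ∈ (P : Subgroup G)) : (χ : G → ℂ) y ≠ 0 := by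
  intro h0
  have h' : MemLocalIdeal M (centralChar (fun _ : G => (1 : ℂ)) y - centralChar (χ : G → ℂ) y) := hχ y
  simp only [centralChar, h0, mul_zero, zero_div, sub_zero, mul_one, div_one] at h'
  rw [natCast_memLocalIdeal_iff hM] at h'
  exact P.not_dvd_index (h'.trans (Subgroup.index_dvd_of_le (h.sylow_le_centralizer hy)))

/-! ### The dual orbits -/

theorem finite_dual : Finite (Dual (P : Subgroup G)) := by
  letI : CommGroup (P : Subgroup G) :=
    { (inferInstance : Group (P : Subgroup G)) with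
      mul_comm := fun a b => Subtype.ext (h.comm a a.2 b b.2) }
  exact Finite.of_equiv _
    (CommGroup.monoidHom_mulEquiv_of_hasEnoughRootsOfUnity (P : Subgroup G) ℂ).some.toEquiv.symm

theorem card_dual : Nat.card (Dual (P : Subgroup G)) = Nat.card (P : Subgroup G) := by
  letI : CommGroup (P : Subgroup G) :=
    { (inferInstance : Group (P : Subgroup G)) with
      mul_comm := fun a b => Subtype.ext (h.comm a a.2 b b.2) }
  exact CommGroup.card_monoidHom_of_hasEnoughRootsOfUnity (P : Subgroup G) ℂ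

/-- Second orthogonality for the linear characters. -/
theorem sum_dual [Fintype (Dual (P : Subgroup G))] {z : (P : Subgroup G)} (hz : z ≠ 1) :
    ∑ ψ : Dual (P : Subgroup G), ((ψ z : ℂˣ) : ℂ) = 0 := by
  letI : CommGroup (P : Subgroup G) :=
    { (inferInstance : Group (P : Subgroup G)) with
      mul_comm := fun a b => Subtype.ext (h.comm a a.2 b b.2) }
  obtain ⟨ψ₀, hψ₀⟩ := CommGroup.exists_apply_ne_one_of_hasEnoughRootsOfUnity
    (P : Subgroup G) ℂ hz
  have e : ((ψ₀ z : ℂˣ) : ℂ) * ∑ ψ : Dual (P : Subgroup G), ((ψ z : ℂˣ) : ℂ) =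
      ∑ ψ : Dual (P : Subgroup G), ((ψ z : ℂˣ) : ℂ) := by
    rw [Finset.mul_sum]
    exact Fintype.sum_equiv (Equiv.mulLeft ψ₀) _ _ fun ψ => by simp
  by_contra hne
  exact hψ₀ (Units.ext ((mul_eq_right₀ hne).1 e))

theorem tw_eq_self {ψ : Dual (P : Subgroup G)} (hψ : ψ ≠ 1)
    {n : Subgroup.normalizer ((P : Subgroup G) : Set G)} (e : tw P n ψ = ψ) :
    (n : G) ∈ Subgroup.centralizer ((P : Subgroup G) : Set G) := by
  by_contra hn
  refine hψ ?_
  letI : CommGroup (P : Subgroup G) :=
    { (inferInstance : Group (P : Subgroup G)) with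
      mul_comm := fun a b => Subtype.ext (h.comm a a.2 b b.2) }
  let f : (P : Subgroup G) →* (P : Subgroup G) :=
    (Subgroup.normalizerMonoidHom (P : Subgroup G) n⁻¹).toMonoidHom / MonoidHom.id _
  have hf : Function.Injective f := (injective_iff_map_eq_one f).2 fun a ha => by
    have h1 := congrArg Subtype.val (div_eq_one.1 ha)
    change ((n⁻¹ : Subgroup.normalizer ((P : Subgroup G) : Set G)) : G) * a *
      ((n⁻¹ : Subgroup.normalizer ((P : Subgroup G) : Set G)) : G)⁻¹ = a at h1
    rw [Subgroup.coe_inv, inv_inv] at h1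
    by_contra ha1
    refine hn (h.fpf a a.2 (fun h2 => ha1 (Subtype.ext h2)) _ n.2 ?_)
    calc (n : G) * a = n * ((n : G)⁻¹ * a * n) := by rw [h1]
      _ = a * n := by group
  refine MonoidHom.ext fun k => ?_
  obtain ⟨a, rfl⟩ := Finite.surjective_of_injective hf k
  show ψ (Subgroup.normalizerMonoidHom (P : Subgroup G) n⁻¹ a / a) = 1
  rw [map_div, div_eq_one]
  exact DFunLike.congr_fun e a

theorem tw_of_centralizer (ψ : Dual (P : Subgroup G))
    {n : Subgroup.normalizer ((P : Subgroup G) : Set G)}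
    (hn : (n : G) ∈ Subgroup.centralizer ((P : Subgroup G) : Set G)) : tw P n ψ = ψ :=
  MonoidHom.ext fun w => tw_apply P n ψ w w (by
    rw [mul_assoc, Subgroup.mem_centralizer_iff.1 hn w w.2, inv_mul_cancel_left])

end Data

variable (P : Sylow p G) [Fintype (Dual (P : Subgroup G))]

/-- The orbit of a linear character. -/
noncomputable def orb (ψ : Dual (P : Subgroup G)) : Finset (Dual (P : Subgroup G)) := by
  classical
  exact Finset.univ.filter fun ψ' => Rel P ψ ψ'

theorem mem_orb {ψ ψ' : Dual (P : Subgroup G)} : ψ' ∈ orb P ψ ↔ Rel P ψ ψ' := by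
  simp [orb]

theorem self_mem_orb (ψ : Dual (P : Subgroup G)) : ψ ∈ orb P ψ :=
  (mem_orb P).2 ((rel_iff P).2 ⟨1, (tw_one P ψ).symm⟩)

theorem tw_mem_orb (n) (ψ : Dual (P : Subgroup G)) : tw P n ψ ∈ orb P ψ :=
  (mem_orb P).2 ((rel_iff P).2 ⟨n, rfl⟩)

theorem orb_eq_of_mem {ψ ψ' : Dual (P : Subgroup G)} (hm : ψ' ∈ orb P ψ) : orb P ψ' = orb P ψ := by
  obtain ⟨n, rfl⟩ := (rel_iff P).1 ((mem_orb P).1 hm)
  ext φ
  simp only [mem_orb, rel_iff]
  constructor
  · rintro ⟨k, rfl⟩
    exact ⟨k * n, (tw_mul P k n ψ).symm⟩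
  · rintro ⟨k, rfl⟩
    exact ⟨k * n⁻¹, by rw [← tw_mul, inv_mul_cancel_right]⟩

/-- The non-trivial orbits. -/
noncomputable def orbits : Finset (Finset (Dual (P : Subgroup G))) := by
  classical
  exact (Finset.univ.erase 1).image (orb P)

theorem mem_orbits {i : Finset (Dual (P : Subgroup G))} :
    i ∈ orbits P ↔ ∃ ψ, ψ ≠ 1 ∧ orb P ψ = i := by
  simp [orbits]

theorem orb_mem_orbits {ψ : Dual (P : Subgroup G)} (hψ : ψ ≠ 1) : orb P ψ ∈ orbits P :=
  (mem_orbits P).2 ⟨ψ, hψ, rfl⟩

theorem one_notMem_of_mem_orbits {i : Finset (Dual (P : Subgroup G))} (hi : i ∈ orbits P) :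
    1 ∉ i := by
  obtain ⟨ψ, hψ, rfl⟩ := (mem_orbits P).1 hi
  intro h1
  obtain ⟨n, hn⟩ := (rel_iff P).1 ((mem_orb P).1 h1)
  refine hψ ?_
  have h2 := congrArg (tw P n⁻¹) hn
  rw [← tw_mul, inv_mul_cancel, tw_one, tw_triv] at h2
  exact h2.symm

theorem eq_orb_of_mem {i : Finset (Dual (P : Subgroup G))} (hi : i ∈ orbits P)
    {ψ : Dual (P : Subgroup G)} (hψ : ψ ∈ i) : orb P ψ = i := by
  obtain ⟨φ, -, rfl⟩ := (mem_orbits P).1 hi
  exact orb_eq_of_mem P hψ

namespace Data

variable [Fact p.Prime] {P} {m : ℕ} (h : Data P m)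

include h

theorem card_orb {ψ : Dual (P : Subgroup G)} (hψ : ψ ≠ 1) : (orb P ψ).card = m := by
  classical
  let N := Subgroup.normalizer ((P : Subgroup G) : Set G)
  let C := (Subgroup.centralizer ((P : Subgroup G) : Set G)).subgroupOf N
  have hwd : ∀ a b : N, QuotientGroup.leftRel C a b → tw P a ψ = tw P b ψ := by
    intro a b hab
    rw [QuotientGroup.leftRel_apply] at hab
    conv_rhs => rw [show b = a * (a⁻¹ * b) by group, tw_mul, h.tw_of_centralizer ψ (Subgroup.mem_subgroupOf.1 hab)]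
  let f : N ⧸ C → orb P ψ := fun q =>
    Quotient.liftOn' q (fun a => ⟨tw P a ψ, tw_mem_orb P a ψ⟩) fun a b hab => Subtype.ext (hwd a b hab)
  have hf : Function.Bijective f := by
    refine ⟨fun a b => ?_, fun ⟨φ, hφ⟩ => ?_⟩
    · induction a using QuotientGroup.induction_on
      induction b using QuotientGroup.induction_on
      rename_i a b
      intro e
      rw [QuotientGroup.eq]
      refine Subgroup.mem_subgroupOf.2 (h.tw_eq_self hψ ?_)
      have e' : tw P a ψ = tw P b ψ := congrArg Subtype.val e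
      rw [tw_mul, ← e', ← tw_mul, inv_mul_cancel, tw_one]
    · obtain ⟨n, rfl⟩ := (rel_iff P).1 ((mem_orb P).1 hφ)
      exact ⟨QuotientGroup.mk n, rfl⟩
  rw [← Nat.card_eq_finsetCard, ← Nat.card_congr (Equiv.ofBijective f hf)]
  exact h.index

theorem card_of_mem_orbits {i : Finset (Dual (P : Subgroup G))} (hi : i ∈ orbits P) :
    i.card = m := by
  obtain ⟨ψ, hψ, rfl⟩ := (mem_orbits P).1 hi
  exact h.card_orb hψ

theorem card_orbits_mul : (orbits P).card * m = Nat.card (P : Subgroup G) - 1 := by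
  classical
  rw [← h.card_dual, Nat.card_eq_fintype_card, ← Finset.card_univ,
    ← Finset.card_erase_of_mem (Finset.mem_univ (1 : Dual (P : Subgroup G))),
    Finset.card_eq_sum_card_image (orb P) (Finset.univ.erase 1)]
  rw [Finset.sum_congr (rfl : Finset.image (orb P) (Finset.univ.erase 1) = _) fun i hi => ?_,
    Finset.sum_const, smul_eq_mul]
  · unfold orbits
    congr!
  · have hi' : i ∈ orbits P := by
      unfold orbits
      convert hi
    refine Eq.trans (congrArg Finset.card ?_) (h.card_of_mem_orbits hi')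
    ext ψ
    simp only [Finset.mem_filter, Finset.mem_erase, Finset.mem_univ, and_true]
    refine ⟨fun hψ => hψ.2 ▸ self_mem_orb P ψ, fun hψ =>
      ⟨fun e => one_notMem_of_mem_orbits P hi' (e ▸ hψ), eq_orb_of_mem P hi' hψ⟩⟩

theorem two_le_card_orbits : 2 ≤ (orbits P).card := by
  by_contra hlt
  have h1 := h.card_orbits_mul
  have h2 : (orbits P).card * m ≤ 1 * m := Nat.mul_le_mul_right m (by omega)
  have := h.lt
  change m + 1 < Nat.card (P : Subgroup G) at this
  omega

end Data

end Cfsg.Agent.ExPrincipal
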