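/-
The exceptional characters of a principal block with abelian Sylow subgroups and a fixed-point-free
normalizer.
-/
import Cfsg.Agent.Lib.Blocks.ExceptionalLocal
import Cfsg.Agent.Lib.Blocks.ExceptionalCoherence
import Cfsg.Agent.Lib.Blocks.Degree

set_option linter.unusedSectionVars false
set_option linter.style.haveILetI false

namespace Cfsg.Agent.ExPrincipal

open Cfsg Cfsg.Agent.Char Cfsg.Agent.Blocks Cfsg.Agent.BrauerPairs
open scoped ComplexConjugate Classical

universe u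

variable {G : Type u} [Group G] [Fintype G] {p : ℕ} (P : Sylow p G)
  [Fintype (P : Subgroup G)] [Fintype (Dual (P : Subgroup G))]

theorem exists_coef (χ : IrrCharacter G) (ψ : Dual (P : Subgroup G)) :
    ∃ n : ℤ, classInner (fun y : (P : Subgroup G) => (χ : G → ℂ) y)
      (fun y => ((ψ y : ℂˣ) : ℂ)) = n := by
  obtain ⟨n, hn⟩ := IsCharacter.exists_classInner_nat
    (IsCharacter.restrict (irr_isCharacter χ) (P : Subgroup G))
    (IsIrrCharacter.isCharacter (isIrrCharacter_linear ψ))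
  exact ⟨n, hn.trans (Int.cast_natCast n).symm⟩

/-- The multiplicity of a linear character in the restriction. -/
noncomputable def coef (χ : IrrCharacter G) (ψ : Dual (P : Subgroup G)) : ℤ :=
  (exists_coef P χ ψ).choose

theorem coef_eq (χ : IrrCharacter G) (ψ : Dual (P : Subgroup G)) :
    (coef P χ ψ : ℂ) = (Nat.card (P : Subgroup G) : ℂ)⁻¹ *
      ∑ y : (P : Subgroup G), (χ : G → ℂ) y * ((ψ y⁻¹ : ℂˣ) : ℂ) := by
  rw [coef, ← (exists_coef P χ ψ).choose_spec, classInner]
  congr 1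
  refine Finset.sum_congr rfl fun y _ => ?_
  rw [← IsCharacter.inv (IsIrrCharacter.isCharacter (isIrrCharacter_linear ψ))]

/-- The sum over an orbit. -/
noncomputable def phi (i : Finset (Dual (P : Subgroup G))) (y : (P : Subgroup G)) : ℂ :=
  ∑ ψ ∈ i, ((ψ y : ℂˣ) : ℂ)

/-- The common multiplicity of an orbit. -/
noncomputable def bcoef (χ : IrrCharacter G) (i : Finset (Dual (P : Subgroup G))) : ℤ :=
  if h : i.Nonempty then coef P χ h.choose else 0

theorem sum_linear_mul (ψ φ : Dual (P : Subgroup G)) :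
    ∑ y : (P : Subgroup G), ((ψ y : ℂˣ) : ℂ) * conj ((φ y : ℂˣ) : ℂ) =
      if ψ = φ then (Nat.card (P : Subgroup G) : ℂ) else 0 := by
  have h0 : (Nat.card (P : Subgroup G) : ℂ) ≠ 0 := Nat.cast_ne_zero.2 Nat.card_pos.ne'
  have h := classInner_irr (isIrrCharacter_linear ψ) (isIrrCharacter_linear φ)
  rw [classInner, inv_mul_eq_iff_eq_mul₀ h0, mul_ite, mul_one, mul_zero] at h
  rw [h]
  refine if_congr ⟨fun e => ?_, fun e => by rw [e]⟩ rfl rfl
  exact MonoidHom.ext fun y => Units.ext (congrFun e y)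

theorem coef_tw (χ : IrrCharacter G) (ψ : Dual (P : Subgroup G))
    (n : Subgroup.normalizer ((P : Subgroup G) : Set G)) :
    coef P χ (tw P n ψ) = coef P χ ψ := by
  apply Int.cast_injective (α := ℂ)
  rw [coef_eq, coef_eq]
  congr 1
  refine Fintype.sum_equiv (Subgroup.normalizerMonoidHom (P : Subgroup G) n⁻¹).toEquiv _ _
    fun y => ?_
  congr 1
  · exact (irr_conj_invariant χ (y : G) ((n⁻¹ :
      Subgroup.normalizer ((P : Subgroup G) : Set G)) : G)).symm
  · congr 1
    exact congrArg ψ (map_inv (Subgroup.normalizerMonoidHom (P : Subgroup G) n⁻¹) y)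

theorem bcoef_eq (χ : IrrCharacter G) {i : Finset (Dual (P : Subgroup G))} (hi : i ∈ orbits P)
    {ψ : Dual (P : Subgroup G)} (hψ : ψ ∈ i) : bcoef P χ i = coef P χ ψ := by
  have hne : i.Nonempty := ⟨ψ, hψ⟩
  rw [bcoef, dif_pos hne]
  have h1 : hne.choose ∈ orb P ψ := by rw [eq_orb_of_mem P hi hψ]; exact hne.choose_spec
  obtain ⟨n, hn⟩ := (rel_iff P).1 ((mem_orb P).1 h1)
  rw [hn, coef_tw]

theorem fiber_eq {i : Finset (Dual (P : Subgroup G))} (hi : i ∈ orbits P) :
    ((Finset.univ.erase 1).filter fun ψ => orb P ψ = i) = i := by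
  ext ψ
  simp only [Finset.mem_filter, Finset.mem_erase, Finset.mem_univ, and_true]
  exact ⟨fun hψ => hψ.2 ▸ self_mem_orb P ψ, fun hψ =>
    ⟨fun e => one_notMem_of_mem_orbits P hi (e ▸ hψ), eq_orb_of_mem P hi hψ⟩⟩

theorem sum_eq_sum_orbits {β : Type*} [AddCommMonoid β] (f : Dual (P : Subgroup G) → β) :
    ∑ ψ : Dual (P : Subgroup G), f ψ = f 1 + ∑ i ∈ orbits P, ∑ ψ ∈ i, f ψ := by
  rw [← Finset.add_sum_erase _ _ (Finset.mem_univ (1 : Dual (P : Subgroup G))),
    ← Finset.sum_fiberwise_of_maps_to (g := orb P) (t := orbits P)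
      (fun ψ hψ => orb_mem_orbits P (Finset.ne_of_mem_erase hψ))]
  congr 1
  exact Finset.sum_congr rfl fun i hi => by rw [fiber_eq P hi]

/-- The principal block as a finite set. -/
noncomputable def blockSet (M : Ideal AlgInt) (G : Type u) [Group G] [Fintype G] :
    Finset (IrrCharacter G) :=
  Finset.univ.filter (· ∈ principalBlock M G)

theorem mem_blockSet {M : Ideal AlgInt} {χ : IrrCharacter G} :
    χ ∈ blockSet M G ↔ χ ∈ principalBlock M G := by simp [blockSet]

variable {P} [Fact p.Prime] {m : ℕ} {M : Ideal AlgInt} [M.IsPrime]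

namespace Data

variable (h : Data P m)

include h

theorem expansion (χ : IrrCharacter G) (y : (P : Subgroup G)) :
    (χ : G → ℂ) y = (coef P χ 1 : ℂ) + ∑ i ∈ orbits P, (bcoef P χ i : ℂ) * phi P i y := by
  have h1 : (χ : G → ℂ) y = ∑ ψ : Dual (P : Subgroup G), (coef P χ ψ : ℂ) * ((ψ y : ℂˣ) : ℂ) := by
    simp only [coef_eq, Finset.mul_sum, Finset.sum_mul]
    rw [Finset.sum_comm, Finset.sum_eq_single y]
    · have e : ∀ ψ : Dual (P : Subgroup G), (Nat.card (P : Subgroup G) : ℂ)⁻¹ *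
          ((χ : G → ℂ) y * ((ψ y⁻¹ : ℂˣ) : ℂ)) * ((ψ y : ℂˣ) : ℂ) =
          (Nat.card (P : Subgroup G) : ℂ)⁻¹ * (χ : G → ℂ) y := fun ψ => by
        rw [map_inv, mul_assoc, mul_assoc, Units.inv_mul, mul_one]
      rw [Finset.sum_congr rfl fun ψ _ => e ψ, Finset.sum_const, Finset.card_univ,
        ← Nat.card_eq_fintype_card, h.card_dual, nsmul_eq_mul,
        mul_inv_cancel_left₀ (Nat.cast_ne_zero.2 Nat.card_pos.ne')]
    · intro w _ hw
      have e : ∀ ψ : Dual (P : Subgroup G), (Nat.card (P : Subgroup G) : ℂ)⁻¹ *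
          ((χ : G → ℂ) w * ((ψ w⁻¹ : ℂˣ) : ℂ)) * ((ψ y : ℂˣ) : ℂ) =
          ((Nat.card (P : Subgroup G) : ℂ)⁻¹ * (χ : G → ℂ) w) * ((ψ (w⁻¹ * y) : ℂˣ) : ℂ) :=
        fun ψ => by rw [map_mul, Units.val_mul]; ring
      rw [Finset.sum_congr rfl fun ψ _ => e ψ, ← Finset.mul_sum,
        h.sum_dual (fun e' => hw (inv_mul_eq_one.1 e')), mul_zero]
    · exact fun hn => absurd (Finset.mem_univ y) hn
  rw [h1, sum_eq_sum_orbits P, MonoidHom.one_apply, Units.val_one, mul_one]
  congr 1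
  refine Finset.sum_congr rfl fun i hi => ?_
  rw [phi, Finset.mul_sum]
  exact Finset.sum_congr rfl fun ψ hψ => by rw [bcoef_eq P χ hi hψ]

theorem sum_phi {y : (P : Subgroup G)} (hy : y ≠ 1) : ∑ i ∈ orbits P, phi P i y = -1 := by
  have e := sum_eq_sum_orbits P fun ψ : Dual (P : Subgroup G) => ((ψ y : ℂˣ) : ℂ)
  rw [h.sum_dual hy, MonoidHom.one_apply, Units.val_one] at e
  exact eq_neg_of_add_eq_zero_right e.symm

theorem inf_centralizer {y : G} (hy : y ∈ (P : Subgroup G)) (hy1 : y ≠ 1) :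
    Subgroup.normalizer ((P : Subgroup G) : Set G) ⊓ Subgroup.centralizer ({y} : Set G) =
      Subgroup.centralizer ((P : Subgroup G) : Set G) := by
  refine le_antisymm (fun n hn => h.fpf y hy hy1 n hn.1
    (Subgroup.mem_centralizer_singleton_iff.1 hn.2)) (le_inf (centralizer_le P) fun c hc => ?_)
  exact Subgroup.mem_centralizer_singleton_iff.2 (Subgroup.mem_centralizer_iff.1 hc y hy).symm

/-- The basic inner products. -/
theorem gram (hM : IsPModular p M) {i : Finset (Dual (P : Subgroup G))} (hi : i ∈ orbits P)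
    (φ : Dual (P : Subgroup G)) :
    ∑ χ ∈ blockSet M G, (bcoef P χ i - coef P χ 1) * coef P χ φ =
      if φ = 1 then -(m : ℤ) else if φ ∈ i then 1 else 0 := by
  have hm : (m : ℂ) ≠ 0 := by have := h.one_lt; exact_mod_cast (by omega : m ≠ 0)
  set N := Subgroup.normalizer ((P : Subgroup G) : Set G)
  set C := Subgroup.centralizer ((P : Subgroup G) : Set G)
  haveI : Fintype N := Fintype.ofFinite N
  have hCne : (Nat.card C : ℂ) ≠ 0 := Nat.cast_ne_zero.2 Nat.card_pos.ne'
  have hPne : (Nat.card (P : Subgroup G) : ℂ) ≠ 0 := Nat.cast_ne_zero.2 Nat.card_pos.ne'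
  let θ : ↥(P : Subgroup G) → ℂ := fun y => ∑ ψ ∈ i, (((ψ y : ℂˣ) : ℂ) - 1)
  let U : Set G := {u | u ∈ (P : Subgroup G) ∧ u ≠ 1}
  have hθU : ∀ y : (P : Subgroup G), (y : G) ∉ U → θ y = 0 := fun y hy => by
    have hy1 : y = 1 := by
      by_contra hne
      exact hy ⟨y.2, fun e => hne (Subtype.ext e)⟩
    simp [θ, hy1]
  have key := suzuki_inner hM (P : Subgroup G) N P.isPGroup' le_rfl U (fun u hu => hu.1)
    (fun u hu g hg => h.fusion hu.1 hg) ((Nat.card (P : Subgroup G) : ℂ) / Nat.card C)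
    (fun y hy => by rw [h.inf_centralizer hy.1 hy.2, h.degSq_eq hM hy.1 hy.2, div_mul_cancel₀ _ hCne])
    θ (fun y => ((φ y : ℂˣ) : ℂ)) hθU
  have hL : ∀ χ : IrrCharacter G, (Nat.card (P : Subgroup G) : ℂ)⁻¹ *
      ∑ y : (P : Subgroup G), (χ : G → ℂ) (y : G) * θ y⁻¹ =
        (m : ℂ) * ((bcoef P χ i - coef P χ 1 : ℤ) : ℂ) := by
    intro χ
    simp only [θ, Finset.mul_sum]
    rw [Finset.sum_comm]
    have e : ∀ ψ ∈ i, ∑ y : (P : Subgroup G), (Nat.card (P : Subgroup G) : ℂ)⁻¹ *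
        ((χ : G → ℂ) y * (((ψ y⁻¹ : ℂˣ) : ℂ) - 1)) =
        ((bcoef P χ i - coef P χ 1 : ℤ) : ℂ) := by
      intro ψ hψ
      rw [Int.cast_sub, bcoef_eq P χ hi hψ, coef_eq, coef_eq, Finset.mul_sum, Finset.mul_sum,
        ← Finset.sum_sub_distrib]
      refine Finset.sum_congr rfl fun y _ => ?_
      rw [MonoidHom.one_apply, Units.val_one]
      ring
    rw [Finset.sum_congr rfl e, Finset.sum_const, h.card_of_mem_orbits hi, nsmul_eq_mul]
  have hR : ∀ n : N, ∑ y : (P : Subgroup G), θ y *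
      conj (extendByZero (P : Subgroup G) (fun y => ((φ y : ℂˣ) : ℂ))
        ((n : G) * (y : G) * (n : G)⁻¹)) =
      (Nat.card (P : Subgroup G) : ℂ) *
        ((if φ = 1 then -(m : ℂ) else if φ ∈ i then 1 else 0)) := by
    intro n
    have e1 : ∀ y : (P : Subgroup G), extendByZero (P : Subgroup G) (fun y => ((φ y : ℂˣ) : ℂ))
        ((n : G) * (y : G) * (n : G)⁻¹) = ((tw P n⁻¹ φ y : ℂˣ) : ℂ) := by
      intro y
      have hmem : (n : G) * (y : G) * (n : G)⁻¹ ∈ (P : Subgroup G) :=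
        (Subgroup.mem_normalizer_iff.1 n.2 _).1 y.2
      rw [tw_apply P n⁻¹ φ y ⟨_, hmem⟩ (by simp)]
      exact Subtype.val_injective.extend_apply (fun y => ((φ y : ℂˣ) : ℂ)) 0 ⟨_, hmem⟩
    simp only [e1, θ, Finset.sum_mul]
    rw [Finset.sum_comm]
    have e2 : ∀ ψ ∈ i, ∑ y : (P : Subgroup G),
        (((ψ y : ℂˣ) : ℂ) - 1) * conj ((tw P n⁻¹ φ y : ℂˣ) : ℂ) =
        (if ψ = tw P n⁻¹ φ then (Nat.card (P : Subgroup G) : ℂ) else 0) -
          (if 1 = tw P n⁻¹ φ then (Nat.card (P : Subgroup G) : ℂ) else 0) := by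
      intro ψ _
      rw [← sum_linear_mul, ← sum_linear_mul, ← Finset.sum_sub_distrib]
      refine Finset.sum_congr rfl fun y _ => ?_
      rw [MonoidHom.one_apply, Units.val_one, sub_mul]
    rw [Finset.sum_congr rfl e2, Finset.sum_sub_distrib, Finset.sum_ite_eq', Finset.sum_const,
      h.card_of_mem_orbits hi, nsmul_eq_mul]
    have hmem : tw P n⁻¹ φ ∈ i ↔ φ ∈ i := by
      constructor
      · intro hh
        rw [← eq_orb_of_mem P hi hh]
        refine (mem_orb P).2 ((rel_iff P).2 ⟨n, ?_⟩)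
        rw [← tw_mul, mul_inv_cancel, tw_one]
      · intro hh
        rw [← eq_orb_of_mem P hi hh]
        exact tw_mem_orb P _ _
    by_cases h1 : φ = 1
    · subst h1
      rw [if_neg (fun hh => one_notMem_of_mem_orbits P hi (hmem.1 hh)), if_pos (tw_triv P _).symm,
        if_pos rfl]
      ring
    · have h2 : ¬ 1 = tw P n⁻¹ φ := fun e => h1 (by
        have := congrArg (tw P n) e
        rw [← tw_mul, mul_inv_cancel, tw_one, tw_triv] at this
        exact this.symm)
      rw [if_neg h2, if_neg h1, mul_zero, sub_zero]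
      by_cases h3 : φ ∈ i
      · rw [if_pos (hmem.2 h3), if_pos h3, mul_one]
      · rw [if_neg fun hh => h3 (hmem.1 hh), if_neg h3, mul_zero]
  have hR' : ∑ y : (P : Subgroup G), θ y * conj (∑ n : N, extendByZero (P : Subgroup G)
      (fun y => ((φ y : ℂˣ) : ℂ)) ((n : G) * (y : G) * (n : G)⁻¹)) =
      (Nat.card N : ℂ) * ((Nat.card (P : Subgroup G) : ℂ) *
        (if φ = 1 then -(m : ℂ) else if φ ∈ i then 1 else 0)) := by
    simp only [map_sum, Finset.mul_sum]
    rw [Finset.sum_comm, Finset.sum_congr rfl fun n _ => hR n, Finset.sum_const, Finset.card_univ,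
      ← Nat.card_eq_fintype_card, nsmul_eq_mul]
  rw [hR', show (Finset.univ.filter (· ∈ principalBlock M G)) = blockSet M G by
    ext χ; simp [blockSet], Finset.sum_congr (rfl : blockSet M G = blockSet M G) fun χ _ => by
    rw [hL χ, ← coef_eq P χ φ, map_intCast, mul_assoc, ← Int.cast_mul], ← Finset.mul_sum,
    h.card_normalizer] at key
  apply Int.cast_injective (α := ℂ)
  rw [Int.cast_sum]
  refine mul_left_cancel₀ hm (key.trans ?_)
  rw [apply_ite (fun z : ℤ => (z : ℂ)), apply_ite (fun z : ℤ => (z : ℂ))]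
  push_cast
  field_simp
  rfl

theorem sum_regular (hM : IsPModular p M) {i : Finset (Dual (P : Subgroup G))}
    (hi : i ∈ orbits P) {g : G} (hg : ¬ p ∣ orderOf g) :
    ∑ χ ∈ blockSet M G, ((bcoef P χ i - coef P χ 1 : ℤ) : ℂ) * (χ : G → ℂ) g = 0 := by
  obtain ⟨ψ, hψ⟩ : i.Nonempty := Finset.card_pos.1 (by
    rw [h.card_of_mem_orbits hi]; have := h.one_lt; omega)
  simp only [Int.cast_sub, bcoef_eq P _ hi hψ, coef_eq, ← mul_sub, ← Finset.sum_sub_distrib,
    Finset.mul_sum, Finset.sum_mul]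
  rw [Finset.sum_comm]
  refine Finset.sum_eq_zero fun y _ => ?_
  by_cases hy : y = 1
  · subst hy; simp
  · have h0 : blockPair (principalBlock M G) g (y : G)⁻¹ = 0 := by
      refine blockPair_regular_singular hM (isPBlock_principalBlock M G) hg ?_
      obtain ⟨k, hk⟩ := h.exists_orderOf y.2
      rw [orderOf_inv, hk]
      refine dvd_pow_self p ?_
      rintro rfl
      exact hy (Subtype.ext (orderOf_eq_one_iff.1 (hk.trans (pow_zero p))))
    unfold blockPair at h0
    have e : ∀ χ : IrrCharacter G, (Nat.card (P : Subgroup G) : ℂ)⁻¹ *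
        ((χ : G → ℂ) y * (((ψ y⁻¹ : ℂˣ) : ℂ) -
          (((1 : Dual (P : Subgroup G)) y⁻¹ : ℂˣ) : ℂ))) * (χ : G → ℂ) g =
        ((Nat.card (P : Subgroup G) : ℂ)⁻¹ * (((ψ y⁻¹ : ℂˣ) : ℂ) - 1)) *
          ((χ : G → ℂ) g * conj ((χ : G → ℂ) (y : G)⁻¹)) := fun χ => by
      rw [irr_inv, Complex.conj_conj, MonoidHom.one_apply, Units.val_one]; ring
    rw [Finset.sum_congr (rfl : _ = blockSet M G) fun χ _ => e χ, ← Finset.mul_sum]
    refine mul_eq_zero_of_right _ (Eq.trans (Finset.sum_congr ?_ fun _ _ => rfl) h0)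
    ext χ; simp [blockSet]

end Data

/-- The exceptional family. -/
structure Family (P : Sylow p G) [Fintype (P : Subgroup G)] [Fintype (Dual (P : Subgroup G))]
    (M : Ideal AlgInt) (m : ℕ) where
  /-- the sign -/
  δ : ℤ
  /-- the constant -/
  d : ℤ
  /-- the values of the others -/
  a : IrrCharacter G → ℤ
  /-- the exceptional characters -/
  η : Finset (Dual (P : Subgroup G)) → IrrCharacter G
  sign : δ = 1 ∨ δ = -1
  mem : ∀ i ∈ orbits P, η i ∈ blockSet M G
  inj : Set.InjOn η (orbits P)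
  principal_notMem : principal G ∉ (orbits P).image η
  val_exc : ∀ i ∈ orbits P, ∀ y : (P : Subgroup G), y ≠ 1 →
    (η i : G → ℂ) y = (d : ℂ) + (δ : ℂ) * phi P i y
  val_other : ∀ χ ∈ blockSet M G \ (orbits P).image η, a χ ≠ 0 ∧
    ∀ y : (P : Subgroup G), y ≠ 1 → (χ : G → ℂ) y = (a χ : ℂ)
  norm : (d - δ) ^ 2 + (((orbits P).card : ℤ) - 1) * d ^ 2 +
    ∑ χ ∈ blockSet M G \ (orbits P).image η, a χ ^ 2 = (m : ℤ) + 1
  regular_eq : ∀ i ∈ orbits P, ∀ j ∈ orbits P, ∀ g : G, ¬ p ∣ orderOf g →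
    (η i : G → ℂ) g = (η j : G → ℂ) g
  regular_sum : ∀ i ∈ orbits P, ∀ g : G, ¬ p ∣ orderOf g →
    (((orbits P).card : ℂ) * d - δ) * (η i : G → ℂ) g +
      ∑ χ ∈ blockSet M G \ (orbits P).image η, (a χ : ℂ) * (χ : G → ℂ) g = 0

theorem exists_family (h : Data P m) (hM : IsPModular p M) : Nonempty (Family P M m) := by
  set O := orbits P with hO
  set S := blockSet M G with hS
  set v : Finset (Dual (P : Subgroup G)) → IrrCharacter G → ℤ :=
    fun i χ => bcoef P χ i - coef P χ 1 with hv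
  have hcard : 2 ≤ O.card := h.two_le_card_orbits
  have hrep : ∀ i ∈ O, ∃ ψ, ψ ∈ i ∧ ψ ≠ 1 := fun i hi => by
    obtain ⟨ψ, hψ⟩ : i.Nonempty := Finset.card_pos.1 (by
      rw [h.card_of_mem_orbits hi]; have := h.one_lt; omega)
    exact ⟨ψ, hψ, fun e => one_notMem_of_mem_orbits P hi (e ▸ hψ)⟩
  have hvv : ∀ i ∈ O, ∀ k ∈ O, ∑ χ ∈ S, v i χ * v k χ = (if i = k then 1 else 0) + m := by
    intro i hi k hk
    obtain ⟨ψ, hψ, hψ1⟩ := hrep k hk
    have e1 := h.gram hM hi ψ
    have e2 := h.gram hM hi (1 : Dual (P : Subgroup G))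
    rw [if_pos rfl] at e2
    rw [if_neg hψ1] at e1
    have e3 : (if ψ ∈ i then (1 : ℤ) else 0) = if i = k then 1 else 0 :=
      if_congr ⟨fun hh => (eq_orb_of_mem P hi hh).symm.trans (eq_orb_of_mem P hk hψ),
        fun e => e ▸ hψ⟩ rfl rfl
    rw [Finset.sum_congr rfl (g := fun χ => (bcoef P χ i - coef P χ 1) * coef P χ ψ -
      (bcoef P χ i - coef P χ 1) * coef P χ 1) fun χ _ => by
        simp only [hv, bcoef_eq P χ hk hψ]; ring, Finset.sum_sub_distrib, e1, e2, e3]
    ring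
  have hvreg : ∀ i ∈ O, ∀ g : G, ¬ p ∣ orderOf g →
      ∑ χ ∈ S, (v i χ : ℂ) * (χ : G → ℂ) g = 0 := fun i hi g hg => h.sum_regular hM hi hg
  obtain ⟨δ, η, hδ, hηmem, hηinj, hηv⟩ := coherent S O v (fun χ => (charDegree (χ : G → ℂ) : ℤ))
    hcard (fun χ _ => Int.natCast_pos.2 (charDegree_pos χ))
    (fun i hi j hj k hk l hl => by
      simp only [sub_mul, mul_sub, Finset.sum_sub_distrib]
      rw [hvv i hi k hk, hvv i hi l hl, hvv j hj k hk, hvv j hj l hl]
      ring)
    (fun i hi j hj => by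
      have e1 := hvreg i hi 1 (by simpa using (Fact.out : p.Prime).ne_one)
      have e2 := hvreg j hj 1 (by simpa using (Fact.out : p.Prime).ne_one)
      simp only [irr_one_eq_charDegree] at e1 e2
      apply Int.cast_injective (α := ℂ)
      push_cast
      simp only [sub_mul, Finset.sum_sub_distrib, e1, e2, sub_zero])
  obtain ⟨i₀, hi₀⟩ := Finset.card_pos.1 (by omega : 0 < O.card)
  have hδ2 : δ * δ = 1 := by rcases hδ with rfl | rfl <;> norm_num
  have hud : ∀ i ∈ O, ∀ j ∈ O, ∀ k ∈ O,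
      ud (η i) (η j) (η k) = (if k = i then (1 : ℤ) else 0) - (if k = j then 1 else 0) :=
    fun i hi j hj k hk => by
      unfold ud
      congr 1 <;> exact if_congr ⟨fun e => hηinj hk (by assumption) e, fun e => by rw [e]⟩ rfl rfl
  -- the constant
  set D : Finset (Dual (P : Subgroup G)) → ℤ :=
    fun k => δ * (if k = i₀ then 1 else 0) - v i₀ (η k) with hD
  have hvk : ∀ i ∈ O, ∀ k ∈ O, v i (η k) = δ * (if k = i then 1 else 0) - D k := by
    intro i hi k hk
    have e := hηv i hi i₀ hi₀ (η k) (hηmem k hk)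
    rw [hud i hi i₀ hi₀ k hk] at e
    simp only [hD]
    linear_combination e
  have hDeq : ∀ k ∈ O, ∀ l ∈ O, D k = D l := by
    intro k hk l hl
    have e : ∑ χ ∈ S, v k χ * (v k χ - v l χ) =
        ∑ χ ∈ S, δ * (v k χ * ud (η k) (η l) χ) :=
      Finset.sum_congr rfl fun χ hχ => by rw [hηv k hk l hl χ hχ]; ring
    rw [← Finset.mul_sum, sum_mul_ud S _ (hηmem k hk) (hηmem l hl), hvk k hk k hk, hvk k hk l hl]
      at e
    simp only [mul_sub, Finset.sum_sub_distrib] at e
    rw [hvv k hk k hk, hvv k hk l hl] at e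
    by_cases hkl : k = l
    · rw [hkl]
    · simp only [if_true, if_neg hkl, if_neg (Ne.symm hkl)] at e
      have : δ * (D l - D k) = 0 := by linear_combination -e - hδ2
      rcases mul_eq_zero.1 this with h0 | h0
      · rcases hδ with h1 | h1 <;> omega
      · omega
  set d := D i₀ with hd
  have hvd : ∀ i ∈ O, ∀ k ∈ O, v i (η k) = δ * (if k = i then 1 else 0) - d :=
    fun i hi k hk => by rw [hvk i hi k hk, hDeq k hk i₀ hi₀]
  set Y := O.image η with hY
  have hYS : Y ⊆ S := fun χ hχ => by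
    obtain ⟨k, hk, rfl⟩ := Finset.mem_image.1 hχ
    exact hηmem k hk
  have hvX : ∀ χ ∈ S \ Y, ∀ i ∈ O, v i χ = v i₀ χ := fun χ hχ i hi => by
    obtain ⟨hχS, hχY⟩ := Finset.mem_sdiff.1 hχ
    have e := hηv i hi i₀ hi₀ χ hχS
    have h1 : χ ≠ η i := fun e' => hχY (Finset.mem_image.2 ⟨i, hi, e'.symm⟩)
    have h2 : χ ≠ η i₀ := fun e' => hχY (Finset.mem_image.2 ⟨i₀, hi₀, e'.symm⟩)
    simp only [ud, if_neg h1, if_neg h2, sub_zero, mul_zero] at e
    exact sub_eq_zero.1 e
  have hexp : ∀ (χ : IrrCharacter G) (y : (P : Subgroup G)), y ≠ 1 →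
      (χ : G → ℂ) y = ∑ i ∈ O, (v i χ : ℂ) * phi P i y := by
    intro χ y hy
    rw [h.expansion χ y]
    simp only [hv, hO, Int.cast_sub, sub_mul, Finset.sum_sub_distrib, ← Finset.mul_sum, h.sum_phi hy]
    ring
  have hprin : ∀ i ∈ O, v i (principal G) = -1 := by
    intro i hi
    obtain ⟨ψ, hψ, hψ1⟩ := hrep i hi
    have e1 : coef P (principal G) ψ = 0 := by
      apply Int.cast_injective (α := ℂ)
      rw [coef_eq, Int.cast_zero]
      refine mul_eq_zero_of_right _ ?_
      have := sum_linear_mul P (1 : Dual (P : Subgroup G)) ψ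
      rw [if_neg (Ne.symm hψ1)] at this
      rw [← this]
      refine Finset.sum_congr rfl fun y _ => ?_
      rw [← IsCharacter.inv (IsIrrCharacter.isCharacter (isIrrCharacter_linear ψ))]
      rfl
    have e2 : coef P (principal G) 1 = 1 := by
      apply Int.cast_injective (α := ℂ)
      rw [coef_eq, Int.cast_one]
      simp [Cfsg.Agent.Char.principal, Nat.card_eq_fintype_card]
    simp only [hv, bcoef_eq P _ hi hψ, e1, e2]
    norm_num
  have hsplit : ∀ {β : Type} [AddCommMonoid β] (f : IrrCharacter G → β),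
      ∑ χ ∈ S, f χ = ∑ k ∈ O, f (η k) + ∑ χ ∈ S \ Y, f χ := by
    intro β _ f
    rw [← Finset.sum_sdiff hYS, hY, Finset.sum_image hηinj, add_comm]
  refine ⟨
    { δ := δ
      d := d
      a := fun χ => -v i₀ χ
      η := η
      sign := hδ
      mem := hηmem
      inj := hηinj
      principal_notMem := ?_
      val_exc := ?_
      val_other := ?_
      norm := ?_
      regular_eq := ?_
      regular_sum := ?_ }⟩
  · intro hmem
    obtain ⟨k, hk, hkp⟩ := Finset.mem_image.1 hmem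
    obtain ⟨l, hlO, hlk⟩ : ∃ l ∈ O, l ≠ k := by
      by_contra hno
      push Not at hno
      have hle : O.card ≤ 1 := Finset.card_le_one.2 fun a ha b hb => (hno a ha).trans (hno b hb).symm
      omega
    have e1 := hvd k hk k hk
    have e2 := hvd l hlO k hk
    rw [hkp, hprin k hk, if_pos rfl, mul_one] at e1
    rw [hkp, hprin l hlO, if_neg (Ne.symm hlk), mul_zero] at e2
    rcases hδ with h1 | h1 <;> omega
  · intro k hk y hy
    rw [hexp (η k) y hy, Finset.sum_congr rfl fun i hi => by rw [hvd i hi k hk]]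
    push_cast
    simp only [sub_mul, Finset.sum_sub_distrib, ← Finset.mul_sum, h.sum_phi hy, mul_assoc,
      ite_mul, one_mul, zero_mul, Finset.sum_ite_eq, if_pos hk]
    simp only [hO, h.sum_phi hy, if_pos (hO ▸ hk : k ∈ orbits P)]
    ring
  · intro χ hχ
    have hval : ∀ y : (P : Subgroup G), y ≠ 1 → (χ : G → ℂ) y = ((-v i₀ χ : ℤ) : ℂ) := by
      intro y hy
      rw [hexp χ y hy, Finset.sum_congr rfl fun i hi => by rw [hvX χ hχ i hi], ← Finset.mul_sum,
        hO, h.sum_phi hy]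
      push_cast
      ring
    refine ⟨fun h0 => ?_, hval⟩
    obtain ⟨y, hy⟩ : ∃ y : (P : Subgroup G), y ≠ 1 := by
      by_contra hno
      push Not at hno
      haveI : Subsingleton (P : Subgroup G) := ⟨fun a b => (hno a).trans (hno b).symm⟩
      have := h.lt
      have h1 : Nat.card (P : Subgroup G) = 1 := Nat.card_unique
      change m + 1 < Nat.card (P : Subgroup G) at this
      omega
    refine h.value_ne_zero hM (mem_blockSet.1 (Finset.mem_sdiff.1 hχ).1) y.2 ?_
    rw [hval y hy, h0, Int.cast_zero]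
  · have e := hvv i₀ hi₀ i₀ hi₀
    rw [if_pos rfl, hsplit, Finset.sum_congr rfl fun k hk => by rw [hvd i₀ hi₀ k hk],
      ← Finset.add_sum_erase _ _ hi₀, Finset.sum_congr (rfl : O.erase i₀ = O.erase i₀) (g := fun _ => d ^ 2)
        (fun k hk => by rw [if_neg (Finset.ne_of_mem_erase hk)]; ring),
      Finset.sum_const, Finset.card_erase_of_mem hi₀, nsmul_eq_mul, Nat.cast_sub (by omega),
      if_pos rfl, mul_one] at e
    simp only [neg_sq]
    rw [Finset.sum_congr rfl (g := fun χ => v i₀ χ * v i₀ χ) fun χ _ => sq (v i₀ χ)]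
    push_cast at e ⊢
    linear_combination e
  · intro i hi j hj g hg
    have e : ∑ χ ∈ S, ((δ * ud (η i) (η j) χ : ℤ) : ℂ) * (χ : G → ℂ) g = 0 := by
      rw [Finset.sum_congr rfl fun χ hχ => by rw [← hηv i hi j hj χ hχ, Int.cast_sub, sub_mul],
        Finset.sum_sub_distrib, hvreg i hi g hg, hvreg j hj g hg, sub_zero]
    simp only [ud, Int.cast_mul, Int.cast_sub, Int.cast_ite, Int.cast_one, Int.cast_zero,
      mul_assoc, sub_mul, mul_sub, ite_mul, one_mul, zero_mul, Finset.sum_sub_distrib, mul_ite,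
      mul_zero, Finset.sum_ite_eq', hηmem i hi, hηmem j hj, if_true] at e
    have hδne : (δ : ℂ) ≠ 0 := by rcases hδ with rfl | rfl <;> norm_num
    exact mul_left_cancel₀ hδne (sub_eq_zero.1 e)
  · intro i hi g hg
    have hconst : ∀ k ∈ O, (η k : G → ℂ) g = (η i : G → ℂ) g := by
      intro k hk
      have e : ∑ χ ∈ S, ((δ * ud (η k) (η i) χ : ℤ) : ℂ) * (χ : G → ℂ) g = 0 := by
        rw [Finset.sum_congr rfl fun χ hχ => by rw [← hηv k hk i hi χ hχ, Int.cast_sub, sub_mul],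
          Finset.sum_sub_distrib, hvreg k hk g hg, hvreg i hi g hg, sub_zero]
      simp only [ud, Int.cast_mul, Int.cast_sub, Int.cast_ite, Int.cast_one, Int.cast_zero,
        mul_assoc, sub_mul, mul_sub, ite_mul, one_mul, zero_mul, Finset.sum_sub_distrib, mul_ite,
        mul_zero, Finset.sum_ite_eq', hηmem k hk, hηmem i hi, if_true] at e
      have hδne : (δ : ℂ) ≠ 0 := by rcases hδ with rfl | rfl <;> norm_num
      exact mul_left_cancel₀ hδne (sub_eq_zero.1 e)
    have e := hvreg i₀ hi₀ g hg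
    rw [hsplit, Finset.sum_congr rfl fun k hk => by rw [hvd i₀ hi₀ k hk, hconst k hk]] at e
    simp only [Int.cast_sub, Int.cast_mul, Int.cast_ite, Int.cast_one, Int.cast_zero, sub_mul,
      Finset.sum_sub_distrib, mul_ite, ite_mul, mul_one, mul_zero, zero_mul, Finset.sum_ite_eq',
      hi₀, if_true, Finset.sum_const, nsmul_eq_mul] at e
    simp only [Int.cast_neg, neg_mul, Finset.sum_neg_distrib]
    linear_combination -e

end Cfsg.Agent.ExPrincipal
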