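/-
Interface lemmas for the exceptional family.
-/
import Cfsg.Agent.Lib.Blocks.ExceptionalFamily

set_option linter.unusedSectionVars false
set_option linter.style.haveILetI false

namespace Cfsg.Agent.ExPrincipal

open Cfsg Cfsg.Agent.Char Cfsg.Agent.Blocks
open scoped Classical

universe u

variable {G : Type u} [Group G] [Fintype G] {p : ℕ}

theorem data_of_hyp {P : Sylow p G} {m : ℕ} (hab : IsMulCommutative P) (hm1 : 1 < m)
    (hm2 : m + 1 < Nat.card P)
    (hCN : (Subgroup.centralizer ((P : Subgroup G) : Set G)).relIndex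
      (Subgroup.normalizer ((P : Subgroup G) : Set G)) = m)
    (hfrob : ∀ y : G, y ∈ (P : Subgroup G) → y ≠ 1 →
      Subgroup.centralizer ({y} : Set G) ⊓ Subgroup.normalizer ((P : Subgroup G) : Set G) =
        Subgroup.centralizer ((P : Subgroup G) : Set G)) : Data P m where
  comm a ha b hb := congrArg Subtype.val (hab.is_comm.comm ⟨a, ha⟩ ⟨b, hb⟩)
  one_lt := hm1
  lt := hm2
  index := hCN
  fpf y hy hy1 n hn hc := by
    rw [← hfrob y hy hy1]
    exact ⟨Subgroup.mem_centralizer_singleton_iff.2 hc, hn⟩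

variable {P : Sylow p G} [Fintype (P : Subgroup G)] [Fintype (Dual (P : Subgroup G))]

theorem orbit_set_eq (ψ : Dual (P : Subgroup G)) :
    {ψ' : ↥(P : Subgroup G) →* ℂˣ | ∃ n : G, n ∈ Subgroup.normalizer ((P : Subgroup G) : Set G) ∧
      ∀ w w' : ↥(P : Subgroup G), (w' : G) = n * w * n⁻¹ → ψ' w' = ψ w} = ↑(orb P ψ) := by
  ext ψ'
  rw [Finset.mem_coe, mem_orb]
  rfl

theorem finsum_orbit (ψ : Dual (P : Subgroup G)) (y : (P : Subgroup G)) :
    ∑ᶠ ψ' ∈ {ψ' : ↥(P : Subgroup G) →* ℂˣ | ∃ n : G,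
      n ∈ Subgroup.normalizer ((P : Subgroup G) : Set G) ∧
        ∀ w w' : ↥(P : Subgroup G), (w' : G) = n * w * n⁻¹ → ψ' w' = ψ w}, ((ψ' y : ℂˣ) : ℂ) =
      phi P (orb P ψ) y := by
  rw [orbit_set_eq, finsum_mem_coe_finset, phi]

theorem orb_eq_of_rel {ψ ψ' : Dual (P : Subgroup G)}
    (hr : ∃ n : G, n ∈ Subgroup.normalizer ((P : Subgroup G) : Set G) ∧
      ∀ w w' : ↥(P : Subgroup G), (w' : G) = n * w * n⁻¹ → ψ' w' = ψ w) :
    orb P ψ' = orb P ψ :=
  orb_eq_of_mem P ((mem_orb P).2 hr)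

namespace Family

variable [Fact p.Prime] {m : ℕ} {M : Ideal AlgInt} [M.IsPrime] (F : Family P M m)

/-- The exceptional set. -/
noncomputable def Y : Finset (IrrCharacter G) := (orbits P).image F.η

/-- The others. -/
noncomputable def X : Finset (IrrCharacter G) := blockSet M G \ (orbits P).image F.η

theorem principalBlock_eq :
    principalBlock M G = (↑F.X : Set (IrrCharacter G)) ∪ ↑F.Y := by
  ext χ
  simp only [X, Y, Set.mem_union, Finset.mem_coe, Finset.mem_sdiff, mem_blockSet]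
  refine ⟨fun h => ?_, ?_⟩
  · by_cases hY : χ ∈ (orbits P).image F.η
    · exact Or.inr hY
    · exact Or.inl ⟨h, hY⟩
  · rintro (h | h)
    · exact h.1
    · obtain ⟨i, hi, rfl⟩ := Finset.mem_image.1 h
      exact mem_blockSet.1 (F.mem i hi)

theorem disjoint : Disjoint (↑F.X : Set (IrrCharacter G)) ↑F.Y :=
  Set.disjoint_left.2 fun _ h h' => (Finset.mem_sdiff.1 (Finset.mem_coe.1 h)).2 h'

theorem card_Y (h : Data P m) :
    Nat.card (↑F.Y : Set (IrrCharacter G)) = (Nat.card P - 1) / m := by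
  rw [Nat.card_coe_set_eq, Set.ncard_coe_finset, Y, Finset.card_image_of_injOn F.inj]
  have h1 := h.card_orbits_mul
  have := h.one_lt
  change _ = (Nat.card (P : Subgroup G) - 1) / m
  rw [← h1, Nat.mul_div_cancel _ (by omega)]

theorem principal_mem_X : principal G ∈ F.X :=
  Finset.mem_sdiff.2 ⟨mem_blockSet.2 principal_mem_principalBlock, F.principal_notMem⟩

theorem value_other (h : Data P m) (hM : IsPModular p M) {χ : IrrCharacter G} (hχ : χ ∈ F.X)
    {z y : G} (hz : IsPPart p z y) (hy : y ∈ (P : Subgroup G)) (hy1 : y ≠ 1) :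
    (χ : G → ℂ) z = (F.a χ : ℂ) := by
  rw [h.section_const hM (mem_blockSet.1 (Finset.mem_sdiff.1 hχ).1) hz hy hy1]
  exact (F.val_other χ hχ).2 ⟨y, hy⟩ fun e => hy1 (congrArg Subtype.val e)

theorem value_exc (h : Data P m) (hM : IsPModular p M) {ψ : Dual (P : Subgroup G)} (hψ : ψ ≠ 1)
    {z : G} {y : (P : Subgroup G)} (hz : IsPPart p z y) (hy1 : (y : G) ≠ 1) :
    (F.η (orb P ψ) : G → ℂ) z = (F.d : ℂ) + (F.δ : ℂ) * phi P (orb P ψ) y := by
  rw [h.section_const hM (mem_blockSet.1 (F.mem _ (orb_mem_orbits P hψ))) hz y.2 hy1]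
  exact F.val_exc _ (orb_mem_orbits P hψ) y fun e => hy1 (congrArg Subtype.val e)

theorem a_principal (h : Data P m) : F.a (principal G) = 1 := by
  obtain ⟨y, hy⟩ : ∃ y : (P : Subgroup G), y ≠ 1 := by
    by_contra hno
    push Not at hno
    haveI : Subsingleton (P : Subgroup G) := ⟨fun a b => (hno a).trans (hno b).symm⟩
    have := h.lt
    have h1 : Nat.card (P : Subgroup G) = 1 := Nat.card_unique
    change m + 1 < Nat.card (P : Subgroup G) at this
    omega
  have := (F.val_other _ F.principal_mem_X).2 y hy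
  exact Int.cast_injective (α := ℂ) (this.symm.trans Int.cast_one.symm)

theorem sum_sq_le (h : Data P m) : ∑ χ ∈ F.X, F.a χ ^ 2 ≤ m := by
  have h2 := h.two_le_card_orbits
  have e := F.norm
  change _ + ∑ χ ∈ F.X, F.a χ ^ 2 = _ at e
  have h3 : (1 : ℤ) ≤ (F.d - F.δ) ^ 2 + (((orbits P).card : ℤ) - 1) * F.d ^ 2 := by
    have h4 : (2 : ℤ) ≤ (orbits P).card := by exact_mod_cast h2
    by_cases hd : F.d = 0
    · rw [hd]; rcases F.sign with e' | e' <;> rw [e'] <;> norm_num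
    · have h5 : (1 : ℤ) ≤ F.d ^ 2 := by have := mul_self_pos.2 hd; nlinarith
      nlinarith [sq_nonneg (F.d - F.δ)]
  linarith

theorem card_X_le (h : Data P m) : F.X.card ≤ m := by
  have h1 : (F.X.card : ℤ) ≤ ∑ χ ∈ F.X, F.a χ ^ 2 := by
    rw [Finset.card_eq_sum_ones]
    push_cast
    refine Finset.sum_le_sum fun χ hχ => ?_
    have := mul_self_pos.2 (F.val_other χ hχ).1
    nlinarith
  exact_mod_cast h1.trans (F.sum_sq_le h)

theorem exists_preimage {η : IrrCharacter G} (hη : η ∈ F.Y) :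
    ∃ ψ : Dual (P : Subgroup G), ψ ≠ 1 ∧ F.η (orb P ψ) = η := by
  obtain ⟨i, hi, rfl⟩ := Finset.mem_image.1 hη
  obtain ⟨ψ, hψ, rfl⟩ := (mem_orbits P).1 hi
  exact ⟨ψ, hψ, rfl⟩

end Family

end Cfsg.Agent.ExPrincipal
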