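/-
Four characters with three vanishing sums.
-/
import Mathlib.Algebra.Ring.Int.Parity
import Mathlib.Data.Rat.Lemmas
import Mathlib.Tactic

namespace Cfsg.Agent.ExPrincipal

/-- One sign against two. -/
theorem not_one_two {D E F u v w : ℚ} (hE : 0 < E) (hF : 0 < F) (hD : D = 1 + E + F)
    (hu : u = v + w) (h2 : u ^ 2 / D = v ^ 2 / E + w ^ 2 / F) : v = 0 := by
  subst hD hu
  have hD : (0 : ℚ) < 1 + E + F := by linarith
  rw [div_add_div _ _ hE.ne' hF.ne', div_eq_div_iff hD.ne' (mul_pos hE hF).ne'] at h2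
  have key : (E * w - F * v) ^ 2 + v ^ 2 * F + E * w ^ 2 = 0 := by linear_combination -h2
  have h1 : v ^ 2 * F = 0 := by
    nlinarith [sq_nonneg (E * w - F * v), mul_nonneg (sq_nonneg v) hF.le,
      mul_nonneg (sq_nonneg w) hE.le]
  exact pow_eq_zero_iff two_ne_zero |>.1 ((mul_eq_zero.1 h1).resolve_right hF.ne')

/-- The square. -/
theorem square_of_two {D E F : ℕ} {u v w : ℚ} (hD0 : 0 < D) (hE : 0 < E) (hF : 0 < F)
    (hD : 1 + D = E + F) (hu : u = v + w) (hw : w ≠ 0)
    (h2 : u ^ 2 / D = v ^ 2 / E + w ^ 2 / F) : IsSquare (D * E * F) := by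
  subst hu
  have hDq : (0 : ℚ) < D := by exact_mod_cast hD0
  have hEq : (0 : ℚ) < E := by exact_mod_cast hE
  have hFq : (0 : ℚ) < F := by exact_mod_cast hF
  have hD' : (1 : ℚ) + D = E + F := by exact_mod_cast hD
  rw [div_add_div _ _ hEq.ne' hFq.ne', div_eq_div_iff hDq.ne' (mul_pos hEq hFq).ne'] at h2
  have key : ((F : ℚ) * (E - D) * v + E * F * w) ^ 2 = w ^ 2 * ((D * E * F : ℕ) : ℚ) := by
    push_cast
    linear_combination ((F : ℚ) * (E - D)) * h2 - (E : ℚ) * F * w ^ 2 * D * hD'
  have : IsSquare (((D * E * F : ℕ) : ℚ)) := by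
    refine ⟨((F : ℚ) * (E - D) * v + E * F * w) / w, ?_⟩
    field_simp
    push_cast at key ⊢
    linear_combination -key
  exact Rat.isSquare_natCast_iff.1 this

/-- Two signs are negative and the product of the degrees is a square. -/
theorem signs {a b c : ℤ} {D E F : ℕ} {u v w : ℚ} (ha : a = 1 ∨ a = -1) (hb : b = 1 ∨ b = -1)
    (hc : c = 1 ∨ c = -1) (hD : 0 < D) (hE : 0 < E) (hF : 0 < F) (hu : u ≠ 0) (hv : v ≠ 0)
    (hw : w ≠ 0) (h0 : 1 + a * (D : ℤ) + b * (E : ℤ) + c * (F : ℤ) = 0)
    (h1 : (a : ℚ) * u + b * v + c * w = 0)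
    (h2 : (a : ℚ) * (u ^ 2 / D) + b * (v ^ 2 / E) + c * (w ^ 2 / F) = 0) :
    a + b + c = -1 ∧ IsSquare (D * E * F) := by
  have hDq : (0 : ℚ) < D := by exact_mod_cast hD
  have hEq : (0 : ℚ) < E := by exact_mod_cast hE
  have hFq : (0 : ℚ) < F := by exact_mod_cast hF
  rcases ha with rfl | rfl <;> rcases hb with rfl | rfl <;> rcases hc with rfl | rfl <;>
    push_cast at h1 h2
  · omega
  · exact absurd (not_one_two (D := (F : ℚ)) (E := D) (F := E) hDq hEq
      (by have : (F : ℤ) = 1 + D + E := by omega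
          exact_mod_cast this) (by linarith : w = u + v) (by linarith)) hu
  · exact absurd (not_one_two (D := (E : ℚ)) (E := D) (F := F) hDq hFq
      (by have : (E : ℤ) = 1 + D + F := by omega
          exact_mod_cast this) (by linarith : v = u + w) (by linarith)) hu
  · exact ⟨rfl, square_of_two hD hE hF (by omega) (by linarith : u = v + w) hw (by linarith)⟩
  · exact absurd (not_one_two (D := (D : ℚ)) (E := E) (F := F) hEq hFq
      (by have : (D : ℤ) = 1 + E + F := by omega
          exact_mod_cast this) (by linarith : u = v + w) (by linarith)) hv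
  · refine ⟨rfl, ?_⟩
    have := square_of_two hE hD hF (by omega) (by linarith : v = u + w) hw (by linarith)
    rwa [mul_comm E D] at this
  · refine ⟨rfl, ?_⟩
    have := square_of_two hF hD hE (by omega) (by linarith : w = u + v) hv (by linarith)
    rwa [mul_assoc, mul_comm F] at this
  · omega

/-- The impossible configuration for the prime two. -/
theorem eq_three {X Z H : ℤ} {q : ℤ} (hq : q = 16 ∨ q = 64 ∨ 128 ≤ q) (h1 : 1 + X + Z = H)
    (h2 : (X * Z + X + Z) * H = 9 * X * Z) (hH : q ∣ H - 3) (hH0 : H ≠ 0) :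
    X = 1 ∧ Z = 1 := by
  have e : X * Z * (H - 9) = -(H * (H - 1)) := by subst h1; linear_combination h2
  have hdvd : H - 9 ∣ 72 := by
    refine ⟨-(X * Z) - (H + 8), ?_⟩
    linear_combination e
  have hne : H - 9 ≠ 0 := by
    intro h0
    rw [h0, mul_zero] at e
    have : H * (H - 1) = 0 := by linarith
    rcases mul_eq_zero.1 this with h | h <;> omega
  have habs : |H - 9| ≤ 72 := Int.le_of_dvd (by norm_num) ((abs_dvd _ _).2 hdvd)
  obtain ⟨hlo, hhi⟩ := abs_le.1 habs
  have h3 : H = 3 := by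
    obtain ⟨k, hk⟩ := hH
    rcases hq with rfl | rfl | hq
    · have : k = -4 ∨ k = -3 ∨ k = -2 ∨ k = -1 ∨ k = 0 ∨ k = 1 ∨ k = 2 ∨ k = 3 ∨ k = 4 := by omega
      have hH' : H = 3 + 16 * k := by omega
      rcases this with rfl | rfl | rfl | rfl | rfl | rfl | rfl | rfl | rfl <;>
        first | omega | (subst hH'; exact absurd hdvd (by decide))
    · have : k = -1 ∨ k = 0 ∨ k = 1 := by omega
      have hH' : H = 3 + 64 * k := by omega
      rcases this with rfl | rfl | rfl <;>
        first | omega | (subst hH'; exact absurd hdvd (by decide))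
    · have : k = 0 := by
        by_contra hk0
        rcases lt_or_gt_of_ne hk0 with h | h <;> nlinarith
      subst this; omega
  subst h3
  clear hdvd
  have hXZ : X * Z = 1 := by linarith
  rcases Int.eq_one_or_neg_one_of_mul_eq_one' hXZ with h | h <;> omega

end Cfsg.Agent.ExPrincipal
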