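/-
Inertial index three: the constant is zero and the signs are determined by an involution.
-/
import Cfsg.Agent.Lib.Blocks.ExceptionalSetup
import Cfsg.Agent.Lib.Blocks.ExceptionalSigns
import Cfsg.Agent.Lib.Blocks.Misc
import Mathlib.Algebra.Group.Pointwise.Finset.Basic

set_option linter.unusedSectionVars false
set_option linter.style.haveILetI false

namespace Cfsg.Agent.ExPrincipal

open Cfsg Cfsg.Agent.Char Cfsg.Agent.Blocks Cfsg.Agent.BrauerPairs
open scoped ComplexConjugate Classical Pointwise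

universe u

variable {G : Type u} [Group G] [Fintype G] {p : ℕ} [Fact p.Prime] {P : Sylow p G}
  [Fintype (P : Subgroup G)] [Fintype (Dual (P : Subgroup G))] {M : Ideal AlgInt} [M.IsPrime]

theorem degree_ge_one (χ : IrrCharacter G) : (1 : ℤ) ≤ (charDegree (χ : G → ℂ) : ℤ) := by
  exact_mod_cast charDegree_pos χ

namespace Family

variable {m : ℕ} (F : Family P M m)

theorem degree_sum {i : Finset (Dual (P : Subgroup G))} (hi : i ∈ orbits P) :
    (((orbits P).card : ℤ) * F.d - F.δ) * (charDegree (F.η i : G → ℂ) : ℤ) +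
      ∑ χ ∈ F.X, F.a χ * (charDegree (χ : G → ℂ) : ℤ) = 0 := by
  have e := F.regular_sum i hi 1 (by simpa using (Fact.out : p.Prime).ne_one)
  simp only [irr_one_eq_charDegree] at e
  apply Int.cast_injective (α := ℂ)
  push_cast
  exact e

end Family

variable (h : Data P 3)

include h

theorem three_mul_card : (orbits P).card * 3 + 1 = Nat.card (P : Subgroup G) := by
  have := h.card_orbits_mul
  have h2 : 0 < Nat.card (P : Subgroup G) := Nat.card_pos
  omega

/-- The constant can be made zero. -/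
theorem exists_family_zero (hM : IsPModular p M) : ∃ F : Family P M 3, F.d = 0 := by
  obtain ⟨F⟩ := exists_family h hM
  by_cases hd : F.d = 0
  · exact ⟨F, hd⟩
  have hr := h.two_le_card_orbits
  have hsum1 : (1 : ℤ) ≤ ∑ χ ∈ F.X, F.a χ ^ 2 := by
    refine le_trans ?_ (Finset.single_le_sum (fun χ _ => sq_nonneg (F.a χ)) F.principal_mem_X)
    rw [F.a_principal h]; norm_num
  have hnorm := F.norm
  change _ + ∑ χ ∈ F.X, F.a χ ^ 2 = _ at hnorm
  push_cast at hnorm
  have hr' : (2 : ℤ) ≤ (orbits P).card := by exact_mod_cast hr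
  have hd1 : (1 : ℤ) ≤ F.d ^ 2 := by have := mul_self_pos.2 hd; nlinarith
  have hdδ : F.d = F.δ := by
    by_contra hne
    have hne' : (F.d - F.δ) ≠ 0 := sub_ne_zero.2 hne
    have h1 : (1 : ℤ) ≤ (F.d - F.δ) ^ 2 := by have := mul_self_pos.2 hne'; nlinarith
    rcases F.sign with e | e <;>
    · rw [e] at hne h1 hnorm
      rcases lt_trichotomy F.d 0 with hl | hl | hl
      · have : F.d ≤ -1 := by omega
        by_cases h2 : F.d = -1
        · rw [h2] at hnorm hne; norm_num at hnorm hne <;> nlinarith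
        · have h3 : F.d ≤ -2 := by omega
          nlinarith
      · exact hd hl
      · by_cases h2 : F.d = 1
        · rw [h2] at hnorm hne; norm_num at hnorm hne <;> nlinarith
        · have h3 : 2 ≤ F.d := by omega
          nlinarith
  have hδ2 : F.δ ^ 2 = 1 := by rcases F.sign with e | e <;> rw [e] <;> norm_num
  rw [hdδ, sub_self, hδ2] at hnorm
  have hcard := three_mul_card h
  obtain ⟨k, hk⟩ := (P.isPGroup').exists_card_eq
  rcases (show (orbits P).card = 2 ∨ (orbits P).card = 3 ∨ (orbits P).card = 4 by omega) with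
    h2 | h2 | h2
  · -- relabel
    obtain ⟨i₁, i₂, hne, hO⟩ := Finset.card_eq_two.1 h2
    let sw := Equiv.swap i₁ i₂
    have hsw : ∀ i ∈ orbits P, sw i ∈ orbits P := by
      intro i hi
      rw [hO] at hi ⊢
      rcases Finset.mem_insert.1 hi with rfl | hi
      · simp [sw]
      · rw [Finset.mem_singleton] at hi; subst hi; simp [sw]
    have himg : (orbits P).image (F.η ∘ sw) = (orbits P).image F.η := by
      rw [hO]; simp [sw, Finset.pair_comm]
    refine ⟨{ δ := -F.δ, d := 0, a := F.a, η := F.η ∘ sw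
              sign := by rcases F.sign with e | e <;> rw [e] <;> norm_num
              mem := fun i hi => F.mem _ (hsw i hi)
              inj := fun i hi j hj e => sw.injective (F.inj (hsw i hi) (hsw j hj) e)
              principal_notMem := by rw [himg]; exact F.principal_notMem
              val_exc := ?_
              val_other := by rw [himg]; exact F.val_other
              norm := ?_
              regular_eq := fun i hi j hj g hg => F.regular_eq _ (hsw i hi) _ (hsw j hj) g hg
              regular_sum := ?_ }, rfl⟩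
    · intro i hi y hy
      rw [Function.comp_apply, F.val_exc _ (hsw i hi) y hy, hdδ]
      have hs := h.sum_phi hy
      rw [hO, Finset.sum_pair hne] at hs
      rw [hO] at hi
      rcases Finset.mem_insert.1 hi with rfl | hi
      · simp only [sw, Equiv.swap_apply_left]
        push_cast
        linear_combination (F.δ : ℂ) * hs
      · rw [Finset.mem_singleton] at hi
        subst hi
        simp only [sw, Equiv.swap_apply_right]
        push_cast
        linear_combination (F.δ : ℂ) * hs
    · rw [himg, h2]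
      change _ + ∑ χ ∈ F.X, F.a χ ^ 2 = _
      rw [h2] at hnorm
      push_cast at hnorm ⊢
      linear_combination hnorm + hδ2
    · intro i hi g hg
      rw [himg, Function.comp_apply]
      have e := F.regular_sum _ (hsw i hi) g hg
      rw [h2, hdδ] at e
      rw [h2]
      push_cast at e ⊢
      linear_combination e
  · exfalso
    rw [h2] at hcard
    have hp := (Fact.out : p.Prime)
    have h25 : 2 ∣ p ^ k ∧ 5 ∣ p ^ k := by rw [← hk, ← hcard]; norm_num
    have e2 := (Nat.prime_dvd_prime_iff_eq Nat.prime_two hp).1 (Nat.prime_two.dvd_of_dvd_pow h25.1)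
    have e5 := (Nat.prime_dvd_prime_iff_eq Nat.prime_five hp).1 (Nat.prime_five.dvd_of_dvd_pow h25.2)
    omega
  · exfalso
    rw [h2] at hnorm
    push_cast at hnorm
    have hsingle : F.X = {principal G} := by
      refine Finset.eq_singleton_iff_unique_mem.2 ⟨F.principal_mem_X, fun χ hχ => ?_⟩
      by_contra hne
      have h1 : F.a (principal G) ^ 2 + F.a χ ^ 2 ≤ ∑ ψ ∈ F.X, F.a ψ ^ 2 := by
        rw [← Finset.sum_pair (f := fun ψ => F.a ψ ^ 2) (Ne.symm hne)]
        refine Finset.sum_le_sum_of_subset_of_nonneg ?_ fun ψ _ _ => sq_nonneg _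
        intro ψ hψ
        rcases Finset.mem_insert.1 hψ with rfl | hψ
        · exact F.principal_mem_X
        · rw [Finset.mem_singleton.1 hψ]; exact hχ
      have h3 := mul_self_pos.2 (F.val_other χ hχ).1
      rw [F.a_principal h] at h1
      nlinarith
    obtain ⟨i, hi⟩ := Finset.card_pos.1 (by omega : 0 < (orbits P).card)
    have e := F.degree_sum hi
    rw [hsingle, Finset.sum_singleton, F.a_principal h, h2, hdδ] at e
    have h1 := degree_ge_one (F.η i)
    have h3 : (charDegree (principal G : G → ℂ) : ℤ) = 1 := by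
      simp [Cfsg.Agent.Char.principal, charDegree]
    rw [h3] at e
    rcases F.sign with e' | e' <;> rw [e'] at e <;> push_cast at e <;> omega

variable {F : Family P M 3} (hF : F.d = 0)

include hF

theorem sum_sq : ∑ χ ∈ F.X, F.a χ ^ 2 = 3 := by
  have e := F.norm
  change _ + ∑ χ ∈ F.X, F.a χ ^ 2 = _ at e
  rw [hF] at e
  rcases F.sign with e' | e' <;> rw [e'] at e <;> push_cast at e <;> linarith

theorem sign_other {χ : IrrCharacter G} (hχ : χ ∈ F.X) : F.a χ = 1 ∨ F.a χ = -1 := by
  by_cases h1 : χ = principal G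
  · exact Or.inl (h1 ▸ F.a_principal h)
  have hs := sum_sq h hF
  rw [← Finset.add_sum_erase _ _ F.principal_mem_X, F.a_principal h,
    ← Finset.add_sum_erase (F.X.erase (principal G)) _ (Finset.mem_erase.2 ⟨h1, hχ⟩)] at hs
  have h0 := (F.val_other χ hχ).1
  have hr : (0 : ℤ) ≤ ∑ ψ ∈ (F.X.erase (principal G)).erase χ, F.a ψ ^ 2 :=
    Finset.sum_nonneg fun ψ _ => sq_nonneg _
  rcases lt_or_gt_of_ne h0 with h2 | h2
  · refine Or.inr ?_
    by_contra hne
    have : F.a χ ≤ -2 := by omega
    nlinarith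
  · refine Or.inl ?_
    by_contra hne
    have : 2 ≤ F.a χ := by omega
    nlinarith

theorem card_X : F.X.card = 3 := by
  have hs := sum_sq h hF
  rw [Finset.sum_congr rfl (g := fun _ => (1 : ℤ)) fun χ hχ => by
    rcases sign_other h hF hχ with e | e <;> rw [e] <;> norm_num] at hs
  have h3 : (F.X.card : ℤ) = 3 := by simpa using hs
  exact_mod_cast h3

theorem X_eq : ∃ χ₂ χ₃ : IrrCharacter G, χ₂ ≠ χ₃ ∧ χ₂ ≠ principal G ∧ χ₃ ≠ principal G ∧
    F.X = {principal G, χ₂, χ₃} := by
  have hc : (F.X.erase (principal G)).card = 2 := by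
    rw [Finset.card_erase_of_mem F.principal_mem_X, card_X h hF]
  obtain ⟨χ₂, χ₃, hne, he⟩ := Finset.card_eq_two.1 hc
  refine ⟨χ₂, χ₃, hne, ?_, ?_, ?_⟩
  · exact Finset.ne_of_mem_erase (he ▸ Finset.mem_insert_self χ₂ {χ₃} :
      χ₂ ∈ F.X.erase (principal G))
  · exact Finset.ne_of_mem_erase (he ▸ Finset.mem_insert_of_mem (Finset.mem_singleton_self χ₃) :
      χ₃ ∈ F.X.erase (principal G))
  · rw [← he, Finset.insert_erase F.principal_mem_X]

omit hF

/-! ### Involutions -/

/-- Elements of order prime to three in the normalizer modulo the centralizer. -/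
theorem not_inverting {y : G} (hy : y ∈ (P : Subgroup G)) (hyy : y * y ≠ 1) {u : G}
    (hu : u * y * u⁻¹ = y⁻¹) : False := by
  obtain ⟨n, hn, hny⟩ := h.fusion hy (g := u) (by rw [hu]; exact inv_mem hy)
  rw [hu] at hny
  have hy1 : y ≠ 1 := fun e => hyy (by rw [e, mul_one])
  have h2 : n * n * y = y * (n * n) := by
    have : n * n * y * (n * n)⁻¹ = y := by
      rw [show n * n * y * (n * n)⁻¹ = n * (n * y * n⁻¹) * n⁻¹ by group, hny,
        show n * y⁻¹ * n⁻¹ = (n * y * n⁻¹)⁻¹ by group, hny, inv_inv]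
    exact mul_inv_eq_iff_eq_mul.1 this
  set N := Subgroup.normalizer ((P : Subgroup G) : Set G)
  set C := (Subgroup.centralizer ((P : Subgroup G) : Set G)).subgroupOf N
  haveI : C.Normal := by
    show ((Subgroup.centralizer ((P : Subgroup G) : Set G)).subgroupOf N).Normal
    rw [← Subgroup.normalizerMonoidHom_ker]
    infer_instance
  let q : N ⧸ C := QuotientGroup.mk ⟨n, hn⟩
  have hq2 : q ^ 2 = 1 := by
    rw [← QuotientGroup.mk_pow, QuotientGroup.eq_one_iff, Subgroup.mem_subgroupOf, sq]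
    exact h.fpf y hy hy1 _ (mul_mem hn hn) h2
  have hq3 : q ^ 3 = 1 := by
    rw [← h.index]
    exact pow_card_eq_one'
  have hq : q = 1 := by
    rw [show q = q ^ 3 * (q ^ 2)⁻¹ by group, hq2, hq3, inv_one, mul_one]
  rw [QuotientGroup.eq_one_iff, Subgroup.mem_subgroupOf] at hq
  refine hyy ?_
  have h3 : n * y * n⁻¹ = y := by
    rw [← Subgroup.mem_centralizer_iff.1 hq y hy]; simp
  rw [h3] at hny
  nth_rw 2 [hny]
  exact mul_inv_cancel y

/-- The sum of the squares at an involution vanishes on sections without products. -/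
theorem sum_sq_section (hM : IsPModular p M) {t : G} (ht : t * t = 1) {y : G}
    (hy : y ∈ (P : Subgroup G))
    (hno : ∀ g v : G, IsPPart p g y → IsConj t v → IsConj t (g * v) → False) :
    ∑ χ ∈ blockSet M G, (χ : G → ℂ) t ^ 2 / (χ : G → ℂ) 1 * (χ : G → ℂ) y = 0 := by
  let F₀ : G → ℂ := ∑ χ : IrrCharacter G, ((χ : G → ℂ) t ^ 2 / (χ : G → ℂ) 1) • (χ : G → ℂ)
  have hcoef : ∀ ψ : IrrCharacter G, classInner F₀ (ψ : G → ℂ) =
      (ψ : G → ℂ) t ^ 2 / (ψ : G → ℂ) 1 := fun ψ => by
    simp only [F₀]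
    rw [classInner_sum_left, Finset.sum_eq_single ψ, classInner_smul_left,
      classInner_self_irr ψ.2, mul_one]
    · intro χ _ hne
      rw [classInner_smul_left, classInner_irr_of_ne χ.2 ψ.2 fun e => hne (Subtype.ext e), mul_zero]
    · exact fun e => absurd (Finset.mem_univ ψ) e
  have hgoal : ∑ χ ∈ blockSet M G, (χ : G → ℂ) t ^ 2 / (χ : G → ℂ) 1 * (χ : G → ℂ) y =
      blockPart (principalBlock M G) F₀ y := by
    rw [blockPart_eq_sum]
    exact Finset.sum_congr (by ext; simp [blockSet]) fun χ _ => by rw [hcoef]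
  rw [hgoal, blockPart_eq_pair, Finset.sum_eq_zero, mul_zero]
  intro g _
  obtain ⟨a, ha⟩ := exists_isPPart (p := p) hM.1 g
  by_cases hya : IsConj y a
  swap
  · rw [blockPair_eq_zero_of_pPart hM (isPBlock_principalBlock M G)
      (isPPart_self hM.1 (h.exists_orderOf hy)) ha hya, mul_zero]
  refine mul_eq_zero_of_left ?_ _
  set T := classFinset t with hT
  have hTinv : ∀ u v : G, v ∈ T → u * v * u⁻¹ ∈ T := fun u v hv =>
    mem_classFinset.2 ((mem_classFinset.1 hv).trans (isConj_iff.2 ⟨u, rfl⟩))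
  have hti : t⁻¹ = t := inv_eq_of_mul_eq_one_right ht
  have hTne : (T.card : ℂ) ≠ 0 :=
    Nat.cast_ne_zero.2 (Finset.card_pos.2 ⟨t, mem_classFinset.2 (IsConj.refl t)⟩).ne'
  refine (mul_eq_zero.1 (?_ : (T.card : ℂ) * F₀ g = 0)).resolve_left hTne
  calc (T.card : ℂ) * F₀ g
      = ∑ u ∈ T, ∑ χ : IrrCharacter G, (χ : G → ℂ) (g * u) * conj ((χ : G → ℂ) t) := by
        rw [Finset.sum_comm]
        simp only [F₀, Finset.sum_apply, Pi.smul_apply, smul_eq_mul, Finset.mul_sum]
        refine Finset.sum_congr rfl fun χ _ => ?_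
        rw [← Finset.sum_mul, sum_mul_invariant χ T hTinv g, ← irr_inv, hti,
          Finset.sum_congr rfl fun v hv => (show (χ : G → ℂ) v = (χ : G → ℂ) t by
            obtain ⟨c, rfl⟩ := isConj_iff.1 (mem_classFinset.1 hv)
            exact irr_conj_invariant χ t c), Finset.sum_const, nsmul_eq_mul]
        ring
    _ = 0 := Finset.sum_eq_zero fun u hu => column_orth_of_not_isConj fun hc => ?_
  obtain ⟨k, hk⟩ := isConj_iff.1 hya
  have h1 := IsPPart.conj ha k⁻¹
  rw [inv_inv, show k⁻¹ * a * k = y by rw [← hk]; group] at h1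
  refine hno _ (k⁻¹ * u * k) h1
    ((mem_classFinset.1 hu).trans (isConj_iff.2 ⟨k⁻¹, by rw [inv_inv]⟩)) ?_
  rw [show k⁻¹ * g * k * (k⁻¹ * u * k) = k⁻¹ * (g * u) * k by group]
  exact hc.symm.trans (isConj_iff.2 ⟨k⁻¹, by rw [inv_inv]⟩)

theorem inverting_of_product {t g y v : G} (ht : t * t = 1) (hg : IsPPart p g y)
    (hv : IsConj t v) (hgv : IsConj t (g * v)) :
    v * v = 1 ∧ g * v * (g * v) = 1 ∧ v * y * v⁻¹ = y⁻¹ := by
  have hsq : ∀ w, IsConj t w → w * w = 1 := fun w hw => by
    obtain ⟨c, rfl⟩ := isConj_iff.1 hw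
    rw [show c * t * c⁻¹ * (c * t * c⁻¹) = c * (t * t) * c⁻¹ by group, ht, mul_one, mul_inv_cancel]
  refine ⟨hsq v hv, hsq _ hgv, ?_⟩
  have hvg : v * g * v⁻¹ = g⁻¹ := by
    rw [inv_eq_of_mul_eq_one_right (hsq v hv)]
    refine eq_inv_of_mul_eq_one_right ?_
    rw [← mul_assoc, ← mul_assoc, mul_assoc, hsq _ hgv]
  have h1 : IsPPart p (v * g * v⁻¹) (v * y * v⁻¹) := IsPPart.conj hg v
  rw [hvg] at h1
  exact isPPart_unique (Fact.out : p.Prime) h1 (IsPPart.inv hg)

end Cfsg.Agent.ExPrincipal
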