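/-
Inertial index three: an involution outside all proper normal subgroups.
-/
import Cfsg.Agent.Lib.Blocks.ExceptionalThree

set_option linter.unusedSectionVars false
set_option linter.style.haveILetI false

namespace Cfsg.Agent.ExPrincipal

open Cfsg Cfsg.Agent.Char Cfsg.Agent.Blocks Cfsg.Agent.BrauerPairs
open scoped ComplexConjugate Classical Pointwise

universe u

variable {G : Type u} [Group G] [Fintype G] {p : ℕ} [Fact p.Prime] {P : Sylow p G}
  [Fintype (P : Subgroup G)] [Fintype (Dual (P : Subgroup G))] {M : Ideal AlgInt} [M.IsPrime]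

/-- A character trivial at an element generating normally is principal. -/
theorem eq_principal_of_kernel {t : G} (hgen : ∀ K : Subgroup G, K.Normal → t ∈ K → K = ⊤)
    {χ : IrrCharacter G} (hχ : (χ : G → ℂ) t = (χ : G → ℂ) 1) : χ = principal G := by
  obtain ⟨K, hKn, hK, -⟩ := IsCharacter.exists_kernel (irr_isCharacter χ)
  have htop := hgen K hKn ((hK t).2 hχ)
  have hconst : ∀ g, (χ : G → ℂ) g = (χ : G → ℂ) 1 := fun g => (hK g).1 (htop ▸ Subgroup.mem_top g)
  by_contra hne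
  have h0 := classInner_irr_of_ne χ.2 (principal G).2 fun e => hne (Subtype.ext e)
  unfold classInner at h0
  simp only [hconst, Cfsg.Agent.Char.principal, map_one, mul_one, Finset.sum_const, Finset.card_univ,
    nsmul_eq_mul] at h0
  rw [← Nat.card_eq_fintype_card, inv_mul_cancel_left₀ (Nat.cast_ne_zero.2 Nat.card_pos.ne')] at h0
  exact irr_one_ne_zero χ h0

theorem Family.sum_blockSet {m : ℕ} (F : Family P M m) (f : IrrCharacter G → ℂ) :
    ∑ χ ∈ blockSet M G, f χ = ∑ χ ∈ F.X, f χ + ∑ i ∈ orbits P, f (F.η i) := by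
  have hsub : (orbits P).image F.η ⊆ blockSet M G := fun χ hχ => by
    obtain ⟨i, hi, rfl⟩ := Finset.mem_image.1 hχ
    exact F.mem i hi
  rw [← Finset.sum_sdiff hsub, Finset.sum_image F.inj]
  rfl

variable (h : Data P 3) {F : Family P M 3} (hF : F.d = 0)

include h hF

/-- The signs and the square, odd prime. -/
theorem odd_case (hM : IsPModular p M) (hp : p ≠ 2) {t : G} (ht : orderOf t = 2)
    (hgen : ∀ K : Subgroup G, K.Normal → t ∈ K → K = ⊤) {χ₂ χ₃ : IrrCharacter G}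
    (h23 : χ₂ ≠ χ₃) (h2 : χ₂ ≠ principal G) (h3 : χ₃ ≠ principal G)
    (hX : F.X = {principal G, χ₂, χ₃}) {i₀ : Finset (Dual (P : Subgroup G))}
    (hi₀ : i₀ ∈ orbits P) :
    F.a χ₂ + F.a χ₃ + -F.δ = -1 ∧ IsSquare (charDegree (χ₂ : G → ℂ) *
      charDegree (χ₃ : G → ℂ) * charDegree (F.η i₀ : G → ℂ)) := by
  have hpr := (Fact.out : p.Prime)
  have htt : t * t = 1 := by rw [← sq, ← ht, pow_orderOf_eq_one]
  have htreg : ¬ p ∣ orderOf t := by
    rw [ht]; intro hd; exact hp ((Nat.prime_dvd_prime_iff_eq hpr Nat.prime_two).1 hd)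
  obtain ⟨y, hy⟩ : ∃ y : (P : Subgroup G), y ≠ 1 := by
    by_contra hno
    push Not at hno
    haveI : Subsingleton (P : Subgroup G) := ⟨fun a b => (hno a).trans (hno b).symm⟩
    have := h.lt
    have h1 : Nat.card (P : Subgroup G) = 1 := Nat.card_unique
    change 3 + 1 < Nat.card (P : Subgroup G) at this
    omega
  have hyy : (y : G) * y ≠ 1 := by
    intro e
    obtain ⟨k, hk⟩ := h.exists_orderOf y.2
    have hd : orderOf (y : G) ∣ 2 := orderOf_dvd_iff_pow_eq_one.2 (by rw [sq, e])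
    rcases Nat.eq_zero_or_pos k with rfl | hk0
    · exact hy (Subtype.ext (orderOf_eq_one_iff.1 (hk.trans (pow_zero p))))
    · exact hp ((Nat.prime_dvd_prime_iff_eq hpr Nat.prime_two).1
        ((dvd_pow_self p hk0.ne').trans (hk ▸ hd)))
  have hsq := sum_sq_section h hM htt y.2 fun g v hg hv hgv =>
    not_inverting h y.2 hyy (inverting_of_product h htt hg hv hgv).2.2
  obtain ⟨T₂, hT₂, -⟩ := char_involution χ₂ ht
  obtain ⟨T₃, hT₃, -⟩ := char_involution χ₃ ht
  obtain ⟨T₄, hT₄, -⟩ := char_involution (F.η i₀) ht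
  have hmem1 : principal G ∉ ({χ₂, χ₃} : Finset (IrrCharacter G)) := by simp [h2.symm, h3.symm]
  have hmem2 : χ₂ ∉ ({χ₃} : Finset (IrrCharacter G)) := by simp [h23]
  have hX' : χ₂ ∈ F.X ∧ χ₃ ∈ F.X := by rw [hX]; simp
  have hexp : ∀ (f : IrrCharacter G → ℂ), ∑ χ ∈ F.X, f χ = f (principal G) + (f χ₂ + f χ₃) := by
    intro f; rw [hX, Finset.sum_insert hmem1, Finset.sum_insert hmem2, Finset.sum_singleton]
  have ha1 : F.a (principal G) = 1 := F.a_principal h
  -- degrees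
  have e0 : 1 + F.a χ₂ * (charDegree (χ₂ : G → ℂ) : ℤ) + F.a χ₃ * (charDegree (χ₃ : G → ℂ) : ℤ) +
      -F.δ * (charDegree (F.η i₀ : G → ℂ) : ℤ) = 0 := by
    have e := F.degree_sum hi₀
    rw [hX, Finset.sum_insert hmem1, Finset.sum_insert hmem2, Finset.sum_singleton, ha1, hF] at e
    have h1 : (charDegree (principal G : G → ℂ) : ℤ) = 1 := by
      simp [Cfsg.Agent.Char.principal, charDegree]
    rw [h1] at e
    linear_combination e
  -- values
  have e1 : (1 : ℚ) + F.a χ₂ * T₂ + F.a χ₃ * T₃ + -F.δ * T₄ = 0 := by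
    have e := F.regular_sum i₀ hi₀ t htreg
    change _ + ∑ χ ∈ F.X, (F.a χ : ℂ) * (χ : G → ℂ) t = 0 at e
    rw [hexp, ha1, hF, hT₂, hT₃, hT₄] at e
    simp only [Cfsg.Agent.Char.principal] at e
    push_cast at e
    apply Rat.cast_injective (α := ℂ)
    push_cast
    linear_combination e
  have e2 : (1 : ℚ) + F.a χ₂ * ((T₂ : ℚ) ^ 2 / (charDegree (χ₂ : G → ℂ) : ℚ)) +
      F.a χ₃ * ((T₃ : ℚ) ^ 2 / (charDegree (χ₃ : G → ℂ) : ℚ)) +
      -F.δ * ((T₄ : ℚ) ^ 2 / (charDegree (F.η i₀ : G → ℂ) : ℚ)) = 0 := by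
    rw [F.sum_blockSet, hexp, Finset.sum_congr rfl (g := fun i => (F.η i₀ : G → ℂ) t ^ 2 /
      (F.η i₀ : G → ℂ) 1 * ((F.δ : ℂ) * phi P i y)) fun i hi => by
        rw [F.val_exc i hi y hy, hF, F.regular_eq i hi i₀ hi₀ t htreg,
          F.regular_eq i hi i₀ hi₀ 1 (by simpa using hpr.ne_one)]
        push_cast
        ring, ← Finset.mul_sum, ← Finset.mul_sum, h.sum_phi hy,
      (F.val_other _ hX'.1).2 y hy, (F.val_other _ hX'.2).2 y hy, hT₂, hT₃, hT₄,
      show (principal G : G → ℂ) t = 1 from rfl, show (principal G : G → ℂ) (y : G) = 1 from rfl,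
      show (principal G : G → ℂ) 1 = 1 from rfl] at hsq
    simp only [irr_one_eq_charDegree] at hsq
    apply Rat.cast_injective (α := ℂ)
    push_cast
    linear_combination hsq
  have hne : ∀ (χ : IrrCharacter G) (T : ℤ), (χ : G → ℂ) t = (T : ℂ) → χ ≠ principal G →
      (T : ℚ) - (charDegree (χ : G → ℂ) : ℚ) ≠ 0 := by
    intro χ T hT hne e
    refine hne (eq_principal_of_kernel hgen ?_)
    rw [hT, irr_one_eq_charDegree]
    have e' : (T : ℚ) = (charDegree (χ : G → ℂ) : ℚ) := by linarith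
    exact_mod_cast e'
  have h4 : F.η i₀ ≠ principal G := fun e =>
    F.principal_notMem (Finset.mem_image.2 ⟨i₀, hi₀, e⟩)
  have h0q : (1 : ℚ) + F.a χ₂ * (charDegree (χ₂ : G → ℂ) : ℚ) +
      F.a χ₃ * (charDegree (χ₃ : G → ℂ) : ℚ) + -F.δ * (charDegree (F.η i₀ : G → ℂ) : ℚ) = 0 := by
    exact_mod_cast e0
  refine signs (sign_other h hF hX'.1) (sign_other h hF hX'.2)
    (by rcases F.sign with e | e <;> rw [e] <;> norm_num)
    (charDegree_pos _) (charDegree_pos _) (charDegree_pos _)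
    (hne χ₂ T₂ hT₂ h2) (hne χ₃ T₃ hT₃ h3) (hne _ T₄ hT₄ h4) e0 ?_ ?_
  · push_cast
    linear_combination e1 - h0q
  · have hd : ∀ χ : IrrCharacter G, (charDegree (χ : G → ℂ) : ℚ) ≠ 0 := fun χ =>
      Nat.cast_ne_zero.2 (charDegree_pos χ).ne'
    have key : ∀ (T D : ℚ), D ≠ 0 → (T - D) ^ 2 / D = T ^ 2 / D - 2 * T + D := fun T D hD => by
      field_simp; ring
    rw [key _ _ (hd χ₂), key _ _ (hd χ₃), key _ _ (hd _)]
    push_cast
    linear_combination e2 - 2 * e1 + h0q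

/-- For the prime two there is no such involution. -/
theorem two_case (hM : IsPModular p M) (hp : p = 2) {t₀ : G} (ht₀ : orderOf t₀ = 2)
    (hgen₀ : ∀ K : Subgroup G, K.Normal → t₀ ∈ K → K = ⊤) : False := by
  subst hp
  -- move the involution into the Sylow subgroup
  obtain ⟨t, htP, ht, hgen⟩ : ∃ t : G, t ∈ (P : Subgroup G) ∧ orderOf t = 2 ∧
      ∀ K : Subgroup G, K.Normal → t ∈ K → K = ⊤ := by
    obtain ⟨Q, hQ⟩ := (IsPGroup.of_card (n := 1) (by rw [Nat.card_zpowers, ht₀, pow_one]) :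
      IsPGroup 2 (Subgroup.zpowers t₀)).exists_le_sylow
    obtain ⟨g, hg⟩ := MulAction.exists_smul_eq G Q P
    refine ⟨g * t₀ * g⁻¹, ?_, ?_, fun K hK hm => hgen₀ K hK ?_⟩
    · rw [← hg, Sylow.coe_subgroup_smul]
      exact ⟨t₀, hQ (Subgroup.mem_zpowers t₀), rfl⟩
    · rw [← MulAut.conj_apply, MulEquiv.orderOf_eq, ht₀]
    · have := hK.conj_mem _ hm g⁻¹
      simpa [mul_assoc] using this
  have htt : t * t = 1 := by rw [← sq, ← ht, pow_orderOf_eq_one]
  have ht1 : t ≠ 1 := fun e => by rw [e, orderOf_one] at ht; omega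
  set N := Subgroup.normalizer ((P : Subgroup G) : Set G) with hN
  set C := (Subgroup.centralizer ((P : Subgroup G) : Set G)).subgroupOf N with hC
  haveI : Fintype (N ⧸ C) := Fintype.ofFinite _
  have hq3 : Fintype.card (N ⧸ C) = 3 := by rw [← Nat.card_eq_fintype_card]; exact h.index
  let cq : N ⧸ C → ↥(P : Subgroup G) → ↥(P : Subgroup G) := fun q z =>
    Subgroup.normalizerMonoidHom (P : Subgroup G) (Quotient.out q)⁻¹ z
  -- the orbit of the involution
  let T : Finset (P : Subgroup G) := Finset.univ.filter fun w => IsConj t (w : G)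
  have hTcard : T.card ≤ 3 := by
    rw [← hq3, ← Finset.card_univ]
    refine le_trans (Finset.card_le_card ?_)
      (Finset.card_image_le (f := fun q : N ⧸ C =>
        Subgroup.normalizerMonoidHom (P : Subgroup G) (Quotient.out q) ⟨t, htP⟩) (s := Finset.univ))
    intro w hw
    obtain ⟨g, hg⟩ := isConj_iff.1 (Finset.mem_filter.1 hw).2
    obtain ⟨n, hn, e⟩ := h.fusion htP (g := g) (by rw [hg]; exact w.2)
    refine Finset.mem_image.2 ⟨QuotientGroup.mk ⟨n, hn⟩, Finset.mem_univ _, Subtype.ext ?_⟩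
    have hmem : (Quotient.out (QuotientGroup.mk ⟨n, hn⟩ : N ⧸ C))⁻¹ * ⟨n, hn⟩ ∈ C :=
      QuotientGroup.eq.1 (QuotientGroup.out_eq' _)
    set o := Quotient.out (QuotientGroup.mk ⟨n, hn⟩ : N ⧸ C)
    have hc := Subgroup.mem_centralizer_iff.1 (Subgroup.mem_subgroupOf.1 hmem) t htP
    simp only [Subgroup.coe_mul, Subgroup.coe_inv] at hc
    show (o : G) * t * (o : G)⁻¹ = w
    rw [← hg, ← e]
    calc (o : G) * t * (o : G)⁻¹
        = (o : G) * (t * ((o : G)⁻¹ * n)) * n⁻¹ := by group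
      _ = (o : G) * (((o : G)⁻¹ * n) * t) * n⁻¹ := by rw [hc]
      _ = n * t * n⁻¹ := by group
  have hcard := three_mul_card h
  obtain ⟨k, hk⟩ := P.isPGroup'.exists_card_eq
  have hlt : 3 + 1 < Nat.card (P : Subgroup G) := h.lt
  have hsize : Nat.card (P : Subgroup G) = 16 ∨ Nat.card (P : Subgroup G) = 64 ∨
      128 ≤ Nat.card (P : Subgroup G) := by
    rcases (show k ≤ 2 ∨ k = 3 ∨ k = 4 ∨ k = 5 ∨ k = 6 ∨ 7 ≤ k by omega) with
      hk' | hk' | hk' | hk' | hk' | hk'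
    · have : 2 ^ k ≤ 2 ^ 2 := Nat.pow_le_pow_right (by norm_num) hk'
      omega
    · rw [hk'] at hk; omega
    · rw [hk'] at hk; omega
    · rw [hk'] at hk; omega
    · rw [hk'] at hk; omega
    · have : 2 ^ 7 ≤ 2 ^ k := Nat.pow_le_pow_right (by norm_num) hk'
      omega
  obtain ⟨y, hyT⟩ : ∃ y : (P : Subgroup G), y ∉ T * T := by
    by_contra hno
    push Not at hno
    have h1 := Finset.card_le_card (fun y (_ : y ∈ (Finset.univ : Finset (P : Subgroup G))) => hno y)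
    rw [Finset.card_univ, ← Nat.card_eq_fintype_card] at h1
    have h2 := h1.trans (Finset.card_mul_le.trans (Nat.mul_le_mul hTcard hTcard))
    omega
  have hTt : (⟨t, htP⟩ : (P : Subgroup G)) ∈ T :=
    Finset.mem_filter.2 ⟨Finset.mem_univ _, IsConj.refl t⟩
  have hy : y ≠ 1 := by
    rintro rfl
    exact hyT (Finset.mem_mul.2 ⟨_, hTt, _, hTt, Subtype.ext htt⟩)
  have hy1 : (y : G) ≠ 1 := fun e => hy (Subtype.ext e)
  -- no products in the section
  have hno : ∀ g v : G, IsPPart 2 g (y : G) → IsConj t v → IsConj t (g * v) → False := by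
    intro g v hg hv hgv
    obtain ⟨hvv, hgvv, hvy⟩ := inverting_of_product h htt hg hv hgv
    by_cases hyy : (y : G) * y = 1
    swap
    · exact not_inverting h y.2 hyy hvy
    obtain ⟨x, hgx, hcx, -, hx⟩ := hg
    rw [inv_eq_of_mul_eq_one_right hyy] at hvy
    set Cy := Subgroup.centralizer ({(y : G)} : Set G) with hCy
    haveI : Fintype Cy := Fintype.ofFinite _
    obtain ⟨K, hKn, hK, hKi, hKc⟩ : ∃ K : Subgroup Cy, K.Normal ∧ ¬ 2 ∣ Nat.card K ∧
        K.index = Nat.card (P : Subgroup G) ∧ Subgroup.IsComplement' K ((P : Subgroup G).subgroupOf Cy) :=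
      h.exists_complement y.2 hy1
    haveI := hKn
    have hvC : v ∈ Cy := Subgroup.mem_centralizer_singleton_iff.2 (mul_inv_eq_iff_eq_mul.1 hvy)
    have hxC : x ∈ Cy := Subgroup.mem_centralizer_singleton_iff.2 hcx.eq.symm
    have hyC : (y : G) ∈ Cy := Subgroup.mem_centralizer_singleton_iff.2 rfl
    have hgC : g ∈ Cy := hgx ▸ mul_mem hyC hxC
    set Q := (P : Subgroup G).subgroupOf Cy
    have hsurj : ∀ q : Cy ⧸ K, ∃ a ∈ Q, QuotientGroup.mk a = q := by
      intro q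
      obtain ⟨z, rfl⟩ := QuotientGroup.mk_surjective q
      obtain ⟨⟨⟨k', hk'⟩, ⟨a, ha⟩⟩, e, -⟩ := hKc.existsUnique z
      refine ⟨a, ha, ?_⟩
      simp only at e
      rw [← e, QuotientGroup.mk_mul, (QuotientGroup.eq_one_iff k').2 hk', one_mul]
    have hcomm : ∀ q r : Cy ⧸ K, q * r = r * q := by
      intro q r
      obtain ⟨a, ha, rfl⟩ := hsurj q
      obtain ⟨b, hb, rfl⟩ := hsurj r
      rw [← QuotientGroup.mk_mul, ← QuotientGroup.mk_mul]
      exact congrArg _ (Subtype.ext (h.comm _ ha _ hb))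
    have hinto : ∀ (w : G) (hw : w ∈ Cy), IsConj t w → w * w = 1 →
        ∃ a : Cy, a ∈ Q ∧ IsConj t (a : G) ∧
          (QuotientGroup.mk a : Cy ⧸ K) = QuotientGroup.mk ⟨w, hw⟩ := by
      intro w hw hwc hww
      have hord : orderOf (⟨w, hw⟩ : Cy) ∣ 2 :=
        orderOf_dvd_iff_pow_eq_one.2 (Subtype.ext (by simp [sq, hww]))
      have hpg : IsPGroup 2 (Subgroup.zpowers (⟨w, hw⟩ : Cy)) := by
        obtain ⟨i, -, hi⟩ := (Nat.dvd_prime_pow Nat.prime_two (m := 1) (i := orderOf (⟨w, hw⟩ : Cy))).1 (by rw [pow_one]; exact hord)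
        exact IsPGroup.of_card (n := i) (by rw [Nat.card_zpowers, hi])
      obtain ⟨R, hR⟩ := hpg.exists_le_sylow
      obtain ⟨c, hc⟩ := MulAction.exists_smul_eq Cy R (P.subtype (h.sylow_le_centralizer y.2))
      refine ⟨c * ⟨w, hw⟩ * c⁻¹, ?_, hwc.trans (isConj_iff.2 ⟨c, rfl⟩), ?_⟩
      · have : c * ⟨w, hw⟩ * c⁻¹ ∈ ((c • R : Sylow 2 Cy) : Subgroup Cy) := by
          rw [Sylow.coe_subgroup_smul]
          exact ⟨_, hR (Subgroup.mem_zpowers _), rfl⟩
        rw [hc] at this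
        exact this
      · rw [QuotientGroup.mk_mul, QuotientGroup.mk_mul, QuotientGroup.mk_inv,
          hcomm (QuotientGroup.mk c), mul_inv_cancel_right]
    obtain ⟨a, haQ, hac, ha⟩ := hinto (g * v) (mul_mem hgC hvC) hgv hgvv
    obtain ⟨b, hbQ, hbc, hb⟩ := hinto v hvC hv hvv
    have hxK : (⟨x, hxC⟩ : Cy) ∈ K := by
      obtain ⟨k', hk'⟩ := h.index_pow y.2 hKi
      have h1 : orderOf ((⟨x, hxC⟩ : Cy) : Cy ⧸ K) ∣ orderOf x := by
        have := orderOf_map_dvd (QuotientGroup.mk' K) (⟨x, hxC⟩ : Cy)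
        rwa [Subgroup.orderOf_mk] at this
      have hd := orderOf_dvd_natCard ((⟨x, hxC⟩ : Cy) : Cy ⧸ K)
      rw [← Subgroup.index_eq_card, hk'] at hd
      obtain ⟨i, -, hi⟩ := (Nat.dvd_prime_pow Nat.prime_two).1 hd
      rcases Nat.eq_zero_or_pos i with rfl | hi0
      · exact (QuotientGroup.eq_one_iff _).1 (orderOf_eq_one_iff.1 (hi.trans (pow_zero 2)))
      · exact absurd ((dvd_pow_self 2 hi0.ne').trans (hi ▸ h1)) hx
    have hm : (QuotientGroup.mk (a * b) : Cy ⧸ K) = QuotientGroup.mk ⟨(y : G), hyC⟩ := by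
      rw [QuotientGroup.mk_mul, ha, hb, ← QuotientGroup.mk_mul,
        show (⟨g * v, mul_mem hgC hvC⟩ : Cy) * ⟨v, hvC⟩ = ⟨(y : G), hyC⟩ * ⟨x, hxC⟩ from
          Subtype.ext (by show g * v * v = (y : G) * x; rw [mul_assoc, hvv, mul_one, hgx]),
        QuotientGroup.mk_mul, (QuotientGroup.eq_one_iff _).2 hxK, mul_one]
    have heq : a * b = ⟨(y : G), hyC⟩ := by
      have hmem : (a * b)⁻¹ * ⟨(y : G), hyC⟩ ∈ K ⊓ Q :=
        Subgroup.mem_inf.2 ⟨QuotientGroup.eq.1 hm, Q.mul_mem (Q.inv_mem (Q.mul_mem haQ hbQ)) y.2⟩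
      rw [hKc.disjoint.eq_bot, Subgroup.mem_bot, inv_mul_eq_one] at hmem
      exact hmem
    exact hyT (Finset.mem_mul.2 ⟨⟨(a : G), haQ⟩, Finset.mem_filter.2 ⟨Finset.mem_univ _, hac⟩,
      ⟨(b : G), hbQ⟩, Finset.mem_filter.2 ⟨Finset.mem_univ _, hbc⟩,
      Subtype.ext (show (a : G) * (b : G) = (y : G) from congrArg Subtype.val heq)⟩)
  have hsq := sum_sq_section h hM htt y.2 hno
  -- the orbit sums
  have hphi : ∀ ψ : Dual (P : Subgroup G), ψ ≠ 1 → ∀ z : (P : Subgroup G),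
      phi P (orb P ψ) z = ∑ q : N ⧸ C, ((ψ (cq q z) : ℂˣ) : ℂ) := by
    intro ψ hψ z
    have hinj : Function.Injective fun q : N ⧸ C => tw P (Quotient.out q) ψ := by
      intro a b e
      rw [← QuotientGroup.out_eq' a, ← QuotientGroup.out_eq' b, QuotientGroup.eq,
        Subgroup.mem_subgroupOf]
      refine h.tw_eq_self hψ ?_
      have e' : tw P (Quotient.out a) ψ = tw P (Quotient.out b) ψ := e
      rw [tw_mul, ← e', ← tw_mul, inv_mul_cancel, tw_one]
    have himg : (Finset.univ : Finset (N ⧸ C)).image (fun q => tw P (Quotient.out q) ψ) = orb P ψ := by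
      refine Finset.eq_of_subset_of_card_le (fun φ hφ => ?_) ?_
      · obtain ⟨q, -, rfl⟩ := Finset.mem_image.1 hφ
        exact tw_mem_orb P _ ψ
      · exact le_of_eq ((((h.card_orb hψ).trans hq3.symm).trans Finset.card_univ.symm).trans
          (Finset.card_image_of_injective Finset.univ hinj).symm)
    rw [phi, ← himg]
    exact Finset.sum_image fun a _ b _ e => hinj e
  have hS : ∑ i ∈ orbits P, phi P i ⟨t, htP⟩ ^ 2 * phi P i y = -9 := by
    let f : Dual (P : Subgroup G) → ℂ := fun ψ =>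
      (∑ q : N ⧸ C, ((ψ (cq q ⟨t, htP⟩) : ℂˣ) : ℂ)) ^ 2 * ∑ q : N ⧸ C, ((ψ (cq q y) : ℂˣ) : ℂ)
    have h0 : ∑ ψ : Dual (P : Subgroup G), f ψ = 0 := by
      simp only [f, sq, Finset.sum_mul, Finset.mul_sum]
      rw [Finset.sum_comm]
      refine Finset.sum_eq_zero fun q₃ _ => ?_
      rw [Finset.sum_comm]
      refine Finset.sum_eq_zero fun q₂ _ => ?_
      rw [Finset.sum_comm]
      refine Finset.sum_eq_zero fun q₁ _ => ?_
      simp only [← Units.val_mul, ← map_mul]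
      refine h.sum_dual fun e => hyT ?_
      have hconjmem : ∀ q : N ⧸ C, ∀ r : N ⧸ C,
          Subgroup.normalizerMonoidHom (P : Subgroup G) (Quotient.out r) (cq q ⟨t, htP⟩) ∈ T := by
        intro q r
        refine Finset.mem_filter.2 ⟨Finset.mem_univ _, ?_⟩
        refine (isConj_iff.2 ⟨((Quotient.out q)⁻¹ : N), ?_⟩ : IsConj t (cq q ⟨t, htP⟩ : G)).trans
          (isConj_iff.2 ⟨(Quotient.out r : N), rfl⟩)
        rfl
      have hsqone : ∀ q : N ⧸ C, cq q ⟨t, htP⟩ * cq q ⟨t, htP⟩ = 1 := fun q => by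
        simp only [cq]
        rw [← map_mul, show (⟨t, htP⟩ : (P : Subgroup G)) * ⟨t, htP⟩ = 1 from Subtype.ext htt, map_one]
      have e' : ∀ a b c : (P : Subgroup G), a * a = 1 → b * b = 1 → a * b * c = 1 → c = b * a := by
        intro a b c ha hb habc
        rw [eq_inv_of_mul_eq_one_right habc, mul_inv_rev, inv_eq_of_mul_eq_one_right ha,
          inv_eq_of_mul_eq_one_right hb]
      have e'' : cq q₃ y = cq q₁ ⟨t, htP⟩ * cq q₂ ⟨t, htP⟩ := by
        have hc : cq q₁ ⟨t, htP⟩ * cq q₂ ⟨t, htP⟩ = cq q₂ ⟨t, htP⟩ * cq q₁ ⟨t, htP⟩ :=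
          Subtype.ext (h.comm _ (Subtype.prop _) _ (Subtype.prop _))
        rw [hc]
        exact e' _ _ _ (hsqone q₁) (hsqone q₂) e
      have e3 := congrArg (Subgroup.normalizerMonoidHom (P : Subgroup G) (Quotient.out q₃)) e''
      simp only [cq, map_inv, MulAut.apply_inv_self, map_mul] at e3
      rw [e3]
      exact Finset.mul_mem_mul (hconjmem q₁ q₃) (hconjmem q₂ q₃)
    rw [sum_eq_sum_orbits P f, show f 1 = 27 by simp [f, hq3]; norm_num] at h0
    have e : ∀ i ∈ orbits P, ∑ ψ ∈ i, f ψ = 3 * (phi P i ⟨t, htP⟩ ^ 2 * phi P i y) := by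
      intro i hi
      rw [Finset.sum_congr rfl (g := fun _ => phi P i ⟨t, htP⟩ ^ 2 * phi P i y) fun ψ hψ => by
        have hψ1 : ψ ≠ 1 := fun e => one_notMem_of_mem_orbits P hi (e ▸ hψ)
        simp only [f]
        rw [← hphi ψ hψ1, ← hphi ψ hψ1, eq_orb_of_mem P hi hψ], Finset.sum_const,
        h.card_of_mem_orbits hi]
      simp
    rw [Finset.sum_congr rfl e, ← Finset.mul_sum] at h0
    linear_combination h0 / 3
  obtain ⟨i₀, hi₀⟩ := Finset.card_pos.1 (by have := h.two_le_card_orbits; omega : 0 < (orbits P).card)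
  obtain ⟨χ₂, χ₃, h23, h2, h3, hX⟩ := X_eq h hF
  have hmem1 : principal G ∉ ({χ₂, χ₃} : Finset (IrrCharacter G)) := by simp [h2.symm, h3.symm]
  have hmem2 : χ₂ ∉ ({χ₃} : Finset (IrrCharacter G)) := by simp [h23]
  have hX' : χ₂ ∈ F.X ∧ χ₃ ∈ F.X := by rw [hX]; simp
  have ht' : (⟨t, htP⟩ : (P : Subgroup G)) ≠ 1 := fun e => ht1 (congrArg Subtype.val e)
  have hval : ∀ χ ∈ F.X, (χ : G → ℂ) t = (F.a χ : ℂ) := fun χ hχ =>
    (F.val_other χ hχ).2 ⟨t, htP⟩ ht'
  set D2 : ℤ := (charDegree (χ₂ : G → ℂ) : ℤ) with hD2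
  set D3 : ℤ := (charDegree (χ₃ : G → ℂ) : ℤ) with hD3
  set D4 : ℤ := (charDegree (F.η i₀ : G → ℂ) : ℤ) with hD4
  have e0 : 1 + F.a χ₂ * D2 + F.a χ₃ * D3 = F.δ * D4 := by
    have e := F.degree_sum hi₀
    rw [hX, Finset.sum_insert hmem1, Finset.sum_insert hmem2, Finset.sum_singleton,
      F.a_principal h, hF] at e
    have h1 : (charDegree (principal G : G → ℂ) : ℤ) = 1 := by
      simp [Cfsg.Agent.Char.principal, charDegree]
    rw [h1] at e
    linear_combination e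
  have hDne : ∀ χ : IrrCharacter G, ((charDegree (χ : G → ℂ) : ℤ) : ℂ) ≠ 0 := fun χ => by
    exact_mod_cast (charDegree_pos χ).ne'
  have e2 : (1 : ℂ) + (F.a χ₂ : ℂ) / D2 + (F.a χ₃ : ℂ) / D3 + (F.δ : ℂ) * (-9) / D4 = 0 := by
    rw [F.sum_blockSet, hX, Finset.sum_insert hmem1, Finset.sum_insert hmem2, Finset.sum_singleton,
      Finset.sum_congr rfl (g := fun i => (F.δ : ℂ) / (D4 : ℂ) *
        (phi P i ⟨t, htP⟩ ^ 2 * phi P i y)) fun i hi => by
          have e1 : (F.η i : G → ℂ) t = (F.δ : ℂ) * phi P i ⟨t, htP⟩ := by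
            have := F.val_exc i hi ⟨t, htP⟩ ht'
            rw [hF, Int.cast_zero, zero_add] at this
            exact this
          rw [F.val_exc i hi y hy, hF, e1, F.regular_eq i hi i₀ hi₀ 1 (by simp),
            irr_one_eq_charDegree, hD4]
          rcases F.sign with es | es <;> rw [es] <;> push_cast <;> ring,
      ← Finset.mul_sum, hS, hval _ F.principal_mem_X, hval _ hX'.1, hval _ hX'.2,
      (F.val_other _ F.principal_mem_X).2 y hy, (F.val_other _ hX'.1).2 y hy,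
      (F.val_other _ hX'.2).2 y hy, F.a_principal h,
      irr_one_eq_charDegree, irr_one_eq_charDegree, irr_one_eq_charDegree] at hsq
    have h1 : (charDegree (principal G : G → ℂ) : ℂ) = 1 := by
      simp [Cfsg.Agent.Char.principal, charDegree]
    rw [h1] at hsq
    rw [hD2, hD3]
    rcases sign_other h hF hX'.1 with e2' | e2' <;> rcases sign_other h hF hX'.2 with e3' | e3' <;>
      rw [e2', e3'] at hsq <;> rw [e2', e3'] <;> push_cast at hsq ⊢ <;> linear_combination hsq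
  have hdiv : (Nat.card (P : Subgroup G) : ℤ) ∣ D4 - 3 * F.δ := by
    refine ⟨coef P (F.η i₀) 1, ?_⟩
    apply Int.cast_injective (α := ℂ)
    rw [Int.cast_mul, coef_eq, Int.cast_natCast,
      mul_inv_cancel_left₀ (Nat.cast_ne_zero.2 Nat.card_pos.ne'),
      ← Finset.add_sum_erase _ _ (Finset.mem_univ (1 : (P : Subgroup G))),
      Finset.sum_congr rfl (g := fun z => (F.δ : ℂ) * phi P i₀ z) fun z hz => by
        rw [MonoidHom.one_apply, Units.val_one, mul_one,
          F.val_exc i₀ hi₀ z (Finset.ne_of_mem_erase hz), hF, Int.cast_zero, zero_add],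
      Finset.sum_erase_eq_sub (Finset.mem_univ _), ← Finset.mul_sum]
    have hz : ∑ z : (P : Subgroup G), phi P i₀ z = 0 := by
      unfold phi
      rw [Finset.sum_comm]
      refine Finset.sum_eq_zero fun ψ hψ => ?_
      have := sum_linear_mul P ψ 1
      rw [if_neg fun e : ψ = 1 => one_notMem_of_mem_orbits P hi₀ (e ▸ hψ)] at this
      rw [← this]
      simp
    have h1 : phi P i₀ (1 : (P : Subgroup G)) = 3 := by
      simp [phi, h.card_of_mem_orbits hi₀]
    rw [hz, h1, OneMemClass.coe_one, irr_one_eq_charDegree, MonoidHom.one_apply, Units.val_one, hD4]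
    push_cast
    ring
  have hδ2 : F.δ * F.δ = 1 := by rcases F.sign with e | e <;> rw [e] <;> norm_num
  have hdvd : (Nat.card (P : Subgroup G) : ℤ) ∣ F.δ * D4 - 3 := by
    have := hdiv.mul_left F.δ
    rwa [show F.δ * (D4 - 3 * F.δ) = F.δ * D4 - 3 by linear_combination -3 * hδ2] at this
  have hp2 := sign_other h hF hX'.1
  have hp3 := sign_other h hF hX'.2
  have h4pos : (1 : ℤ) ≤ D4 := degree_ge_one _
  have h2pos : (1 : ℤ) ≤ D2 := degree_ge_one _
  have h3pos : (1 : ℤ) ≤ D3 := degree_ge_one _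
  have hH0 : F.δ * D4 ≠ 0 := by rcases F.sign with e | e <;> rw [e] <;> omega
  have hprod : (F.a χ₂ * D2 * (F.a χ₃ * D3) + F.a χ₂ * D2 + F.a χ₃ * D3) * (F.δ * D4) =
      9 * (F.a χ₂ * D2) * (F.a χ₃ * D3) := by
    apply Int.cast_injective (α := ℂ)
    have a2 : (D2 : ℂ) ≠ 0 := hDne χ₂
    have a3 : (D3 : ℂ) ≠ 0 := hDne χ₃
    have a4 : (D4 : ℂ) ≠ 0 := hDne (F.η i₀)
    field_simp at e2
    rcases hp2 with e2' | e2' <;> rcases hp3 with e3' | e3' <;> rcases F.sign with e4 | e4 <;>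
      rw [e2', e3', e4] at e2 <;> rw [e2', e3', e4] <;> push_cast at e2 ⊢ <;>
      first | linear_combination e2 | linear_combination -e2
  obtain ⟨hX2, -⟩ := eq_three (q := (Nat.card (P : Subgroup G) : ℤ))
    (by rcases hsize with e | e | e
        · exact Or.inl (by exact_mod_cast e)
        · exact Or.inr (Or.inl (by exact_mod_cast e))
        · exact Or.inr (Or.inr (by exact_mod_cast e))) e0 hprod hdvd hH0
  have hD21 : D2 = 1 := by rcases hp2 with e | e <;> rw [e] at hX2 <;> omega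
  have ha2 : F.a χ₂ = 1 := by rw [hD21, mul_one] at hX2; exact hX2
  refine h2 (eq_principal_of_kernel hgen ?_)
  rw [hval _ hX'.1, irr_one_eq_charDegree, ha2]
  have : charDegree (χ₂ : G → ℂ) = 1 := by
    rw [hD2] at hD21; exact_mod_cast hD21
  rw [this]
  simp

end Cfsg.Agent.ExPrincipal
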