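import Cfsg.Agent.Lib.TwoGroups.FusionData
import Cfsg.Agent.Lib.Transfer.Basic

/-!
Centralizers of 2-elements in groups with dihedral Sylow 2-subgroups.
-/

set_option linter.style.haveILetI false
set_option linter.unusedSectionVars false

namespace Cfsg.Agent.DihBlock

open Cfsg Cfsg.Agent.TwoFus

universe u

variable {G : Type u} [Group G] [Finite G] {P : Sylow 2 G} (d : Dih (P : Subgroup G))

theorem mem_zpow (i : ℤ) : d.x ^ i ∈ (P : Subgroup G) := zpow_mem d.hx i

theorem form_mem (i : ℤ) : d.x ^ i * d.y ∈ (P : Subgroup G) := mul_mem (mem_zpow d i) d.hy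

theorem conj_x_zpow (i : ℤ) : d.y * d.x ^ i * d.y⁻¹ = (d.x ^ i)⁻¹ := by
  rw [← conj_zpow, d.inv, inv_zpow]

theorem isConj_inv (i : ℤ) : IsConj (d.x ^ i) (d.x ^ i)⁻¹ := isConj_iff.2 ⟨d.y, conj_x_zpow d i⟩

theorem conj_cases {s : G} (hs : s ∈ (P : Subgroup G)) (i : ℤ) :
    s * d.x ^ i * s⁻¹ = d.x ^ i ∨ s * d.x ^ i * s⁻¹ = (d.x ^ i)⁻¹ := by
  rcases d.cases s hs with ⟨j, rfl⟩ | ⟨j, rfl⟩
  · left
    rw [(Commute.zpow_zpow_self d.x j i).eq, mul_inv_cancel_right]
  · right
    rw [show d.x ^ j * d.y * d.x ^ i * (d.x ^ j * d.y)⁻¹ =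
      d.x ^ j * (d.y * d.x ^ i * d.y⁻¹) * (d.x ^ j)⁻¹ by group, conj_x_zpow, ← zpow_neg,
      (Commute.zpow_zpow_self d.x j (-i)).eq, mul_inv_cancel_right]

theorem sq_eq_one_of_klein {E : Subgroup G} (hE : IsKleinFour E) {v : G} (hv : v ∈ E) :
    v * v = 1 := congrArg Subtype.val (IsKleinFour.mul_self (⟨v, hv⟩ : E))

/-- Fusion of the elements of order at least four in the cyclic part. -/
theorem fusion {i : ℤ} (hi : d.x ^ i * d.x ^ i ≠ 1) {b : G} (hb : b ∈ (P : Subgroup G))
    (h : IsConj (d.x ^ i) b) : b = d.x ^ i ∨ b = (d.x ^ i)⁻¹ := by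
  obtain ⟨g, rfl⟩ := isConj_iff.1 h
  have key := label_elem P (fun a => a = d.x ^ i ∨ a = (d.x ^ i)⁻¹) (fun s hs a _ => ?_)
    (fun E hE => ?_) (mem_zpow d i) hb
  · exact key ▸ Or.inl rfl
  · refine propext ⟨fun h => ?_, fun h => ?_⟩
    · have e : a = s⁻¹ * (s * a * s⁻¹) * (s⁻¹)⁻¹ := by group
      rcases h with h | h <;> rw [h] at e
      · rcases conj_cases d (inv_mem hs) i with r | r <;> rw [r] at e
        · exact Or.inl e
        · exact Or.inr e
      · rw [← zpow_neg] at e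
        rcases conj_cases d (inv_mem hs) (-i) with r | r <;> rw [r] at e
        · exact Or.inr (by rw [e, zpow_neg])
        · exact Or.inl (by rw [e, zpow_neg, inv_inv])
    · rcases h with rfl | rfl
      · exact conj_cases d hs i
      · rcases conj_cases d hs (-i) with r | r
        · exact Or.inr (by rw [← zpow_neg]; exact r)
        · exact Or.inl (by rw [← zpow_neg, r, zpow_neg, inv_inv])
  · rcases (d.cycMax P.2).oddTrivial hE with h | h | h
    · exact Or.inl h
    · right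
      intro x hx a ha
      have h1 : x * a * x⁻¹ ∈ E := (Subgroup.mem_normalizer_iff.1 hx a).1 ha
      have hno : ∀ v ∈ E, ¬ (v = d.x ^ i ∨ v = (d.x ^ i)⁻¹) := by
        rintro v hv (rfl | rfl)
        · exact hi (sq_eq_one_of_klein h hv)
        · have h3 := sq_eq_one_of_klein h hv
          rw [← mul_inv_rev, inv_eq_one] at h3
          exact hi h3
      exact propext ⟨fun h2 => absurd h2 (hno _ h1), fun h2 => absurd h2 (hno _ ha)⟩
    · exact absurd h (no_quat d.out_sq hE)

/-- Centralizers in the Sylow subgroup. -/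
theorem commute_x {i : ℤ} (hi : d.x ^ i * d.x ^ i ≠ 1) {s : G} (hs : s ∈ (P : Subgroup G))
    (h : s * d.x ^ i = d.x ^ i * s) : s ∈ Subgroup.zpowers d.x := by
  rcases d.cases s hs with ⟨j, rfl⟩ | ⟨j, rfl⟩
  · exact Subgroup.zpow_mem_zpowers d.x j
  · exfalso
    rw [mul_assoc, d.swap, ← mul_assoc, ← mul_assoc, mul_left_inj, ← zpow_add, ← zpow_add] at h
    refine hi ?_
    rw [← zpow_add, show i + i = (i + j) - (j + -i) by ring, zpow_sub, ← h, mul_inv_cancel]

/-- A four group containing a reflection and everything commuting with it. -/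
theorem exists_four (i : ℤ) : ∃ U : Subgroup G, IsKleinFour U ∧ U ≤ (P : Subgroup G) ∧
    d.x ^ i * d.y ∈ U ∧
    (∀ v ∈ U, v * (d.x ^ i * d.y) = d.x ^ i * d.y * v) ∧
    ∀ s ∈ (P : Subgroup G), s * (d.x ^ i * d.y) = d.x ^ i * d.y * s → s ∈ U := by
  set u := d.x ^ i * d.y
  have hu : u ∈ (P : Subgroup G) := form_mem d i
  have hzP : d.z ∈ (P : Subgroup G) := Subgroup.zpowers_le.2 d.hx d.z_mem
  have hmem : u ∉ Subgroup.zpowers d.z := fun h =>
    d.form_not_mem i ((Subgroup.zpowers_le.2 d.z_mem) h)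
  set U := Subgroup.closure ({d.z, u} : Set G) with hU
  have hK : IsKleinFour U := isKleinFour_of_pair d.zz (d.form_sq i) (d.z_comm hu) d.z_ne hmem
  have hUP : U ≤ (P : Subgroup G) := (Subgroup.closure_le _).2 (by
    rintro v (rfl | rfl)
    · exact hzP
    · exact hu)
  have huU : u ∈ U := Subgroup.subset_closure (by simp)
  refine ⟨U, hK, hUP, huU, fun v hv => ?_, fun s hs h => (d.cycMax P.2).self U hUP hK s hs ?_⟩
  · exact congrArg Subtype.val
      (mul_comm_of_exponent_two hK.exponent_two (⟨v, hv⟩ : U) ⟨u, huU⟩)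
  · intro v hv
    induction hv using Subgroup.closure_induction with
    | mem v hv =>
      rcases hv with rfl | rfl
      · exact d.z_comm hs
      · exact h
    | one => simp
    | mul a b _ _ ha hb => rw [← mul_assoc, ha, mul_assoc, hb, ← mul_assoc]
    | inv a _ ha => exact (Commute.inv_right (show Commute s a from ha)).eq

/-- A subgroup commuting with `a` conjugated into the Sylow subgroup. -/
theorem exists_conj_le {a : G} {R : Subgroup G} (hR : IsPGroup 2 R) (ha : a ∈ R)
    (hc : ∀ r ∈ R, r * a = a * r) :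
    ∃ g : G, g * a * g⁻¹ ∈ (P : Subgroup G) ∧
      R.map (MulAut.conj g).toMonoidHom ≤ (P : Subgroup G) ∧
      ∀ r ∈ R.map (MulAut.conj g).toMonoidHom, r * (g * a * g⁻¹) = g * a * g⁻¹ * r := by
  haveI : Fact (Nat.Prime 2) := ⟨Nat.prime_two⟩
  obtain ⟨T, hT⟩ := hR.exists_le_sylow
  obtain ⟨g, hg⟩ := MulAction.exists_smul_eq G T P
  have hle : R.map (MulAut.conj g).toMonoidHom ≤ (P : Subgroup G) := by
    rintro _ ⟨r, hr, rfl⟩
    rw [← hg, Sylow.coe_subgroup_smul]
    exact Subgroup.smul_mem_pointwise_smul r (MulAut.conj g) _ (hT hr)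
  refine ⟨g, hle ⟨a, ha, rfl⟩, hle, ?_⟩
  rintro _ ⟨r, hr, rfl⟩
  simp only [MulEquiv.coe_toMonoidHom, MulAut.conj_apply]
  calc g * r * g⁻¹ * (g * a * g⁻¹) = g * (r * a) * g⁻¹ := by group
    _ = g * (a * r) * g⁻¹ := by rw [hc r hr]
    _ = g * a * g⁻¹ * (g * r * g⁻¹) := by group

/-- A Sylow 2-subgroup of a centralizer above a given 2-subgroup, of bounded order. -/
theorem exists_sylow_centralizer {a : G} {Q : Subgroup G} (hQp : IsPGroup 2 Q) (haQ : a ∈ Q)
    (hQc : Q ≤ Subgroup.centralizer ({a} : Set G)) {q : ℕ} (hq : Nat.card Q = q)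
    (hbound : ∀ R : Subgroup G, IsPGroup 2 R → a ∈ R → (∀ r ∈ R, r * a = a * r) → Nat.card R ≤ q) :
    ∃ S : Sylow 2 ↥(Subgroup.centralizer ({a} : Set G)),
      (S : Subgroup _) = Q.subgroupOf (Subgroup.centralizer ({a} : Set G)) ∧
      2 ^ (Nat.card ↥(Subgroup.centralizer ({a} : Set G))).factorization 2 = q := by
  haveI : Fact (Nat.Prime 2) := ⟨Nat.prime_two⟩
  set C := Subgroup.centralizer ({a} : Set G) with hC
  have hQ' : Nat.card (Q.subgroupOf C) = q :=
    (Nat.card_congr (Subgroup.subgroupOfEquivOfLe hQc).toEquiv).trans hq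
  obtain ⟨S, hS⟩ := (IsPGroup.of_equiv hQp (Subgroup.subgroupOfEquivOfLe hQc).symm :
    IsPGroup 2 (Q.subgroupOf C)).exists_le_sylow
  have hcard : Nat.card (S : Subgroup C) ≤ q := by
    rw [← Subgroup.card_map_of_injective C.subtype_injective]
    refine hbound _ (S.2.map _) ⟨⟨a, hQc haQ⟩, hS haQ, rfl⟩ ?_
    rintro _ ⟨r, -, rfl⟩
    exact Subgroup.mem_centralizer_singleton_iff.1 r.2
  have heq : Q.subgroupOf C = (S : Subgroup C) :=
    Subgroup.eq_of_le_of_card_ge hS (by rw [hQ']; exact hcard)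
  exact ⟨S, heq.symm, by rw [← S.card_eq_multiplicity, ← heq, hQ']⟩

/-- The centre of the Sylow subgroup. -/
theorem data_z :
    Cfsg.HasNormalPComplement 2 ↥(Subgroup.centralizer ({d.z} : Set G)) ∧
      2 ^ (Nat.card ↥(Subgroup.centralizer ({d.z} : Set G))).factorization 2 = 2 * d.m := by
  haveI : Fact (Nat.Prime 2) := ⟨Nat.prime_two⟩
  set C := Subgroup.centralizer ({d.z} : Set G) with hC
  have hPC : (P : Subgroup G) ≤ C := fun s hs =>
    Subgroup.mem_centralizer_singleton_iff.2 (d.z_comm hs)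
  obtain ⟨S, hS, hq⟩ := exists_sylow_centralizer P.2
    ((Subgroup.zpowers_le.2 d.hx) d.z_mem) hPC d.card fun R hR _ _ => by
      obtain ⟨T, hT⟩ := hR.exists_le_sylow
      rw [← d.card, ← Nat.card_congr (T.equiv P).toEquiv]
      exact Subgroup.card_le_of_le hT
  refine ⟨hasNormalPComplement_of_oddTrivial S fun E hE => ?_, hq⟩
  have hEP : E.map C.subtype ≤ (P : Subgroup G) := by
    rintro _ ⟨v, hv, rfl⟩
    have := hE hv
    rwa [hS, Subgroup.mem_subgroupOf] at this
  intro w hw ho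
  have hwN : (w : G) ∈ Subgroup.normalizer (E.map C.subtype : Set G) := by
    refine Subgroup.mem_normalizer_iff.2 fun v => ⟨?_, ?_⟩
    · rintro ⟨v, hv, rfl⟩
      exact ⟨w * v * w⁻¹, (Subgroup.mem_normalizer_iff.1 hw v).1 hv, by simp⟩
    · rintro ⟨v', hv', e⟩
      refine ⟨w⁻¹ * v' * w, (Subgroup.mem_normalizer_iff.1 hw _).2 (by simpa [mul_assoc] using hv'), ?_⟩
      have e' : (v' : G) = (w : G) * v * (w : G)⁻¹ := e
      simp [e', mul_assoc]
  have key : (w : G) ∈ Subgroup.centralizer (E.map C.subtype : Set G) := by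
    have ho' : Odd (orderOf (w : G)) := by rwa [Subgroup.orderOf_coe]
    rcases (d.cycMax P.2).oddTrivial hEP with h | h | h
    · exact h _ hwN ho'
    · obtain ⟨hz, -⟩ := d.klein_z_mem h hEP
      refine mem_centralizer_of_invariant (P.2.to_le hEP) hz (fun a ha b hb h1 h2 => ?_) hwN ho' ?_
      · have hidx : ((Subgroup.zpowers d.z).subgroupOf (E.map C.subtype)).index = 2 := by
          have h3 := ((Subgroup.zpowers d.z).subgroupOf (E.map C.subtype)).index_mul_card
          rw [Nat.card_congr (Subgroup.subgroupOfEquivOfLe (Subgroup.zpowers_le.2 hz)).toEquiv,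
            h.card_four, Nat.card_zpowers, orderOf_eq_prime (by rw [pow_two, d.zz]) d.z_ne] at h3
          omega
        have h4 := Subgroup.mul_mem_iff_of_index_two hidx
          (a := (⟨a, ha⟩ : ↥(E.map C.subtype))⁻¹) (b := ⟨b, hb⟩)
        simp only [inv_mem_iff, Subgroup.mem_subgroupOf, Subgroup.coe_mul, Subgroup.coe_inv] at h4
        exact h4.2 ⟨fun h => absurd h h1, fun h => absurd h h2⟩
      · rw [Subgroup.mem_centralizer_singleton_iff.1 w.2, mul_inv_cancel_right]
        exact Subgroup.mem_zpowers _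
    · exact absurd h (no_quat d.out_sq hEP)
  exact Subgroup.mem_centralizer_iff.2 fun v hv =>
    Subtype.ext (Subgroup.mem_centralizer_iff.1 key (v : G) ⟨v, hv, rfl⟩)

/-- The elements of order at least four in the cyclic part. -/
theorem data_x {i : ℤ} (hi : d.x ^ i * d.x ^ i ≠ 1) :
    Cfsg.HasNormalPComplement 2 ↥(Subgroup.centralizer ({d.x ^ i} : Set G)) ∧
      2 ^ (Nat.card ↥(Subgroup.centralizer ({d.x ^ i} : Set G))).factorization 2 = d.m := by
  haveI : Fact (Nat.Prime 2) := ⟨Nat.prime_two⟩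
  set C := Subgroup.centralizer ({d.x ^ i} : Set G) with hC
  have hle : Subgroup.zpowers d.x ≤ C := by
    rw [Subgroup.zpowers_le, Subgroup.mem_centralizer_singleton_iff]
    exact (Commute.self_zpow d.x i).eq
  have hle' : Subgroup.zpowers d.x ≤ (P : Subgroup G) := Subgroup.zpowers_le.2 d.hx
  obtain ⟨S, hS, hq⟩ := exists_sylow_centralizer (P.2.to_le hle')
    (Subgroup.zpow_mem_zpowers d.x i) hle ((Nat.card_zpowers _).trans d.hm) fun R hR ha hc => by
      obtain ⟨g, hga, hgR, hgc⟩ := exists_conj_le (P := P) hR ha hc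
      rw [← d.hm, ← Nat.card_zpowers,
        Nat.card_congr (R.equivMapOfInjective (MulAut.conj g).toMonoidHom (MulAut.conj g).injective).toEquiv]
      refine Subgroup.card_le_of_le fun r hr => ?_
      have hr' := hgc r hr
      rcases fusion d hi hga (isConj_iff.2 ⟨g, rfl⟩) with e | e <;> rw [e] at hr'
      · exact commute_x d hi (hgR hr) hr'
      · exact commute_x d hi (hgR hr) (by
          have h1 := (Commute.inv_right (show Commute r (d.x ^ i)⁻¹ from hr')).eq
          rwa [inv_inv] at h1)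
  haveI : IsCyclic (S : Subgroup C) := by
    rw [hS]
    exact (Subgroup.subgroupOfEquivOfLe hle).isCyclic.2 inferInstance
  refine ⟨Fusion.hasNormalPComplement_of_normalizer_le_centralizer S
    (IsCyclic.normalizer_le_centralizer (P := S) ((Nat.minFac_eq_two_iff _).2 ?_) inferInstance), hq⟩
  refine dvd_trans ?_ (Subgroup.card_subgroup_dvd_card (S : Subgroup C))
  rw [hS, Nat.card_congr (Subgroup.subgroupOfEquivOfLe hle).toEquiv, Nat.card_zpowers, d.hm]
  exact d.even

/-- The reflections not conjugate to the central involution. -/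
theorem data_form {i : ℤ} (hi : ¬ IsConj (d.x ^ i * d.y) d.z) :
    Cfsg.HasNormalPComplement 2 ↥(Subgroup.centralizer ({d.x ^ i * d.y} : Set G)) ∧
      2 ^ (Nat.card ↥(Subgroup.centralizer ({d.x ^ i * d.y} : Set G))).factorization 2 = 4 := by
  haveI : Fact (Nat.Prime 2) := ⟨Nat.prime_two⟩
  set u := d.x ^ i * d.y with hu
  set C := Subgroup.centralizer ({u} : Set G) with hC
  obtain ⟨U, hK, hUP, huU, hUc, -⟩ := exists_four d i
  rw [← hu] at huU hUc
  have hUC : U ≤ C := fun v hv => Subgroup.mem_centralizer_singleton_iff.2 (hUc v hv)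
  have hu1 : u ≠ 1 := fun e => d.form_not_mem i (by rw [← hu, e]; exact one_mem _)
  obtain ⟨S, hS, hq⟩ := exists_sylow_centralizer (P.2.to_le hUP) huU hUC hK.card_four
    fun R hR ha hc => by
      obtain ⟨g, hga, hgR, hgc⟩ := exists_conj_le (P := P) hR ha hc
      have hconj : IsConj u (g * u * g⁻¹) := isConj_iff.2 ⟨g, rfl⟩
      have hsq : g * u * g⁻¹ * (g * u * g⁻¹) = 1 := by
        rw [show g * u * g⁻¹ * (g * u * g⁻¹) = g * (u * u) * g⁻¹ by group, hu, d.form_sq, mul_one,
          mul_inv_cancel]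
      rcases d.cases _ hga with ⟨j, ej⟩ | ⟨j, ej⟩
      · exfalso
        rcases d.sq_cases (ej ▸ Subgroup.zpow_mem_zpowers d.x j) hsq with e | e
        · exact hu1 (conj_eq_one_iff.1 e)
        · exact hi (e ▸ hconj)
      · obtain ⟨V, hV, hVP, -, -, hVc⟩ := exists_four d j
        rw [← hV.card_four,
          Nat.card_congr (R.equivMapOfInjective (MulAut.conj g).toMonoidHom (MulAut.conj g).injective).toEquiv]
        exact Subgroup.card_le_of_le fun r hr => hVc r (hgR hr) (by rw [← ej]; exact hgc r hr)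
  refine ⟨hasNormalPComplement_of_oddTrivial S fun E hE w hw ho => ?_, hq⟩
  have huC : u ∈ C := hUC huU
  set u' : C := ⟨u, huC⟩ with hu'
  have hwu : Commute w u' := Subtype.ext (Subgroup.mem_centralizer_singleton_iff.1 w.2)
  set F : Subgroup C := (S : Subgroup C) with hF
  have huF : u' ∈ F := by rw [hS, Subgroup.mem_subgroupOf]; exact huU
  have hFcard : Nat.card F = 4 := by
    rw [hS, Nat.card_congr (Subgroup.subgroupOfEquivOfLe hUC).toEquiv, hK.card_four]
  have hEp : IsPGroup 2 E := S.2.to_le hE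
  rcases Nat.lt_or_ge (Nat.card E) 4 with h4 | h4
  · refine Subgroup.mem_centralizer_iff.2 fun v hv => ?_
    have hv' : v ∈ E := hv
    suffices w * v * w⁻¹ = v from (mul_inv_eq_iff_eq_mul.1 this).symm
    by_cases hv1 : v = 1
    · simp [hv1]
    obtain ⟨k, hk⟩ := IsPGroup.iff_orderOf.1 hEp ⟨v, hv'⟩
    rw [Subgroup.orderOf_mk] at hk
    obtain ⟨j, hj, hEj⟩ := (Nat.dvd_prime_pow Nat.prime_two).1
      (show Nat.card E ∣ 2 ^ 2 by
        rw [show (2 : ℕ) ^ 2 = 4 from rfl, ← hFcard]; exact Subgroup.card_dvd_of_le hE)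
    have hEz : Subgroup.zpowers v = E := by
      refine Subgroup.eq_of_le_of_card_ge (Subgroup.zpowers_le.2 hv') ?_
      have h2 : orderOf v ≠ 1 := fun e => hv1 (orderOf_eq_one_iff.1 e)
      rw [Nat.card_zpowers]
      interval_cases j
      · rw [hEj]
        have := orderOf_pos v
        omega
      · rw [hEj]
        have := orderOf_pos v
        omega
      · omega
    exact conj_eq_of_odd hk ho (hEz ▸ (Subgroup.mem_normalizer_iff.1 hw v).1 hv')
  · have hEF : E = F := Subgroup.eq_of_le_of_card_ge hE (by show Nat.card F ≤ _; rw [hFcard]; exact h4)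
    subst hEF
    have hidx : ((Subgroup.zpowers u').subgroupOf (S : Subgroup C)).index = 2 := by
      have h3 := ((Subgroup.zpowers u').subgroupOf (S : Subgroup C)).index_mul_card
      rw [Nat.card_congr (Subgroup.subgroupOfEquivOfLe (Subgroup.zpowers_le.2 huF)).toEquiv,
        Nat.card_zpowers, show Nat.card (S : Subgroup C) = 4 from hFcard,
        orderOf_eq_prime (by rw [pow_two]; exact Subtype.ext (d.form_sq i))
          (fun e => hu1 (congrArg Subtype.val e))] at h3
      omega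
    refine mem_centralizer_of_invariant S.2 huF (fun a ha b hb h1 h2 => ?_) hw ho ?_
    · have h4 := Subgroup.mul_mem_iff_of_index_two hidx
        (a := (⟨a, ha⟩ : ↥(S : Subgroup C))⁻¹) (b := ⟨b, hb⟩)
      simp only [inv_mem_iff, Subgroup.mem_subgroupOf, Subgroup.coe_mul, Subgroup.coe_inv] at h4
      exact h4.2 ⟨fun h => absurd h h1, fun h => absurd h h2⟩
    · rw [hwu.eq, mul_inv_cancel_right]
      exact Subgroup.mem_zpowers _

/-- Centralizers of conjugate elements. -/
def centConj (g a : G) : ↥(Subgroup.centralizer ({a} : Set G)) ≃*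
    ↥(Subgroup.centralizer ({g * a * g⁻¹} : Set G)) where
  toFun c := ⟨g * c * g⁻¹, Subgroup.mem_centralizer_singleton_iff.2 (by
    calc g * c * g⁻¹ * (g * a * g⁻¹) = g * ((c : G) * a) * g⁻¹ := by group
      _ = g * (a * c) * g⁻¹ := by rw [Subgroup.mem_centralizer_singleton_iff.1 c.2]
      _ = g * a * g⁻¹ * (g * c * g⁻¹) := by group)⟩
  invFun c := ⟨g⁻¹ * c * g, Subgroup.mem_centralizer_singleton_iff.2 (by
    calc g⁻¹ * c * g * a = g⁻¹ * ((c : G) * (g * a * g⁻¹)) * g := by group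
      _ = g⁻¹ * (g * a * g⁻¹ * c) * g := by rw [Subgroup.mem_centralizer_singleton_iff.1 c.2]
      _ = a * (g⁻¹ * c * g) := by group)⟩
  left_inv c := Subtype.ext (by simp [mul_assoc])
  right_inv c := Subtype.ext (by simp [mul_assoc])
  map_mul' c c' := Subtype.ext (by simp [mul_assoc])

/-- The three kinds of nontrivial 2-elements. -/
theorem classify {a : G} (ha : ∃ k, orderOf a = 2 ^ k) (ha1 : a ≠ 1) :
    IsConj a d.z ∨ (∃ i : ℤ, d.x ^ i * d.x ^ i ≠ 1 ∧ IsConj a (d.x ^ i)) ∨
      ∃ i : ℤ, ¬ IsConj (d.x ^ i * d.y) d.z ∧ IsConj a (d.x ^ i * d.y) := by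
  obtain ⟨k, hk⟩ := ha
  obtain ⟨g, hg⟩ := exists_conj_mem P hk
  have hc : IsConj a (g * a * g⁻¹) := isConj_iff.2 ⟨g, rfl⟩
  rcases d.cases _ hg with ⟨i, hi⟩ | ⟨i, hi⟩
  · by_cases h : d.x ^ i * d.x ^ i = 1
    · rcases d.sq_cases (Subgroup.zpow_mem_zpowers d.x i) h with e | e
      · exact absurd (conj_eq_one_iff.1 (hi.trans e)) ha1
      · exact Or.inl ((hi.trans e) ▸ hc)
    · exact Or.inr (Or.inl ⟨i, h, hi ▸ hc⟩)
  · by_cases h : IsConj (d.x ^ i * d.y) d.z
    · exact Or.inl ((hi ▸ hc).trans h)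
    · exact Or.inr (Or.inr ⟨i, h, hi ▸ hc⟩)

include d in
/-- Every centralizer of a nontrivial 2-element has a normal 2-complement. -/
theorem complement_all {a : G} (ha : ∃ k, orderOf a = 2 ^ k) (ha1 : a ≠ 1) :
    Cfsg.HasNormalPComplement 2 ↥(Subgroup.centralizer ({a} : Set G)) := by
  haveI : Fact (Nat.Prime 2) := ⟨Nat.prime_two⟩
  have key : ∀ b, IsConj a b → Cfsg.HasNormalPComplement 2 ↥(Subgroup.centralizer ({b} : Set G)) →
      Cfsg.HasNormalPComplement 2 ↥(Subgroup.centralizer ({a} : Set G)) := fun b hb h => by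
    obtain ⟨g, rfl⟩ := isConj_iff.1 hb
    exact (PBasic.hasNormalPComplement_congr (centConj g a)).2 h
  rcases classify d ha ha1 with h | ⟨i, hi, h⟩ | ⟨i, hi, h⟩
  · exact key _ h (data_z d).1
  · exact key _ h (data_x d hi).1
  · exact key _ h (data_form d hi).1

end Cfsg.Agent.DihBlock
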