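/-
A block of `G` covering a block `b` of a normal subgroup covers every member of `b`.
-/
import Cfsg.Agent.Lib.Blocks.Covering
import Cfsg.Agent.Lib.Blocks.LocalIdem
import Cfsg.Agent.Lib.Char.Convolution
import Mathlib.RingTheory.Nakayama

set_option linter.unusedSectionVars false
set_option linter.style.haveILetI false

namespace Cfsg.Agent.Blocks

open Cfsg MonoidAlgebra Cfsg.Agent.Char
open scoped ComplexConjugate

universe u

/-! ## Sums of multiples of central nilpotent elements -/

section ringPart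

variable {A : Type*} [Ring A] (C : Subring A)

/-- Combinations of the listed elements with coefficients in `C`. -/
def spanList : List A → A → Prop
  | [], x => x = 0
  | w :: l, x => ∃ c ∈ C, ∃ j, spanList l j ∧ x = w * c + j

theorem spanList_zero : ∀ l : List A, spanList C l 0
  | [] => rfl
  | w :: l => ⟨0, C.zero_mem, 0, spanList_zero l, by simp⟩

theorem spanList_add : ∀ (l : List A) {x y : A}, spanList C l x → spanList C l y →
    spanList C l (x + y)
  | [], x, y, hx, hy => by rw [show x = 0 from hx, show y = 0 from hy, add_zero]; rfl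
  | w :: l, x, y, hx, hy => by
    obtain ⟨c, hc, j, hj, rfl⟩ := hx
    obtain ⟨c', hc', j', hj', rfl⟩ := hy
    exact ⟨c + c', C.add_mem hc hc', j + j', spanList_add l hj hj', by rw [mul_add]; abel⟩

theorem spanList_mul_right : ∀ (l : List A) {x c : A}, spanList C l x → c ∈ C →
    spanList C l (x * c)
  | [], x, c, hx, _ => by rw [show x = 0 from hx, zero_mul]; rfl
  | w :: l, x, c, hx, hc => by
    obtain ⟨a, ha, j, hj, rfl⟩ := hx
    exact ⟨a * c, C.mul_mem ha hc, j * c, spanList_mul_right l hj hc,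
      by rw [add_mul, mul_assoc]⟩

theorem spanList_mul_left : ∀ (l : List A) {x c : A}, (∀ w ∈ l, ∀ b ∈ C, b * w = w * b) →
    spanList C l x → c ∈ C → spanList C l (c * x)
  | [], x, c, _, hx, _ => by rw [show x = 0 from hx, mul_zero]; rfl
  | w :: l, x, c, hl, hx, hc => by
    obtain ⟨a, ha, j, hj, rfl⟩ := hx
    refine ⟨c * a, C.mul_mem hc ha, c * j,
      spanList_mul_left l (fun v hv => hl v (List.mem_cons_of_mem _ hv)) hj hc, ?_⟩
    rw [mul_add, ← mul_assoc, hl w (List.mem_cons_self ..) c hc, mul_assoc]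

theorem spanList_append : ∀ (l l' : List A) {x y : A}, spanList C l x → spanList C l' y →
    spanList C (l ++ l') (x + y)
  | [], l', x, y, hx, hy => by rw [show x = 0 from hx, zero_add]; exact hy
  | w :: l, l', x, y, hx, hy => by
    obtain ⟨a, ha, j, hj, rfl⟩ := hx
    exact ⟨a, ha, j + y, spanList_append l l' hj hy, by rw [add_assoc]⟩

/-- An idempotent in the two-sided ideal of finitely many central nilpotent elements vanishes. -/
theorem idem_eq_zero_of_spanList : ∀ (l : List A),
    (∀ w ∈ l, w ∈ C ∧ IsNilpotent w ∧ ∀ b ∈ C, b * w = w * b) → ∀ {f : A}, f ∈ C → f * f = f →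
      spanList C l f → f = 0
  | [], _, f, _, _, h => h
  | w :: l, hl, f, hfC, hf, h => by
    obtain ⟨hwC, hwn, hwc⟩ := hl w (List.mem_cons_self ..)
    have hl' : ∀ v ∈ l, v ∈ C ∧ IsNilpotent v ∧ ∀ b ∈ C, b * v = v * b :=
      fun v hv => hl v (List.mem_cons_of_mem _ hv)
    have hcomm : ∀ v ∈ l, ∀ b ∈ C, b * v = v * b := fun v hv => (hl' v hv).2.2
    obtain ⟨a, ha, j0, hj0, hf0⟩ := h
    refine idem_eq_zero_of_spanList l hl' hfC hf ?_
    have key : ∀ k : ℕ, ∃ a' ∈ C, ∃ j, spanList C l j ∧ f = w ^ k * a' + j := by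
      intro k
      induction k with
      | zero => exact ⟨f, hfC, 0, spanList_zero C l, by simp⟩
      | succ k ih =>
        obtain ⟨a', ha', j, hj, hfk⟩ := ih
        refine ⟨a' * a, C.mul_mem ha' ha, w ^ k * a' * j0 + j * f, spanList_add C l
          (spanList_mul_left C l hcomm hj0 (C.mul_mem (C.pow_mem hwC k) ha'))
          (spanList_mul_right C l hj hfC), ?_⟩
        calc f = f * f := hf.symm
          _ = (w ^ k * a' + j) * f := by rw [← hfk]
          _ = w ^ k * a' * (w * a + j0) + j * f := by rw [add_mul, ← hf0]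
          _ = w ^ (k + 1) * (a' * a) + (w ^ k * a' * j0 + j * f) := by
            rw [mul_add, add_assoc]
            congr 1
            rw [← mul_assoc, mul_assoc (w ^ k) a' w, hwc a' ha', ← mul_assoc, ← pow_succ, mul_assoc]
    obtain ⟨n, hn⟩ := hwn
    obtain ⟨a', -, j, hj, hfj⟩ := key n
    rw [hn, zero_mul, zero_add] at hfj
    rwa [hfj]

end ringPart

/-! ## The coset grading -/

section grading

variable {G : Type u} [Group G] [Fintype G] (N : Subgroup G) [N.Normal] {R : Type*} [CommRing R]

/-- The inclusion of the group algebra of `N`. -/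
noncomputable def inclN : MonoidAlgebra R N →+* MonoidAlgebra R G :=
  mapDomainRingHom R N.subtype

theorem coeff_inclN_coe (x : MonoidAlgebra R N) (n : N) :
    (inclN N x).coeff (n : G) = x.coeff n := by
  show (Finsupp.mapDomain _ x.coeff) (N.subtype n) = _
  exact Finsupp.mapDomain_apply Subtype.val_injective x.coeff n

theorem coeff_inclN_notMem (x : MonoidAlgebra R N) {g : G} (hg : g ∉ N) :
    (inclN N x).coeff g = 0 := by
  show (Finsupp.mapDomain _ x.coeff) g = _
  exact Finsupp.mapDomain_notin_range _ _ (by rintro ⟨n, rfl⟩; exact hg n.2)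

/-- The part supported on a coset. -/
noncomputable def partN (s : G ⧸ N) (x : MonoidAlgebra R G) : MonoidAlgebra R G :=
  gaOfFun fun g => by classical exact if (QuotientGroup.mk g : G ⧸ N) = s then x.coeff g else 0

theorem coeff_partN (s : G ⧸ N) (x : MonoidAlgebra R G) (g : G)
    [Decidable ((QuotientGroup.mk g : G ⧸ N) = s)] :
    (partN N s x).coeff g = if (QuotientGroup.mk g : G ⧸ N) = s then x.coeff g else 0 := by
  simp [partN]

/-- Support in one coset. -/
def SuppIn (x : MonoidAlgebra R G) (d : G ⧸ N) : Prop :=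
  ∀ g : G, (QuotientGroup.mk g : G ⧸ N) ≠ d → x.coeff g = 0

theorem suppIn_partN (s : G ⧸ N) (x : MonoidAlgebra R G) : SuppIn N (partN N s x) s :=
  fun g hg => by classical rw [coeff_partN, if_neg hg]

theorem sum_partN [Fintype (G ⧸ N)] (x : MonoidAlgebra R G) : ∑ s, partN N s x = x := by
  classical
  refine gaExt fun g => ?_
  rw [MonoidAlgebra.coeff_sum, Finset.sum_apply',
    Finset.sum_congr rfl fun s _ => coeff_partN N s x g]
  simp

theorem suppIn_one : SuppIn N (1 : MonoidAlgebra R G) 1 := by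
  classical
  intro g hg
  rw [MonoidAlgebra.one_def, MonoidAlgebra.coeff_single, Finsupp.single_apply, if_neg]
  rintro rfl
  exact hg rfl

theorem SuppIn.mul {x y : MonoidAlgebra R G} {d d' : G ⧸ N} (hx : SuppIn N x d)
    (hy : SuppIn N y d') : SuppIn N (x * y) (d * d') := by
  intro g hg
  rw [coeff_mul_univ]
  refine Finset.sum_eq_zero fun a _ => ?_
  by_cases ha : (QuotientGroup.mk a : G ⧸ N) = d
  · rw [hy (a⁻¹ * g), mul_zero]
    intro h
    exact hg (by rw [← ha, ← h, ← QuotientGroup.mk_mul, mul_inv_cancel_left])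
  · rw [hx a ha, zero_mul]

theorem partN_mul {v : MonoidAlgebra R G} {d : G ⧸ N} (hv : SuppIn N v d) (s : G ⧸ N)
    (x : MonoidAlgebra R G) : partN N (d * s) (v * x) = v * partN N s x := by
  classical
  refine gaExt fun g => ?_
  rw [coeff_partN, coeff_mul_univ v (partN N s x)]
  by_cases hg : (QuotientGroup.mk g : G ⧸ N) = d * s
  · rw [if_pos hg, coeff_mul_univ]
    refine Finset.sum_congr rfl fun a _ => ?_
    rw [coeff_partN]
    by_cases ha : (QuotientGroup.mk a : G ⧸ N) = d
    · rw [if_pos]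
      rw [QuotientGroup.mk_mul, QuotientGroup.mk_inv, ha, hg, inv_mul_cancel_left]
    · rw [hv a ha, zero_mul, zero_mul]
  · rw [if_neg hg]
    symm
    refine Finset.sum_eq_zero fun a _ => ?_
    rw [coeff_partN]
    by_cases ha : (QuotientGroup.mk a : G ⧸ N) = d
    · rw [if_neg, mul_zero]
      intro h
      exact hg (by rw [← ha, ← h, ← QuotientGroup.mk_mul, mul_inv_cancel_left])
    · rw [hv a ha, zero_mul]

/-- The elements commuting with the group algebra of `N`. -/
noncomputable def centN : Subring (MonoidAlgebra R G) :=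
  Subring.centralizer (Set.range (inclN N (R := R)))

theorem mem_centN_of_isInvElt {x : MonoidAlgebra R G} (hx : IsInvElt N x) : x ∈ centN N := by
  classical
  rw [centN, Subring.mem_centralizer_iff]
  rintro _ ⟨y, rfl⟩
  refine gaExt fun g => ?_
  rw [coeff_mul_univ, coeff_mul_univ]
  refine Fintype.sum_equiv ((Equiv.inv G).trans (Equiv.mulLeft g)) _ _ fun a => ?_
  simp only [Equiv.trans_apply, Equiv.inv_apply, Equiv.coe_mulLeft]
  rw [show (g * a⁻¹)⁻¹ * g = a by group]
  by_cases ha : a ∈ N
  · rw [mul_comm, ← hx a ha (a⁻¹ * g), mul_inv_cancel_left]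
  · rw [coeff_inclN_notMem N y ha, zero_mul, mul_zero]

theorem single_inclN (n : N) : inclN N (single n (1 : R)) = single (n : G) 1 := by
  simp [inclN]

theorem isInvElt_of_mem_centN {x : MonoidAlgebra R G} (hx : x ∈ centN N) : IsInvElt N x := by
  classical
  intro a ha g
  rw [centN, Subring.mem_centralizer_iff] at hx
  have h := congrArg (fun z : MonoidAlgebra R G => z.coeff (a * g))
    (hx _ ⟨single ⟨a, ha⟩ 1, rfl⟩)
  simp only [single_inclN] at h
  rw [coeff_mul_univ, coeff_mul_univ, Finset.sum_eq_single a (fun b _ hb => by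
      rw [MonoidAlgebra.coeff_single, Finsupp.single_apply, if_neg (Ne.symm hb), zero_mul])
      (fun h => absurd (Finset.mem_univ _) h),
    Finset.sum_eq_single (a * g * a⁻¹) (fun b _ hb => by
      rw [MonoidAlgebra.coeff_single, Finsupp.single_apply, if_neg, mul_zero]
      intro e
      apply hb
      conv_rhs => arg 2; rw [e]
      group) (fun h => absurd (Finset.mem_univ _) h)] at h
  rw [MonoidAlgebra.coeff_single, Finsupp.single_eq_same, one_mul, inv_mul_cancel_left,
    show (a * g * a⁻¹)⁻¹ * (a * g) = a by group, Finsupp.single_eq_same, mul_one] at h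
  exact h.symm

theorem isInvElt_partN {x : MonoidAlgebra R G} (hx : IsInvElt N x) (s : G ⧸ N) :
    IsInvElt N (partN N s x) := by
  classical
  intro u hu g
  have : (QuotientGroup.mk (u * g * u⁻¹) : G ⧸ N) = QuotientGroup.mk g := by
    rw [QuotientGroup.mk_mul, QuotientGroup.mk_mul, QuotientGroup.mk_inv,
      (QuotientGroup.eq_one_iff u).2 hu, one_mul, inv_one, mul_one]
  rw [coeff_partN, coeff_partN, this, hx u hu g]

theorem inclN_commute_mem_centN (y : MonoidAlgebra R N) {b : MonoidAlgebra R G}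
    (hb : b ∈ centN N) : b * inclN N y = inclN N y * b :=
  ((Subring.mem_centralizer_iff.1 hb) _ ⟨y, rfl⟩).symm

theorem inclN_mem_centN {y : MonoidAlgebra R N} [Fintype N] (hy : IsClassElt y) :
    inclN N y ∈ centN N := by
  refine Subring.mem_centralizer_iff.2 ?_
  rintro _ ⟨z, rfl⟩
  rw [← map_mul, ← map_mul, IsClassElt.comm hy]

end grading

/-! ## Covering every character -/

section cover

variable {G : Type u} [Group G] [Fintype G] {p : ℕ} {M : Ideal AlgInt} [M.IsPrime]
  (N : Subgroup G) [N.Normal] [Fintype N]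

theorem sum_translate_eq_zero (χ : IrrCharacter G) (θ : IrrCharacter N)
    (h : classInner (fun n : N => (χ : G → ℂ) n) (θ : N → ℂ) = 0) (x : G) :
    ∑ n : N, (χ : G → ℂ) (x * (n : G)⁻¹) * (θ : N → ℂ) n = 0 := by
  classical
  set f : G → ℂ := fun x => ∑ n : N, (χ : G → ℂ) (x * (n : G)⁻¹) * (θ : N → ℂ) n with hf
  have hsum : ∑ x : G, f x * conj (f x) = 0 := by
    have h1 : ∀ n m : N, ∑ x : G, (χ : G → ℂ) (x * (n : G)⁻¹) *
        conj ((χ : G → ℂ) (x * (m : G)⁻¹)) =
        (Nat.card G : ℂ) * (χ : G → ℂ) ((m * n⁻¹ : N) : G) / (χ : G → ℂ) 1 := by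
      intro n m
      have := Cfsg.Agent.CharX.convolution χ χ ((m * n⁻¹ : N) : G)
      rw [if_pos rfl] at this
      rw [← this]
      refine Fintype.sum_equiv (Equiv.mulRight (n : G)⁻¹) _ _ fun x => ?_
      simp only [Equiv.coe_mulRight]
      rw [← irr_inv χ (x * (m : G)⁻¹), ← irr_conj_invariant χ (x * (m : G)⁻¹)⁻¹ ((n : G) * (m : G)⁻¹)]
      congr 2
      push_cast
      group
    have h2 : ∀ k : N, ∑ n : N, (θ : N → ℂ) n * conj ((θ : N → ℂ) (k * n)) =
        (Nat.card N : ℂ) * (θ : N → ℂ) k⁻¹ / (θ : N → ℂ) 1 := by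
      intro k
      have := Cfsg.Agent.CharX.convolution θ θ k⁻¹
      rw [if_pos rfl] at this
      rw [← this]
      refine Finset.sum_congr rfl fun n _ => ?_
      rw [← irr_inv θ (k * n), mul_inv_rev]
    calc ∑ x : G, f x * conj (f x)
        = ∑ n : N, ∑ m : N, (θ : N → ℂ) n * conj ((θ : N → ℂ) m) *
            ∑ x : G, (χ : G → ℂ) (x * (n : G)⁻¹) * conj ((χ : G → ℂ) (x * (m : G)⁻¹)) := by
          simp only [hf, map_sum, map_mul, Finset.mul_sum, Finset.sum_mul]
          conv_lhs => arg 2; ext y; rw [Finset.sum_comm]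
          rw [Finset.sum_comm]
          refine Finset.sum_congr rfl fun n _ => ?_
          rw [Finset.sum_comm]
          exact Finset.sum_congr rfl fun m _ => Finset.sum_congr rfl fun x _ => by ring
      _ = ∑ n : N, ∑ k : N, (θ : N → ℂ) n * conj ((θ : N → ℂ) (k * n)) *
            ((Nat.card G : ℂ) * (χ : G → ℂ) (k : G) / (χ : G → ℂ) 1) := by
          refine Finset.sum_congr rfl fun n _ => ?_
          refine Fintype.sum_equiv (Equiv.mulRight n⁻¹) _ _ fun m => ?_
          simp only [Equiv.coe_mulRight, inv_mul_cancel_right, h1]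
      _ = ∑ k : N, (Nat.card N : ℂ) * (θ : N → ℂ) k⁻¹ / (θ : N → ℂ) 1 *
            ((Nat.card G : ℂ) * (χ : G → ℂ) (k : G) / (χ : G → ℂ) 1) := by
          rw [Finset.sum_comm]
          refine Finset.sum_congr rfl fun k _ => ?_
          rw [← h2 k, Finset.sum_mul]
      _ = ((Nat.card N : ℂ) / (θ : N → ℂ) 1 * ((Nat.card G : ℂ) / (χ : G → ℂ) 1) * (Nat.card N : ℂ)) *
            classInner (fun n : N => (χ : G → ℂ) n) (θ : N → ℂ) := by
          unfold classInner
          rw [Finset.mul_sum, Finset.mul_sum]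
          refine Finset.sum_congr rfl fun k _ => ?_
          rw [← irr_inv θ k]
          have hN : (Nat.card N : ℂ) ≠ 0 := Nat.cast_ne_zero.2 Nat.card_pos.ne'
          field_simp
      _ = 0 := by rw [h, mul_zero]
  have h3 : ∑ x : G, Complex.normSq (f x) = 0 := by
    have : ((∑ x : G, Complex.normSq (f x) : ℝ) : ℂ) = 0 := by
      push_cast
      simp only [← Complex.mul_conj]
      exact hsum
    exact_mod_cast this
  exact Complex.normSq_eq_zero.1
    ((Finset.sum_eq_zero_iff_of_nonneg fun x _ => Complex.normSq_nonneg _).1 h3 x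
      (Finset.mem_univ _))

theorem resG_inclN (x : MonoidAlgebra (locRing M) N) : resG (inclN N x) = inclN N (resG x) := by
  refine gaExt fun g => ?_
  by_cases hg : g ∈ N
  · rw [coeff_resG, show g = ((⟨g, hg⟩ : N) : G) from rfl, coeff_inclN_coe, coeff_inclN_coe,
      coeff_resG]
  · rw [coeff_resG, coeff_inclN_notMem N x hg, coeff_inclN_notMem N _ hg, map_zero]

theorem eq_zero_of_idem_of_resG {X : MonoidAlgebra (locRing M) G} (hX : X * X = X)
    (h0 : resG X = 0) : X = 0 := by
  classical
  set I : Ideal (locRing M) := Ideal.span (Set.range fun g => X.coeff g) with hI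
  have hIle : I ≤ I • I := by
    refine Ideal.span_le.2 ?_
    rintro _ ⟨g, rfl⟩
    simp only [SetLike.mem_coe]
    rw [← hX, coeff_mul_univ]
    refine Submodule.sum_mem _ fun a _ => Submodule.smul_mem_smul ?_ ?_
    · exact Ideal.subset_span ⟨a, rfl⟩
    · exact Ideal.subset_span ⟨a⁻¹ * g, rfl⟩
  have hj : I ≤ Ideal.jacobson ⊥ := by
    refine le_trans ?_ (IsLocalRing.maximalIdeal_le_jacobson _)
    refine Ideal.span_le.2 ?_
    rintro _ ⟨g, rfl⟩
    rw [SetLike.mem_coe, ← IsLocalRing.residue_eq_zero_iff]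
    have := coeff_resG X g
    rw [h0] at this
    simpa [res] using this.symm
  have hbot := Submodule.eq_bot_of_le_smul_of_le_jacobson_bot I I
    (Submodule.fg_span (Set.finite_range _)) hIle hj
  refine gaExt fun g => ?_
  have : X.coeff g ∈ I := Ideal.subset_span ⟨g, rfl⟩
  rw [hbot, Submodule.mem_bot] at this
  simpa using this

/-- The product of a covering block idempotent and the covered one is not zero. -/
theorem coverProd_ne_zero {B : Set (IrrCharacter G)} (hB : IsPBlock M B)
    {b : Set (IrrCharacter N)} (hb : IsPBlock M b) {χ : IrrCharacter G} (hχ : χ ∈ B)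
    {θ : IrrCharacter N} (hθ : θ ∈ b)
    (h : classInner (fun n : N => (χ : G → ℂ) n) (θ : N → ℂ) ≠ 0) :
    inclN N (blockEltR M b) * blockEltR M B ≠ 0 := by
  classical
  intro h0
  have hX : ∑ g : G, ((inclN N (blockEltR M b) * blockEltR M B).coeff g : ℂ) * (χ : G → ℂ) g = 0 := by
    simp [h0]
  have hB1 : ∀ c : G, ∑ a : G, blockCoeff B a * (χ : G → ℂ) (c * a) = (χ : G → ℂ) c := by
    intro c
    simp only [blockCoeff_eq_sum, mul_assoc, ← Finset.mul_sum, Finset.sum_mul]
    rw [Finset.sum_comm]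
    have h2 : ∀ φ : IrrCharacter G, ∑ a : G, (φ : G → ℂ) 1 * (conj ((φ : G → ℂ) a) * (χ : G → ℂ) (c * a)) =
        if φ = χ then (Nat.card G : ℂ) * (χ : G → ℂ) c else 0 := by
      intro φ
      have := Cfsg.Agent.CharX.convolution φ χ c
      rw [← Finset.mul_sum]
      have e : ∑ a : G, conj ((φ : G → ℂ) a) * (χ : G → ℂ) (c * a) =
          ∑ x : G, (φ : G → ℂ) x * (χ : G → ℂ) (x⁻¹ * c) := by
        refine Fintype.sum_equiv (Equiv.inv G) _ _ fun a => ?_
        simp only [Equiv.inv_apply, inv_inv, irr_inv]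
        congr 1
        rw [← irr_conj_invariant χ (c * a) a]
        congr 1
        group
      rw [e, this]
      split_ifs with hh
      · subst hh
        field_simp [irr_one_ne_zero φ]
      · rw [mul_zero]
    simp only [h2, Finset.sum_ite_eq', Finset.mem_filter, Finset.mem_univ, true_and, hχ, if_true]
    rw [← mul_assoc, inv_mul_cancel₀ (Nat.cast_ne_zero.2 Nat.card_pos.ne'), one_mul]
  have hexp : ∑ g : G, ((inclN N (blockEltR M b) * blockEltR M B).coeff g : ℂ) * (χ : G → ℂ) g =
      ∑ n : N, blockCoeff b n * (χ : G → ℂ) n := by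
    simp only [coeff_mul_univ, AddSubmonoidClass.coe_finset_sum, MulMemClass.coe_mul,
      Finset.sum_mul]
    rw [Finset.sum_comm]
    have hswap : ∀ a : G, ∑ g : G, ((inclN N (blockEltR M b)).coeff a : ℂ) *
        ((blockEltR M B).coeff (a⁻¹ * g) : ℂ) * (χ : G → ℂ) g =
        ((inclN N (blockEltR M b)).coeff a : ℂ) * (χ : G → ℂ) a := by
      intro a
      simp only [coeff_blockEltR hB, mul_assoc, ← Finset.mul_sum]
      congr 1
      rw [← hB1 a]
      refine Fintype.sum_equiv (Equiv.mulLeft a⁻¹) _ _ fun g => ?_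
      simp
    rw [Finset.sum_congr rfl fun a _ => hswap a]
    symm
    refine Finset.sum_bij_ne_zero (fun n _ _ => (n : G)) (fun _ _ _ => Finset.mem_univ _)
      (fun _ _ _ _ _ _ e => Subtype.ext e) ?_ ?_
    · intro g _ hg
      have hgN : g ∈ N := by
        by_contra hn
        exact hg (by rw [coeff_inclN_notMem N _ hn]; simp)
      refine ⟨⟨g, hgN⟩, Finset.mem_univ _, ?_, rfl⟩
      rw [← coeff_blockEltR hb, ← coeff_inclN_coe N (blockEltR M b)]
      exact hg
    · intro n _ _
      rw [coeff_inclN_coe, coeff_blockEltR hb]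
  rw [hexp] at hX
  have h3 : ∑ φ ∈ Finset.univ.filter (· ∈ b), (φ : N → ℂ) 1 *
      classInner (fun n : N => (χ : G → ℂ) n) (φ : N → ℂ) = 0 := by
    rw [← hX]
    simp only [blockCoeff_eq_sum, classInner, Finset.mul_sum, Finset.sum_mul]
    rw [Finset.sum_comm]
    exact Finset.sum_congr rfl fun n _ => Finset.sum_congr rfl fun φ _ => by ring
  have hres : IsCharacter N (fun n : N => (χ : G → ℂ) n) :=
    IsCharacter.restrict (irr_isCharacter χ) N
  choose m hm using fun φ : IrrCharacter N =>
    IsCharacter.exists_classInner_nat hres (irr_isCharacter φ)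
  have hterm : ∀ φ : IrrCharacter N, (φ : N → ℂ) 1 *
      classInner (fun n : N => (χ : G → ℂ) n) (φ : N → ℂ) =
        ((charDegree (φ : N → ℂ) * m φ : ℕ) : ℂ) := fun φ => by
    rw [hm, irr_one_eq_charDegree, Nat.cast_mul]
  rw [Finset.sum_congr rfl fun φ _ => hterm φ, ← Nat.cast_sum, Nat.cast_eq_zero,
    Finset.sum_eq_zero_iff] at h3
  have := h3 θ (Finset.mem_filter.2 ⟨Finset.mem_univ _, hθ⟩)
  rcases mul_eq_zero.1 this with h4 | h4
  · exact (charDegree_pos θ).ne' h4
  · exact h (by rw [hm, h4, Nat.cast_zero])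

theorem blockCoeff_translate_sum_eq_zero (B : Set (IrrCharacter G)) (θ : IrrCharacter N)
    (h : ∀ χ ∈ B, classInner (fun n : N => (χ : G → ℂ) n) (θ : N → ℂ) = 0) (y : G) :
    ∑ n : N, blockCoeff B ((n : G) * y⁻¹) * (θ : N → ℂ) n = 0 := by
  classical
  simp only [blockCoeff_eq_sum, mul_assoc, ← Finset.mul_sum, Finset.sum_mul]
  rw [Finset.sum_comm]
  refine mul_eq_zero_of_right _ (Finset.sum_eq_zero fun χ hχ => ?_)
  rw [← Finset.mul_sum]
  refine mul_eq_zero_of_right _ ?_
  rw [← sum_translate_eq_zero N χ θ (h χ (Finset.mem_filter.1 hχ).2) y]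
  refine Finset.sum_congr rfl fun n _ => ?_
  rw [← irr_inv χ, mul_inv_rev, inv_inv]

/-- The degree-one part of a covering idempotent times an invariant element is nilpotent on a
block of `N` with an uncovered member. -/
theorem isNilpotent_covering_part {B : Set (IrrCharacter G)} (hB : IsPBlock M B)
    {b : Set (IrrCharacter N)} (hb : IsPBlock M b) {θ : IrrCharacter N} (hθ : θ ∈ b)
    (h : ∀ χ ∈ B, classInner (fun n : N => (χ : G → ℂ) n) (θ : N → ℂ) = 0)
    {v : MonoidAlgebra (resField M) G} (hv : IsInvElt N v) :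
    ∃ z : MonoidAlgebra (resField M) N, IsClassElt z ∧
      inclN N z = partN N 1 (resG (blockEltR M B) * v) ∧
        IsNilpotent (z * resG (blockEltR M b)) := by
  classical
  let Y : MonoidAlgebra (locRing M) G :=
    gaOfFun fun g => Function.surjInv (res_surjective (M := M)) (v.coeff g)
  have hY : IsInvElt N Y := fun u hu g => by
    simp only [Y, coeff_gaOfFun, hv u hu g]
  have hYv : resG Y = v := gaExt fun g => by
    simp [Y, coeff_resG, Function.surjInv_eq (res_surjective (M := M))]
  let W := blockEltR M B * Y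
  have hW : IsInvElt N W := isInvElt_of_mem_centN N (Subring.mul_mem _
    (mem_centN_of_isInvElt N (IsClassElt.isInvElt (isClassElt_blockEltR B) _))
    (mem_centN_of_isInvElt N hY))
  let Z : MonoidAlgebra (locRing M) N := gaOfFun fun n : N => W.coeff (n : G)
  have hZ : IsClassElt Z := fun n k => by
    simp only [Z, coeff_gaOfFun, Subgroup.coe_mul, Subgroup.coe_inv]
    exact hW k k.2 n
  refine ⟨resG Z, IsClassElt.map hZ _, ?_, ?_⟩
  · refine gaExt fun g => ?_
    rw [coeff_partN, ← hYv, ← map_mul]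
    by_cases hg : g ∈ N
    · rw [if_pos ((QuotientGroup.eq_one_iff g).2 hg), coeff_resG,
        show g = ((⟨g, hg⟩ : N) : G) from rfl, coeff_inclN_coe, coeff_resG]
      rfl
    · rw [if_neg fun e => hg ((QuotientGroup.eq_one_iff g).1 e), coeff_inclN_notMem N _ hg]
  · rw [← map_mul]
    refine isNilpotent_resG (IsClassElt.mul hZ (isClassElt_blockEltR b)) fun φ => ?_
    rw [omegaR_mul φ hZ (isClassElt_blockEltR b), omegaR_blockEltR hb]
    split_ifs with hφ
    · rw [mul_one]
      have h0 : omegaR θ Z = 0 := by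
        simp only [omegaR, omega, coeff_toC, Z, coeff_gaOfFun, W, coeff_mul_univ,
          AddSubmonoidClass.coe_finset_sum, MulMemClass.coe_mul, coeff_blockEltR hB,
          Finset.sum_mul]
        have e : ∀ n : N, ∑ a : G, blockCoeff B a * (Y.coeff (a⁻¹ * (n : G)) : ℂ) *
            (θ : N → ℂ) n =
            ∑ y : G, (Y.coeff y : ℂ) * (blockCoeff B ((n : G) * y⁻¹) * (θ : N → ℂ) n) := by
          intro n
          refine Fintype.sum_equiv ((Equiv.inv G).trans (Equiv.mulRight (n : G))) _ _ fun a => ?_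
          simp only [Equiv.trans_apply, Equiv.inv_apply, Equiv.coe_mulRight]
          rw [show (n : G) * (a⁻¹ * (n : G))⁻¹ = a by group]
          ring
        rw [Finset.sum_congr rfl fun n _ => e n, Finset.sum_comm,
          Finset.sum_eq_zero, zero_div]
        intro y _
        rw [← Finset.mul_sum, blockCoeff_translate_sum_eq_zero N B θ h y, mul_zero]
      have := omegaR_congr (isPBlock_sameBlock hb hφ hθ) hZ
      rwa [h0, sub_zero] at this
    · rw [mul_zero]; exact memLocalIdeal_zero

/-- A block covering `b` lies over every member of `b`. -/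
theorem exists_over_of_covers {B : Set (IrrCharacter G)} (hB : IsPBlock M B)
    {b : Set (IrrCharacter N)} (hb : IsPBlock M b) {χ₀ : IrrCharacter G} (hχ₀ : χ₀ ∈ B)
    {θ₀ : IrrCharacter N} (hθ₀ : θ₀ ∈ b)
    (hcov : classInner (fun n : N => (χ₀ : G → ℂ) n) (θ₀ : N → ℂ) ≠ 0)
    {θ : IrrCharacter N} (hθ : θ ∈ b) :
    ∃ χ ∈ B, classInner (fun n : N => (χ : G → ℂ) n) (θ : N → ℂ) ≠ 0 := by
  classical
  by_contra hcon
  push Not at hcon
  haveI : Fintype (G ⧸ N) := Fintype.ofFinite _
  set C : Subring (MonoidAlgebra (resField M) G) := centN N with hC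
  set e := resG (blockEltR M B) with he
  set η := inclN N (resG (blockEltR M b)) with hη
  have hecl : IsClassElt e := IsClassElt.map (isClassElt_blockEltR B) _
  have heC : e ∈ C := mem_centN_of_isInvElt N (IsClassElt.isInvElt hecl _)
  have hηC : η ∈ C := inclN_mem_centN N (IsClassElt.map (isClassElt_blockEltR b) _)
  have hee : e * e = e := by rw [he, ← map_mul, blockEltR_idem hB]
  have hηη : η * η = η := by rw [hη, ← map_mul, ← map_mul, blockEltR_idem hb]
  have heη : e * η = η * e := IsClassElt.comm hecl η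
  set f := η * e with hf
  have hff : f * f = f := by
    calc f * f = η * (e * η) * e := by simp only [hf, mul_assoc]
      _ = η * η * (e * e) := by rw [heη]; simp only [hf, mul_assoc]
      _ = f := by rw [hηη, hee]
  have hηf : η * f = f := by rw [hf, ← mul_assoc, hηη]
  have hef : e * f = f := by rw [hf, ← mul_assoc, heη, mul_assoc, hee]
  have hfC : f ∈ C := C.mul_mem hηC heC
  let J : MonoidAlgebra (resField M) G → Prop := fun x => ∃ l,
    (∀ w ∈ l, w ∈ C ∧ IsNilpotent w ∧ ∀ b ∈ C, b * w = w * b) ∧ spanList C l x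
  have hJsum : ∀ (t : Finset (G ⧸ N)) (F : G ⧸ N → MonoidAlgebra (resField M) G),
      (∀ s ∈ t, J (F s)) → J (∑ s ∈ t, F s) := by
    intro t F ht
    refine Finset.sum_induction F J ?_ ⟨[], fun w hw => absurd hw (List.not_mem_nil), rfl⟩ ht
    rintro x y ⟨l, hl, hx⟩ ⟨l', hl', hy⟩
    exact ⟨l ++ l', fun w hw => (List.mem_append.1 hw).elim (hl w) (hl' w),
      spanList_append C l l' hx hy⟩
  have segment : ∀ {u v : MonoidAlgebra (resField M) G} {d s : G ⧸ N}, u ∈ C → v ∈ C →
      SuppIn N v ((d * s)⁻¹ * d) → J (u * v * partN N s e * f) := by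
    intro u v d s hu hv hvd
    obtain ⟨z, hz, hzeq, hnil⟩ := isNilpotent_covering_part N hB hb hθ hcon
      (isInvElt_of_mem_centN N hv)
    have hve : v * partN N s e = inclN N z := by
      rw [hzeq, IsClassElt.comm hecl v, ← partN_mul N hvd s e,
        show (d * s)⁻¹ * d * s = 1 by group]
    refine ⟨[inclN N (z * resG (blockEltR M b))], fun w hw => ?_, ?_⟩
    · rw [List.mem_singleton.1 hw]
      exact ⟨inclN_mem_centN N (IsClassElt.mul hz (IsClassElt.map (isClassElt_blockEltR b) _)),
        hnil.map _, fun c hc => inclN_commute_mem_centN N _ hc⟩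
    · refine ⟨u * f, C.mul_mem hu hfC, 0, rfl, ?_⟩
      rw [add_zero, mul_assoc u v, hve, mul_assoc u, map_mul, ← hη, mul_assoc _ η (u * f),
        ← mul_assoc η u f, ← inclN_commute_mem_centN N _ hu, mul_assoc u η f, hηf,
        ← mul_assoc, ← mul_assoc, inclN_commute_mem_centN N _ hu]
      simp only [hf, mul_assoc]
  have main : ∀ (k : ℕ) (S : Finset (G ⧸ N)), Fintype.card (G ⧸ N) ≤ k + S.card → ∀ d ∈ S,
      ∀ x ∈ C, SuppIn N x d → (∀ t ∈ S, ∃ u ∈ C, ∃ v ∈ C, SuppIn N v (t⁻¹ * d) ∧ x = u * v) →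
        J (x * f) := by
    intro k
    induction k with
    | zero =>
      intro S hS d _ x hx hxd hdec
      have hSu : S = Finset.univ := Finset.eq_univ_of_card _ (le_antisymm (Finset.card_le_univ _)
        (by simpa using hS))
      rw [← hef, ← mul_assoc, ← sum_partN N e, Finset.mul_sum, Finset.sum_mul]
      refine hJsum _ _ fun s _ => ?_
      obtain ⟨u, hu, v, hv, hvd, rfl⟩ := hdec (d * s) (by rw [hSu]; exact Finset.mem_univ _)
      exact segment hu hv hvd
    | succ k ih =>
      intro S hS d hd x hx hxd hdec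
      rw [← hef, ← mul_assoc, ← sum_partN N e, Finset.mul_sum, Finset.sum_mul]
      refine hJsum _ _ fun s _ => ?_
      have hsC : partN N s e ∈ C :=
        mem_centN_of_isInvElt N (isInvElt_partN N (IsClassElt.isInvElt hecl _) s)
      by_cases hds : d * s ∈ S
      · obtain ⟨u, hu, v, hv, hvd, rfl⟩ := hdec (d * s) hds
        exact segment hu hv hvd
      · refine ih (insert (d * s) S) ?_ (d * s) (Finset.mem_insert_self _ _) _
          (C.mul_mem hx hsC) (hxd.mul N (suppIn_partN N s e)) fun t ht => ?_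
        · rw [Finset.card_insert_of_notMem hds]; omega
        · rcases Finset.mem_insert.1 ht with rfl | ht
          · exact ⟨_, C.mul_mem hx hsC, 1, C.one_mem, by rw [inv_mul_cancel]; exact suppIn_one N,
              (mul_one _).symm⟩
          · obtain ⟨u, hu, v, hv, hvd, rfl⟩ := hdec t ht
            exact ⟨u, hu, v * partN N s e, C.mul_mem hv hsC,
              by rw [← mul_assoc]; exact hvd.mul N (suppIn_partN N s e), mul_assoc _ _ _⟩
  have h1 : J (1 * f) := main (Fintype.card (G ⧸ N)) {1} (by simp) 1 (Finset.mem_singleton_self _)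
    1 C.one_mem (suppIn_one N) fun t ht => by
      rw [Finset.mem_singleton.1 ht]
      exact ⟨1, C.one_mem, 1, C.one_mem, by simpa using suppIn_one N, (mul_one _).symm⟩
  rw [one_mul] at h1
  obtain ⟨l, hl, hfl⟩ := h1
  have hf0 : f = 0 := idem_eq_zero_of_spanList C l hl hfC hff hfl
  refine coverProd_ne_zero N hB hb hχ₀ hθ₀ hcov (eq_zero_of_idem_of_resG ?_ ?_)
  · have hcm := IsClassElt.comm (isClassElt_blockEltR (M := M) B) (inclN N (blockEltR M b))
    rw [mul_assoc, ← mul_assoc (blockEltR M B), hcm, mul_assoc, blockEltR_idem hB, ← mul_assoc,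
      ← map_mul, blockEltR_idem hb]
  · rw [map_mul, resG_inclN, ← hη, ← he, ← hf, hf0]

end cover

end Cfsg.Agent.Blocks
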