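/-
Knörr: defect groups of a covering block meet `N` in a defect group of the covered one.
-/
import Cfsg.Agent.Lib.Blocks.CoverAll
import Cfsg.Agent.Lib.Blocks.Induced
import Cfsg.Agent.Lib.Blocks.Defect

set_option linter.unusedSectionVars false
set_option linter.style.haveILetI false

namespace Cfsg.Agent.Blocks

open Cfsg MonoidAlgebra Cfsg.Agent.Char
open scoped ComplexConjugate

universe u

variable {G : Type u} [Group G] [Fintype G] {p : ℕ} {M : Ideal AlgInt} [M.IsPrime]
  (N : Subgroup G) [N.Normal] [Fintype N]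

/-- A covering product all of whose parts in `N` are nilpotent vanishes. -/
theorem coverProd_resG_eq_zero {B : Set (IrrCharacter G)} (hB : IsPBlock M B)
    {b : Set (IrrCharacter N)} (hb : IsPBlock M b)
    (hpart : ∀ v : MonoidAlgebra (resField M) G, IsInvElt N v →
      ∃ z : MonoidAlgebra (resField M) N, IsClassElt z ∧
        inclN N z = partN N 1 (resG (blockEltR M B) * v) ∧
          IsNilpotent (z * resG (blockEltR M b))) :
    inclN N (resG (blockEltR M b)) * resG (blockEltR M B) = 0 := by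
  classical
  haveI : Fintype (G ⧸ N) := Fintype.ofFinite _
  set C : Subring (MonoidAlgebra (resField M) G) := centN N with hC
  set e := resG (blockEltR M B) with he
  set η := inclN N (resG (blockEltR M b)) with hη
  have hecl : IsClassElt e := IsClassElt.map (isClassElt_blockEltR B) _
  have heC : e ∈ C := mem_centN_of_isInvElt N (IsClassElt.isInvElt hecl _)
  have hηC : η ∈ C := inclN_mem_centN N (IsClassElt.map (isClassElt_blockEltR b) _)
  have hee : e * e = e := by rw [he, ← map_mul, blockEltR_idem hB]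
  have hηη : η * η = η := by rw [hη, ← map_mul, ← map_mul, blockEltR_idem hb]
  have heη : e * η = η * e := IsClassElt.comm hecl η
  set f := η * e with hf
  have hff : f * f = f := by
    calc f * f = η * (e * η) * e := by simp only [hf, mul_assoc]
      _ = η * η * (e * e) := by rw [heη]; simp only [hf, mul_assoc]
      _ = f := by rw [hηη, hee]
  have hηf : η * f = f := by rw [hf, ← mul_assoc, hηη]
  have hef : e * f = f := by rw [hf, ← mul_assoc, heη, mul_assoc, hee]
  have hfC : f ∈ C := C.mul_mem hηC heC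
  let J : MonoidAlgebra (resField M) G → Prop := fun x => ∃ l,
    (∀ w ∈ l, w ∈ C ∧ IsNilpotent w ∧ ∀ b ∈ C, b * w = w * b) ∧ spanList C l x
  have hJsum : ∀ (t : Finset (G ⧸ N)) (F : G ⧸ N → MonoidAlgebra (resField M) G),
      (∀ s ∈ t, J (F s)) → J (∑ s ∈ t, F s) := by
    intro t F ht
    refine Finset.sum_induction F J ?_ ⟨[], fun w hw => absurd hw (List.not_mem_nil), rfl⟩ ht
    rintro x y ⟨l, hl, hx⟩ ⟨l', hl', hy⟩
    exact ⟨l ++ l', fun w hw => (List.mem_append.1 hw).elim (hl w) (hl' w),
      spanList_append C l l' hx hy⟩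
  have segment : ∀ {u v : MonoidAlgebra (resField M) G} {d s : G ⧸ N}, u ∈ C → v ∈ C →
      SuppIn N v ((d * s)⁻¹ * d) → J (u * v * partN N s e * f) := by
    intro u v d s hu hv hvd
    obtain ⟨z, hz, hzeq, hnil⟩ := hpart v (isInvElt_of_mem_centN N hv)
    have hve : v * partN N s e = inclN N z := by
      rw [hzeq, IsClassElt.comm hecl v, ← partN_mul N hvd s e,
        show (d * s)⁻¹ * d * s = 1 by group]
    refine ⟨[inclN N (z * resG (blockEltR M b))], fun w hw => ?_, ?_⟩
    · rw [List.mem_singleton.1 hw]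
      exact ⟨inclN_mem_centN N (IsClassElt.mul hz (IsClassElt.map (isClassElt_blockEltR b) _)),
        hnil.map _, fun c hc => inclN_commute_mem_centN N _ hc⟩
    · refine ⟨u * f, C.mul_mem hu hfC, 0, rfl, ?_⟩
      rw [add_zero, mul_assoc u v, hve, mul_assoc u, map_mul, ← hη, mul_assoc _ η (u * f),
        ← mul_assoc η u f, ← inclN_commute_mem_centN N _ hu, mul_assoc u η f, hηf,
        ← mul_assoc, ← mul_assoc, inclN_commute_mem_centN N _ hu]
      simp only [hf, mul_assoc]
  have main : ∀ (k : ℕ) (S : Finset (G ⧸ N)), Fintype.card (G ⧸ N) ≤ k + S.card → ∀ d ∈ S,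
      ∀ x ∈ C, SuppIn N x d → (∀ t ∈ S, ∃ u ∈ C, ∃ v ∈ C, SuppIn N v (t⁻¹ * d) ∧ x = u * v) →
        J (x * f) := by
    intro k
    induction k with
    | zero =>
      intro S hS d _ x hx hxd hdec
      have hSu : S = Finset.univ := Finset.eq_univ_of_card _ (le_antisymm (Finset.card_le_univ _)
        (by simpa using hS))
      rw [← hef, ← mul_assoc, ← sum_partN N e, Finset.mul_sum, Finset.sum_mul]
      refine hJsum _ _ fun s _ => ?_
      obtain ⟨u, hu, v, hv, hvd, rfl⟩ := hdec (d * s) (by rw [hSu]; exact Finset.mem_univ _)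
      exact segment hu hv hvd
    | succ k ih =>
      intro S hS d hd x hx hxd hdec
      rw [← hef, ← mul_assoc, ← sum_partN N e, Finset.mul_sum, Finset.sum_mul]
      refine hJsum _ _ fun s _ => ?_
      have hsC : partN N s e ∈ C :=
        mem_centN_of_isInvElt N (isInvElt_partN N (IsClassElt.isInvElt hecl _) s)
      by_cases hds : d * s ∈ S
      · obtain ⟨u, hu, v, hv, hvd, rfl⟩ := hdec (d * s) hds
        exact segment hu hv hvd
      · refine ih (insert (d * s) S) ?_ (d * s) (Finset.mem_insert_self _ _) _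
          (C.mul_mem hx hsC) (hxd.mul N (suppIn_partN N s e)) fun t ht => ?_
        · rw [Finset.card_insert_of_notMem hds]; omega
        · rcases Finset.mem_insert.1 ht with rfl | ht
          · exact ⟨_, C.mul_mem hx hsC, 1, C.one_mem, by rw [inv_mul_cancel]; exact suppIn_one N,
              (mul_one _).symm⟩
          · obtain ⟨u, hu, v, hv, hvd, rfl⟩ := hdec t ht
            exact ⟨u, hu, v * partN N s e, C.mul_mem hv hsC,
              by rw [← mul_assoc]; exact hvd.mul N (suppIn_partN N s e), mul_assoc _ _ _⟩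
  have h1 : J (1 * f) := main (Fintype.card (G ⧸ N)) {1} (by simp) 1 (Finset.mem_singleton_self _)
    1 C.one_mem (suppIn_one N) fun t ht => by
      rw [Finset.mem_singleton.1 ht]
      exact ⟨1, C.one_mem, 1, C.one_mem, by simpa using suppIn_one N, (mul_one _).symm⟩
  rw [one_mul] at h1
  obtain ⟨l, hl, hfl⟩ := h1
  have hf0 : f = 0 := idem_eq_zero_of_spanList C l hl hfC hff hfl
  exact hf0

/-- A block covering `b` has a coefficient surviving at a defect group of `b`. -/
theorem exists_coeff_centralizing_of_covers (hM : IsPModular p M) {B : Set (IrrCharacter G)}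
    (hB : IsPBlock M B) {b : Set (IrrCharacter N)} (hb : IsPBlock M b)
    (hcov : ∃ χ ∈ B, ∃ θ ∈ b, classInner (fun n : N => (χ : G → ℂ) n) (θ : N → ℂ) ≠ 0)
    {Q : Subgroup G} (hQN : Q ≤ N) (hQ : IsDefectGroup p M b (Q.subgroupOf N)) :
    ∃ g : G, MemLocalRing M (blockCoeff B g) ∧ ¬ MemLocalIdeal M (blockCoeff B g) ∧
      ∃ c : G, IsConj g c ∧ c ∈ Subgroup.centralizer (Q : Set G) := by
  classical
  haveI := Fact.mk hM.1
  haveI : CharP (resField M) p := resField_charP hM
  by_contra hcon
  have hzero : ∀ c : G, c ∈ Subgroup.centralizer (Q : Set G) →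
      MemLocalIdeal M (blockCoeff B c) := fun c hc => by
    by_contra h
    exact hcon ⟨c, blockCoeff_memLocalRing hB c, h, c, IsConj.refl c, hc⟩
  have hQp : IsPGroup p Q := (isPGroup_defectGroup hQ).of_equiv (Subgroup.subgroupOfEquivOfLe hQN)
  have hec : IsClassElt (resG (blockEltR M B)) := IsClassElt.map (isClassElt_blockEltR B) _
  have hebr : brTrunc Q (resG (blockEltR M B)) = 0 := by
    refine gaExt fun g => ?_
    rw [coeff_brTrunc, MonoidAlgebra.coeff_zero, Finsupp.zero_apply]
    split_ifs with hg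
    · rw [coeff_resG, res_eq_zero_iff, coeff_blockEltR hB]
      exact hzero g hg
    · rfl
  obtain ⟨χ, hχ, θ, hθ, hc⟩ := hcov
  refine coverProd_ne_zero N hB hb hχ hθ hc (eq_zero_of_idem_of_resG ?_ ?_)
  · have hcm := IsClassElt.comm (isClassElt_blockEltR (M := M) B) (inclN N (blockEltR M b))
    rw [mul_assoc, ← mul_assoc (blockEltR M B), hcm, mul_assoc, blockEltR_idem hB, ← mul_assoc,
      ← map_mul, blockEltR_idem hb]
  rw [map_mul, resG_inclN]
  refine coverProd_resG_eq_zero N hB hb fun v hv => ?_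
  haveI : Finite (ConjClasses N) := Finite.of_surjective _ ConjClasses.mk_surjective
  haveI : Fintype (ConjClasses N) := Fintype.ofFinite _
  have hevN : IsInvElt N (resG (blockEltR M B) * v) := isInvElt_of_mem_centN N (Subring.mul_mem _
    (mem_centN_of_isInvElt N (IsClassElt.isInvElt hec _)) (mem_centN_of_isInvElt N hv))
  let Z : MonoidAlgebra (locRing M) N := gaOfFun fun n : N =>
    Function.surjInv (res_surjective (M := M)) ((resG (blockEltR M B) * v).coeff (n : G))
  have hres : ∀ n : N, res M (Z.coeff n) = (resG (blockEltR M B) * v).coeff (n : G) := fun n => by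
    simp only [Z, coeff_gaOfFun, Function.surjInv_eq (res_surjective (M := M))]
  have hZ : IsClassElt Z := fun n k => by
    simp only [Z, coeff_gaOfFun, Subgroup.coe_mul, Subgroup.coe_inv, hevN k k.2 n]
  refine ⟨resG Z, IsClassElt.map hZ _, ?_, ?_⟩
  · refine gaExt fun g => ?_
    rw [coeff_partN]
    by_cases hg : g ∈ N
    · rw [if_pos ((QuotientGroup.eq_one_iff g).2 hg), show g = ((⟨g, hg⟩ : N) : G) from rfl,
        coeff_inclN_coe, coeff_resG, hres]
    · rw [if_neg fun e => hg ((QuotientGroup.eq_one_iff g).1 e), coeff_inclN_notMem N _ hg]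
  · rw [← map_mul]
    refine isNilpotent_resG (IsClassElt.mul hZ (isClassElt_blockEltR b)) fun φ => ?_
    rw [omegaR_mul φ hZ (isClassElt_blockEltR b), omegaR_blockEltR hb]
    split_ifs with hφ
    · rw [mul_one, omegaR_eq_sum φ hZ]
      refine memLocalIdeal_sum _ _ fun C _ => ?_
      by_cases hu : MemLocalIdeal M (centralChar (φ : N → ℂ) C.out)
      · exact MemLocalIdeal.mul_left (Z.coeff C.out).2 hu
      · refine MemLocalIdeal.mul_right ?_ (centralChar_memLocalRing φ C.out)
        obtain ⟨d, hd, D, hD⟩ := hQ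
        obtain ⟨x, hx, hxD⟩ := exists_conj_centralizing_defect hM hb hd hφ hu D
        have hxQ : (x : G) ∈ Subgroup.centralizer (Q : Set G) := by
          refine Subgroup.mem_centralizer_iff.2 fun u hu => ?_
          have hmem : (⟨u, hQN hu⟩ : N) ∈ sylowImage D := by
            have : (⟨u, hQN hu⟩ : N) ∈ Q.subgroupOf N := Subgroup.mem_subgroupOf.2 hu
            rw [hD] at this
            exact this
          exact congrArg Subtype.val (Subgroup.mem_centralizer_iff.1 hxD _ hmem)
        obtain ⟨k, hk⟩ := isConj_iff.1 hx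
        rw [show Z.coeff C.out = Z.coeff x by rw [← hk, hZ]]
        rw [← res_eq_zero_iff, hres]
        have h1 := congrArg (fun y : MonoidAlgebra (resField M) G => y.coeff (x : G))
          (brTrunc_mul hQp (IsClassElt.isInvElt hec Q) fun u hu g => hv u (hQN hu) g)
        simp only [hebr, zero_mul, coeff_brTrunc, if_pos hxQ, MonoidAlgebra.coeff_zero,
          Finsupp.zero_apply] at h1
        exact h1
    · rw [mul_zero]; exact memLocalIdeal_zero

theorem inclN_mul_eq_zero_of_not_covers {B : Set (IrrCharacter G)} (hB : IsPBlock M B)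
    {b : Set (IrrCharacter N)} (hb : IsPBlock M b)
    (h : ∀ χ ∈ B, ∀ θ ∈ b, classInner (fun n : N => (χ : G → ℂ) n) (θ : N → ℂ) = 0) :
    inclN N (blockEltR M b) * blockEltR M B = 0 := by
  classical
  refine gaExt fun g => Subtype.ext ?_
  rw [coeff_mul_univ]
  simp only [AddSubmonoidClass.coe_finset_sum, MulMemClass.coe_mul, coeff_blockEltR hB,
    MonoidAlgebra.coeff_zero, Finsupp.zero_apply, ZeroMemClass.coe_zero]
  rw [← Finset.sum_subset (Finset.subset_univ
    ((Finset.univ : Finset N).map ⟨Subtype.val, Subtype.val_injective⟩))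
    (fun a _ ha => by
      rw [coeff_inclN_notMem N _ fun hn => ha (Finset.mem_map.2 ⟨⟨a, hn⟩, Finset.mem_univ _, rfl⟩)]
      simp), Finset.sum_map]
  simp only [Function.Embedding.coeFn_mk, coeff_inclN_coe, coeff_blockEltR hb,
    blockCoeff_eq_sum b, mul_assoc, ← Finset.mul_sum, Finset.sum_mul]
  rw [Finset.sum_comm]
  refine mul_eq_zero_of_right _ (Finset.sum_eq_zero fun φ hφ => ?_)
  rw [← Finset.mul_sum]
  refine mul_eq_zero_of_right _ ?_
  rw [← blockCoeff_translate_sum_eq_zero N B φ
    (fun χ hχ => h χ hχ φ (Finset.mem_filter.1 hφ).2) g⁻¹]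
  refine Fintype.sum_equiv (Equiv.inv N) _ _ fun n => ?_
  simp only [Equiv.inv_apply, inv_inv, Subgroup.coe_inv, irr_inv]
  ring

theorem blockDefect_eq_of_conj {b b' : Set (IrrCharacter N)} (hb : IsPBlock M b)
    (hb' : IsPBlock M b') {θ : IrrCharacter N} (hθ : θ ∈ b) {g : G}
    (hg : cjIrr N g θ ∈ b') : blockDefect p b' = blockDefect p b := by
  have hdeg : ∀ (x : G) (φ : IrrCharacter N),
      charDegree (cjIrr N x φ : N → ℂ) = charDegree (φ : N → ℂ) := fun x φ => by
    unfold charDegree
    rw [show (cjIrr N x φ : N → ℂ) 1 = (φ : N → ℂ) 1 from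
      congrArg (φ : N → ℂ) (Subtype.ext (by simp))]
  unfold blockDefect
  congr 2
  ext n
  constructor
  · rintro ⟨φ, hφ, rfl⟩
    refine ⟨cjIrr N g⁻¹ φ, isPBlock_mem_of_sameBlock hb hθ ?_, by simp only [hdeg]⟩
    rw [← cjIrr_inv_left N g θ]
    exact sameBlock_cjIrr N (isPBlock_sameBlock hb' hg hφ) g⁻¹
  · rintro ⟨φ, hφ, rfl⟩
    exact ⟨cjIrr N g φ, isPBlock_mem_of_sameBlock hb' hg
      (sameBlock_cjIrr N (isPBlock_sameBlock hb hθ hφ) g), by simp only [hdeg]⟩

/-- Knörr: some defect group of a covering block meets `N` in the given defect group. -/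
theorem exists_defectGroup_inf_eq (hM : IsPModular p M) {B : Set (IrrCharacter G)}
    (hB : IsPBlock M B) {b : Set (IrrCharacter N)} (hb : IsPBlock M b)
    (hcov : ∃ χ ∈ B, ∃ θ ∈ b, classInner (fun n : N => (χ : G → ℂ) n) (θ : N → ℂ) ≠ 0)
    {Q : Subgroup G} (hQN : Q ≤ N) (hQ : IsDefectGroup p M b (Q.subgroupOf N)) :
    ∃ P : Subgroup G, IsDefectGroup p M B P ∧ P ⊓ N = Q := by
  classical
  haveI := Fact.mk hM.1
  haveI : CharP (resField M) p := resField_charP hM
  have hQp : IsPGroup p Q := (isPGroup_defectGroup hQ).of_equiv (Subgroup.subgroupOfEquivOfLe hQN)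
  obtain ⟨D, hD⟩ := exists_isDefectGroup (p := p) hB
  obtain ⟨x, hx⟩ := (exists_unit_coeff_centralizing_iff hM hB hD hQp).1
    (exists_coeff_centralizing_of_covers N hM hB hb hcov hQN hQ)
  set P := D.map (MulAut.conj x⁻¹).toMonoidHom with hP
  have hPD : IsDefectGroup p M B P := IsDefectGroup.map_conj hD x⁻¹
  have hQP : Q ≤ P := fun u hu => ⟨x * u * x⁻¹, hx ⟨u, hu, rfl⟩, by simp [mul_assoc]⟩
  refine ⟨P, hPD, (Subgroup.eq_of_le_of_card_ge (le_inf hQP hQN) ?_).symm⟩
  have hR : IsPGroup p (P ⊓ N : Subgroup G) := (isPGroup_defectGroup hPD).to_le inf_le_left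
  have hec : IsClassElt (resG (blockEltR M B)) := IsClassElt.map (isClassElt_blockEltR B) _
  obtain ⟨g, hg, hgP⟩ : ∃ g : G, ¬ MemLocalIdeal M (blockCoeff B g) ∧
      g ∈ Subgroup.centralizer (P : Set G) := by
    obtain ⟨d, hd, S, hS⟩ := id hPD
    exact ⟨d, hd.2.1, hS ▸ mem_centralizer_of_le (sylowImage_le S)⟩
  have hgR : g ∈ Subgroup.centralizer ((P ⊓ N : Subgroup G) : Set G) :=
    Subgroup.centralizer_le inf_le_left hgP
  have hsum : ∑ b' ∈ blocks M N, inclN N (resG (blockEltR M b')) * resG (blockEltR M B) =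
      resG (blockEltR M B) := by
    rw [← Finset.sum_mul, ← map_sum, ← map_sum, sum_blockEltR, map_one, map_one, one_mul]
  obtain ⟨b', hb', hne⟩ : ∃ b' ∈ blocks M N, brTrunc (P ⊓ N)
      (inclN N (resG (blockEltR M b')) * resG (blockEltR M B)) ≠ 0 := by
    by_contra hall
    push Not at hall
    refine hg ?_
    rw [← coeff_blockEltR hB, ← res_eq_zero_iff, ← coeff_resG]
    have h1 := congrArg (fun y : MonoidAlgebra (resField M) G => y.coeff g) hsum
    simp only [MonoidAlgebra.coeff_sum, Finset.sum_apply'] at h1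
    rw [← h1]
    refine Finset.sum_eq_zero fun b' hb' => ?_
    have h2 := congrArg (fun y : MonoidAlgebra (resField M) G => y.coeff g) (hall b' hb')
    simpa only [coeff_brTrunc, if_pos hgR, MonoidAlgebra.coeff_zero, Finsupp.zero_apply] using h2
  have hbb := mem_blocks.1 hb'
  have hbc : IsClassElt (resG (blockEltR M b')) := IsClassElt.map (isClassElt_blockEltR b') _
  have hinvN : IsInvElt (P ⊓ N) (inclN N (resG (blockEltR M b'))) := fun u hu y =>
    isInvElt_of_mem_centN N (inclN_mem_centN N hbc) u hu.2 y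
  obtain ⟨n, hn, hnR⟩ : ∃ n : N, ¬ MemLocalIdeal M (blockCoeff b' n) ∧
      (n : G) ∈ Subgroup.centralizer ((P ⊓ N : Subgroup G) : Set G) := by
    by_contra hall
    push Not at hall
    refine hne ?_
    rw [brTrunc_mul hR hinvN (IsClassElt.isInvElt hec _)]
    convert zero_mul _
    refine gaExt fun y => ?_
    rw [coeff_brTrunc, MonoidAlgebra.coeff_zero, Finsupp.zero_apply]
    split_ifs with hy
    · by_cases hyN : y ∈ N
      · rw [show y = ((⟨y, hyN⟩ : N) : G) from rfl, coeff_inclN_coe, coeff_resG, res_eq_zero_iff,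
          coeff_blockEltR hbb]
        by_contra hu
        exact hall ⟨y, hyN⟩ hu hy
      · exact coeff_inclN_notMem N _ hyN
    · rfl
  obtain ⟨χ', hχ', ψ, hψ, hc'⟩ : ∃ χ ∈ B, ∃ θ ∈ b',
      classInner (fun n : N => (χ : G → ℂ) n) (θ : N → ℂ) ≠ 0 := by
    by_contra hall
    push Not at hall
    refine hne ?_
    rw [← resG_inclN, ← map_mul, inclN_mul_eq_zero_of_not_covers N hB hbb hall, map_zero]
    refine gaExt fun y => ?_
    rw [coeff_brTrunc]
    simp
  obtain ⟨χ, hχ, θ, hθ, hc⟩ := hcov
  obtain ⟨y, θ', hθ', hy⟩ := constituents_conjugate_blocks N hB hb hχ hθ hc hχ' hc'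
  have hdd : blockDefect p b' = blockDefect p b := by
    refine blockDefect_eq_of_conj N hb hbb hθ' (g := y) ?_
    rwa [show cjIrr N y θ' = ψ from Subtype.ext hy.symm]
  obtain ⟨D', hD'⟩ := exists_isDefectGroup (p := p) hbb
  obtain ⟨z, hz⟩ := (exists_unit_coeff_centralizing_iff hM hbb hD'
    (hR.comap_of_injective N.subtype Subtype.val_injective)).1
    ⟨n, blockCoeff_memLocalRing hbb n, hn, n, IsConj.refl n,
      Subgroup.mem_centralizer_iff.2 fun u hu =>
        Subtype.ext (Subgroup.mem_centralizer_iff.1 hnR (u : G) hu)⟩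
  calc Nat.card (P ⊓ N : Subgroup G)
      = Nat.card (((P ⊓ N).subgroupOf N).map (MulAut.conj z).toMonoidHom) := by
        rw [Subgroup.card_map_of_injective (MulAut.conj z).injective,
          Nat.card_congr (Subgroup.subgroupOfEquivOfLe inf_le_right).toEquiv]
    _ ≤ Nat.card D' := Subgroup.card_le_of_le hz
    _ = Nat.card Q := by
        rw [card_defectGroup hM hbb hD', hdd, ← card_defectGroup hM hb hQ,
          Nat.card_congr (Subgroup.subgroupOfEquivOfLe hQN).toEquiv]

end Cfsg.Agent.Blocks
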