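import Cfsg.Agent.Lib.Blocks.PrincipalExtend
import Cfsg.Agent.Lib.Blocks.Congr
import Cfsg.Agent.Lib.Blocks.Section
import Cfsg.Agent.Lib.Char.DetComp

/-!
# Canonical extensions congruent to their degree on the centraliser of a Sylow subgroup

`N` is normal, `Q` a Sylow `p`-subgroup of `N` and `C` centralises `Q`.  An extension of `θ` is
good when its values at the `p`-regular elements of `C` are congruent to its degree modulo `M`;
a good extension with determinantal order prime to `p` is unique.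
-/

set_option autoImplicit false
set_option linter.style.haveILetI false
set_option linter.unusedSectionVars false

namespace Cfsg.Agent.GoodExt

open Cfsg Cfsg.Agent.Char Cfsg.Agent.Blocks Cfsg.Agent.CharExtend Cfsg.Agent.DetComp

universe u v

/-- The scaled representation. -/
noncomputable def scaleRep {A : Type u} [Group A] {V : Type v} [AddCommGroup V] [Module ℂ V]
    (c : A →* ℂˣ) (ρ : Representation ℂ A V) : Representation ℂ A V where
  toFun g := (c g : ℂ) • ρ g
  map_one' := by simp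
  map_mul' a b := by rw [map_mul, map_mul, Units.val_mul, smul_mul_smul_comm]

theorem character_scaleRep {A : Type u} [Group A] {V : Type v} [AddCommGroup V] [Module ℂ V]
    [FiniteDimensional ℂ V] (c : A →* ℂˣ) (ρ : Representation ℂ A V) (g : A) :
    (scaleRep c ρ).character g = (c g : ℂ) * ρ.character g := by
  show LinearMap.trace ℂ V ((c g : ℂ) • ρ g) = _
  rw [map_smul, smul_eq_mul]
  rfl

theorem centralChar_comp {A : Type u} [Group A] {B : Type v} [Group B] (e : A ≃* B) (χ : B → ℂ)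
    (a : A) : Cfsg.centralChar (fun x => χ (e x)) a = Cfsg.centralChar χ (e a) := by
  have h : (Subgroup.centralizer ({a} : Set A)).index =
      (Subgroup.centralizer ({e a} : Set B)).index := by
    rw [← Subgroup.index_comap_of_surjective (f := e.toMonoidHom) _ e.surjective]
    congr 1
    ext x
    simp only [Subgroup.mem_comap, Subgroup.mem_centralizer_singleton_iff]
    exact ⟨fun h => by simpa using congrArg e h, fun h => e.injective (by simpa using h)⟩
  simp only [Cfsg.centralChar, h, map_one]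

variable {X : Type u} [Group X] [Finite X] {p : ℕ} [hpf : Fact p.Prime] {M : Ideal Cfsg.AlgInt}

/-- Congruent to the degree at the `p`-regular elements of `C`. -/
def Good (p : ℕ) (M : Ideal Cfsg.AlgInt) (C : Subgroup X) (χ : X → ℂ) : Prop :=
  ∀ y ∈ C, ¬ p ∣ orderOf y → Cfsg.MemLocalIdeal M (χ y - χ 1)

/-- The data on the normal subgroup. -/
structure Hyp (p : ℕ) (M : Ideal Cfsg.AlgInt) (N Q C : Subgroup X) (θ : X → ℂ) : Prop where
  normal : N.Normal
  hQN : Q ≤ N
  hQ : IsPGroup p Q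
  hQi : ¬ p ∣ Q.relIndex N
  hC : C ≤ Subgroup.centralizer (Q : Set X)
  irr : Cfsg.IsIrrCharacter N (fun n => θ n)
  block : ∀ n : N, Cfsg.MemLocalIdeal M
    (Cfsg.centralChar (fun _ => (1 : ℂ)) n - Cfsg.centralChar (fun n : N => θ n) n)
  deg : ∃ d : ℕ, θ 1 = d ∧ ¬ p ∣ d
  det : ¬ p ∣ Cfsg.detOrder (fun n : N => θ n)
  inv : ∀ g : X, ∀ n ∈ N, θ (g * n * g⁻¹) = θ n

/-- A good extension of determinantal order prime to `p`. -/
structure Nice (p : ℕ) (M : Ideal Cfsg.AlgInt) (N C : Subgroup X) (θ χ : X → ℂ) : Prop where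
  char : Cfsg.IsCharacter X χ
  res : ∀ n ∈ N, χ n = θ n
  good : Good p M C χ
  det : ¬ p ∣ Cfsg.detOrder χ

variable {N Q C : Subgroup X} {θ : X → ℂ}

theorem Hyp.setup (h : Hyp p M N Q C θ) {χ : X → ℂ} (hχ : Cfsg.IsCharacter X χ)
    (hres : ∀ n ∈ N, χ n = θ n) :
    haveI := h.normal
    ∃ (d : ℕ) (σ : Representation ℂ N (Fin d → ℂ)) (η : Representation ℂ X (Fin d → ℂ)),
      σ.IsIrreducible ∧ σ.character = (fun n : N => θ n) ∧ (∀ n : N, η n = σ n) ∧
        η.character = χ ∧ θ 1 = d ∧ ¬ p ∣ d := by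
  haveI := h.normal
  obtain ⟨d, σ, hσ, hσc⟩ := h.irr
  haveI := hσ
  obtain ⟨η, hη, hηc⟩ := exists_rep_of_char σ hχ (fun n => by rw [hσc]; exact hres n n.2)
  obtain ⟨d', hd', hpd'⟩ := h.deg
  have h1 : (θ 1 : ℂ) = d := by
    have := congrFun hσc 1
    rw [Representation.char_one, Module.finrank_fin_fun] at this
    exact this.symm
  have hdd : d' = d := Nat.cast_injective (hd'.symm.trans h1)
  exact ⟨d, σ, η, hσ, hσc, hη, hηc, h1, hdd ▸ hpd'⟩

theorem Hyp.isIrr (h : Hyp p M N Q C θ) {χ : X → ℂ} (hχ : Cfsg.IsCharacter X χ)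
    (hres : ∀ n ∈ N, χ n = θ n) : Cfsg.IsIrrCharacter X χ := by
  haveI := h.normal
  obtain ⟨d, σ, η, hσ, -, hη, rfl, -, -⟩ := h.setup hχ hres
  exact (exists_char_of_rep hη).1

/-- Good extensions of determinantal order prime to `p` are unique. -/
theorem Nice.unique (hM : Cfsg.IsPModular p M) (h : Hyp p M N Q C θ)
    (hidx : ∃ a : ℕ, ∀ x : X, x ^ p ^ a ∈ N ⊔ C) {χ χ' : X → ℂ}
    (hn : Nice p M N C θ χ) (hn' : Nice p M N C θ χ') : χ = χ' := by
  haveI := IsPModular.isPrime hM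
  haveI := h.normal
  have hp : p.Prime := hM.1
  obtain ⟨d, σ, η, hσ, hσc, hη, hηc, hθ1, hpd⟩ := h.setup hn.char hn.res
  haveI := hσ
  obtain ⟨η', hη', hηc'⟩ := exists_rep_of_char σ hn'.char
    (fun n => by rw [hσc]; exact hn'.res n n.2)
  obtain ⟨c, hc1, hc⟩ := exists_linear_of_extensions σ η η' hη hη'
  have hchi : ∀ g, χ' g = (c g : ℂ) * χ g := fun g => by
    rw [← hηc', ← hηc]
    show LinearMap.trace ℂ _ (η' g) = _
    rw [hc, map_smul, smul_eq_mul]
    rfl
  have hχ1 : χ 1 = d := (hn.res 1 N.one_mem).trans hθ1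
  -- trivial at the `p`-regular elements of `C`
  have hcy : ∀ y ∈ C, ¬ p ∣ orderOf y → c y = 1 := by
    intro y hy hreg
    have hroot : (c y : ℂ) ^ orderOf y = 1 := by
      rw [← Units.val_pow_eq_pow_val, ← map_pow, pow_orderOf_eq_one, map_one, Units.val_one]
    have hint : IsIntegral ℤ (c y : ℂ) :=
      IsIntegral.of_pow (orderOf_pos y) (by rw [hroot]; exact isIntegral_one)
    have h1 := MemLocalIdeal.sub (hn'.good y hy hreg)
      (MemLocalIdeal.mul_left (mem_locRing_of_isIntegral hint) (hn.good y hy hreg))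
    rw [hchi, hchi, map_one, Units.val_one, one_mul, mul_sub, sub_sub_sub_cancel_left,
      ← sub_one_mul, hχ1] at h1
    have h2 := MemLocalIdeal.mul_right h1 (inv_natCast_memLocalRing hM hpd)
    rw [mul_assoc, mul_inv_cancel₀ (Nat.cast_ne_zero.2 fun e : d = 0 => hpd (e ▸ dvd_zero p)), mul_one] at h2
    have h3 : (⟨_, hint⟩ - 1 : Cfsg.AlgInt) ∈ M := (memLocalIdeal_coe_iff _).1 (by simpa using h2)
    have h4 := eq_of_sub_mem_of_pow_eq_one hM hreg
      (a := (⟨_, hint⟩ : Cfsg.AlgInt)) (b := 1) (Subtype.ext (by simpa using hroot)) (one_pow _) h3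
    exact Units.ext (by simpa using congrArg Subtype.val h4)
  -- hence of `p`-power order
  obtain ⟨a, ha⟩ := hidx
  set A := (Nat.card X).factorization p
  have hcp : c ^ p ^ A = 1 := MonoidHom.ext fun x => by
    rw [MonoidHom.pow_apply, MonoidHom.one_apply]
    obtain ⟨n, hnN, z, hz, hnz⟩ := Subgroup.mem_sup_of_normal_left.1 (ha x)
    obtain ⟨k, m, hm, hkm⟩ :=
      Nat.exists_eq_pow_mul_and_not_dvd (orderOf_pos z).ne' p hp.ne_one
    have hz1 : c z ^ p ^ k = 1 := by
      rw [← map_pow]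
      refine hcy _ (pow_mem hz _) ?_
      rw [orderOf_pow_of_dvd (pow_ne_zero _ hp.ne_zero) ⟨m, hkm⟩, hkm,
        Nat.mul_div_cancel_left _ (pow_pos hp.pos k)]
      exact hm
    have h1 : c x ^ p ^ (a + k) = 1 := by
      rw [pow_add, pow_mul, ← map_pow c x, ← hnz, map_mul, show c n = 1 from hc1 ⟨n, hnN⟩, one_mul,
        hz1]
    have h2 : c x ^ Nat.card X = 1 := by rw [← map_pow, pow_card_eq_one', map_one]
    obtain ⟨j, -, hj⟩ := (Nat.dvd_prime_pow hp).1 (orderOf_dvd_of_pow_eq_one h1)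
    refine orderOf_dvd_iff_pow_eq_one.1 (hj ▸ pow_dvd_pow p ?_)
    exact (hp.pow_dvd_iff_le_factorization Nat.card_pos.ne').1
      (hj ▸ orderOf_dvd_of_pow_eq_one h2)
  -- the determinants
  have hdet := det_smul_rep η η' c hc
  rw [Module.finrank_fin_fun] at hdet
  have hd1 : ¬ p ∣ orderOf (detHom η) := by rw [← detOrder_eq, hηc]; exact hn.det
  have hd2 : ¬ p ∣ orderOf (detHom η') := by rw [← detOrder_eq, hηc']; exact hn'.det
  have hcd : ∀ g, c g ^ d = 1 := by
    intro g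
    refine eq_one_of_pow_coprime (x := c g ^ d) (a := p ^ A)
      (b := orderOf (detHom η) * orderOf (detHom η')) ?_ ?_ ?_
    · rw [← pow_mul, mul_comm, pow_mul,
        show c g ^ p ^ A = 1 by simpa using DFunLike.congr_fun hcp g, one_pow]
    · have e := DFunLike.congr_fun (pow_orderOf_eq_one (detHom η)) g
      have e' := DFunLike.congr_fun (pow_orderOf_eq_one (detHom η')) g
      have ed := DFunLike.congr_fun hdet g
      simp only [MonoidHom.pow_apply, MonoidHom.one_apply, MonoidHom.mul_apply] at e e' ed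
      rw [eq_mul_inv_of_mul_eq ed.symm, mul_pow, inv_pow, pow_mul (detHom η g), e, one_pow, inv_one,
        mul_one, mul_comm, pow_mul, e', one_pow]
    · exact (Nat.Coprime.pow_left _ ((hp.coprime_iff_not_dvd).2 fun hd =>
        ((hp.dvd_mul).1 hd).elim hd1 hd2))
  have hc : c = 1 := MonoidHom.ext fun g => eq_one_of_pow_coprime
    (show c g ^ p ^ A = 1 by simpa using DFunLike.congr_fun hcp g) (hcd g)
    (Nat.Coprime.pow_left _ ((hp.coprime_iff_not_dvd).2 hpd))
  funext g
  rw [hchi, hc, MonoidHom.one_apply, Units.val_one, one_mul]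

/-- A good extension can be twisted to determinantal order prime to `p`. -/
theorem exists_nice_of_good (hM : Cfsg.IsPModular p M) (h : Hyp p M N Q C θ) {χ : X → ℂ}
    (hχ : Cfsg.IsCharacter X χ) (hres : ∀ n ∈ N, χ n = θ n) (hgood : Good p M C χ) :
    ∃ χ' : X → ℂ, Nice p M N C θ χ' := by
  haveI := IsPModular.isPrime hM
  haveI := h.normal
  have hp : p.Prime := hM.1
  obtain ⟨d, σ, η, hσ, hσc, hη, rfl, hθ1, hpd⟩ := h.setup hχ hres
  set ξ := detHom η with hξ
  obtain ⟨A, m, hm, ho⟩ :=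
    Nat.exists_eq_pow_mul_and_not_dvd (orderOf_detHom_ne_zero η) p hp.ne_one
  rw [← hξ] at ho
  set u := p ^ A with hu
  have hum : Nat.Coprime u m := Nat.Coprime.pow_left _ ((hp.coprime_iff_not_dvd).2 hm)
  have hud : Nat.Coprime u d := Nat.Coprime.pow_left _ ((hp.coprime_iff_not_dvd).2 hpd)
  obtain ⟨e, he1, he2⟩ := Nat.chineseRemainder hum 1 0
  obtain ⟨y0, hy1, hy2⟩ := Nat.chineseRemainder hud 0 1
  set y := y0 + u * d with hy
  have hd0 : d ≠ 0 := fun e => hpd (e ▸ dvd_zero p)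
  have hy0 : 1 ≤ y := (Nat.one_le_iff_ne_zero.2
    (mul_ne_zero (pow_ne_zero A hp.ne_zero) hd0)).trans (Nat.le_add_left _ _)
  obtain ⟨k, hk⟩ : d ∣ y - 1 := by
    refine (Nat.modEq_iff_dvd' hy0).1 ?_
    have : y0 + u * d ≡ 1 + 0 [MOD d] := hy2.add (Nat.modEq_zero_iff_dvd.2 (dvd_mul_left _ _))
    simpa [hy] using this.symm
  have hkey : u ∣ e * k * d + 1 := by
    rw [← Nat.modEq_zero_iff_dvd]
    have h1 : e * k * d + 1 ≡ 1 * (d * k) + 1 [MOD u] := by
      rw [mul_assoc, mul_comm k d]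
      exact (he1.mul_right _).add_right _
    rw [one_mul, ← hk, Nat.sub_add_cancel hy0] at h1
    refine h1.trans ?_
    have : y0 + u * d ≡ 0 + 0 [MOD u] := hy1.add (Nat.modEq_zero_iff_dvd.2 (dvd_mul_right _ _))
    simpa [hy] using this
  set lam := ξ ^ (e * k) with hlam
  have hlu : lam ^ u = 1 := by
    have h0 : orderOf ξ ∣ e * k * u := by
      rw [ho, mul_comm (e * k)]
      exact mul_dvd_mul_left u ((Nat.modEq_zero_iff_dvd.1 he2).mul_right k)
    refine MonoidHom.ext fun g => ?_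
    rw [hlam, MonoidHom.pow_apply, MonoidHom.pow_apply, ← pow_mul, ← MonoidHom.pow_apply,
      orderOf_dvd_iff_pow_eq_one.1 h0]
  have hlN : ∀ n : N, lam (n : X) = 1 := by
    intro n
    have h1 : ξ.comp N.subtype = detHom σ :=
      MonoidHom.ext fun z => Units.ext (by
        rw [MonoidHom.comp_apply, hξ, detHom_apply, detHom_apply]; exact congrArg _ (hη z))
    have hdv : orderOf (detHom σ) ∣ u * m := by
      rw [← h1, ← ho]
      refine orderOf_dvd_of_pow_eq_one (MonoidHom.ext fun z => ?_)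
      rw [MonoidHom.pow_apply, MonoidHom.comp_apply, ← MonoidHom.pow_apply, pow_orderOf_eq_one,
        MonoidHom.one_apply, MonoidHom.one_apply]
    have hnp : ¬ p ∣ orderOf (detHom σ) := by rw [← detOrder_eq, hσc]; exact h.det
    have hdm : orderOf (detHom σ) ∣ e * k :=
      ((Nat.Coprime.pow_right A ((hp.coprime_iff_not_dvd).2 hnp).symm).dvd_of_dvd_mul_left
        hdv).trans ((Nat.modEq_zero_iff_dvd.1 he2).mul_right k)
    have h2 := DFunLike.congr_fun (orderOf_dvd_iff_pow_eq_one.1 hdm) n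
    rwa [← h1, MonoidHom.pow_apply, MonoidHom.comp_apply, ← MonoidHom.pow_apply,
      MonoidHom.one_apply] at h2
  refine ⟨(scaleRep lam η).character, isCharacter_of_rep _, fun n hn => ?_, fun y hy hreg => ?_, ?_⟩
  · rw [character_scaleRep, hlN ⟨n, hn⟩, Units.val_one, one_mul]; exact hres n hn
  · have : lam y = 1 := eq_one_of_pow_coprime
      (by simpa using DFunLike.congr_fun hlu y)
      (show lam y ^ orderOf y = 1 by rw [← map_pow, pow_orderOf_eq_one, map_one])
      (Nat.Coprime.pow_left _ ((hp.coprime_iff_not_dvd).2 hreg))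
    rw [character_scaleRep, character_scaleRep, this, map_one]
    simpa using hgood y hy hreg
  · rw [detOrder_eq, det_smul_rep η (scaleRep lam η) lam (fun _ => rfl), Module.finrank_fin_fun,
      ← hξ, hlam]
    have h0 : orderOf ξ ∣ (e * k * d + 1) * m := by
      rw [ho]; exact mul_dvd_mul_right hkey m
    refine fun hd => hm (hd.trans (orderOf_dvd_of_pow_eq_one (MonoidHom.ext fun g => ?_)))
    rw [MonoidHom.pow_apply, MonoidHom.mul_apply, MonoidHom.pow_apply, MonoidHom.pow_apply,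
      ← pow_mul, ← pow_succ, ← pow_mul, ← MonoidHom.pow_apply,
      orderOf_dvd_iff_pow_eq_one.1 h0]

/-- The orbit indicator of an element centralising the Sylow subgroup, with its scalar. -/
theorem exists_orbit [Fintype X] [N.Normal] [Fintype N] (P : Sylow p N) (y : X)
    (hy : y ∈ Subgroup.centralizer (((P : Subgroup N).map N.subtype : Subgroup X) : Set X)) :
    ∃ w : X → ℤ, PrincExt.Inv N w ∧ PrincExt.Supp N (y : X ⧸ N) w ∧
      ∃ a : ℕ, ¬ p ∣ a ∧ PrincExt.aug w = a ∧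
        ∀ f : X → ℂ, Cfsg.IsClassFunction X f → PrincExt.gval f w = a * f y / f 1 := by
  classical
  let φ : N →* ConjAct X := ConjAct.toConjAct.toMonoidHom.comp N.subtype
  letI : MulAction N X := MulAction.compHom X φ
  have hsmul : ∀ (n : N) (g : X), n • g = (n : X) * g * (n : X)⁻¹ := fun n g => rfl
  set O := MulAction.orbit N y
  have hmem : ∀ g ∈ O, ∃ n : N, (n : X) * y * (n : X)⁻¹ = g := fun g hg => hg
  refine ⟨fun g => if g ∈ O then 1 else 0, fun n hn g => ?_, fun g hg => ?_, Nat.card O, ?_, ?_,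
    fun f hf => ?_⟩
  · have h : (n * g * n⁻¹ ∈ O) ↔ g ∈ O := by
      rw [show n * g * n⁻¹ = (⟨n, hn⟩ : N) • g from rfl]
      constructor
      · rintro ⟨k, hk⟩
        exact ⟨(⟨n, hn⟩ : N)⁻¹ * k, by
          simp only [mul_smul]; rw [show k • y = _ from hk, inv_smul_smul]⟩
      · rintro ⟨k, hk⟩
        exact ⟨(⟨n, hn⟩ : N) * k, by simp only [mul_smul]; rw [show k • y = _ from hk]⟩
    exact if_congr h rfl rfl
  · obtain ⟨n, rfl⟩ : g ∈ O := by by_contra h; exact hg (if_neg h)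
    show ((n • y : X) : X ⧸ N) = _
    rw [hsmul, QuotientGroup.mk_mul, QuotientGroup.mk_mul, QuotientGroup.mk_inv,
      (QuotientGroup.eq_one_iff (n : X)).2 n.2]
    group
  · rw [Nat.card_coe_set_eq, ← MulAction.index_stabilizer N y]
    intro hd
    refine Sylow.not_dvd_index P (hd.trans (Subgroup.index_dvd_of_le fun x hx => ?_))
    rw [MulAction.mem_stabilizer_iff, hsmul,
      Subgroup.mem_centralizer_iff.1 hy (x : X) ⟨x, hx, rfl⟩]
    group
  · rw [PrincExt.aug, Nat.card_eq_fintype_card, Fintype.card_subtype, Finset.natCast_card_filter]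
  · rw [PrincExt.gval, Nat.card_eq_fintype_card, Fintype.card_subtype,
      Finset.natCast_card_filter, Finset.sum_mul, Finset.sum_div]
    refine Finset.sum_congr rfl fun g _ => ?_
    split_ifs with hg
    · obtain ⟨n, rfl⟩ := hmem g hg
      rw [hf y (n : X)]
      simp
    · simp

/-- An extension in the case `X = N C` can be twisted to a good one. -/
theorem exists_good_of_ext (hM : Cfsg.IsPModular p M) (h : Hyp p M N Q C θ) (htop : N ⊔ C = ⊤)
    {χ : X → ℂ} (hχ : Cfsg.IsCharacter X χ) (hres : ∀ n ∈ N, χ n = θ n) :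
    ∃ χ' : X → ℂ, Cfsg.IsCharacter X χ' ∧ (∀ n ∈ N, χ' n = θ n) ∧ Good p M C χ' := by
  classical
  haveI := Fintype.ofFinite X
  haveI := Fintype.ofFinite N
  haveI := IsPModular.isPrime hM
  haveI := h.normal
  let P : Sylow p N := (h.hQ.comap_subtype (K := N)).toSylow (by exact h.hQi)
  have hP : ((P : Subgroup N).map N.subtype : Subgroup X) = Q := by
    show (Q.comap N.subtype).map N.subtype = Q
    rw [Subgroup.comap_subtype, Subgroup.subgroupOf_map_subtype, inf_eq_left.2 h.hQN]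
  have hCP : C ≤ Subgroup.centralizer (((P : Subgroup N).map N.subtype : Subgroup X) : Set X) := by
    rw [hP]; exact h.hC
  have hcov : N ⊔ Subgroup.centralizer (((P : Subgroup N).map N.subtype : Subgroup X) : Set X) = ⊤ :=
    top_le_iff.1 (htop ▸ sup_le_sup_left hCP N)
  obtain ⟨Λ, hΛroot, hΛ⟩ := PrincExt.exists_lift (M := M) N ⟨χ, h.isIrr hχ hres⟩ ⟨_, h.irr⟩
    (fun x => hres x x.2) (fun n => h.block n) hM P hcov
  let lam : X →* ℂ :=
    { toFun := fun g => Λ ((g : X ⧸ N)⁻¹)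
      map_one' := by rw [QuotientGroup.mk_one, inv_one, map_one]
      map_mul' := fun a b => by rw [QuotientGroup.mk_mul, mul_inv_rev, map_mul, mul_comm] }
  have h1N : ∀ n ∈ N, lam n = 1 := fun n hn => by
    show Λ ((n : X ⧸ N)⁻¹) = 1
    rw [(QuotientGroup.eq_one_iff n).2 hn, inv_one, map_one]
  refine ⟨χ * fun g => lam g, IsCharacter.mul hχ (PrincExt.isCharacter_of_hom lam),
    fun n hn => by rw [Pi.mul_apply, h1N n hn, mul_one]; exact hres n hn, fun y hy _ => ?_⟩
  obtain ⟨w, hw, hs, a, ha, haug, hgv⟩ := exists_orbit P y (hCP hy)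
  have h2 := hΛ _ w hw hs
  rw [hgv _ (IsCharacter.isClassFunction hχ), haug] at h2
  obtain ⟨d, hd1, hpd⟩ := h.deg
  have hχ1 : χ 1 = d := (hres 1 N.one_mem).trans hd1
  have hd0 : (d : ℂ) ≠ 0 := Nat.cast_ne_zero.2 fun e => hpd (e ▸ dvd_zero p)
  have ha0 : (a : ℂ) ≠ 0 := Nat.cast_ne_zero.2 fun e => ha (e ▸ dvd_zero p)
  have h3 := MemLocalIdeal.mul_right h2 ((locRing M).mul_mem (natCast_mem (locRing M) d)
    (inv_natCast_memLocalRing hM ha))
  convert h3 using 1
  show χ y * lam y - χ 1 * lam 1 = _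
  rw [map_one, mul_one, hχ1, show lam y = Λ ((y : X ⧸ N)⁻¹) from rfl]
  simp only [hχ1, Int.cast_natCast]
  field_simp

theorem exists_nice_of_ext (hM : Cfsg.IsPModular p M) (h : Hyp p M N Q C θ) (htop : N ⊔ C = ⊤)
    {χ : X → ℂ} (hχ : Cfsg.IsCharacter X χ) (hres : ∀ n ∈ N, χ n = θ n) :
    ∃ χ' : X → ℂ, Nice p M N C θ χ' := by
  obtain ⟨χ', h1, h2, h3⟩ := exists_good_of_ext hM h htop hχ hres
  exact exists_nice_of_good hM h h1 h2 h3

/-! ## Subgroups above `N` -/

theorem Hyp.sub (h : Hyp p M N Q C θ) (Y : Subgroup X) (hNY : N ≤ Y) :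
    Hyp p M (N.subgroupOf Y) (Q.subgroupOf Y) (C.subgroupOf Y) (fun y : Y => θ y) := by
  haveI := h.normal
  let e := Subgroup.subgroupOfEquivOfLe hNY
  refine ⟨inferInstance, fun x hx => h.hQN hx, h.hQ.comap_subtype, ?_, fun x hx => ?_, ?_,
    fun n => ?_, ?_, ?_, fun g n hn => ?_⟩
  · rw [Subgroup.relIndex_subgroupOf hNY]; exact h.hQi
  · rw [Subgroup.mem_centralizer_iff]
    exact fun z hz => Subtype.ext (Subgroup.mem_centralizer_iff.1 (h.hC hx) z hz)
  · exact IsIrrCharacter.comp h.irr e.toMonoidHom e.surjective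
  · show Cfsg.MemLocalIdeal M (Cfsg.centralChar (fun x => (fun _ : N => (1 : ℂ)) (e x)) n -
      Cfsg.centralChar (fun x => (fun m : N => θ m) (e x)) n)
    rw [centralChar_comp e (fun _ => (1 : ℂ)), centralChar_comp e (fun m : N => θ m)]
    exact h.block (e n)
  · obtain ⟨d, hd⟩ := h.deg
    exact ⟨d, by simpa using hd⟩
  · rw [show (fun n : N.subgroupOf Y => θ ((n : Y) : X)) =
      fun n => (fun n : N => θ n) (e.toMonoidHom n) from rfl,
      detOrder_comp e.toMonoidHom e.surjective (IsIrrCharacter.isCharacter h.irr)]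
    exact h.det
  · exact h.inv g n hn

theorem sup_subgroupOf_eq_top [N.Normal] {Y : Subgroup X} (hNY : N ≤ Y) (hY : Y ≤ N ⊔ C) :
    N.subgroupOf Y ⊔ C.subgroupOf Y = ⊤ := by
  refine eq_top_iff.2 fun y _ => ?_
  obtain ⟨n, hn, c, hc, hnc⟩ := Subgroup.mem_sup_of_normal_left.1 (hY y.2)
  have hcY : c ∈ Y := (mul_mem_cancel_left (hNY hn)).1 (hnc ▸ y.2)
  rw [show y = ⟨n, hNY hn⟩ * ⟨c, hcY⟩ from Subtype.ext hnc.symm]
  exact Subgroup.mul_mem_sup hn hc

/-- The good extension to a normal subgroup is invariant. -/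
theorem Nice.invariant (hM : Cfsg.IsPModular p M) (h : Hyp p M N Q C θ) {Y : Subgroup X} [Y.Normal]
    (hNY : N ≤ Y) (hY : Y ≤ N ⊔ C)
    (hnorm : ∀ x : X, ∃ n ∈ N, ∃ k : X, x = n * k ∧ ∀ y ∈ C, k * y * k⁻¹ ∈ C)
    {ψ : Y → ℂ} (hψ : Nice p M (N.subgroupOf Y) (C.subgroupOf Y) (fun y : Y => θ y) ψ)
    (x : X) (y : Y) : ψ (conjHom Y x y) = ψ y := by
  haveI := h.normal
  suffices hx : Nice p M (N.subgroupOf Y) (C.subgroupOf Y) (fun y : Y => θ y)
      (fun y => ψ (conjHom Y x y)) from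
    congrFun (Nice.unique hM (h.sub Y hNY)
      ⟨0, fun z => by rw [sup_subgroupOf_eq_top hNY hY]; trivial⟩ hx hψ) y
  refine ⟨IsCharacter.comp hψ.char _, fun n hn => ?_, fun z hz hreg => ?_, ?_⟩
  · rw [hψ.res _ (h.normal.conj_mem _ hn x)]
    exact h.inv x n hn
  · obtain ⟨n, hn, k, rfl, hk⟩ := hnorm x
    have e : conjHom Y (n * k) z =
        ⟨n, hNY hn⟩ * conjHom Y k z * (⟨n, hNY hn⟩ : Y)⁻¹ := Subtype.ext (by simp [mul_assoc])
    show Cfsg.MemLocalIdeal M (ψ (conjHom Y (n * k) z) - ψ (conjHom Y (n * k) 1))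
    rw [map_one, e, IsCharacter.isClassFunction hψ.char]
    refine hψ.good _ (hk _ hz) ?_
    rw [← Subgroup.orderOf_coe, conjHom_coe, ← MulAut.conj_apply, MulEquiv.orderOf_eq,
      Subgroup.orderOf_coe]
    exact hreg
  · rw [detOrder_comp (conjHom Y x) (conjHom_surjective Y x) hψ.char]
    exact hψ.det

/-- An invariant character of a normal subgroup of `p`-power index extends when its degree and
determinantal order are prime to `p`. -/
theorem ext_of_pindex {Y : Subgroup X} [Y.Normal] (hp : p.Prime) {ψ : Y → ℂ}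
    (hψ : Cfsg.IsIrrCharacter Y ψ) (hinv : ∀ (x : X) (y : Y), ψ (conjHom Y x y) = ψ y) {d : ℕ}
    (hd : ψ 1 = d) (hpd : ¬ p ∣ d) (hdet : ¬ p ∣ Cfsg.detOrder ψ)
    (hidx : ∃ a : ℕ, Y.index = p ^ a) :
    ∃ χ : X → ℂ, Cfsg.IsCharacter X χ ∧ ∀ y : Y, χ y = ψ y := by
  obtain ⟨a, ha⟩ := hidx
  obtain ⟨n, ρ, -, rfl⟩ := id hψ
  have hf : ∀ (g : X) (z : Y), detHom ρ (conjHom Y g z) = detHom ρ z := fun g z =>
    Units.ext (congrArg Units.val (DFunLike.congr_fun
      (detHom_eq_of_char (ρ.comp (conjHom Y g)) ρ (funext fun w => hinv g w)) z) :)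
  rw [detOrder_eq] at hdet
  obtain ⟨μ, hμ, -⟩ := exists_linear_extension (detHom ρ) hf
    (ha ▸ Nat.Coprime.pow_left a ((hp.coprime_iff_not_dvd).2 hdet))
  obtain ⟨χ, hχ, hres⟩ := exists_extension_det hψ (fun g z => hinv g z) hd
    (ha ▸ Nat.Coprime.pow_left a ((hp.coprime_iff_not_dvd).2 hpd)) μ
    (fun z => by rw [hμ, detChar_eq])
  exact ⟨χ, IsIrrCharacter.isCharacter hχ, hres⟩

/-- Extension when `X = N C` and the index of `N` is a prime power. -/
theorem exists_ext_primePow (hM : Cfsg.IsPModular p M) {r : ℕ} (hr : r.Prime) :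
    ∀ (k : ℕ) (X : Type u) [Group X] [Finite X] (N Q C : Subgroup X) (θ : X → ℂ),
      Hyp p M N Q C θ → N ⊔ C = ⊤ → N.index = r ^ k →
      ∃ χ : X → ℂ, Cfsg.IsCharacter X χ ∧ ∀ n ∈ N, χ n = θ n := by
  intro k
  induction k with
  | zero =>
    intro X _ _ N Q C θ h _ hidx
    have hN : N = ⊤ := Subgroup.index_eq_one.1 (by rwa [pow_zero] at hidx)
    let e : X →* N := (MonoidHom.id X).codRestrict N fun x => hN ▸ Subgroup.mem_top x
    exact ⟨fun x => θ x, IsCharacter.comp (IsIrrCharacter.isCharacter h.irr) e, fun _ _ => rfl⟩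
  | succ k ih =>
    intro X _ _ N Q C θ h htop hidx
    haveI := h.normal
    haveI : Fact r.Prime := ⟨hr⟩
    have hcard : Nat.card (X ⧸ N) = r ^ (k + 1) := hidx
    obtain ⟨K, hK⟩ := Sylow.exists_subgroup_card_pow_prime r (G := X ⧸ N) (n := k)
      (hcard ▸ pow_dvd_pow r k.le_succ)
    have hKi : K.index = r := by
      have := K.card_mul_index
      rw [hK, hcard, pow_succ] at this
      exact Nat.eq_of_mul_eq_mul_left (pow_pos hr.pos k) this
    haveI : K.Normal := Subgroup.normal_of_index_eq_minFac_card (by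
      rw [hKi, hcard, hr.pow_minFac k.succ_ne_zero])
    set Y := K.comap (QuotientGroup.mk' N)
    haveI : Y.Normal := inferInstanceAs (K.comap _).Normal
    have hNY : N ≤ Y := fun n hn => by
      show (QuotientGroup.mk' N) n ∈ K
      rw [QuotientGroup.mk'_apply, (QuotientGroup.eq_one_iff n).2 hn]; exact K.one_mem
    have hYi : Y.index = r := by
      rw [Subgroup.index_comap_of_surjective K (QuotientGroup.mk'_surjective N), hKi]
    have hNi : (N.subgroupOf Y).index = r ^ k := by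
      have := Subgroup.relIndex_mul_index hNY
      rw [hYi, hidx, pow_succ] at this
      exact Nat.eq_of_mul_eq_mul_right hr.pos this
    have hY : Y ≤ N ⊔ C := htop ▸ le_top
    obtain ⟨χ₁, h1, h1'⟩ := ih Y _ _ _ _ (h.sub Y hNY) (sup_subgroupOf_eq_top hNY hY) hNi
    obtain ⟨ψ, hψ⟩ := exists_nice_of_ext hM (h.sub Y hNY) (sup_subgroupOf_eq_top hNY hY) h1 h1'
    have hinv := Nice.invariant hM h hNY hY (fun x => by
      obtain ⟨n, hn, c, hc, hnc⟩ := Subgroup.mem_sup_of_normal_left.1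
        (htop ▸ Subgroup.mem_top x : x ∈ N ⊔ C)
      exact ⟨n, hn, c, hnc.symm, fun y hy => mul_mem (mul_mem hc hy) (inv_mem hc)⟩) hψ
    obtain ⟨d, ρ, hρ, rfl⟩ := (h.sub Y hNY).isIrr hψ.char hψ.res
    haveI := hρ
    obtain ⟨η, hη⟩ := exists_extension_of_cyclic ρ (fun g => funext fun z => hinv g z)
      (isCyclic_of_prime_card (p := r) (by rw [← hYi]; rfl))
    refine ⟨η.character, isCharacter_of_rep η, fun n hn => ?_⟩
    rw [show η.character n = ρ.character ⟨n, hNY hn⟩ from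
      congrArg (LinearMap.trace ℂ _) (hη ⟨n, hNY hn⟩)]
    exact hψ.res _ hn

/-- Extension when `X = N C`. -/
theorem exists_ext_top (hM : Cfsg.IsPModular p M) (h : Hyp p M N Q C θ) (htop : N ⊔ C = ⊤) :
    ∃ χ : X → ℂ, Cfsg.IsCharacter X χ ∧ ∀ n ∈ N, χ n = θ n := by
  haveI := h.normal
  obtain ⟨χ, hχ, hres⟩ := exists_extension_sylow (G := X) h.irr (fun g n => h.inv g n n.2) (by
    intro r hr
    haveI : Fact r.Prime := ⟨hr⟩
    obtain ⟨S⟩ : Nonempty (Sylow r X) := inferInstance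
    set P := N ⊔ (S : Subgroup X)
    have hNP : N ≤ P := le_sup_left
    have hcop : Nat.Coprime P.index r := ((hr.coprime_iff_not_dvd).2 fun hd =>
      S.not_dvd_index (hd.trans (Subgroup.index_dvd_of_le le_sup_right))).symm
    obtain ⟨k, hk⟩ : ∃ k, (N.subgroupOf P).index = r ^ k := by
      obtain ⟨e, he⟩ := IsPGroup.iff_card.1 S.isPGroup'
      have h1 : N.relIndex P = N.relIndex (S : Subgroup X) :=
        Subgroup.relIndex_sup_left _ _
      have h2 : N.relIndex (S : Subgroup X) ∣ r ^ e := he ▸ Subgroup.index_dvd_card _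
      obtain ⟨k, -, hk⟩ := (Nat.dvd_prime_pow hr).1 h2
      exact ⟨k, h1.trans hk⟩
    suffices ∃ η : P → ℂ, Cfsg.IsCharacter P η ∧ ∀ n ∈ N.subgroupOf P, η n = θ (n : X) by
      obtain ⟨η, hη, hηres⟩ := this
      exact ⟨P, hNP, η, hcop, hη, fun n => hηres ⟨(n : X), hNP n.2⟩ n.2⟩
    have hs := h.sub P hNP
    by_cases hrp : r = p
    · subst hrp
      haveI := hs.normal
      obtain ⟨d, hd, hpd⟩ := hs.deg
      obtain ⟨η, hη, hηres⟩ := ext_of_pindex hr hs.irr
        (fun x y => hs.inv x y y.2) (by simpa using hd) hpd hs.det ⟨k, hk⟩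
      exact ⟨η, hη, fun n hn => hηres ⟨n, hn⟩⟩
    · exact exists_ext_primePow hM hr k P _ _ _ _ hs
        (sup_subgroupOf_eq_top hNP (htop ▸ le_top)) hk)
  exact ⟨χ, IsIrrCharacter.isCharacter hχ, fun n hn => hres ⟨n, hn⟩⟩

/-- The canonical extension when `N C` is normal of `p`-power index. -/
theorem exists_nice (hM : Cfsg.IsPModular p M) (h : Hyp p M N Q C θ) [(N ⊔ C).Normal]
    (hidx : ∃ a : ℕ, (N ⊔ C).index = p ^ a)
    (hnorm : ∀ x : X, ∃ n ∈ N, ∃ k : X, x = n * k ∧ ∀ y ∈ C, k * y * k⁻¹ ∈ C) :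
    ∃ χ : X → ℂ, Nice p M N C θ χ := by
  haveI := h.normal
  have hp : p.Prime := hM.1
  set H := N ⊔ C
  have hNH : N ≤ H := le_sup_left
  have hs := h.sub H hNH
  have htop := sup_subgroupOf_eq_top (N := N) (C := C) (Y := H) hNH le_rfl
  obtain ⟨χ₁, h1, h1'⟩ := exists_ext_top hM hs htop
  obtain ⟨ψ, hψ⟩ := exists_nice_of_ext hM hs htop h1 h1'
  obtain ⟨d, hd, hpd⟩ := hs.deg
  obtain ⟨χ, hχ, hres⟩ := ext_of_pindex hp (hs.isIrr hψ.char hψ.res)
    (Nice.invariant hM h hNH le_rfl hnorm hψ) ((hψ.res 1 (one_mem _)).trans hd) hpd hψ.det hidx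
  refine exists_nice_of_good hM h hχ (fun n hn => ?_) (fun y hy hreg => ?_)
  · exact (hres ⟨n, hNH hn⟩).trans (hψ.res _ hn)
  · have h2 := hψ.good ⟨y, Subgroup.mem_sup_right hy⟩ hy
      (by rwa [← Subgroup.orderOf_coe])
    rwa [← hres, ← hres] at h2

/-- Characters congruent to their degree on the centraliser of a `p`-subgroup of `X` which is
Sylow in a normal subgroup lie in the principal block. -/
theorem mem_principal_of_good (hM : Cfsg.IsPModular p M) (hQ : IsPGroup p Q) {χ : X → ℂ}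
    (hχ : Cfsg.IsCharacter X χ) {d : ℕ} (hd : χ 1 = d) (hpd : ¬ p ∣ d)
    (hgood : Good p M (Subgroup.centralizer (Q : Set X)) χ) (g : X) :
    Cfsg.MemLocalIdeal M (Cfsg.centralChar (fun _ : X => (1 : ℂ)) g - Cfsg.centralChar χ g) := by
  haveI := Fintype.ofFinite X
  haveI := IsPModular.isPrime hM
  have hp : p.Prime := hM.1
  have hd0 : (d : ℂ) ≠ 0 := Nat.cast_ne_zero.2 fun e => hpd (e ▸ dvd_zero p)
  set K := (Subgroup.centralizer ({g} : Set X)).index
  have hint : ∀ x, χ x ∈ locRing M := fun x => by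
    obtain ⟨n, ρ, rfl⟩ := hχ
    exact mem_locRing_of_isIntegral (isIntegral_char ρ x)
  have e : Cfsg.centralChar (fun _ : X => (1 : ℂ)) g - Cfsg.centralChar χ g =
      (K : ℂ) * ((d : ℂ)⁻¹ * (-(χ g - χ 1))) := by
    simp only [Cfsg.centralChar, hd]
    field_simp
    ring
  rw [e]
  by_cases hK : p ∣ K
  · exact MemLocalIdeal.mul_right ((natCast_memLocalIdeal_iff hM K).2 hK)
      ((locRing M).mul_mem (inv_natCast_memLocalRing hM hpd)
        ((locRing M).neg_mem ((locRing M).sub_mem (hint g) (hint 1))))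
  refine MemLocalIdeal.mul_left (natCast_mem (locRing M) K)
    (MemLocalIdeal.mul_left (inv_natCast_memLocalRing hM hpd) (MemLocalIdeal.neg ?_))
  -- a conjugate of `g` centralises `Q`
  obtain ⟨S, hQS⟩ := hQ.exists_le_sylow
  obtain ⟨T⟩ : Nonempty (Sylow p (Subgroup.centralizer ({g} : Set X))) := inferInstance
  have hTi : ¬ p ∣ ((T : Subgroup (Subgroup.centralizer ({g} : Set X))).map
      (Subgroup.centralizer ({g} : Set X)).subtype).index := by
    rw [Subgroup.index_map_subtype]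
    exact fun hd => ((hp.dvd_mul).1 hd).elim T.not_dvd_index hK
  obtain ⟨x, hx⟩ := MulAction.exists_smul_eq X
    ((T.isPGroup'.map _).toSylow hTi) S
  have hxg : x * g * x⁻¹ ∈ Subgroup.centralizer (Q : Set X) := by
    rw [Subgroup.mem_centralizer_iff]
    intro q hq
    have hq' : q ∈ ((x • (T.isPGroup'.map _).toSylow hTi : Sylow p X) : Subgroup X) := by
      rw [hx]; exact hQS hq
    rw [Sylow.coe_subgroup_smul, Subgroup.mem_pointwise_smul_iff_inv_smul_mem] at hq'
    obtain ⟨t, -, ht⟩ := hq'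
    have hc : g * (x⁻¹ * q * x) = x⁻¹ * q * x * g := by
      have h3 : x⁻¹ * q * x = (t : X) := by
        rw [Subgroup.coe_subtype] at ht
        rw [ht, ← map_inv, MulAut.smul_def, MulAut.conj_apply, inv_inv]
      rw [h3]
      exact (Subgroup.mem_centralizer_singleton_iff.1 t.2).symm
    calc q * (x * g * x⁻¹) = x * (x⁻¹ * q * x * g) * x⁻¹ := by group
      _ = x * (g * (x⁻¹ * q * x)) * x⁻¹ := by rw [hc]
      _ = x * g * x⁻¹ * q := by group
  rw [← IsCharacter.isClassFunction hχ g x]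
  obtain ⟨a, b, hab, hcomm, ⟨k, hk⟩, hb⟩ := exists_isPPart hp (x * g * x⁻¹)
  have hbC : b ∈ Subgroup.centralizer (Q : Set X) := by
    obtain ⟨l, hl1, hl2⟩ := Nat.chineseRemainder
      (((hp.coprime_iff_not_dvd).2 hb).pow_left k) 0 1
    have : (a * b) ^ l = b := by
      rw [hcomm.mul_pow, orderOf_dvd_iff_pow_eq_one.1 (hk ▸ Nat.modEq_zero_iff_dvd.1 hl1), one_mul]
      exact (pow_eq_pow_iff_modEq.2 hl2).trans (pow_one b)
    rw [← this, hab]
    exact pow_mem hxg l
  have h1 := MemLocalIdeal.add (char_congr_regular hM hχ hcomm hk hb) (hgood b hbC hb)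
  rwa [sub_add_sub_cancel, hab] at h1

end Cfsg.Agent.GoodExt
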