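import Cfsg.Agent.S4937
import Cfsg.Agent.Lib.Blocks.CoverAll
import Cfsg.Agent.Lib.Blocks.Covering
import Cfsg.Agent.Lib.Blocks.Induced
import Cfsg.Agent.Lib.Blocks.GoodExtension
import Cfsg.Agent.Lib.Char.Gallagher
import Cfsg.Agent.Lib.Char.ExtensionChar

/-!
# Alperin's theorem on isomorphic principal blocks

`N` is normal of index prime to `p` and `G = N C_G(P)` for a Sylow `p`-subgroup `P`: every
character of the principal block of `N` is invariant and has exactly one extension in the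
principal block of `G`.
-/

set_option autoImplicit false
set_option linter.style.haveILetI false
set_option linter.unusedSectionVars false

namespace Cfsg.Agent.AlperinIso

open Cfsg Cfsg.Agent.Char Cfsg.Agent.CharX Cfsg.Agent.Blocks MonoidAlgebra

universe u v

variable {p : ℕ} [hpf : Fact p.Prime] {M : Ideal Cfsg.AlgInt}

/-- Principal blocks and isomorphisms. -/
theorem transfer {A : Type u} [Group A] {B : Type v} [Group B] [Finite A] [Finite B] (e : A ≃* B)
    (ψ : IrrCharacter B) (hψ : ψ ∈ principalBlock M B) :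
    ∃ φ : IrrCharacter A, φ ∈ principalBlock M A ∧ ∀ a, (φ : A → ℂ) a = (ψ : B → ℂ) (e a) := by
  refine ⟨⟨fun a => (ψ : B → ℂ) (e a), IsIrrCharacter.comp ψ.2 e.toMonoidHom e.surjective⟩,
    fun a => ?_, fun _ => rfl⟩
  have h := hψ (e a)
  rw [← GoodExt.centralChar_comp, ← GoodExt.centralChar_comp] at h
  exact h

variable {X : Type u} [Group X] [Fintype X]

/-- An element supported in a normal subgroup sees only the constituents. -/
theorem omega_restrict [M.IsPrime] (N : Subgroup X) [N.Normal] [Fintype N] (χ : IrrCharacter X)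
    (θ : IrrCharacter N) (h : classInner (fun n : N => (χ : X → ℂ) n) (θ : N → ℂ) ≠ 0)
    {z : MonoidAlgebra (locRing M) X} (hz : IsClassElt z) (hs : ∀ g, g ∉ N → z.coeff g = 0) :
    omegaR χ z = omegaR θ (restrictElt N z) := by
  classical
  haveI : Finite (ConjClasses X) := Finite.of_surjective _ ConjClasses.mk_surjective
  haveI : Fintype (ConjClasses X) := Fintype.ofFinite _
  let F : MonoidAlgebra (locRing M) X →+ ℂ := AddMonoidHom.mk'
    (fun y => omegaR θ (restrictElt N y)) fun a b => by rw [restrictElt_add, omegaR_add]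
  have h1 : omegaR θ (restrictElt N z) = ∑ C : ConjClasses X,
      (z.coeff C.out : ℂ) * inducedCentralChar N (θ : N → ℂ) C.out := by
    conv_lhs => rw [classElt_eq_sum_classSum hz]
    refine (map_sum F _ _).trans (Finset.sum_congr rfl fun C _ => ?_)
    simp only [F, AddMonoidHom.mk'_apply, restrictElt_smul, omegaR_smul, ← inducedCentralChar_eq]
  rw [h1, omegaR_eq_sum χ hz]
  refine Finset.sum_congr rfl fun C _ => ?_
  by_cases hC : C.out ∈ N
  · exact congrArg _ ((constituent_iff N χ θ).1 h ⟨C.out, hC⟩)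
  · rw [hs _ hC]; simp

theorem omega_pow [M.IsPrime] (χ : IrrCharacter X) {x : MonoidAlgebra (locRing M) X}
    (hx : IsClassElt x) (m : ℕ) : omegaR χ (x ^ m) = omegaR χ x ^ m := by
  induction m with
  | zero => rw [pow_zero, pow_zero, omegaR_one]
  | succ m ih => rw [pow_succ, pow_succ, omegaR_mul χ (IsClassElt.pow hx m) hx, ih]

theorem centralChar_one_apply (g : X) :
    centralChar (fun _ : X => (1 : ℂ)) g =
      ((Subgroup.centralizer ({g} : Set X)).index : ℂ) := by
  simp [centralChar]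

/-- A central element of the Sylow subgroup's centraliser has class size prime to `p`. -/
theorem class_coprime (P : Subgroup X) (hP : ¬ p ∣ P.index) {y : X}
    (hy : y ∈ Subgroup.centralizer (P : Set X)) :
    ¬ p ∣ (Subgroup.centralizer ({y} : Set X)).index := by
  refine fun hd => hP (hd.trans (Subgroup.index_dvd_of_le fun x hx => ?_))
  exact Subgroup.mem_centralizer_singleton_iff.2 ((Subgroup.mem_centralizer_iff.1 hy x hx))

theorem map_sylow_index {N : Subgroup X} (P : Sylow p N) (hidx : ¬ p ∣ N.index) :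
    ¬ p ∣ ((P : Subgroup N).map N.subtype).index := by
  rw [Subgroup.index_map_subtype]
  exact fun hd => (hpf.out.dvd_mul.1 hd).elim P.not_dvd_index hidx

/-- Characters of the principal block are invariant when the index is a prime different from
`p`. -/
theorem invariant_step (hM : IsPModular p M) (Y : Subgroup X) [Y.Normal] (hY : Y.index.Prime)
    (hYp : ¬ p ∣ Y.index) (P : Sylow p Y)
    (hcov : Y ⊔ Subgroup.centralizer (((P : Subgroup Y).map Y.subtype : Subgroup X) : Set X) = ⊤)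
    (θ : IrrCharacter Y) (hθ : θ ∈ principalBlock M Y) :
    ∀ g : X, conjChar Y g (θ : Y → ℂ) = (θ : Y → ℂ) := by
  classical
  haveI := hM.2.1.isPrime
  haveI : Fintype Y := Fintype.ofFinite Y
  by_contra hne
  have hle : Y ≤ inertia Y (θ : Y → ℂ) :=
    le_inertia Y (IsCharacter.isClassFunction (irr_isCharacter θ))
  have hT : inertia Y (θ : Y → ℂ) = Y := by
    have hd := Subgroup.relIndex_mul_index hle
    rcases (Nat.dvd_prime hY).1 (Dvd.intro_left _ hd) with h | h
    · exact absurd (fun g => mem_inertia Y |>.1 (Subgroup.index_eq_one.1 h ▸ Subgroup.mem_top g)) hne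
    · refine le_antisymm (Subgroup.relIndex_eq_one.1 ?_) hle
      rw [h] at hd
      exact Nat.eq_of_mul_eq_mul_right hY.pos (by rw [one_mul]; exact hd)
  -- the induced character is irreducible
  have hirr : IsIrrCharacter X (indFun Y (θ : Y → ℂ)) := by
    refine IsCharacter.isIrr_of_norm_one (isCharacter_indFun Y (irr_isCharacter θ)) ?_
    rw [classInner_indFun_normal Y θ.2 θ.2]
    have e : Nat.card {g : X // conjChar Y g (θ : Y → ℂ) = (θ : Y → ℂ)} = Nat.card Y :=
      Nat.card_congr (Equiv.subtypeEquivRight fun g => by rw [← mem_inertia, hT])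
    rw [e, inv_mul_cancel₀ (Nat.cast_ne_zero.2 Nat.card_pos.ne')]
  set χ : IrrCharacter X := ⟨_, hirr⟩
  have hχθ : classInner (fun n : Y => (χ : X → ℂ) n) (θ : Y → ℂ) ≠ 0 := by
    rw [← classInner_conj_symm,
      ← classInner_indFun_left Y (θ : Y → ℂ) (IsCharacter.isClassFunction (irr_isCharacter χ))]
    rw [classInner_self_irr hirr]
    simp
  have hχ0 : ∀ g : X, g ∉ Y → (χ : X → ℂ) g = 0 := by
    intro g hg
    show indFun Y (θ : Y → ℂ) g = 0
    rw [indFun_apply, Finset.sum_eq_zero, mul_zero]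
    intro x _
    refine extendByZero_not_mem Y _ fun h => hg ?_
    simpa [mul_assoc] using (inferInstance : Y.Normal).conj_mem _ h x
  -- an element centralising `P` outside `Y`
  obtain ⟨y, hy, hyY⟩ : ∃ y ∈ Subgroup.centralizer
      (((P : Subgroup Y).map Y.subtype : Subgroup X) : Set X), y ∉ Y := by
    by_contra h
    push_neg at h
    refine hY.ne_one (Subgroup.index_eq_one.2 ?_)
    rw [← hcov]; exact (sup_eq_left.2 h).symm
  have hK : ¬ p ∣ (Subgroup.centralizer ({y} : Set X)).index :=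
    class_coprime _ (map_sylow_index P hYp) hy
  have hgen : ∀ g : X, (g : X ⧸ Y) ∈ Subgroup.zpowers (y : X ⧸ Y) := fun g => by
    haveI : Fact (Y.index).Prime := ⟨hY⟩
    exact mem_zpowers_of_prime_card (p := Y.index) rfl
      (by rw [Ne, QuotientGroup.eq_one_iff]; exact hyY)
  set x := classSum (locRing M) y with hxdef
  have hx : IsClassElt x := isClassElt_classSum y
  have hxs : SuppIn Y x (y : X ⧸ Y) := by
    intro g hg
    rw [hxdef, coeff_classSum, if_neg]
    intro hc
    obtain ⟨c, rfl⟩ := isConj_iff.1 hc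
    apply hg
    obtain ⟨k, hk⟩ := Subgroup.mem_zpowers_iff.1 (hgen c)
    rw [QuotientGroup.mk_mul, QuotientGroup.mk_mul, QuotientGroup.mk_inv, ← hk]
    exact (((Commute.refl (y : X ⧸ Y)).zpow_left k).eq ▸ mul_inv_cancel_right _ _)
  have hpow : ∀ n : ℕ, SuppIn Y (x ^ n) ((y : X ⧸ Y) ^ n) := by
    intro n
    induction n with
    | zero => rw [pow_zero, pow_zero]; exact suppIn_one Y
    | succ n ih => rw [pow_succ, pow_succ]; exact ih.mul Y hxs
  set m := Y.index
  have hsupp : ∀ g, g ∉ Y → (x ^ m).coeff g = 0 := fun g hg => hpow m g (by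
    rw [show ((y : X ⧸ Y)) ^ m = 1 from pow_card_eq_one']
    rwa [Ne, QuotientGroup.eq_one_iff])
  have hz := IsClassElt.pow hx m
  have e1 : omegaR χ (x ^ m) = 0 := by
    rw [omega_pow χ hx, hxdef, omegaR_classSum, centralChar, hχ0 y hyY, mul_zero, zero_div,
      zero_pow hY.ne_zero]
  have e2 : omegaR (principal X) (x ^ m) =
      ((Subgroup.centralizer ({y} : Set X)).index : ℂ) ^ m := by
    rw [omega_pow _ hx, hxdef, omegaR_classSum]
    exact congrArg (· ^ m) (centralChar_one_apply y)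
  have h1 := omegaR_congr (χ := principal Y) (ψ := θ) (M := M) hθ
    (IsClassElt.restrictElt hz Y)
  rw [← omega_restrict Y (principal X) (principal Y) (by
      show classInner (fun _ : Y => (1 : ℂ)) (fun _ => 1) ≠ 0
      rw [classInner_self_irr isIrrCharacter_one]; exact one_ne_zero) hz hsupp,
    ← omega_restrict Y χ θ hχθ hz hsupp, e1, e2, sub_zero, ← Nat.cast_pow,
    natCast_memLocalIdeal_iff hM] at h1
  exact hK (hpf.out.dvd_of_dvd_pow h1)

/-- Extension to the principal block along a quotient of prime power order. -/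
theorem extend_primePow (hM : IsPModular p M) {r : ℕ} (hr : r.Prime) (hrp : ¬ p ∣ r) :
    ∀ (k : ℕ) (X : Type u) [Group X] [Finite X] (N : Subgroup X) [N.Normal] (P : Sylow p N)
      (θ : IrrCharacter N), θ ∈ principalBlock M N →
      N ⊔ Subgroup.centralizer (((P : Subgroup N).map N.subtype : Subgroup X) : Set X) = ⊤ →
      N.index = r ^ k →
      ∃ χ : IrrCharacter X, χ ∈ principalBlock M X ∧ ∀ n : N, (χ : X → ℂ) n = (θ : N → ℂ) n := by
  intro k
  induction k with
  | zero =>
    intro X _ _ N _ P θ hθ _ hidx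
    have hN : N = ⊤ := Subgroup.index_eq_one.1 (by rwa [pow_zero] at hidx)
    subst hN
    obtain ⟨χ, hχ, hv⟩ := transfer (Subgroup.topEquiv (G := X)).symm θ hθ
    exact ⟨χ, hχ, fun n => by rw [hv]; rfl⟩
  | succ k ih =>
    intro X _ _ N _ P θ hθ htop hidx
    haveI : Fintype X := Fintype.ofFinite X
    haveI : Fact r.Prime := ⟨hr⟩
    have hcard : Nat.card (X ⧸ N) = r ^ (k + 1) := hidx
    obtain ⟨K, hK⟩ := Sylow.exists_subgroup_card_pow_prime r (G := X ⧸ N) (n := k)
      (hcard ▸ pow_dvd_pow r k.le_succ)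
    have hKi : K.index = r := by
      have := K.card_mul_index
      rw [hK, hcard, pow_succ] at this
      exact Nat.eq_of_mul_eq_mul_left (pow_pos hr.pos k) this
    haveI : K.Normal := Subgroup.normal_of_index_eq_minFac_card (by
      rw [hKi, hcard, hr.pow_minFac k.succ_ne_zero])
    set Y := K.comap (QuotientGroup.mk' N)
    haveI : Y.Normal := inferInstanceAs (K.comap _).Normal
    have hNY : N ≤ Y := fun n hn => by
      show (QuotientGroup.mk' N) n ∈ K
      rw [QuotientGroup.mk'_apply, (QuotientGroup.eq_one_iff n).2 hn]; exact K.one_mem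
    have hYi : Y.index = r := by
      rw [Subgroup.index_comap_of_surjective K (QuotientGroup.mk'_surjective N), hKi]
    have hrel : (N.subgroupOf Y).index = r ^ k := by
      have h := Subgroup.relIndex_mul_index hNY
      rw [hidx, hYi, pow_succ] at h
      exact Nat.eq_of_mul_eq_mul_right hr.pos h
    haveI : Fintype Y := Fintype.ofFinite Y
    set C := Subgroup.centralizer (((P : Subgroup N).map N.subtype : Subgroup X) : Set X)
    -- inside `Y`
    let e := Subgroup.subgroupOfEquivOfLe hNY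
    obtain ⟨θ₁, hθ₁, hθ₁v⟩ := transfer e θ hθ
    let P₁ : Sylow p (N.subgroupOf Y) := P.comapOfInjective e.toMonoidHom e.injective (fun z _ =>
      ⟨e.symm z, e.apply_symm_apply z⟩)
    have hP₁ : ∀ z : X, z ∈ ((P : Subgroup N).map N.subtype) →
        ∃ hz : z ∈ Y, (⟨z, hz⟩ : Y) ∈ ((P₁ : Subgroup (N.subgroupOf Y)).map
          (N.subgroupOf Y).subtype) := by
      rintro _ ⟨w, hw, rfl⟩
      refine ⟨hNY w.2, e.symm w, ?_, rfl⟩
      show e (e.symm w) ∈ (P : Subgroup N)
      rwa [e.apply_symm_apply]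
    have htop₁ : N.subgroupOf Y ⊔ Subgroup.centralizer
        (((P₁ : Subgroup (N.subgroupOf Y)).map (N.subgroupOf Y).subtype : Subgroup Y) : Set Y)
          = ⊤ := by
      refine eq_top_iff.2 fun g _ => ?_
      have hg : (g : X) ∈ N ⊔ C := htop ▸ Subgroup.mem_top _
      rw [← SetLike.mem_coe, Subgroup.normal_mul] at hg
      obtain ⟨n, hn, c, hc, hgc⟩ := hg
      have hcY : c ∈ Y := by
        have := mul_mem (inv_mem (hNY hn)) g.2
        rwa [← hgc, inv_mul_cancel_left] at this
      rw [show g = (⟨n, hNY hn⟩ : Y) * ⟨c, hcY⟩ from Subtype.ext hgc.symm]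
      refine mul_mem (Subgroup.mem_sup_left hn) (Subgroup.mem_sup_right ?_)
      rw [Subgroup.mem_centralizer_iff]
      rintro _ ⟨w, hw, rfl⟩
      exact Subtype.ext (Subgroup.mem_centralizer_iff.1 hc _ ⟨e w, hw, rfl⟩)
    obtain ⟨θ', hθ', hθ'v⟩ := ih Y (N.subgroupOf Y) P₁ θ₁ hθ₁ htop₁ hrel
    -- a Sylow subgroup of `Y`
    have hPY : IsPGroup p ((P₁ : Subgroup (N.subgroupOf Y)).map (N.subgroupOf Y).subtype) :=
      P₁.isPGroup'.map _
    let PY : Sylow p Y := hPY.toSylow (map_sylow_index P₁ (by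
      rw [hrel]; exact fun hd => hrp (hpf.out.dvd_of_dvd_pow hd)))
    have hPYmap : ((PY : Subgroup Y).map Y.subtype) = (P : Subgroup N).map N.subtype := by
      refine le_antisymm ?_ fun z hz => ?_
      · rintro _ ⟨_, ⟨w, hw, rfl⟩, rfl⟩
        exact ⟨e w, hw, rfl⟩
      · obtain ⟨hzY, h⟩ := hP₁ z hz
        exact ⟨⟨z, hzY⟩, h, rfl⟩
    have hcov : Y ⊔ Subgroup.centralizer (((PY : Subgroup Y).map Y.subtype : Subgroup X) : Set X)
        = ⊤ := by
      rw [hPYmap, eq_top_iff, ← htop]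
      exact sup_le_sup_right hNY _
    have hinv := invariant_step hM Y (hYi ▸ hr) (hYi ▸ hrp) PY hcov θ' hθ'
    obtain ⟨d, σ, hσ, hσθ⟩ := θ'.2
    haveI := hσ
    haveI : Fact Y.index.Prime := ⟨hYi ▸ hr⟩
    obtain ⟨η, hη⟩ := CharExtend.exists_extension_of_cyclic (σ := σ)
      (fun g => by rw [hσθ]; exact hinv g) (isCyclic_of_prime_card (p := Y.index) rfl)
    obtain ⟨hηi, hηv⟩ := CharExtend.exists_char_of_rep hη
    obtain ⟨χ, hχ, hχv, -⟩ := S4937.result p M hM Y PY hcov θ' hθ'
      ⟨⟨η.character, hηi⟩, fun z => (hηv z).trans (congrFun hσθ z)⟩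
    refine ⟨χ, hχ, fun n => ?_⟩
    rw [show ((n : X)) = ((⟨n, hNY n.2⟩ : Y) : X) from rfl, hχv]
    exact (hθ'v ⟨⟨n, hNY n.2⟩, n.2⟩).trans (hθ₁v _)

/-- Restriction is a bijection between the principal blocks. -/
theorem main (hM : IsPModular p M) (N : Subgroup X) [N.Normal] (hidx : ¬ p ∣ N.index)
    (P : Sylow p X) (hsup : N ⊔ Subgroup.centralizer ((P : Subgroup X) : Set X) = ⊤) :
    (∀ χ ∈ principalBlock M X, ∃ θ ∈ principalBlock M N,
      ∀ n : N, (χ : X → ℂ) n = (θ : N → ℂ) n) ∧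
    ∀ θ ∈ principalBlock M N, ∃! χ : IrrCharacter X, χ ∈ principalBlock M X ∧
      ∀ n : N, (χ : X → ℂ) n = (θ : N → ℂ) n := by
  classical
  haveI := hM.2.1.isPrime
  haveI : Fintype N := Fintype.ofFinite N
  haveI : Fintype (X ⧸ N) := Fintype.ofFinite _
  have hp : p.Prime := hpf.out
  -- `P` lies in `N`
  have hPN : (P : Subgroup X) ≤ N := by
    intro x hx
    rw [← QuotientGroup.eq_one_iff, ← orderOf_eq_one_iff]
    obtain ⟨k, hk⟩ := P.isPGroup' ⟨x, hx⟩
    have h1 : orderOf (x : X ⧸ N) ∣ p ^ k := orderOf_dvd_of_pow_eq_one (by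
      rw [← QuotientGroup.mk_pow, show x ^ p ^ k = 1 by simpa using congrArg Subtype.val hk]; rfl)
    obtain ⟨j, -, hj⟩ := (Nat.dvd_prime_pow hp).1 h1
    have h2 : orderOf (x : X ⧸ N) ∣ N.index := orderOf_dvd_natCard _
    rcases Nat.eq_zero_or_pos j with h0 | h0
    · rw [hj, h0, pow_zero]
    · exact absurd ((dvd_pow_self p h0.ne').trans (hj ▸ h2)) hidx
  let PN : Sylow p N := P.subtype hPN
  have hPNmap : (PN : Subgroup N).map N.subtype = (P : Subgroup X) := by
    rw [Sylow.coe_subtype, Subgroup.map_subgroupOf_eq_of_le hPN]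
  have hcov : N ⊔ Subgroup.centralizer (((PN : Subgroup N).map N.subtype : Subgroup X) : Set X) = ⊤ := by
    rw [hPNmap]; exact hsup
  -- extensions to the preimages of Sylow subgroups
  have hsyl : ∀ (θ : IrrCharacter N), θ ∈ principalBlock M N → ∀ r : ℕ, r.Prime →
      ∃ (Q : Subgroup X) (hNQ : N ≤ Q) (η : Q → ℂ),
        Nat.Coprime Q.index r ∧ IsCharacter Q η ∧ ∀ n : N, η ⟨(n : X), hNQ n.2⟩ = (θ : N → ℂ) n := by
    intro θ hθ r hr
    haveI : Fact r.Prime := ⟨hr⟩
    obtain ⟨S⟩ : Nonempty (Sylow r X) := inferInstance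
    set Q := N ⊔ (S : Subgroup X)
    have hNQ : N ≤ Q := le_sup_left
    have hcop : Nat.Coprime Q.index r := ((hr.coprime_iff_not_dvd).2 fun hd =>
      S.not_dvd_index (hd.trans (Subgroup.index_dvd_of_le le_sup_right))).symm
    obtain ⟨k, hk⟩ : ∃ k, (N.subgroupOf Q).index = r ^ k := by
      obtain ⟨a, ha⟩ := IsPGroup.iff_card.1 S.isPGroup'
      have h1 : N.relIndex Q = N.relIndex (S : Subgroup X) := Subgroup.relIndex_sup_left _ _
      have h2 : N.relIndex (S : Subgroup X) ∣ r ^ a := ha ▸ Subgroup.index_dvd_card _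
      obtain ⟨k, -, hk⟩ := (Nat.dvd_prime_pow hr).1 h2
      exact ⟨k, h1.trans hk⟩
    have hkr : k = 0 ∨ ¬ p ∣ r := by
      rcases Nat.eq_zero_or_pos k with h0 | h0
      · exact .inl h0
      · refine .inr fun hd => hidx ?_
        rw [(Nat.prime_dvd_prime_iff_eq hp hr).1 hd]
        exact (dvd_pow_self r h0.ne').trans (hk ▸ Subgroup.relIndex_dvd_index_of_normal N Q)
    let e := Subgroup.subgroupOfEquivOfLe hNQ
    obtain ⟨θ₁, hθ₁, hθ₁v⟩ := transfer e θ hθ
    rcases hkr with h0 | hrp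
    · rw [h0, pow_zero, Subgroup.index_eq_one] at hk
      have hQN : Q ≤ N := Subgroup.subgroupOf_eq_top.1 hk
      refine ⟨Q, hNQ, fun q => (θ : N → ℂ) ⟨q, hQN q.2⟩, hcop,
        IsCharacter.comp (irr_isCharacter θ) (Subgroup.inclusion hQN), fun n => rfl⟩
    let P₁ : Sylow p (N.subgroupOf Q) := PN.comapOfInjective e.toMonoidHom e.injective (fun z _ =>
      ⟨e.symm z, e.apply_symm_apply z⟩)
    have htop₁ : N.subgroupOf Q ⊔ Subgroup.centralizer
        (((P₁ : Subgroup (N.subgroupOf Q)).map (N.subgroupOf Q).subtype : Subgroup Q) : Set Q)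
          = ⊤ := by
      refine eq_top_iff.2 fun g _ => ?_
      have hg : (g : X) ∈ N ⊔ Subgroup.centralizer ((P : Subgroup X) : Set X) :=
        hsup ▸ Subgroup.mem_top _
      rw [← SetLike.mem_coe, Subgroup.normal_mul] at hg
      obtain ⟨n, hn, c, hc, hgc⟩ := hg
      have hcQ : c ∈ Q := by
        have := mul_mem (inv_mem (hNQ hn)) g.2
        rwa [← hgc, inv_mul_cancel_left] at this
      rw [show g = (⟨n, hNQ hn⟩ : Q) * ⟨c, hcQ⟩ from Subtype.ext hgc.symm]
      refine mul_mem (Subgroup.mem_sup_left hn) (Subgroup.mem_sup_right ?_)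
      rw [Subgroup.mem_centralizer_iff]
      rintro _ ⟨w, hw, rfl⟩
      exact Subtype.ext (Subgroup.mem_centralizer_iff.1 hc _ (hPNmap ▸ ⟨e w, hw, rfl⟩))
    obtain ⟨χ, -, hχv⟩ := extend_primePow hM hr hrp k Q (N.subgroupOf Q) P₁ θ₁ hθ₁ htop₁ hk
    exact ⟨Q, hNQ, (χ : Q → ℂ), hcop, irr_isCharacter χ,
      fun n => (hχv ⟨⟨n, hNQ n.2⟩, n.2⟩).trans (hθ₁v _)⟩
  -- invariance
  have hinv : ∀ θ : IrrCharacter N, θ ∈ principalBlock M N →
      ∀ g : X, conjChar N g (θ : N → ℂ) = (θ : N → ℂ) := by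
    intro θ hθ
    have htopI : inertia N (θ : N → ℂ) = ⊤ := by
      rw [← Subgroup.index_eq_one]
      by_contra hne
      obtain ⟨r, hr, hrd⟩ := Nat.exists_prime_and_dvd hne
      obtain ⟨Q, hNQ, η, hcop, hη, hres⟩ := hsyl θ hθ r hr
      have hQI : Q ≤ inertia N (θ : N → ℂ) := by
        intro q hq
        rw [mem_inertia_iff]
        intro n
        rw [← hres, ← hres n]
        exact (IsCharacter.isClassFunction hη ⟨(n : X), hNQ n.2⟩ ⟨q, hq⟩)
      exact (hr.coprime_iff_not_dvd.1 hcop.symm) (hrd.trans (Subgroup.index_dvd_of_le hQI))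
    exact fun g => mem_inertia N |>.1 (htopI ▸ Subgroup.mem_top g)
  -- extensions
  have hext : ∀ θ : IrrCharacter N, θ ∈ principalBlock M N → ∃ ψ : IrrCharacter X,
      ψ ∈ principalBlock M X ∧ ∀ n : N, (ψ : X → ℂ) n = (θ : N → ℂ) n := by
    intro θ hθ
    obtain ⟨f, hf, hfv⟩ := CharExtend.exists_extension_sylow θ.2
      (fun g n => congrFun (hinv θ hθ g) n) (hsyl θ hθ)
    obtain ⟨ψ, h1, h2, -⟩ := S4937.result p M hM N PN hcov θ hθ ⟨⟨f, hf⟩, hfv⟩
    exact ⟨ψ, h1, h2⟩
  -- uniqueness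
  have huniq : ∀ χ ψ : IrrCharacter X, χ ∈ principalBlock M X → ψ ∈ principalBlock M X →
      ∀ θ : IrrCharacter N, (∀ n : N, (ψ : X → ℂ) n = (θ : N → ℂ) n) →
      classInner (fun n : N => (χ : X → ℂ) n) (θ : N → ℂ) ≠ 0 → χ = ψ := by
    intro χ ψ hχ hψ θ hψθ hcon
    have hres : (fun n : N => (ψ : X → ℂ) n) = (θ : N → ℂ) := funext hψθ
    obtain ⟨β, hβN, hβ⟩ := (gallagher_one N (irr_isCharacter ψ) (hres ▸ θ.2)).2.2 (χ : X → ℂ) χ.2
      (hres.symm ▸ hcon)
    obtain ⟨β', hβ'c, hβ'v, hβ'i⟩ := IsCharacter.deflate (irr_isCharacter β) N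
      fun x hx => hβN ⟨x, hx⟩
    have hβi := hβ'i β.2
    have hd1 : β' 1 = (charDegree (β : X → ℂ) : ℂ) := by
      rw [← QuotientGroup.mk_one, hβ'v, irr_deg]
    set d := charDegree (β : X → ℂ)
    have hdp : ¬ p ∣ d := fun hd => hidx (hd.trans (degree_dvd_card hβi hd1))
    have hint : ∀ {f : X → ℂ}, IsCharacter X f → ∀ g, f g ∈ locRing M := fun hf g => by
      obtain ⟨n, ρ, rfl⟩ := hf
      exact mem_locRing_of_isIntegral (isIntegral_char ρ g)
    -- congruences on the cosets
    have hcong : ∀ c : X ⧸ N, MemLocalIdeal M (β' c - (d : ℂ)) := by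
      intro c
      obtain ⟨g, rfl⟩ := QuotientGroup.mk_surjective c
      have hg : g ∈ N ⊔ Subgroup.centralizer ((P : Subgroup X) : Set X) := hsup ▸ Subgroup.mem_top g
      rw [← SetLike.mem_coe, Subgroup.normal_mul] at hg
      obtain ⟨n, hn, y, hy, rfl⟩ := hg
      rw [QuotientGroup.mk_mul, (QuotientGroup.eq_one_iff n).2 hn, one_mul, hβ'v]
      set K := (Subgroup.centralizer ({y} : Set X)).index
      have hK : ¬ p ∣ K := class_coprime _ P.not_dvd_index hy
      have a1 := hχ y
      have a2 := hψ y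
      have hd0 : (d : ℂ) ≠ 0 := Nat.cast_ne_zero.2 fun e => hdp (e ▸ dvd_zero p)
      have e1 : centralChar (χ : X → ℂ) y =
          centralChar (ψ : X → ℂ) y * (β : X → ℂ) y / (d : ℂ) := by
        rw [← hβ, centralChar, centralChar, Pi.mul_apply, Pi.mul_apply, irr_deg β]
        rw [show charDegree (β : X → ℂ) = d from rfl]
        field_simp
      rw [centralChar_one_apply] at a1 a2
      rw [e1] at a1
      have hz : MemLocalIdeal M ((K : ℂ) * ((β : X → ℂ) y - d)) := by
        have e2 : (K : ℂ) * ((β : X → ℂ) y - d) =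
            ((K : ℂ) - centralChar (ψ : X → ℂ) y) * (β : X → ℂ) y -
              ((K : ℂ) - centralChar (ψ : X → ℂ) y * (β : X → ℂ) y / (d : ℂ)) * (d : ℂ) := by
          field_simp
          ring
        rw [e2]
        exact MemLocalIdeal.sub (MemLocalIdeal.mul_right a2 (hint (irr_isCharacter β) y))
          (MemLocalIdeal.mul_right a1 (natCast_mem (locRing M) d))
      have hz' := MemLocalIdeal.mul_left (inv_natCast_memLocalRing hM hK) hz
      rwa [← mul_assoc, inv_mul_cancel₀ ((Nat.cast_ne_zero (R := ℂ)).2 fun (e : K = 0) => hK (e.symm ▸ dvd_zero p)),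
        one_mul] at hz'
    -- hence the multiplier is trivial
    have hβ1 : β' = fun _ => (1 : ℂ) := by
      by_contra hne
      have h0 := classInner_irr_of_ne hβi isIrrCharacter_one hne
      simp only [classInner, map_one, mul_one] at h0
      have hsum : ∑ c : X ⧸ N, β' c = 0 := by
        rcases mul_eq_zero.1 h0 with h | h
        · exact absurd (inv_eq_zero.1 h) (Nat.cast_ne_zero.2 Nat.card_pos.ne')
        · exact h
      have := memLocalIdeal_sum Finset.univ _ fun c (_ : c ∈ Finset.univ) => hcong c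
      rw [Finset.sum_sub_distrib, hsum, zero_sub, Finset.sum_const, nsmul_eq_mul,
        Finset.card_univ, ← Nat.card_eq_fintype_card, ← Nat.cast_mul] at this
      have h2 := MemLocalIdeal.neg this
      rw [neg_neg, natCast_memLocalIdeal_iff hM] at h2
      exact (hp.dvd_mul.1 h2).elim hidx hdp
    refine Subtype.ext ?_
    rw [← hβ]
    funext g
    rw [Pi.mul_apply, ← hβ'v, hβ1, one_mul]
  refine ⟨fun χ hχ => ?_, fun θ hθ => ?_⟩
  · obtain ⟨θ, hθ⟩ := exists_restrict_constituent χ.2 N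
    obtain ⟨g, θ', hθ', he⟩ := constituents_conjugate_blocks N
      (isPBlock_principalBlock M X) (isPBlock_principalBlock M N)
      (principal_mem_principalBlock (M := M)) (principal_mem_principalBlock (M := M)) (by
        show classInner (fun _ : N => (1 : ℂ)) (fun _ => 1) ≠ 0
        rw [classInner_self_irr isIrrCharacter_one]; exact one_ne_zero) hχ hθ
    rw [hinv θ' hθ' g] at he
    obtain rfl : θ = θ' := Subtype.ext he
    obtain ⟨ψ, hψ, hψv⟩ := hext θ hθ'
    exact ⟨θ, hθ', fun n => by rw [huniq χ ψ hχ hψ θ hψv hθ, hψv]⟩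
  · obtain ⟨ψ, hψ, hψv⟩ := hext θ hθ
    refine ⟨ψ, ⟨hψ, hψv⟩, ?_⟩
    rintro χ ⟨hχ, hχv⟩
    refine huniq χ ψ hχ hψ θ hψv ?_
    rw [show (fun n : N => (χ : X → ℂ) n) = (θ : N → ℂ) from funext hχv,
      classInner_self_irr θ.2]
    exact one_ne_zero

end Cfsg.Agent.AlperinIso
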