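/-
Blocks are determined by the central characters on the p-regular classes.
-/
import Cfsg.Agent.Lib.Blocks.Degree

set_option linter.unusedSectionVars false

namespace Cfsg.Agent.Blocks

open Cfsg

universe u

variable {G : Type u} [Group G] [Fintype G] {p : ℕ} {M : Ideal AlgInt} [M.IsPrime]

theorem sameBlock_of_regular (hM : IsPModular p M) {χ ψ : IrrCharacter G}
    (h : ∀ g : G, ¬ p ∣ orderOf g →
      MemLocalIdeal M (centralChar (χ : G → ℂ) g - centralChar (ψ : G → ℂ) g)) :
    SameBlock M (χ : G → ℂ) (ψ : G → ℂ) := by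
  classical
  haveI : Finite (ConjClasses G) := Finite.of_surjective _ ConjClasses.mk_surjective
  haveI : Fintype (ConjClasses G) := Fintype.ofFinite _
  set B := blockOf M (ψ : G → ℂ)
  have hB : IsPBlock M B := isPBlock_blockOf ψ
  by_contra hn
  have hχ : χ ∉ B := fun hc => hn (isPBlock_sameBlock hB hc (self_mem_blockOf ψ))
  have hE := isClassElt_blockEltR (M := M) B
  have h1 : MemLocalIdeal M (omegaR χ (blockEltR M B) - omegaR ψ (blockEltR M B)) := by
    rw [omegaR_eq_sum χ hE, omegaR_eq_sum ψ hE, ← Finset.sum_sub_distrib]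
    refine memLocalIdeal_sum _ _ fun C _ => ?_
    rw [← mul_sub]
    by_cases hC : p ∣ orderOf C.out
    · rw [coeff_blockEltR hB, blockCoeff_eq_zero_of_singular hM hB hC, zero_mul]
      exact memLocalIdeal_zero
    · exact MemLocalIdeal.mul_left ((blockEltR M B).coeff C.out).2 (h _ hC)
  rw [omegaR_blockEltR hB, omegaR_blockEltR hB, if_neg hχ, if_pos (self_mem_blockOf ψ), zero_sub]
    at h1
  exact not_memLocalIdeal_one (by simpa using MemLocalIdeal.neg h1)

end Cfsg.Agent.Blocks
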