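import Cfsg.Agent.Lib.Blocks.FongTheorem
import Cfsg.Agent.Lib.Blocks.RegularCriterion
import Cfsg.Agent.Lib.Blocks.Covering
import Cfsg.Agent.Lib.Blocks.MinMax
import Cfsg.Agent.Lib.Blocks.Induced
import Cfsg.Agent.Lib.Blocks.Section
import Cfsg.Agent.Lib.Blocks.AlperinIso
import Cfsg.Agent.Lib.Char.GlaubermanMod
import Cfsg.Agent.Lib.CharP.AxB

/-!
# Blocks of `p`-constrained groups

`K` is a normal `p'`-subgroup, `Q` a `p`-subgroup with `K Q` normal and every `p`-regular element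
centralising `Q` lies in `K`.  The characters over an invariant `θ` of `K` form a single block of
full defect, and this block is of principal type.
-/

set_option autoImplicit false
set_option linter.style.haveILetI false
set_option linter.unusedSectionVars false

namespace Cfsg.Agent.PrincipalType

open Cfsg MonoidAlgebra Cfsg.Agent.Char Cfsg.Agent.Blocks
open scoped ComplexConjugate

universe u

theorem inner_equiv {A : Type*} [Group A] [Fintype A] {B : Type*} [Group B] [Fintype B]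
    (e : A ≃* B) (f g : B → ℂ) :
    classInner (fun a => f (e a)) (fun a => g (e a)) = classInner f g := by
  simp only [classInner]
  rw [Nat.card_congr e.toEquiv]
  congr 1
  exact Fintype.sum_equiv e.toEquiv _ _ fun a => rfl

/-- A constituent of a constituent of a restriction is a constituent of the restriction. -/
theorem constituent_trans {G : Type u} [Group G] [Fintype G] {K L : Subgroup G} [Fintype K]
    [Fintype L] (hKL : K ≤ L) (χ : IrrCharacter G) (ξ : IrrCharacter L) (β : IrrCharacter K)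
    (h1 : classInner (fun l : L => (χ : G → ℂ) l) (ξ : L → ℂ) ≠ 0)
    (h2 : classInner (fun k : K => (ξ : L → ℂ) ⟨k, hKL k.2⟩) (β : K → ℂ) ≠ 0) :
    classInner (fun k : K => (χ : G → ℂ) k) (β : K → ℂ) ≠ 0 := by
  classical
  obtain ⟨m, hm⟩ := IsCharacter.exists_decomp (IsCharacter.restrict (irr_isCharacter χ) L)
  choose n hn using fun τ : IrrCharacter L =>
    (show ∃ n : ℕ, classInner (fun k : K => (τ : L → ℂ) ⟨k, hKL k.2⟩) (β : K → ℂ) = n from
      IsCharacter.exists_classInner_nat (by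
        obtain ⟨d, ρ, -, hρ⟩ := τ.2
        exact ⟨d, ρ.comp (Subgroup.inclusion hKL), funext fun k => by rw [← hρ]; rfl⟩)
        (irr_isCharacter β))
  have e : (fun k : K => (χ : G → ℂ) k) =
      ∑ τ : IrrCharacter L, (m τ : ℂ) • fun k : K => (τ : L → ℂ) ⟨k, hKL k.2⟩ := by
    funext k
    have := congrFun hm ⟨(k : G), hKL k.2⟩
    simp only [Finset.sum_apply, Pi.smul_apply] at this ⊢
    exact this
  have hs : classInner (fun k : K => (χ : G → ℂ) k) (β : K → ℂ) =
      ((∑ τ : IrrCharacter L, m τ * n τ : ℕ) : ℂ) := by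
    rw [e, classInner_sum_left, Nat.cast_sum]
    exact Finset.sum_congr rfl fun τ _ => by rw [classInner_smul_left, hn, Nat.cast_mul]
  rw [hs, Nat.cast_ne_zero]
  intro h
  rcases Nat.mul_eq_zero.1 ((Finset.sum_eq_zero_iff.1 h) ξ (Finset.mem_univ ξ)) with h0 | h0
  · exact h1 (by rw [hm, classInner_combination, h0, Nat.cast_zero])
  · exact h2 (by rw [hn, h0, Nat.cast_zero])

variable {G : Type u} [Group G] [Fintype G] {p : ℕ} [hpf : Fact p.Prime] {M : Ideal AlgInt}

/-- The hypotheses. -/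
structure Setup (p : ℕ) (K Q : Subgroup G) [K.Normal] [Fintype K] (θ : IrrCharacter K) : Prop where
  hKp : ¬ p ∣ Nat.card K
  hQ : IsPGroup p Q
  hL : (K ⊔ Q).Normal
  hreg : ∀ g ∈ Subgroup.centralizer (Q : Set G), ¬ p ∣ orderOf g → g ∈ K
  hinv : ∀ (g : G) (k : K), (θ : K → ℂ) (MulAut.conjNormal g k) = (θ : K → ℂ) k

variable {K Q : Subgroup G} [K.Normal] [Fintype K] {θ : IrrCharacter K}

theorem Setup.disjoint (h : Setup p K Q θ) : K.subgroupOf Q = ⊥ := by
  rw [eq_bot_iff]
  intro x hx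
  obtain ⟨k, hk⟩ := h.hQ x
  have h1 : orderOf (x : G) ∣ Nat.card K := by
    have h' := orderOf_dvd_natCard (⟨(x : G), hx⟩ : K)
    rwa [← Subgroup.orderOf_coe] at h'
  have h2 : orderOf (x : G) ∣ p ^ k :=
    orderOf_dvd_of_pow_eq_one (by simpa using congrArg Subtype.val hk)
  have h3 : orderOf (x : G) = 1 := Nat.eq_one_of_dvd_coprimes
    (((hpf.out.coprime_iff_not_dvd).2 h.hKp).pow_left k).symm h1 h2
  exact Subgroup.mem_bot.2 (Subtype.ext (orderOf_eq_one_iff.1 h3))

theorem Setup.index_eq (h : Setup p K Q θ) : (K.subgroupOf (K ⊔ Q)).index = Nat.card Q := by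
  show K.relIndex (K ⊔ Q) = _
  rw [Subgroup.relIndex_sup_left, Subgroup.relIndex, h.disjoint, Subgroup.index_bot]

theorem Setup.index_pow (h : Setup p K Q θ) : ∃ k : ℕ, (K.subgroupOf (K ⊔ Q)).index = p ^ k := by
  obtain ⟨k, hk⟩ := IsPGroup.iff_card.1 h.hQ
  exact ⟨k, h.index_eq.trans hk⟩

theorem Setup.not_dvd_card_sub (h : Setup p K Q θ) :
    ¬ p ∣ Nat.card (K.subgroupOf (K ⊔ Q)) := by
  rw [Nat.card_congr (Subgroup.subgroupOfEquivOfLe le_sup_left).toEquiv]
  exact h.hKp

/-- A `p`-subgroup of `K Q` lies in a conjugate of `Q` under `K`. -/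
theorem Setup.exists_conj (h : Setup p K Q θ) {T : Subgroup G} (hT : IsPGroup p T)
    (hTL : T ≤ K ⊔ Q) : ∃ k ∈ K, ∀ t ∈ T, k⁻¹ * t * k ∈ Q := by
  haveI := hpf
  set L := K ⊔ Q
  have hcard : Nat.card (Q.subgroupOf L) = Nat.card Q :=
    Nat.card_congr (Subgroup.subgroupOfEquivOfLe le_sup_right).toEquiv
  have hidx : ¬ p ∣ (Q.subgroupOf L).index := by
    have h1 := (Q.subgroupOf L).card_mul_index
    have h2 := (K.subgroupOf L).card_mul_index
    rw [h.index_eq] at h2
    rw [hcard, ← h2, mul_comm] at h1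
    rw [Nat.eq_of_mul_eq_mul_right Nat.card_pos h1]
    exact h.not_dvd_card_sub
  let PQ : Sylow p L := (h.hQ.comap_of_injective L.subtype Subtype.val_injective).toSylow hidx
  obtain ⟨S, hS⟩ := (hT.comap_of_injective L.subtype Subtype.val_injective).exists_le_sylow
  obtain ⟨l, hl⟩ := MulAction.exists_smul_eq L PQ S
  have hl' : (l : G) ∈ K ⊔ Q := l.2
  rw [← SetLike.mem_coe, Subgroup.normal_mul] at hl'
  obtain ⟨k, hk, q, hq, hkq⟩ := hl'
  refine ⟨k, hk, fun t ht => ?_⟩
  have h1 : (⟨t, hTL ht⟩ : L) ∈ ((l • PQ : Sylow p L) : Subgroup L) := hl ▸ hS ht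
  rw [Sylow.coe_subgroup_smul, Subgroup.mem_pointwise_smul_iff_inv_smul_mem,
    MulAut.smul_def, ← map_inv, MulAut.conj_apply, inv_inv] at h1
  have h2 : (l : G)⁻¹ * t * (l : G) ∈ Q := h1
  have h3 : k⁻¹ * t * k = q * ((l : G)⁻¹ * t * (l : G)) * q⁻¹ := by rw [← hkq]; group
  rw [h3]
  exact mul_mem (mul_mem hq h2) (inv_mem hq)

theorem Setup.over_eq (h : Setup p K Q θ) (χ : IrrCharacter G) (β : IrrCharacter K)
    (hθ : classInner (fun k : K => (χ : G → ℂ) k) (θ : K → ℂ) ≠ 0)
    (hβ : classInner (fun k : K => (χ : G → ℂ) k) (β : K → ℂ) ≠ 0) : β = θ := by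
  obtain ⟨g, hg⟩ := (mem_conjOrbit K).1 (restrict_constituent_conj K χ.2 θ.2 β.2 hθ hβ)
  refine Subtype.ext (hg.trans (funext fun k => ?_))
  exact (congrArg (θ : K → ℂ) (Subtype.ext (by simp))).trans (h.hinv g k)

theorem Setup.sylow_of_defect (h : Setup p K Q θ) (hM : IsPModular p M)
    {B : Set (IrrCharacter G)} (hB : IsPBlock M B) {χ : IrrCharacter G} (hχ : χ ∈ B)
    (hθ : classInner (fun k : K => (χ : G → ℂ) k) (θ : K → ℂ) ≠ 0)
    {D : Subgroup G} (hD : IsDefectGroup p M B D) :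
    ∃ k ∈ K, ∀ q ∈ Q, k * q * k⁻¹ ∈ D := by
  classical
  haveI := hM.2.1.isPrime
  haveI := h.hL
  set L := K ⊔ Q
  haveI : Fintype L := Fintype.ofFinite L
  have hKL : K ≤ L := le_sup_left
  set K' := K.subgroupOf L
  haveI : Fintype K' := Fintype.ofFinite _
  let e : K' ≃* K := Subgroup.subgroupOfEquivOfLe hKL
  let θ' : IrrCharacter K' :=
    ⟨fun a => (θ : K → ℂ) (e a), IsIrrCharacter.comp θ.2 e.toMonoidHom e.surjective⟩
  have hin : ∀ ξ : IrrCharacter L, classInner (fun a : K' => (ξ : L → ℂ) a) (θ' : K' → ℂ) =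
      classInner (fun k : K => (ξ : L → ℂ) ⟨k, hKL k.2⟩) (θ : K → ℂ) := fun ξ =>
    inner_equiv e (fun k : K => (ξ : L → ℂ) ⟨k, hKL k.2⟩) (θ : K → ℂ)
  -- the block of `L`
  obtain ⟨ξ₀, hξ₀⟩ := Blocks.exists_over K' θ'
  set bL := blockOf M (ξ₀ : L → ℂ)
  have hbL : IsPBlock M bL := isPBlock_blockOf ξ₀
  have hmem : ∀ ξ : IrrCharacter L,
      classInner (fun a : K' => (ξ : L → ℂ) a) (θ' : K' → ℂ) ≠ 0 → ξ ∈ bL := fun ξ hξ =>
    (sameBlock_iff_common_constituent K' hM h.not_dvd_card_sub h.index_pow ξ₀ ξ).2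
      ⟨θ', hξ₀, hξ⟩
  have hover : ∀ ξ ∈ bL, classInner (fun a : K' => (ξ : L → ℂ) a) (θ' : K' → ℂ) ≠ 0 :=
    fun ξ hξ => constituent_of_sameBlock K' hM h.not_dvd_card_sub hξ hξ₀
  have hbinv : ∀ g : G, ∀ ξ ∈ bL, cjIrr L g ξ ∈ bL := by
    intro g ξ hξ
    refine hmem _ ?_
    rw [hin]
    have h1 := hover ξ hξ
    rw [hin, ← inner_equiv (MulAut.conjNormal (H := K) g)] at h1
    intro h0
    apply h1
    rw [← h0]
    congr 1
    funext k
    exact h.hinv g k
  -- it has full defect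
  have hdeg0 : (charDegree (θ' : K' → ℂ)).factorization p = (Nat.card K').factorization p := by
    have h1 : (Nat.card K').factorization p = 0 :=
      Nat.factorization_eq_zero_of_not_dvd h.not_dvd_card_sub
    have h2 := degExp_le_card (p := p) θ'
    omega
  have hinv' : ∀ g : L, ∀ φ ∈ blockOf M (θ' : K' → ℂ),
      cjIrr K' g φ ∈ blockOf M (θ' : K' → ℂ) := by
    intro g φ hφ
    rw [blockOf_eq_singleton hM θ' hdeg0, Set.mem_singleton_iff] at hφ ⊢
    subst hφ
    refine Subtype.ext (funext fun a => ?_)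
    refine Eq.trans ?_ (h.hinv (g : G) (e a))
    rw [cjIrr_apply]
    exact congrArg (θ : K → ℂ) (Subtype.ext (MulAut.conjNormal_apply _ _).symm)
  obtain ⟨B', hB', ⟨ξ₁, hξ₁, φ, hφ, hc⟩, hd⟩ :=
    exists_covering_defect K' hM (isPBlock_blockOf (M := M) θ') hinv'
  rw [blockOf_eq_singleton hM θ' hdeg0, Set.mem_singleton_iff] at hφ
  subst hφ
  have hB'eq : B' = bL := isPBlock_eq_of_mem hB' hbL hξ₁ (hmem ξ₁ hc)
  subst hB'eq
  -- the covering block
  obtain ⟨ξ, hξ⟩ := exists_restrict_constituent χ.2 L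
  obtain ⟨β, hβ⟩ := IsCharacter.exists_constituent (χ := fun k : K => (ξ : L → ℂ) ⟨k, hKL k.2⟩)
    (by
      obtain ⟨d, ρ, -, hρ⟩ := ξ.2
      exact ⟨d, ρ.comp (Subgroup.inclusion hKL), funext fun k => by rw [← hρ]; rfl⟩)
    (fun h0 => irr_one_ne_zero ξ (congrFun h0 (1 : K)))
  obtain rfl := h.over_eq χ β hθ (constituent_trans hKL χ ξ β hξ hβ)
  have hξb : ξ ∈ blockOf M (ξ₀ : L → ℂ) := hmem ξ (by rw [hin]; exact hβ)
  have hDL := isDefectGroup_inf_of_covers L hM hbL hbinv hB ⟨χ, hχ, ξ, hξb, by convert hξ⟩ hD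
  have hcard := card_defectGroup hM hbL hDL
  rw [Nat.card_congr (Subgroup.subgroupOfEquivOfLe inf_le_right).toEquiv] at hcard
  have hDp : IsPGroup p D := isPGroup_defectGroup hD
  obtain ⟨k, hk, hkQ⟩ := h.exists_conj (hDp.to_le inf_le_left : IsPGroup p (D ⊓ L : Subgroup G))
    inf_le_right
  have hle : (D ⊓ L : Subgroup G) ≤ Q.map (MulAut.conj k).toMonoidHom := fun t ht =>
    ⟨k⁻¹ * t * k, hkQ t ht, by simp [mul_assoc]⟩
  have hge : Nat.card (Q.map (MulAut.conj k).toMonoidHom) ≤ Nat.card (D ⊓ L : Subgroup G) := by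
    rw [Subgroup.card_map_of_injective (MulAut.conj k).injective, hcard]
    obtain ⟨a, ha⟩ := IsPGroup.iff_card.1 h.hQ
    rw [ha]
    refine Nat.pow_le_pow_right hpf.out.pos (le_trans ?_ hd)
    rw [h.index_eq, ha, Nat.Prime.factorization_pow hpf.out, Finsupp.single_eq_same]
    omega
  have heq := Subgroup.eq_of_le_of_card_ge hle hge
  refine ⟨k, hk, fun q hq => ?_⟩
  exact (heq.ge ⟨q, hq, rfl⟩).1

/-- Outside `K` the `p`-regular classes vanish modulo `M`. -/
theorem Setup.vanish (h : Setup p K Q θ) (hM : IsPModular p M) (χ : IrrCharacter G)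
    (hθ : classInner (fun k : K => (χ : G → ℂ) k) (θ : K → ℂ) ≠ 0) {g : G}
    (hg : ¬ p ∣ orderOf g) (hgK : g ∉ K) : MemLocalIdeal M (centralChar (χ : G → ℂ) g) := by
  haveI := hM.2.1.isPrime
  by_contra hu
  set B := blockOf M (χ : G → ℂ)
  have hB : IsPBlock M B := isPBlock_blockOf χ
  obtain ⟨d, hd⟩ := exists_defectClass hB
  obtain ⟨P⟩ : Nonempty (Sylow p (Subgroup.centralizer ({d} : Set G))) := inferInstance
  obtain ⟨x, hgx, hx⟩ := exists_conj_centralizing_defect hM hB hd (self_mem_blockOf χ) hu P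
  obtain ⟨k, hk, hkQ⟩ :=
    h.sylow_of_defect hM hB (self_mem_blockOf χ) hθ (D := sylowImage P) ⟨d, hd, P, rfl⟩
  have hy : k⁻¹ * x * k ∈ Subgroup.centralizer (Q : Set G) := by
    refine Subgroup.mem_centralizer_iff.2 fun q hq => ?_
    have h1 := Subgroup.mem_centralizer_iff.1 hx _ (hkQ q hq)
    calc q * (k⁻¹ * x * k) = k⁻¹ * (k * q * k⁻¹ * x) * k := by group
      _ = k⁻¹ * (x * (k * q * k⁻¹)) * k := by rw [h1]
      _ = k⁻¹ * x * k * q := by group
  obtain ⟨c, hc⟩ := isConj_iff.1 hgx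
  have e : k⁻¹ * x * k = (k⁻¹ * c) * g * (k⁻¹ * c)⁻¹ := by rw [← hc]; group
  have hord : ¬ p ∣ orderOf (k⁻¹ * x * k) := by
    rw [e, show (k⁻¹ * c) * g * (k⁻¹ * c)⁻¹ = MulAut.conj (k⁻¹ * c) g from rfl,
      MulEquiv.orderOf_eq]
    exact hg
  have h2 := (inferInstance : K.Normal).conj_mem _ (h.hreg _ hy hord) (k⁻¹ * c)⁻¹
  rw [e] at h2
  exact hgK (by simpa [mul_assoc] using h2)

/-- The characters over `θ` form a single block. -/
theorem Setup.sameBlock (h : Setup p K Q θ) (hM : IsPModular p M) {χ ψ : IrrCharacter G}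
    (hχ : classInner (fun k : K => (χ : G → ℂ) k) (θ : K → ℂ) ≠ 0)
    (hψ : classInner (fun k : K => (ψ : G → ℂ) k) (θ : K → ℂ) ≠ 0) :
    SameBlock M (χ : G → ℂ) (ψ : G → ℂ) := by
  haveI := hM.2.1.isPrime
  refine sameBlock_of_regular hM fun g hg => ?_
  by_cases hgK : g ∈ K
  · rw [(constituent_iff K χ θ).1 hχ ⟨g, hgK⟩, (constituent_iff K ψ θ).1 hψ ⟨g, hgK⟩, sub_self]
    exact memLocalIdeal_zero
  · exact MemLocalIdeal.sub (h.vanish hM χ hχ hg hgK) (h.vanish hM ψ hψ hg hgK)

theorem Setup.mem_blockOf_iff (h : Setup p K Q θ) (hM : IsPModular p M) {χ : IrrCharacter G}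
    (hχ : classInner (fun k : K => (χ : G → ℂ) k) (θ : K → ℂ) ≠ 0) (ψ : IrrCharacter G) :
    ψ ∈ blockOf M (χ : G → ℂ) ↔ classInner (fun k : K => (ψ : G → ℂ) k) (θ : K → ℂ) ≠ 0 := by
  haveI := hM.2.1.isPrime
  exact ⟨fun hψ => constituent_of_sameBlock K hM h.hKp hψ hχ, fun hψ => h.sameBlock hM hχ hψ⟩

/-- Every Sylow subgroup is a defect group. -/
theorem Setup.defect (h : Setup p K Q θ) (hM : IsPModular p M) {χ : IrrCharacter G}
    (hχ : classInner (fun k : K => (χ : G → ℂ) k) (θ : K → ℂ) ≠ 0) (S : Sylow p G) :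
    IsDefectGroup p M (blockOf M (χ : G → ℂ)) S := by
  classical
  haveI := hM.2.1.isPrime
  have hdeg0 : (charDegree (θ : K → ℂ)).factorization p = (Nat.card K).factorization p := by
    have h1 : (Nat.card K).factorization p = 0 := Nat.factorization_eq_zero_of_not_dvd h.hKp
    have h2 := degExp_le_card (p := p) θ
    omega
  have hinv' : ∀ g : G, ∀ φ ∈ blockOf M (θ : K → ℂ), cjIrr K g φ ∈ blockOf M (θ : K → ℂ) := by
    intro g φ hφ
    rw [blockOf_eq_singleton hM θ hdeg0, Set.mem_singleton_iff] at hφ ⊢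
    subst hφ
    refine Subtype.ext (funext fun a => ?_)
    refine Eq.trans ?_ (h.hinv g a)
    rw [cjIrr_apply]
    exact congrArg (φ : K → ℂ) (Subtype.ext (MulAut.conjNormal_apply g a).symm)
  obtain ⟨B', hB', ⟨ψ, hψ, φ, hφ, hc⟩, hd⟩ :=
    exists_covering_defect K hM (isPBlock_blockOf (M := M) θ) hinv'
  rw [blockOf_eq_singleton hM θ hdeg0, Set.mem_singleton_iff] at hφ
  subst hφ
  obtain rfl : B' = blockOf M (χ : G → ℂ) :=
    isPBlock_eq_of_mem hB' (isPBlock_blockOf χ) hψ ((h.mem_blockOf_iff hM hχ ψ).2 hc)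
  obtain ⟨D, hD⟩ := exists_isDefectGroup (p := p) (isPBlock_blockOf (M := M) χ)
  have hKi : (Nat.card G).factorization p = K.index.factorization p := by
    rw [← K.card_mul_index, Nat.factorization_mul Nat.card_pos.ne'
      Subgroup.index_ne_zero_of_finite, Finsupp.add_apply,
      Nat.factorization_eq_zero_of_not_dvd h.hKp, zero_add]
  have hle := blockDefect_le (p := p) (blockOf M (χ : G → ℂ))
  have hcard := card_defectGroup hM (isPBlock_blockOf χ) hD
  rw [show blockDefect p (blockOf M (χ : G → ℂ)) = (Nat.card G).factorization p by omega] at hcard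
  have hDi : ¬ p ∣ D.index := by
    intro hdvd
    have h1 : p ^ ((Nat.card G).factorization p + 1) ∣ Nat.card G := by
      rw [pow_succ, ← hcard]
      exact (mul_dvd_mul_left _ hdvd).trans (dvd_of_eq D.card_mul_index)
    exact Nat.pow_succ_factorization_not_dvd Nat.card_pos.ne' hpf.out h1
  obtain ⟨x, hx⟩ := MulAction.exists_smul_eq G ((isPGroup_defectGroup hD).toSylow hDi) S
  rw [← hx, Sylow.coe_subgroup_smul]
  exact IsDefectGroup.map_conj hD x

/-! ## Blocks of centralisers -/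

/-- Every block of the centraliser of a `p`-subgroup induces a block. -/
theorem exists_induced_centralizer (hM : IsPModular p M) {R : Subgroup G} (hR : IsPGroup p R)
    [Fintype (Subgroup.centralizer (R : Set G))]
    {f : Set (IrrCharacter (Subgroup.centralizer (R : Set G)))} (hf : IsPBlock M f) :
    ∃ B, IsInducedBlock M (Subgroup.centralizer (R : Set G)) f B := by
  classical
  haveI := hM.2.1.isPrime
  haveI : CharP (resField M) p := resField_charP hM
  set C := Subgroup.centralizer (R : Set G)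
  obtain ⟨ξ, hξ⟩ := isPBlock_nonempty hf
  have hres : ∀ x : MonoidAlgebra (locRing M) G,
      resG (restrictElt C x) = restrictElt C (resG x) := fun x =>
    gaExt fun c => by simp [coeff_restrictElt]
  have htr : ∀ z : MonoidAlgebra (resField M) G, restrictElt C (brTrunc R z) = restrictElt C z :=
    fun z => gaExt fun c => by
      rw [coeff_restrictElt, coeff_restrictElt, coeff_brTrunc, if_pos c.2]
  obtain ⟨B, hB, hcong⟩ := exists_block_of_functional (M := M)
    (fun x : MonoidAlgebra (locRing M) G => omegaR ξ (restrictElt C x))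
    (fun x hx => omegaR_memLocalRing ξ (IsClassElt.restrictElt hx C))
    (fun x y => by rw [restrictElt_add, omegaR_add])
    (fun c x => by rw [restrictElt_smul, omegaR_smul])
    (by rw [restrictElt_one, omegaR_one])
    (fun x y hx hy => by
      rw [← omegaR_mul ξ (IsClassElt.restrictElt hx C) (IsClassElt.restrictElt hy C), ← omegaR_sub]
      refine omegaR_mem_of_resG_eq_zero ξ (IsClassElt.sub (IsClassElt.restrictElt
        (IsClassElt.mul hx hy) C) (IsClassElt.mul (IsClassElt.restrictElt hx C)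
        (IsClassElt.restrictElt hy C))) ?_
      have hxr : IsClassElt (resG x) := IsClassElt.map hx _
      have hyr : IsClassElt (resG y) := IsClassElt.map hy _
      rw [map_sub, map_mul, hres, hres, hres, map_mul, ← htr (resG x * resG y),
        brTrunc_mul hR (IsClassElt.isInvElt hxr R) (IsClassElt.isInvElt hyr R),
        restrictElt_mul_of_support, htr, htr, sub_self]
      intro g hg
      rw [coeff_brTrunc, if_neg hg])
    (fun x hx h => omegaR_mem_of_resG_eq_zero ξ (IsClassElt.restrictElt hx C) (by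
      rw [hres, h]
      exact gaExt fun k => by simp [coeff_restrictElt]))
  refine ⟨B, hf, hB, fun η hη χ hχ g => ?_⟩
  rw [inducedCentralChar_eq (M := M), ← omegaR_classSum (M := M)]
  have h1 := omegaR_congr (isPBlock_sameBlock hf hη hξ)
    (IsClassElt.restrictElt (isClassElt_classSum (R := locRing M) g) C)
  have := MemLocalIdeal.add h1 (hcong χ hχ _ (isClassElt_classSum g))
  simpa using this

/-- The hypotheses pass to the centraliser of a `p`-subgroup normalising `Q`. -/
theorem Setup.centralizer (h : Setup p K Q θ) {R : Subgroup G} (hR : IsPGroup p R)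
    (hRQ : R ≤ Subgroup.normalizer (Q : Set G))
    [Fintype (K.subgroupOf (Subgroup.centralizer (R : Set G)))]
    (θ₀ : IrrCharacter (K.subgroupOf (Subgroup.centralizer (R : Set G))))
    (hθ₀ : ∀ (c : Subgroup.centralizer (R : Set G))
      (k : K.subgroupOf (Subgroup.centralizer (R : Set G))),
      (θ₀ : _ → ℂ) (MulAut.conjNormal c k) = (θ₀ : _ → ℂ) k) :
    Setup p (K.subgroupOf (Subgroup.centralizer (R : Set G)))
      (Q.subgroupOf (Subgroup.centralizer (R : Set G))) θ₀ := by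
  classical
  haveI := h.hL
  let C := Subgroup.centralizer (R : Set G)
  have hKQ : ∀ u ∈ K, u ∈ Q → u = 1 := fun u hu hq => by
    have h1 : (⟨u, hq⟩ : Q) ∈ K.subgroupOf Q := hu
    rw [h.disjoint, Subgroup.mem_bot] at h1
    exact congrArg Subtype.val h1
  -- fixed points modulo `K`
  have hfix : ∀ k ∈ K, ∀ q ∈ Q, (∀ r ∈ R, r * (k * q) * r⁻¹ * (k * q)⁻¹ ∈ K) → q ∈ C := by
    intro k hk q hq hkq
    refine Subgroup.mem_centralizer_iff.2 fun r hr => ?_
    have h1 : r * q * r⁻¹ * q⁻¹ ∈ K := by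
      have h2 := mul_mem (mul_mem
        ((inferInstance : K.Normal).conj_mem _ (inv_mem hk) r) (hkq r hr)) hk
      convert h2 using 1
      group
    have h3 : r * q * r⁻¹ * q⁻¹ ∈ Q :=
      mul_mem ((Subgroup.mem_normalizer_iff.1 (hRQ hr) q).1 hq) (inv_mem hq)
    have h4 := hKQ _ h1 h3
    rw [mul_inv_eq_one, mul_inv_eq_iff_eq_mul] at h4
    exact h4
  have hsup : K.subgroupOf C ⊔ Q.subgroupOf C = (K ⊔ Q).subgroupOf C := by
    refine le_antisymm (sup_le (Subgroup.comap_mono le_sup_left)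
      (Subgroup.comap_mono le_sup_right)) fun x hx => ?_
    have hx' : (x : G) ∈ K ⊔ Q := hx
    rw [← SetLike.mem_coe, Subgroup.normal_mul] at hx'
    obtain ⟨k, hk, q, hq, hkq⟩ := hx'
    dsimp only at hkq
    have hqC : q ∈ C := hfix k hk q hq fun r hr => by
      rw [hkq, Subgroup.mem_centralizer_iff.1 x.2 r hr, mul_inv_cancel_right, mul_inv_cancel]
      exact one_mem _
    have hkC : k ∈ C := by
      have := mul_mem x.2 (inv_mem hqC)
      rwa [← hkq, mul_inv_cancel_right] at this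
    rw [show x = ⟨k, hkC⟩ * ⟨q, hqC⟩ from Subtype.ext hkq.symm]
    exact mul_mem (Subgroup.mem_sup_left hk) (Subgroup.mem_sup_right hq)
  have hcardK : ¬ p ∣ Nat.card (K.subgroupOf C) := fun hd => h.hKp
    (hd.trans (Subgroup.card_comap_dvd_of_injective K C.subtype Subtype.val_injective))
  have hQC : IsPGroup p (Q.subgroupOf C) :=
    h.hQ.comap_of_injective C.subtype Subtype.val_injective
  have hLC : (K.subgroupOf C ⊔ Q.subgroupOf C).Normal := by
    rw [hsup]; infer_instance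
  refine ⟨hcardK, hQC, hLC, ?_, hθ₀⟩
  intro c hc hord
  -- the lemma of Thompson in `G ⧸ K`
  have hcG : ¬ p ∣ orderOf (c : G) := by rwa [Subgroup.orderOf_coe]
  have key : ∀ q ∈ Q, (c : G) * q * (c : G)⁻¹ * q⁻¹ ∈ K := by
    set π := QuotientGroup.mk' K
    have hth := AxB.thompson (G := G ⧸ K) (P := (K ⊔ Q).map π) (A := R.map π) (x := π c)
      (p := p) (n := orderOf (c : G))
      (by
        rw [Subgroup.map_sup, Subgroup.map_eq_bot_iff K |>.2 (by rw [QuotientGroup.ker_mk']),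
          bot_sup_eq]
        exact h.hQ.map π)
      (hR.map π)
      (by
        haveI : ((K ⊔ Q).map π).Normal := h.hL.map π (QuotientGroup.mk'_surjective K)
        rw [Subgroup.normalizer_eq_top_iff.2 inferInstance]
        exact le_top)
      (fun y hy => (h.hL.map π (QuotientGroup.mk'_surjective K)).conj_mem y hy _)
      (by
        rintro _ ⟨r, hr, rfl⟩
        rw [← map_mul, ← map_mul, Subgroup.mem_centralizer_iff.1 c.2 r hr])
      (by rw [← map_pow, pow_orderOf_eq_one, map_one])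
      ((hpf.out.coprime_iff_not_dvd).2 hcG)
      (by
        rintro _ ⟨y, hy, rfl⟩ hcomm
        rw [SetLike.mem_coe, ← SetLike.mem_coe, Subgroup.normal_mul] at hy
        obtain ⟨k, hk, q, hq, rfl⟩ := hy
        have hq' : q ∈ C := hfix k hk q hq fun r hr => by
          have h1 := hcomm (π r) ⟨r, hr, rfl⟩
          rw [← QuotientGroup.eq_one_iff]
          show π (r * (k * q) * r⁻¹ * (k * q)⁻¹) = 1
          rw [map_mul, map_mul, map_mul π r, h1, map_inv, mul_inv_cancel_right, map_inv,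
            mul_inv_cancel]
        have h2 := congrArg Subtype.val
          (Subgroup.mem_centralizer_iff.1 hc ⟨q, hq'⟩ (show q ∈ Q from hq))
        simp only [Subgroup.coe_mul] at h2
        rw [map_mul, show π k = 1 from (QuotientGroup.eq_one_iff k).2 hk, one_mul, ← map_mul,
          ← map_mul, h2])
    intro q hq
    have h1 := hth (π q) ⟨q, Subgroup.mem_sup_right hq, rfl⟩
    rw [← QuotientGroup.eq_one_iff]
    show π ((c : G) * q * (c : G)⁻¹ * q⁻¹) = 1
    rw [map_mul, map_mul, map_mul π (c : G), h1, map_inv, mul_inv_cancel_right, map_inv,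
      mul_inv_cancel]
  -- correct `c` by an element of `K`
  obtain ⟨k, hk, hkQ⟩ := h.exists_conj (h.hQ.map (MulAut.conj (c : G)).toMonoidHom) (by
    rintro _ ⟨q, hq, rfl⟩
    rw [MulEquiv.coe_toMonoidHom, MulAut.conj_apply]
    have := mul_mem (Subgroup.mem_sup_left (T := Q) (key q hq)) (Subgroup.mem_sup_right (S := K) hq)
    rwa [inv_mul_cancel_right] at this)
  set d := k⁻¹ * (c : G) with hd
  have hdC : d ∈ Subgroup.centralizer (Q : Set G) := by
    refine Subgroup.mem_centralizer_iff.2 fun q hq => ?_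
    have h1 : d * q * d⁻¹ ∈ Q := by
      have := hkQ ((c : G) * q * (c : G)⁻¹) ⟨q, hq, rfl⟩
      rw [hd]; convert this using 1; group
    have h2 : d * q * d⁻¹ * q⁻¹ ∈ K := by
      have := mul_mem (mul_mem (inv_mem hk) (key q hq))
        ((inferInstance : K.Normal).conj_mem k hk q)
      rw [hd]; convert this using 1; group
    have h4 := hKQ _ h2 (mul_mem h1 (inv_mem hq))
    rw [mul_inv_eq_one, mul_inv_eq_iff_eq_mul] at h4
    exact h4.symm
  obtain ⟨a, b, hab, hcomm, ⟨j, hj⟩, hb⟩ := exists_isPPart hpf.out d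
  obtain ⟨s, hs1, hs2⟩ := Nat.chineseRemainder
    (((hpf.out.coprime_iff_not_dvd).2 hb).pow_left j) 0 1
  have hds : d ^ s = b := by
    rw [← hab, hcomm.mul_pow, orderOf_dvd_iff_pow_eq_one.1 (hj ▸ Nat.modEq_zero_iff_dvd.1 hs1),
      one_mul]
    exact (pow_eq_pow_iff_modEq.2 hs2).trans (pow_one b)
  have hbK : b ∈ K := h.hreg b (hds ▸ pow_mem hdC s) hb
  -- `c` and `d` agree modulo `K`, and `c` is `p`-regular
  have hcd : ((c : G) : G ⧸ K) = (d : G ⧸ K) := by
    rw [hd, QuotientGroup.mk_mul, QuotientGroup.mk_inv, (QuotientGroup.eq_one_iff k).2 hk,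
      inv_one, one_mul]
  show (c : G) ∈ K
  rw [← QuotientGroup.eq_one_iff, ← orderOf_eq_one_iff]
  have h1 : orderOf ((c : G) : G ⧸ K) ∣ p ^ j := by
    refine orderOf_dvd_of_pow_eq_one ?_
    rw [hcd, ← hab, QuotientGroup.mk_mul, (QuotientGroup.eq_one_iff b).2 hbK, mul_one,
      ← QuotientGroup.mk_pow, ← hj, pow_orderOf_eq_one]
    rfl
  have h2 : orderOf ((c : G) : G ⧸ K) ∣ orderOf (c : G) :=
    orderOf_map_dvd (QuotientGroup.mk' K) (c : G)
  exact Nat.eq_one_of_dvd_coprimes (((hpf.out.coprime_iff_not_dvd).2 hcG).pow_left j) h1 h2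

end Cfsg.Agent.PrincipalType
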