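/-
The first main theorem and the blocks of full defect.
-/
import Cfsg.Agent.S4670
import Cfsg.Agent.Lib.Blocks.Defect
import Cfsg.Agent.Lib.Blocks.SecondMain
import Cfsg.Agent.Lib.Transfer.Basic
import Cfsg.Prelude.Def_CaseTheorems
import Mathlib.GroupTheory.Transfer

set_option linter.unusedSectionVars false
set_option linter.style.haveILetI false

namespace Cfsg.Agent.Blocks

open Cfsg MonoidAlgebra Cfsg.Agent.Char

universe u

variable {G : Type u} [Group G] [Fintype G] {p : ℕ} {M : Ideal AlgInt} [M.IsPrime]

/-- Agreement of idempotents on the centraliser gives induction. -/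
theorem isInducedBlock_of_congr (hM : IsPModular p M) {P H : Subgroup G} [Fintype H]
    (hP : IsPGroup p P) (hPH : P ≤ H) (hC : Subgroup.centralizer (P : Set G) ≤ H)
    (hN : H ≤ Subgroup.normalizer (P : Set G)) {b : Set (IrrCharacter H)} (hb : IsPBlock M b)
    {B : Set (IrrCharacter G)} (hB : IsPBlock M B)
    (hcong : ∀ x : G, x ∈ Subgroup.centralizer (P : Set G) →
      MemLocalIdeal M (blockCoeff B x - subgroupBlockCoeff H b x)) :
    IsInducedBlock M H b B := by
  classical
  haveI : Finite (ConjClasses H) := Finite.of_surjective _ ConjClasses.mk_surjective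
  haveI : Fintype (ConjClasses H) := Fintype.ofFinite _
  haveI : (P.subgroupOf H).Normal := (Subgroup.normal_subgroupOf_iff_le_normalizer hPH).2 hN
  obtain ⟨B', hB'⟩ := exists_isInducedBlock hM hP hPH hC hN hb
  obtain ⟨ξ, hξ⟩ := isPBlock_nonempty hb
  obtain ⟨χ, hχ⟩ := isPBlock_nonempty hB'.2.1
  set Y := restrictElt H (blockEltR M B) - blockEltR M b with hY
  have hYc : IsClassElt Y :=
    IsClassElt.sub (IsClassElt.restrictElt (isClassElt_blockEltR B) H) (isClassElt_blockEltR b)
  have hω : MemLocalIdeal M (omegaR ξ Y) := by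
    rw [omegaR_eq_sum ξ hYc]
    refine memLocalIdeal_sum _ _ fun C _ => ?_
    by_cases hc : MemLocalIdeal M (centralChar (ξ : H → ℂ) C.out)
    · exact MemLocalIdeal.mul_left (Y.coeff C.out).2 hc
    · refine MemLocalIdeal.mul_right ?_ (centralChar_memLocalRing ξ C.out)
      have h1 := mem_centralizer_of_not_memLocalIdeal hM (P.subgroupOf H)
        (hP.comap_of_injective _ Subtype.val_injective) hc
      have h2 : ((C.out : H) : G) ∈ Subgroup.centralizer (P : Set G) :=
        Subgroup.mem_centralizer_iff.2 fun u hu => congrArg Subtype.val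
          (Subgroup.mem_centralizer_iff.1 h1 ⟨u, hPH hu⟩ (Subgroup.mem_subgroupOf.2 hu))
      have h3 := hcong _ h2
      simp only [subgroupBlockCoeff, SetLike.coe_mem, dite_true, Subtype.coe_eta] at h3
      simpa [hY, coeff_restrictElt, coeff_blockEltR hB, coeff_blockEltR hb] using h3
  have h4 := isInducedBlock_omegaR hB' hξ hχ (isClassElt_blockEltR (M := M) B)
  rw [hY, omegaR_sub, omegaR_blockEltR hb, if_pos hξ] at hω
  rw [omegaR_blockEltR hB] at h4
  by_cases hχB : χ ∈ B
  · rwa [← isPBlock_eq_of_mem hB'.2.1 hB hχ hχB]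
  · rw [if_neg hχB] at h4
    have h5 := MemLocalIdeal.sub h4 hω
    exact absurd (by simpa using h5) (not_memLocalIdeal_one (M := M))

/-- The first main theorem. -/
theorem first_main (hM : IsPModular p M) {D : Subgroup G} (hD : IsPGroup p D) :
    (∀ b : Set (IrrCharacter (Subgroup.normalizer (D : Set G))), IsPBlock M b →
      IsDefectGroup p M b (D.subgroupOf (Subgroup.normalizer (D : Set G))) →
      ∃ B : Set (IrrCharacter G), IsPBlock M B ∧ IsDefectGroup p M B D ∧
        IsInducedBlock M (Subgroup.normalizer (D : Set G)) b B) ∧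
    (∀ B : Set (IrrCharacter G), IsPBlock M B → IsDefectGroup p M B D →
      ∃! b : Set (IrrCharacter (Subgroup.normalizer (D : Set G))), IsPBlock M b ∧
        IsDefectGroup p M b (D.subgroupOf (Subgroup.normalizer (D : Set G))) ∧
        IsInducedBlock M (Subgroup.normalizer (D : Set G)) b B) := by
  classical
  haveI := Fact.mk hM.1
  haveI : Fintype (Subgroup.normalizer (D : Set G)) := Fintype.ofFinite _
  obtain ⟨hdown, hup⟩ :=
    Cfsg.Agent.S4670.result p M hM D (Subgroup.normalizer (D : Set G)) hD le_rfl
  have hind : ∀ {b : Set (IrrCharacter (Subgroup.normalizer (D : Set G)))}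
      {B : Set (IrrCharacter G)}, IsPBlock M b → IsPBlock M B →
      (∀ x : G, x ∈ Subgroup.centralizer (D : Set G) → MemLocalIdeal M
        (blockCoeff B x - subgroupBlockCoeff (Subgroup.normalizer (D : Set G)) b x)) →
      IsInducedBlock M (Subgroup.normalizer (D : Set G)) b B := fun hb hB h =>
    isInducedBlock_of_congr hM hD Subgroup.le_normalizer
      (Subgroup.centralizer_le_normalizer (D : Set G)) le_rfl hb hB h
  constructor
  · intro b hb hbD
    obtain ⟨B, ⟨hB, hBD, hcong⟩, -⟩ := hup b hb hbD
    exact ⟨B, hB, hBD, hind hb hB hcong⟩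
  · intro B hB hBD
    obtain ⟨b, ⟨hb, hbD, hcong⟩, huni⟩ := hdown B hB hBD
    refine ⟨b, ⟨hb, hbD, hind hb hB hcong⟩, ?_⟩
    rintro b' ⟨hb', hbD', hind'⟩
    obtain ⟨B'', ⟨hB'', hBD'', hcong''⟩, -⟩ := hup b' hb' hbD'
    obtain rfl := isInducedBlock_unique hind' (hind hb' hB'' hcong'')
    exact huni b' ⟨hb', hbD', hcong''⟩

/-- A defect group is the largest normal `p`-subgroup of its normaliser. -/
theorem defectGroup_eq_pCore_normalizer (hM : IsPModular p M) {B : Set (IrrCharacter G)}
    (hB : IsPBlock M B) {D : Subgroup G} (hD : IsDefectGroup p M B D) :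
    (pCore p (Subgroup.normalizer (D : Set G))).map
      (Subgroup.normalizer (D : Set G)).subtype = D := by
  haveI := Fact.mk hM.1
  haveI : Fintype (Subgroup.normalizer (D : Set G)) := Fintype.ofFinite _
  have hP := isPGroup_defectGroup hD
  obtain ⟨b, ⟨hb, hbD, -⟩, -⟩ := (first_main hM hP).2 B hB hD
  haveI : (pCore p (Subgroup.normalizer (D : Set G))).Normal := Cfsg.pCore_normal p _
  have h1 : pCore p (Subgroup.normalizer (D : Set G)) ≤
      D.subgroupOf (Subgroup.normalizer (D : Set G)) :=
    le_defectGroup_of_normal hM hb hbD _ (Cfsg.Agent.PBasic.pCore_isPGroup p _)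
  have h2 : D.subgroupOf (Subgroup.normalizer (D : Set G)) ≤
      pCore p (Subgroup.normalizer (D : Set G)) :=
    Cfsg.Agent.PBasic.le_pCore Subgroup.normal_in_normalizer
      (hP.comap_of_injective _ Subtype.val_injective)
  rw [le_antisymm h1 h2, Subgroup.subgroupOf_map_subtype,
    inf_eq_left.2 Subgroup.le_normalizer]

/-- In a group with normal Sylow subgroup the elements of order prime to `p` centralising it form
a complement inside its centraliser. -/
theorem exists_pPrime_core_centralizer (hp : p.Prime) (P : Subgroup G) [P.Normal]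
    (hP : IsPGroup p P) (hidx : ¬ p ∣ P.index) :
    ∃ K : Subgroup G, ¬ p ∣ Nat.card K ∧ K ≤ Subgroup.centralizer (P : Set G) ∧
      ∀ v : G, v ∈ Subgroup.centralizer (P : Set G) → ¬ p ∣ orderOf v → v ∈ K := by
  classical
  haveI := Fact.mk hp
  set C := Subgroup.centralizer (P : Set G) with hC
  have hPs : IsPGroup p (P.subgroupOf C) := hP.comap_of_injective _ Subtype.val_injective
  have hPidx : ¬ p ∣ (P.subgroupOf C).index := fun h =>
    hidx (h.trans (Subgroup.relIndex_dvd_index_of_normal P C))
  let Q : Sylow p C := IsPGroup.toSylow hPs hPidx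
  have hQ : (Q : Subgroup C) = P.subgroupOf C := rfl
  have hcen : Subgroup.normalizer ((Q : Subgroup C) : Set C) ≤
      Subgroup.centralizer ((Q : Subgroup C) : Set C) := fun n _ =>
    Subgroup.mem_centralizer_iff.2 fun q hq => Subtype.ext
      (Subgroup.mem_centralizer_iff.1 n.2 (q : G) hq)
  have hcompl := MonoidHom.ker_transferSylow_isComplement' Q hcen
  set N := (MonoidHom.transferSylow Q hcen).ker with hN
  obtain ⟨k, hk⟩ := IsPGroup.iff_card.1 (show IsPGroup p (Q : Subgroup C) from Q.isPGroup')
  refine ⟨N.map C.subtype, ?_, Subgroup.map_subtype_le N, fun v hv hreg => ?_⟩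
  · rw [Subgroup.card_map_of_injective Subtype.val_injective, ← hcompl.index_eq_card]
    exact Q.not_dvd_index
  · have hidxN : N.index = p ^ k := by rw [hcompl.symm.index_eq_card, hk]
    have h1 := N.pow_index_mem ⟨v, hv⟩
    rw [hidxN] at h1
    obtain ⟨m, hm⟩ := exists_pow_eq_self_of_coprime
      (x := (⟨v, hv⟩ : C)) (n := p ^ k) (by
        rw [Subgroup.orderOf_mk]
        exact ((hp.coprime_iff_not_dvd).2 hreg).pow_left k)
    exact ⟨⟨v, hv⟩, hm ▸ N.pow_mem h1 m, rfl⟩

/-- The number of blocks of a group with normal Sylow subgroup. -/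
theorem card_blocks_normal_sylow (hM : IsPModular p M) (P : Subgroup G) [P.Normal]
    (hP : IsPGroup p P) (hidx : ¬ p ∣ P.index) :
    Nat.card {B : Set (IrrCharacter G) // IsPBlock M B} =
      Nat.card {C : ConjClasses G // ∀ n : G, ConjClasses.mk n = C →
        ¬ p ∣ orderOf n ∧ n ∈ Subgroup.centralizer (P : Set G)} := by
  classical
  haveI := Fact.mk hM.1
  haveI : Finite (ConjClasses G) := Finite.of_surjective _ ConjClasses.mk_surjective
  haveI : Fintype (ConjClasses G) := Fintype.ofFinite _
  set q : ConjClasses G → Prop := fun C => ∀ n : G, ConjClasses.mk n = C →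
    ¬ p ∣ orderOf n ∧ n ∈ Subgroup.centralizer (P : Set G) with hq
  have hqout : ∀ C : ConjClasses G, ¬ p ∣ orderOf C.out →
      C.out ∈ Subgroup.centralizer (P : Set G) → q C := by
    intro C hr hc n hn
    obtain ⟨c, rfl⟩ := isConj_iff.1 (ConjClasses.mk_eq_mk_iff_isConj.1
      ((show ConjClasses.mk C.out = C from Quotient.out_eq C).trans hn.symm))
    refine ⟨?_, mem_centralizer_conj (by rw [Subgroup.normalizer_eq_top_iff.2 ‹P.Normal›]; trivial) hc⟩
    rwa [← MulAut.conj_apply, MulEquiv.orderOf_eq]
  obtain ⟨v, hv⟩ := IsPGroup.iff_card.1 hP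
  have hvG : (Nat.card G).factorization p = v := by
    rw [← P.card_mul_index, hv, Nat.factorization_mul (pow_ne_zero _ hM.1.ne_zero)
      Subgroup.index_ne_zero_of_finite, Finsupp.add_apply, hM.1.factorization_pow,
      Finsupp.single_eq_same, Nat.factorization_eq_zero_of_not_dvd hidx, add_zero]
  have hdef : ∀ B : Set (IrrCharacter G), IsPBlock M B → blockDefect p B = v := by
    intro B hB
    obtain ⟨D, hD⟩ := exists_isDefectGroup (p := p) hB
    have h1 := Subgroup.card_le_of_le (le_defectGroup_of_normal hM hB hD P hP)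
    rw [hv, card_defectGroup hM hB hD] at h1
    have h2 := (Nat.pow_le_pow_iff_right hM.1.one_lt).1 h1
    have h3 := blockDefect_le (p := p) B
    omega
  apply le_antisymm
  · have h := card_blocks_le (M := M) hM (fun d => d = v) q fun C d d' _ hd' hr _ hle => by
      refine hqout C hr ?_
      obtain ⟨S⟩ : Nonempty (Sylow p (Subgroup.centralizer ({C.out} : Set G))) := inferInstance
      let P₀ : Sylow p G := IsPGroup.toSylow hP hidx
      haveI : Unique (Sylow p G) := Sylow.unique_of_normal P₀ ‹P.Normal›
      obtain ⟨T, hT⟩ := (isPGroup_sylowImage S).exists_le_sylow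
      rw [Subsingleton.elim T P₀] at hT
      have hT' : sylowImage S ≤ P := hT
      have hc : Nat.card P ≤ Nat.card (sylowImage S) := by
        rw [hv, card_sylowImage]
        refine Nat.pow_le_pow_right hM.1.pos ?_
        simp only [classExp] at hle
        omega
      have heq : sylowImage S = P := Subgroup.eq_of_le_of_card_ge hT' hc
      exact mem_centralizer_of_le (heq ▸ sylowImage_le S)
    refine le_trans (le_of_eq (Nat.card_congr (Equiv.subtypeEquivRight fun B => ?_))) h
    exact ⟨fun hB => ⟨hB, hdef B hB⟩, And.left⟩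
  · obtain ⟨K, hKp, hKC, hKmem⟩ := exists_pPrime_core_centralizer hM.1 P hP hidx
    haveI : Fintype K := Fintype.ofFinite K
    haveI : Fintype {B : Set (IrrCharacter G) // IsPBlock M B} := Fintype.ofFinite _
    choose c hc using fun B : {B : Set (IrrCharacter G) // IsPBlock M B} =>
      isPBlock_nonempty B.2
    let Φ : ({C : ConjClasses G // q C} → resField M) →ₗ[resField M]
        ({B : Set (IrrCharacter G) // IsPBlock M B} → resField M) :=
      { toFun := fun a B => ∑ C, a C * res M
          ⟨centralChar (c B : G → ℂ) C.1.out, centralChar_memLocalRing _ _⟩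
        map_add' := fun a b => by
          funext B; simp [add_mul, Finset.sum_add_distrib]
        map_smul' := fun t a => by
          funext B; simp [Finset.mul_sum, mul_assoc] }
    have hΦ : Function.Injective Φ := by
      rw [injective_iff_map_eq_zero]
      intro a ha
      choose l hl using fun C => res_surjective (M := M) (a C)
      let Y : MonoidAlgebra (locRing M) G := gaOfFun fun x =>
        if h : q (ConjClasses.mk x) then l ⟨_, h⟩ else 0
      have hYc : IsClassElt Y := isClassElt_gaOfFun fun g h => by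
        have e : ConjClasses.mk (h * g * h⁻¹) = ConjClasses.mk g :=
          ConjClasses.mk_eq_mk_iff_isConj.2 (isConj_iff.2 ⟨h, rfl⟩).symm
        simp only [e]
      have hYout : ∀ C : {C : ConjClasses G // q C}, Y.coeff C.1.out = l C := fun C => by
        have e : ConjClasses.mk C.1.out = C.1 := Quotient.out_eq _
        simp only [Y, coeff_gaOfFun, e, C.2, dite_true]
      have hω : ∀ χ : IrrCharacter G, MemLocalIdeal M (omegaR χ Y) := by
        intro χ
        set B : {B : Set (IrrCharacter G) // IsPBlock M B} := ⟨_, isPBlock_blockOf (M := M) χ⟩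
        have h1 : MemLocalIdeal M (omegaR (c B) Y) := by
          rw [omegaR_eq_sum (c B) hYc, ← Finset.sum_filter_add_sum_filter_not Finset.univ q]
          refine MemLocalIdeal.add ?_ (memLocalIdeal_sum _ _ fun C hC => ?_)
          · have h2 : ∑ C : {C : ConjClasses G // q C}, a C * res M
                ⟨centralChar (c B : G → ℂ) C.1.out, centralChar_memLocalRing _ _⟩ = 0 :=
              congrFun ha B
            simp only [← hl, ← map_mul, ← map_sum] at h2
            rw [res_eq_zero_iff] at h2
            push_cast at h2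
            rw [Finset.sum_subtype (p := q) _ (fun C => by simp)]
            simpa only [hYout] using h2
          · have e : ConjClasses.mk C.out = C := Quotient.out_eq _
            simp only [Y, coeff_gaOfFun, e, (Finset.mem_filter.1 hC).2, dite_false]
            simpa using memLocalIdeal_zero (M := M)
        have h3 := omegaR_congr (show SameBlock M (χ : G → ℂ) (c B : G → ℂ) from hc B) hYc
        simpa using MemLocalIdeal.add h3 h1
      obtain ⟨n, hn⟩ := isNilpotent_resG hYc hω
      have hsupp : ∀ g, g ∉ K → Y.coeff g = 0 := by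
        intro g hg
        simp only [Y, coeff_gaOfFun]
        rw [dif_neg fun h => hg (hKmem g (h g rfl).2 (h g rfl).1)]
      set Z := restrictElt K Y with hZ
      have hZc : IsClassElt Z := IsClassElt.restrictElt hYc K
      have hpow : ∀ m : ℕ, resG (Z ^ m) = restrictElt K (resG Y ^ m) := by
        intro m
        induction m with
        | zero => rw [pow_zero, pow_zero, map_one, restrictElt_one]
        | succ m ih =>
          rw [pow_succ', pow_succ' (resG Y), map_mul, ih, restrictElt_mul_of_support K
            (fun g hg => by rw [coeff_resG, hsupp g hg, map_zero]), ← resG_restrictElt]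
      have hZω : ∀ θ : IrrCharacter K, MemLocalIdeal M (omegaR θ Z) := by
        intro θ
        refine memLocalIdeal_of_pow (omegaR_memLocalRing θ hZc) (n := n) ?_
        have h4 : omegaR θ (Z ^ n) = omegaR θ Z ^ n := by
          rw [omegaR, map_pow, omega_pow θ (IsClassElt.toC hZc)]
          rfl
        rw [← h4]
        refine omegaR_mem_of_resG_eq_zero θ (IsClassElt.pow hZc n) ?_
        rw [hpow, hn]
        exact gaExt fun k => by simp [coeff_restrictElt]
      funext C
      have hCq := C.2 C.1.out (Quotient.out_eq _)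
      have hgK : C.1.out ∈ K := hKmem _ hCq.2 hCq.1
      rw [Pi.zero_apply, ← hl, res_eq_zero_iff, ← hYout]
      have h5 := congrArg (fun x : MonoidAlgebra ℂ K => x.coeff ⟨_, hgK⟩)
        (classElt_eq_sum (IsClassElt.toC hZc))
      simp only [MonoidAlgebra.coeff_sum, Finset.sum_apply', MonoidAlgebra.coeff_smul,
        Finsupp.smul_apply, coeff_blockElt, smul_eq_mul, coeff_toC] at h5
      rw [hZ, coeff_restrictElt] at h5
      rw [h5]
      refine memLocalIdeal_sum _ _ fun θ _ => MemLocalIdeal.mul_right (hZω θ) ?_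
      rw [blockCoeff, finsum_mem_singleton, irr_one_eq_charDegree]
      exact mem_locRing.1 ((locRing M).mul_mem (inv_natCast_memLocalRing hM hKp)
        ((locRing M).mul_mem (natCast_mem (locRing M) _) (conj_irr_memLocalRing θ _)))
    have h := LinearMap.finrank_le_finrank_of_injective hΦ
    rw [Module.finrank_pi, Module.finrank_pi] at h
    simpa only [hq, ← Nat.card_eq_fintype_card] using h

/-- The blocks with a Sylow subgroup as defect group. -/
theorem card_blocks_sylow_defect (hM : IsPModular p M) [Fact p.Prime] (P : Sylow p G) :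
    Nat.card {B : Set (IrrCharacter G) // IsPBlock M B ∧ IsDefectGroup p M B (P : Subgroup G)} =
      Nat.card {C : ConjClasses (Subgroup.normalizer ((P : Subgroup G) : Set G)) //
        ∀ n : Subgroup.normalizer ((P : Subgroup G) : Set G), ConjClasses.mk n = C →
          ¬ p ∣ orderOf n ∧ (n : G) ∈ Subgroup.centralizer ((P : Subgroup G) : Set G)} := by
  classical
  set N := Subgroup.normalizer ((P : Subgroup G) : Set G) with hN
  haveI : Fintype N := Fintype.ofFinite N
  set Q : Subgroup N := (P : Subgroup G).subgroupOf N with hQ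
  haveI : Q.Normal := Subgroup.normal_in_normalizer
  have hQp : IsPGroup p Q := P.isPGroup'.comap_of_injective _ Subtype.val_injective
  have hQidx : ¬ p ∣ Q.index := fun h =>
    P.not_dvd_index (h.trans (Subgroup.relIndex_dvd_index_of_le Subgroup.le_normalizer))
  obtain ⟨hup, hdown⟩ := first_main hM P.isPGroup'
  have hdefN : ∀ b : Set (IrrCharacter N), IsPBlock M b → IsDefectGroup p M b Q := by
    intro b hb
    obtain ⟨D, hD⟩ := exists_isDefectGroup (p := p) hb
    have h1 := le_defectGroup_of_normal hM hb hD Q hQp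
    have e : D = Q := (IsPGroup.toSylow hQp hQidx).is_maximal' (isPGroup_defectGroup hD) h1
    rwa [e] at hD
  choose F hF using fun b : {b : Set (IrrCharacter N) // IsPBlock M b} =>
    hup b.1 b.2 (hdefN b.1 b.2)
  have hbij : Function.Bijective
      (fun b : {b : Set (IrrCharacter N) // IsPBlock M b} =>
        (⟨F b, (hF b).1, (hF b).2.1⟩ :
          {B : Set (IrrCharacter G) // IsPBlock M B ∧ IsDefectGroup p M B (P : Subgroup G)})) := by
    refine ⟨fun b b' h => ?_, fun B => ?_⟩
    · simp only [Subtype.mk.injEq] at h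
      obtain ⟨b₀, -, hu⟩ := hdown (F b) (hF b).1 (hF b).2.1
      have e1 := hu b.1 ⟨b.2, hdefN _ b.2, (hF b).2.2⟩
      have e2 := hu b'.1 ⟨b'.2, hdefN _ b'.2, h ▸ (hF b').2.2⟩
      exact Subtype.ext (e1.trans e2.symm)
    · obtain ⟨b, ⟨hb, -, hind⟩, -⟩ := hdown B.1 B.2.1 B.2.2
      exact ⟨⟨b, hb⟩, Subtype.ext (isInducedBlock_unique (hF ⟨b, hb⟩).2.2 hind)⟩
  rw [← Nat.card_congr (Equiv.ofBijective _ hbij), card_blocks_normal_sylow hM Q hQp hQidx]
  refine Nat.card_congr (Equiv.subtypeEquivRight fun C => forall_congr' fun n =>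
    imp_congr_right fun _ => and_congr Iff.rfl ?_)
  rw [Subgroup.mem_centralizer_iff, Subgroup.mem_centralizer_iff]
  refine ⟨fun h u hu => ?_, fun h u hu => Subtype.ext (h (u : G) (Subgroup.mem_subgroupOf.1 hu))⟩
  exact congrArg Subtype.val (h ⟨u, Subgroup.le_normalizer hu⟩ (Subgroup.mem_subgroupOf.2 hu))

end Cfsg.Agent.Blocks
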