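/-
The extended first main theorem.
-/
import Cfsg.Agent.Lib.Blocks.FirstMain
import Cfsg.Agent.Lib.BrauerPairs.FusionBridge

set_option linter.unusedSectionVars false
set_option linter.style.haveILetI false

namespace Cfsg.Agent.BrauerPairs

open Cfsg MonoidAlgebra Cfsg.Agent.Blocks

universe u

variable {G : Type u} [Group G] [Fintype G] {p : ℕ} [Fact p.Prime] {M : Ideal AlgInt} [M.IsPrime]

theorem sup_centralizer_le_normalizer (P : Subgroup G) :
    P ⊔ Subgroup.centralizer (P : Set G) ≤ Subgroup.normalizer (P : Set G) :=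
  sup_le Subgroup.le_normalizer (Subgroup.centralizer_le_normalizer _)

theorem exists_mul_of_mem {P : Subgroup G} {n : G}
    (hn : n ∈ P ⊔ Subgroup.centralizer (P : Set G)) :
    ∃ u ∈ P, ∃ c ∈ Subgroup.centralizer (P : Set G), n = u * c :=
  mem_sup_of_normal (Subgroup.le_normalizer.trans (normalizer_le_normalizer_centralizer P)) hn

/-- A block of `P C(P)` is a block of `C(P)`. -/
theorem isBlk_centralizer (hM : IsPModular p M) {P : Subgroup G} (hP : IsPGroup p P)
    {z : MonoidAlgebra (resField M) G} (hz : IsBlk (P ⊔ Subgroup.centralizer (P : Set G)) z) :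
    IsBlk (Subgroup.centralizer (P : Set G)) z := by
  haveI : CharP (resField M) p := resField_charP hM
  have htr := brTrunc_eq_self_of_normal hP le_sup_left (sup_centralizer_le_normalizer P) hz.inZ
    hz.idem
  have hzC : InZ (Subgroup.centralizer (P : Set G)) z :=
    ⟨fun g hg => by rw [← htr, coeff_brTrunc_neg hg],
      fun u hu => hz.inZ.inv u (le_sup_right (a := P) hu)⟩
  obtain ⟨f, hf, hzf⟩ := exists_blk_mul_eq hzC hz.idem hz.ne_zero
  have hfix : IsInvElt (P ⊔ Subgroup.centralizer (P : Set G)) f := fun u hu =>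
    isInvElt_stabP (P, f) u
      (sup_le (self_le_stabP (b := (P, f)) hf) (centralizer_le_stabP (b := (P, f)) hf) hu)
  have hfH := isBlk_of_le hP le_sup_left (sup_centralizer_le_normalizer P) le_sup_right hf hfix
  rwa [hz.eq_of_mul_ne_zero hfH (by rw [hzf]; exact hf.ne_zero)]

theorem isPair_of_block (hM : IsPModular p M) {P : Subgroup G} (hP : IsPGroup p P)
    {b : Set (IrrCharacter ↥(P ⊔ Subgroup.centralizer (P : Set G)))} (hb : IsPBlock M b) :
    IsPair p ⊤ (P, zB M (P ⊔ Subgroup.centralizer (P : Set G)) b) :=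
  ⟨hP, le_top, by
    rw [top_inf_eq]
    exact isBlk_centralizer hM hP (isBlk_zB _ hb)⟩

/-- An inducing block of `P C(P)` gives a pair of the induced block. -/
theorem isPairOf_of_induced (hM : IsPModular p M) {P : Subgroup G} (hP : IsPGroup p P)
    {b : Set (IrrCharacter ↥(P ⊔ Subgroup.centralizer (P : Set G)))} {B : Set (IrrCharacter G)}
    (hind : IsInducedBlock M (P ⊔ Subgroup.centralizer (P : Set G)) b B) :
    IsPairOf p ⊤ (Ek M B) (P, zB M (P ⊔ Subgroup.centralizer (P : Set G)) b) := by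
  haveI : CharP (resField M) p := resField_charP hM
  have hN : (P ⊔ Subgroup.centralizer (P : Set G)) ≤ Subgroup.normalizer (P : Set G) := sup_centralizer_le_normalizer P
  have hPH : P ≤ (P ⊔ Subgroup.centralizer (P : Set G)) := le_sup_left
  have hCH : Subgroup.centralizer (P : Set G) ≤ (P ⊔ Subgroup.centralizer (P : Set G)) := le_sup_right
  obtain ⟨ξ, hξ⟩ := isPBlock_nonempty hind.1
  obtain ⟨χ, hχ⟩ := isPBlock_nonempty hind.2.1
  set w := brTrunc P (Ek M B) with hw
  have hinv : IsInvElt P (Ek M B) := IsClassElt.isInvElt (isClassElt_Ek B) P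
  have hww : w * w = w := by rw [hw, ← brTrunc_mul hP hinv hinv, Ek_idem hind.2.1]
  have hwH : InZ (P ⊔ Subgroup.centralizer (P : Set G)) w := by
    refine ⟨fun g hg => coeff_brTrunc_neg fun h => hg (hCH h), ?_⟩
    exact isInvElt_brTrunc hN (IsClassElt.isInvElt (isClassElt_Ek B) (P ⊔ Subgroup.centralizer (P : Set G)))
  have he := isClassElt_blockEltR (M := M) B
  have h1 := MemLocalIdeal.sub (omegaR_restrict_sub_push hM hP hPH hN ξ he)
    (isInducedBlock_omegaR hind hξ hχ he)
  haveI : DecidablePred fun χ => χ ∈ B := Classical.decPred _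
  haveI : DecidablePred (· ∈ Subgroup.centralizer (P : Set G)) := Classical.decPred _
  rw [omegaR_blockEltR hind.2.1, if_pos hχ] at h1
  have hres : restr (P ⊔ Subgroup.centralizer (P : Set G)) w = resG (pushElt P (P ⊔ Subgroup.centralizer (P : Set G)) (blockEltR M B)) := by
    refine gaExt fun h => ?_
    rw [coeff_resG, coeff_pushElt]
    show w.coeff (h : G) = _
    by_cases hc : (h : G) ∈ Subgroup.centralizer (P : Set G)
    · rw [hw, coeff_brTrunc_pos hc, if_pos hc, Ek, coeff_resG]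
    · rw [hw, coeff_brTrunc_neg hc, if_neg hc, map_zero]
  have hlam : lam (zB M (P ⊔ Subgroup.centralizer (P : Set G)) b) w = 1 := by
    rw [lam_zB (P ⊔ Subgroup.centralizer (P : Set G)) hind.1 hξ hwH, hres, omegaK_resG _ (IsClassElt.pushElt hN he), ← map_one (res M),
      res_eq_res_iff]
    show MemLocalIdeal M (omegaR ξ (pushElt P (P ⊔ Subgroup.centralizer (P : Set G)) (blockEltR M B)) - ((1 : locRing M) : ℂ))
    have := MemLocalIdeal.neg h1
    simpa using this
  refine ⟨isPair_of_block hM hP hind.1, isBlk_Ek hind.2.1,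
    ((isBlk_zB (P ⊔ Subgroup.centralizer (P : Set G)) hind.1).prim w hwH hww).resolve_left fun h0 => ?_⟩
  rw [lam_eq_zero (isBlk_zB (P ⊔ Subgroup.centralizer (P : Set G)) hind.1) hwH h0] at hlam
  exact zero_ne_one hlam

/-- Two blocks of `P C(P)` inducing a block with defect group `P` are conjugate in `N(P)`. -/
theorem exists_conj_inducing (hM : IsPModular p M) {P : Subgroup G} {B : Set (IrrCharacter G)}
    (hD : IsDefectGroup p M B P)
    {b b' : Set (IrrCharacter ↥(P ⊔ Subgroup.centralizer (P : Set G)))}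
    (hb : IsInducedBlock M (P ⊔ Subgroup.centralizer (P : Set G)) b B)
    (hb' : IsInducedBlock M (P ⊔ Subgroup.centralizer (P : Set G)) b' B) :
    ∃ n ∈ Subgroup.normalizer (P : Set G), ∀ θ ∈ b, ∃ θ' ∈ b',
      ∀ x : ↥(P ⊔ Subgroup.centralizer (P : Set G)),
        ∀ hx : n * (x : G) * n⁻¹ ∈ P ⊔ Subgroup.centralizer (P : Set G),
        (θ' : ↥(P ⊔ Subgroup.centralizer (P : Set G)) → ℂ) x =
          (θ : ↥(P ⊔ Subgroup.centralizer (P : Set G)) → ℂ) ⟨n * (x : G) * n⁻¹, hx⟩ := by
  haveI : CharP (resField M) p := resField_charP hM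
  have hP := isPGroup_defectGroup hD
  have hDg := (isDefectGroup_iff hb.2.1 P).1 hD
  obtain ⟨x, -, hx⟩ := exists_conj_defect_pair (isPairOf_of_induced hM hP hb')
    (isPairOf_of_induced hM hP hb) hDg hDg
  have hxS : cjS x P = P := congrArg Prod.fst hx
  have hxz := congrArg Prod.snd hx
  change cj x (zB M _ b) = zB M _ b' at hxz
  have hxH : cjS x (P ⊔ Subgroup.centralizer (P : Set G)) = P ⊔ Subgroup.centralizer (P : Set G) := by
    show (P ⊔ _).map _ = _
    rw [Subgroup.map_sup]
    show cjS x P ⊔ cjS x _ = _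
    rw [cjS_centralizer, hxS]
  have hb'' : pullB (cjEquiv x hxH) b' = b :=
    zB_injective _ (isPBlock_pullB _ hb'.1) hb.1 ((cj x).injective (by
      rw [hxz, ← zB_pullB x hxH hb'.1]))
  refine ⟨x⁻¹, inv_mem (mem_normalizer_of_cjS_eq hxS),
    fun θ hθ => ⟨pullIrr (cjEquiv x hxH).symm θ, ?_, fun a ha => ?_⟩⟩
  · rw [← hb''] at hθ
    exact hθ
  · rw [pullIrr_apply]
    refine congrArg _ ?_
    rw [MulEquiv.symm_apply_eq]
    refine Subtype.ext ?_
    rw [coe_cjEquiv]
    group

theorem exists_inducing_block (hM : IsPModular p M) {P : Subgroup G} {B : Set (IrrCharacter G)}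
    (hB : IsPBlock M B) (hD : IsDefectGroup p M B P) :
    ∃ b : Set (IrrCharacter ↥(P ⊔ Subgroup.centralizer (P : Set G))),
      IsDefectGroup p M b (P.subgroupOf (P ⊔ Subgroup.centralizer (P : Set G))) ∧
        IsInducedBlock M (P ⊔ Subgroup.centralizer (P : Set G)) b B := by
  have hP := isPGroup_defectGroup hD
  obtain ⟨b, hb⟩ := (exists_inducing_iff hM hP le_sup_left le_sup_right
    (sup_centralizer_le_normalizer P) hB hD).2 ⟨1, fun _ ⟨u, hu, e⟩ => by
      rw [← e]; simpa using hu⟩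
  obtain ⟨D', hD'⟩ := exists_isDefectGroup (p := p) hb.1
  exact ⟨b, defectGroup_eq_of_induced hM hD le_sup_left (sup_centralizer_le_normalizer P) hb hD' ▸
    hD', hb⟩

/-! ## The criterion for the defect group of the induced block -/

theorem stabilizesBlock_iff_forall {H : Subgroup G} {b : Set (IrrCharacter H)} {g : G}
    (hg : g ∈ Subgroup.normalizer (H : Set G)) :
    (∀ θ ∈ b, ∀ θ' : IrrCharacter H, (∀ h h' : H, (h' : G) = g * h * g⁻¹ →
      (θ' : H → ℂ) h' = (θ : H → ℂ) h) → θ' ∈ b) ↔ StabilizesBlock H b g := by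
  set c := cjEquiv g (cjS_eq_of_mem_normalizer hg)
  have hc : ∀ (θ : IrrCharacter H) (h h' : H), (h' : G) = g * h * g⁻¹ →
      (pullIrr c.symm θ : H → ℂ) h' = (θ : H → ℂ) h := by
    intro θ h h' e
    rw [pullIrr_apply]
    refine congrArg _ ?_
    rw [MulEquiv.symm_apply_eq]
    exact Subtype.ext (by rw [coe_cjEquiv]; exact e)
  refine ⟨fun h => ⟨hg, fun θ hθ => ⟨_, h θ hθ _ (hc θ), hc θ⟩⟩, fun h θ hθ θ' he => ?_⟩
  obtain ⟨θ'', hθ'', he'⟩ := h.2 θ hθ
  have : θ' = θ'' := Subtype.ext (funext fun a => by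
    obtain ⟨a₀, rfl⟩ := c.surjective a
    exact (he a₀ _ (coe_cjEquiv g _ a₀)).trans (he' a₀ _ (coe_cjEquiv g _ a₀)).symm)
  exact this ▸ hθ''

section Criterion

variable {P : Subgroup G} {z : MonoidAlgebra (resField M) G}

theorem inf_centralizer_le (hM : IsPModular p M) (hP : IsPGroup p P)
    (hz : IsBlk (Subgroup.centralizer (P : Set G)) z)
    (hzH : IsBlk (P ⊔ Subgroup.centralizer (P : Set G)) z)
    (hPD : IsDefGrp p (P ⊔ Subgroup.centralizer (P : Set G)) z P) {E : Subgroup G}
    (hE : IsDefGrp p (Subgroup.centralizer (P : Set G)) z E) : E ≤ P := by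
  haveI : CharP (resField M) p := resField_charP hM
  set C := Subgroup.centralizer (P : Set G) with hC
  obtain ⟨t, htC, ht, hl, hS⟩ := hE
  have hsum : classSumIn (resField M) (P ⊔ C) t = classSumIn (resField M) C t := by
    refine gaExt fun g => ?_
    by_cases h : ∃ n ∈ C, n * t * n⁻¹ = g
    · obtain ⟨n, hn, e⟩ := h
      rw [coeff_classSumIn_pos ⟨n, le_sup_right (a := P) hn, e⟩, coeff_classSumIn_pos ⟨n, hn, e⟩]
    · rw [coeff_classSumIn_neg h, coeff_classSumIn_neg]
      rintro ⟨n, hn, e⟩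
      obtain ⟨u, hu, c, hc, rfl⟩ := exists_mul_of_mem hn
      refine h ⟨c, hc, ?_⟩
      have h2 := Subgroup.mem_centralizer_iff.1 (mul_mem (mul_mem hc htC) (inv_mem hc)) u hu
      rw [← e, show u * c * t * (u * c)⁻¹ = u * (c * t * c⁻¹) * u⁻¹ by group, h2,
        mul_inv_cancel_right]
  obtain ⟨Q, hQ⟩ := exists_isSylowIn p ((P ⊔ C) ⊓ Subgroup.centralizer ({t} : Set G))
  have hQD : IsDefGrp p (P ⊔ C) z Q := ⟨t, le_sup_right (a := P) htC, ht, by rwa [hsum], hQ⟩
  obtain ⟨x, hx, rfl⟩ := hPD.exists_conj_eq hQD hzH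
  rw [cjS_eq_of_mem_normalizer (sup_centralizer_le_normalizer P hx)] at hQ
  obtain ⟨c, hc, hle⟩ := hQ.exists_conj (R := E)
    (hS.le.trans (inf_le_inf_right _ le_sup_right)) hS.pgroup
  rwa [cjS_eq_of_mem_normalizer (sup_centralizer_le_normalizer P hc.1)] at hle

theorem defect_iff_not_dvd (hM : IsPModular p M) (hP : IsPGroup p P)
    (hz : IsBlk (Subgroup.centralizer (P : Set G)) z)
    (hzH : IsBlk (P ⊔ Subgroup.centralizer (P : Set G)) z)
    (hPD : IsDefGrp p (P ⊔ Subgroup.centralizer (P : Set G)) z P)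
    {B : MonoidAlgebra (resField M) G} (hB : IsPairOf p ⊤ B (P, z)) :
    IsDefGrp p ⊤ B P ↔
      ¬ p ∣ (P ⊔ Subgroup.centralizer (P : Set G)).relIndex (stabP (P, z)) := by
  haveI : CharP (resField M) p := resField_charP hM
  set C := Subgroup.centralizer (P : Set G) with hC
  set T := stabP (P, z) with hT
  have hzT : IsBlk T z := isBlk_stabP (b := (P, z)) hP hz
  have hPT : P ≤ T := self_le_stabP (b := (P, z)) hz
  have hCT : C ≤ T := centralizer_le_stabP (b := (P, z)) hz
  have hHT : P ⊔ C ≤ T := sup_le hPT hCT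
  have hTN : T ≤ Subgroup.normalizer (P : Set G) := stabP_le_normalizer _
  obtain ⟨D, hD, hs, hE⟩ := exists_defect_stab (b := (P, z)) hB.pair
  replace hE : D ⊓ C ≤ P := inf_centralizer_le hM hP hz hzH hPD hE
  have hzP : brTrunc P z = z := brTrunc_eq_self hz.inZ.supp
  have hPD' : P ≤ D := by
    obtain ⟨x, hx, hle⟩ := hD.exists_conj_ge hzT hP hPT (by rw [hzP]; exact hzT.ne_zero)
    have := cjS_mono x⁻¹ hle
    rwa [cjS_eq_of_mem_normalizer (hTN (inv_mem hx)), cjS_inv_cjS] at this
  have key : IsDefGrp p ⊤ B P ↔ D ≤ P := by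
    constructor
    · intro h
      obtain ⟨g, hg⟩ := exists_nsub_of_brTrunc hB.pair hD.pgroup hD.le hD.brTrunc_ne_zero
      have h1 : P ⊔ D = P := hB.noExt h _ hg
      exact h1 ▸ le_sup_right
    · intro hle
      refine NoExt.isDefGrp (fun c hc => ?_) hB
      have hcT : c.1 ≤ T := fun u hu => ⟨hc.normal hu, (isInvElt_iff_cj.1 hc.inv) u hu⟩
      obtain ⟨x, hx, hcx⟩ := hD.exists_conj_ge hzT hc.right.pgroup hcT fun h0 => by
        have := hc.occ
        simp only [h0, zero_mul] at this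
        exact hc.right.blk.ne_zero this.symm
      refine le_antisymm ?_ hc.le
      refine hcx.trans ((cjS_mono x hle).trans ?_)
      rw [cjS_eq_of_mem_normalizer (hTN hx)]
  rw [key]
  have hn : C ⊓ T = C := inf_eq_left.2 hCT
  have hcT := card_eq_mul_aut (Q := P) (K := T) hTN
  rw [inf_comm, ← hC, hn] at hcT
  have hcP := card_eq_mul_aut (Q := P) (K := P) Subgroup.le_normalizer
  rw [← hC] at hcP
  have hcH : Nat.card (P ⊔ C : Subgroup G) * Nat.card (P ⊓ C : Subgroup G) =
      Nat.card P * Nat.card C := by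
    have h1 := relIndex_sup_eq (K := P) (C := C)
      (Subgroup.le_normalizer.trans (normalizer_le_normalizer_centralizer P))
    have h2 := Subgroup.relIndex_mul_relIndex ⊥ C (P ⊔ C) bot_le le_sup_right
    have h3 := Subgroup.relIndex_mul_relIndex ⊥ (P ⊓ C) P bot_le inf_le_left
    rw [Subgroup.inf_relIndex_left] at h3
    simp only [Subgroup.relIndex_bot_left] at h2 h3
    rw [← h2, ← h3, h1]
    ring
  constructor
  · intro hle
    obtain rfl : D = P := le_antisymm hle hPD'
    obtain ⟨hAle, -, hndvd⟩ := hs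
    have h4 : (autInducedBy D D).relIndex (autInducedBy T D) * Nat.card (autInducedBy D D) =
        Nat.card (autInducedBy T D) := by
      have := Subgroup.relIndex_mul_relIndex ⊥ _ _ bot_le hAle
      simp only [Subgroup.relIndex_bot_left] at this
      rw [mul_comm]; exact this
    have h5 := Subgroup.relIndex_mul_relIndex ⊥ _ _ bot_le hHT
    simp only [Subgroup.relIndex_bot_left] at h5
    intro hdvd
    apply hndvd
    have : (D ⊔ C).relIndex T = (autInducedBy D D).relIndex (autInducedBy T D) := by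
      refine Nat.eq_of_mul_eq_mul_left (Nat.mul_pos (Nat.card_pos (α := (D ⊔ C : Subgroup G)))
        (Nat.card_pos (α := (D ⊓ C : Subgroup G)))) ?_
      calc Nat.card (D ⊔ C : Subgroup G) * Nat.card (D ⊓ C : Subgroup G) * (D ⊔ C).relIndex T
          = Nat.card T * Nat.card (D ⊓ C : Subgroup G) := by rw [← h5]; ring
        _ = _ := by rw [hcH, hcT, ← h4, hcP]; ring
    rwa [← this]
  · intro hndvd d hd
    have hdH : d ∈ P ⊔ C := by
      haveI : ((P ⊔ C).subgroupOf T).Normal :=
        (Subgroup.normal_subgroupOf_iff_le_normalizer hHT).2 fun u hu => by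
          refine mem_normalizer_of_cjS_eq ?_
          show (P ⊔ C).map _ = _
          rw [Subgroup.map_sup]
          show cjS u P ⊔ cjS u C = _
          rw [hC, cjS_centralizer, cjS_eq_of_mem_normalizer (hTN hu)]
      obtain ⟨k, hk⟩ := IsPGroup.iff_orderOf.1 hD.pgroup ⟨d, hd⟩
      rw [← Subgroup.orderOf_coe] at hk
      have hdT : d ∈ T := hD.le hd
      set π := QuotientGroup.mk' ((P ⊔ C).subgroupOf T)
      have h1 : orderOf (π ⟨d, hdT⟩) ∣ p ^ k := by
        refine (orderOf_map_dvd π _).trans ?_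
        rw [← Subgroup.orderOf_coe]
        exact hk.dvd
      have h2 : orderOf (π ⟨d, hdT⟩) ∣ (P ⊔ C).relIndex T := orderOf_dvd_natCard _
      have h3 := Nat.dvd_gcd h1 h2
      rw [Nat.Coprime.gcd_eq_one ((((Fact.out : p.Prime).coprime_iff_not_dvd).2 hndvd).pow_left k),
        Nat.dvd_one, orderOf_eq_one_iff] at h3
      exact Subgroup.mem_subgroupOf.1 ((QuotientGroup.eq_one_iff _).1 h3)
    obtain ⟨u, hu, c, hc, rfl⟩ := exists_mul_of_mem hdH
    exact mul_mem hu (hE ⟨by simpa using mul_mem (inv_mem (hPD' hu)) hd, hc⟩)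

end Criterion

end Cfsg.Agent.BrauerPairs
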