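/-
Bounds on the number of characters of a block from one subsection.
-/
import Cfsg.Agent.Lib.Blocks.SubsectionRow
import Mathlib.Data.Nat.Sqrt

set_option linter.unusedSectionVars false
set_option linter.style.haveILetI false

namespace Cfsg.Agent.Blocks

open Cfsg MonoidAlgebra Cfsg.Agent.Char
open scoped ComplexConjugate

universe u

variable {G : Type u} [Group G] [Fintype G] {p : ℕ} {M : Ideal AlgInt} [M.IsPrime]

theorem qn_unit (v : Unit → ℂ) : qn 1 v = Complex.normSq (v ()) := by simp [qn]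

theorem comb_unit {ι : Type*} [Fintype ι] (c m : ι → ℤ) (u : Unit) :
    comb (fun a (_ : Unit) => (c a : ℂ)) m u = ((∑ a, m a * c a : ℤ) : ℂ) := by
  simp [comb]

theorem one_le_qn_comb_unit {ι : Type*} [Fintype ι] (c m : ι → ℤ)
    (h : comb (fun a (_ : Unit) => (c a : ℂ)) m ≠ 0) :
    (1 : ℝ) ≤ qn 1 (comb (fun a (_ : Unit) => (c a : ℂ)) m) := by
  have hz : (∑ a, m a * c a) ≠ 0 := fun e => h (funext fun u => by rw [comb_unit, e]; simp)
  rw [qn_unit, comb_unit, Complex.normSq_intCast]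
  have h1 : (1 : ℤ) ≤ (∑ a, m a * c a) * ∑ a, m a * c a := by
    have h0 := mul_self_pos.2 hz
    omega
  exact_mod_cast h1

theorem memLocalIdeal_zero_div {a c : ℂ} (h : a = 0) : MemLocalIdeal M (a / c) := by
  rw [h, zero_div]; exact memLocalIdeal_zero

theorem sum_root_congr (hM : IsPModular p M) {ι : Type*} (s : Finset ι) {j : ℕ} {ζ : ℂ}
    (hζ : ζ ^ p ^ (j + 1) = 1) (f : ι → ℕ) (c : ι → ℤ) :
    MemLocalIdeal M ((∑ a ∈ s, ζ ^ f a * (c a : ℂ)) - ((∑ a ∈ s, c a : ℤ) : ℂ)) := by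
  rw [Int.cast_sum, ← Finset.sum_sub_distrib]
  refine memLocalIdeal_sum _ _ fun a _ => ?_
  rw [← sub_one_mul]
  exact MemLocalIdeal.mul_right
    (memLocalIdeal_sub_one_of_pow_eq_one hM (k := j + 1)
      (by rw [← pow_mul, mul_comm, pow_mul, hζ, one_pow]))
    (mem_locRing.1 (intCast_mem (locRing M) _))

theorem conj_root_pow {n : ℕ} (hn : n ≠ 0) {ζ : ℂ} (hζ : ζ ^ n = 1) (i : ℕ) :
    conj (ζ ^ i) = ζ ^ ((n - 1) * i) := by
  have hζ0 : ζ ≠ 0 := fun e => by rw [e, zero_pow hn] at hζ; exact zero_ne_one hζ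
  rw [pow_mul, map_pow]
  congr 1
  rw [← Complex.inv_eq_conj (Complex.norm_eq_one_of_pow_eq_one hζ hn)]
  refine inv_eq_of_mul_eq_one_right ?_
  rw [← pow_succ', Nat.sub_add_cancel (Nat.one_le_iff_ne_zero.2 hn), hζ]

section Subsection

variable {x : G} {C : Subgroup G} [Fintype C] {b : Set (IrrCharacter C)} [DecidablePred (· ∈ b)]
  {B : Set (IrrCharacter G)} [DecidablePred (· ∈ B)]

/-- The data attached to a subsection. -/
structure SubData (p : ℕ) (M : Ideal AlgInt) (x : G) (C : Subgroup G) [Fintype C]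
    (b : Set (IrrCharacter C)) (B : Set (IrrCharacter G)) where
  hM : IsPModular p M
  hx : ∃ k, orderOf x = p ^ k
  hC : C = Subgroup.centralizer ({x} : Set G)
  hind : IsInducedBlock M C b B
  j : ℕ
  ζ : ℂ
  hζ : IsPrimitiveRoot ζ (p ^ (j + 1))
  e : IrrCharacter C → ℕ
  he : ∀ (θ : IrrCharacter C) (t : ℕ) (u w : C), (w : G) = x ^ t →
    (θ : C → ℂ) (w * u) = ζ ^ (t * e θ) * (θ : C → ℂ) u
  n : IrrCharacter G → IrrCharacter C → ℕ
  hn : ∀ (χ : IrrCharacter G) (u : C), (χ : G → ℂ) u = ∑ θ, (n χ θ : ℂ) * (θ : C → ℂ) u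
  r : IrrCharacter C → IrrCharacter C → ℤ
  hr : ∀ θ ∈ b, ∀ η ∈ b, regPair p (blockScale p b) (θ : C → ℂ) (η : C → ℂ) = (r θ η : ℂ)
  hsymm : ∀ θ η, r θ η = r η θ
  hrank : ∀ θ ∈ b, ∀ η ∈ b, ∀ ψ ∈ b, (p : ℤ) ∣ r θ η * r ψ ψ - r θ ψ * r ψ η
  ψ : IrrCharacter C
  hψ : ψ ∈ b
  hψ0 : blockHeight p b (ψ : C → ℂ) = 0
  hψψ : ¬ (p : ℤ) ∣ r ψ ψ

theorem nonempty_subData (hM : IsPModular p M) (hx : ∃ k, orderOf x = p ^ k)
    (hC : C = Subgroup.centralizer ({x} : Set G)) (hind : IsInducedBlock M C b B) :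
    Nonempty (SubData p M x C b B) := by
  obtain ⟨j, hj⟩ := exists_pow_eq_one hx
  have hζ := Complex.isPrimitiveRoot_exp (p ^ (j + 1)) (pow_ne_zero _ hM.1.ne_zero)
  obtain ⟨e, he⟩ := exists_exponents hM.1.ne_zero hC hj hζ
  choose n hn using exists_mults (G := G) C
  obtain ⟨r, hr, hsymm, hrank, hunit⟩ := exists_rMat hM hind.1
  obtain ⟨ψ, hψ, hψ0⟩ := exists_heightZero hM hind.1
  exact ⟨{ hM := hM, hx := hx, hC := hC, hind := hind, j := j, ζ := _, hζ := hζ, e := e,
           he := he, n := n, hn := fun χ => (hn χ).1, r := r, hr := hr, hsymm := hsymm,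
           hrank := hrank, ψ := ψ, hψ := hψ, hψ0 := hψ0,
           hψψ := (hunit ψ hψ ψ hψ hψ0).2 hψ0 }⟩

section General

variable (D : SubData p M x C b B)

namespace SubData

/-- The integral form on the block of the centraliser. -/
noncomputable def form (c c' : {θ // θ ∈ b} → ℤ) : ℤ :=
  ∑ a, ∑ a', c a * c' a' * D.r a a'

/-- A combination over the block of the centraliser. -/
noncomputable def fn (_ : SubData p M x C b B) (c : {θ // θ ∈ b} → ℂ) : C → ℂ :=
  fun u => ∑ a : {θ // θ ∈ b}, c a * ((a : IrrCharacter C) : C → ℂ) u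

theorem blockPart_fn (c : {θ // θ ∈ b} → ℂ) : blockPart b (D.fn c) = D.fn c := by
  have e : D.fn c = bcomb b (fun θ => if h : θ ∈ b then c ⟨θ, h⟩ else 0) := by
    funext u
    rw [bcomb, fn, Finset.sum_subtype (p := fun θ => θ ∈ b) (Finset.univ.filter (· ∈ b))
      (fun θ => by simp)]
    exact Finset.sum_congr rfl fun a _ => by rw [dif_pos a.2]
  rw [e, blockPart_bcomb]

theorem isClassFunction_fn (c : {θ // θ ∈ b} → ℂ) : IsClassFunction C (D.fn c) := fun g h =>
  Finset.sum_congr rfl fun a _ => by rw [irr_conj_invariant]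

theorem fn_conj_memLocalRing {c : {θ // θ ∈ b} → ℂ} (hc : ∀ a, MemLocalRing M (conj (c a)))
    (u : C) : MemLocalRing M (conj (D.fn c u)) := by
  rw [fn, map_sum]
  refine memLocalRing_sum _ _ fun a _ => ?_
  rw [map_mul]
  exact (locRing M).mul_mem (mem_locRing.2 (hc a)) (mem_locRing.2 (conj_irr_memLocalRing _ _))

theorem regPair_fn (c c' : {θ // θ ∈ b} → ℂ) :
    regPair p (blockScale p b) (D.fn c) (D.fn c') =
      ∑ a, ∑ a', c a * conj (c' a') * (D.r a a' : ℂ) := by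
  unfold fn
  rw [regPair_sum_left]
  refine Finset.sum_congr rfl fun a _ => ?_
  rw [regPair_sum_right, Finset.mul_sum]
  exact Finset.sum_congr rfl fun a' _ => by rw [D.hr _ a.2 _ a'.2]; ring

theorem regPair_fn_int (c c' : {θ // θ ∈ b} → ℤ) :
    regPair p (blockScale p b) (D.fn fun a => (c a : ℂ)) (D.fn fun a => (c' a : ℂ)) =
      (D.form c c' : ℂ) := by
  simp only [D.regPair_fn, form, Int.cast_sum, Int.cast_mul, map_intCast]

theorem zeta_pow_eq_one : D.ζ ^ p ^ (D.j + 1) = 1 := D.hζ.pow_eq_one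

theorem zeta_memLocalRing (i : ℕ) : MemLocalRing M (D.ζ ^ i) :=
  mem_locRing_of_isIntegral ((IsIntegral.of_pow (pow_pos D.hM.1.pos _)
    (by rw [D.zeta_pow_eq_one]; exact isIntegral_one)).pow i)

/-- The coefficients of the part of `c ↦ χ (x ^ t c)` in the block. -/
noncomputable def coef (χ : IrrCharacter G) (t : ℕ) (a : {θ // θ ∈ b}) : ℂ :=
  D.ζ ^ (t * D.e a) * (D.n χ a : ℂ)

theorem coef_conj_memLocalRing (χ : IrrCharacter G) (t : ℕ) (a : {θ // θ ∈ b}) :
    MemLocalRing M (conj (D.coef χ t a)) := by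
  rw [coef, map_mul, map_natCast,
    conj_root_pow (pow_ne_zero _ D.hM.1.ne_zero) D.zeta_pow_eq_one]
  exact (locRing M).mul_mem (mem_locRing.2 (D.zeta_memLocalRing _)) (natCast_mem (locRing M) _)

theorem blockPart_secFun (χ : IrrCharacter G) (t : ℕ) :
    blockPart b (secFun (x ^ t) C (χ : G → ℂ)) = D.fn (D.coef χ t) := by
  rw [blockPart_secFun_pow D.hC χ (D.hn χ) D.he t]
  funext u
  rw [bcomb, fn, Finset.sum_subtype (p := fun θ => θ ∈ b) (Finset.univ.filter (· ∈ b))
    (fun θ => by simp)]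
  rfl

theorem regPair_secFun (χ : IrrCharacter G) (t : ℕ) (c : {θ // θ ∈ b} → ℂ) :
    regPair p (blockScale p b) (secFun (x ^ t) C (χ : G → ℂ)) (D.fn c) =
      regPair p (blockScale p b) (D.fn (D.coef χ t)) (D.fn c) := by
  rw [regPair_blockPart D.hM D.hind.1 _ _ (D.blockPart_fn c), D.blockPart_secFun]

theorem centralizer_eq {t : ℕ} (ht : t ∈ primExps p (p ^ (D.j + 1))) :
    C = Subgroup.centralizer ({x ^ t} : Set G) ∧ ∃ k, orderOf (x ^ t) = p ^ k := by
  refine ⟨by rw [centralizer_pow_eq D.hM.1 D.hx (Finset.mem_filter.1 ht).2]; exact D.hC, ?_⟩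
  obtain ⟨k, hk⟩ := D.hx
  obtain ⟨i, -, hi⟩ := (Nat.dvd_prime_pow D.hM.1).1 (hk ▸ orderOf_pow_dvd (x := x) t)
  exact ⟨i, hi⟩

theorem bessel {t : ℕ} (ht : t ∈ primExps p (p ^ (D.j + 1))) (c : {θ // θ ∈ b} → ℂ) :
    ∑ χ ∈ Finset.univ.filter (· ∈ B),
        (Complex.normSq (regPair p (blockScale p b) (D.fn (D.coef χ t)) (D.fn c)) : ℂ) =
      ((p ^ blockDefect p b : ℕ) : ℂ) * regPair p (blockScale p b) (D.fn c) (D.fn c) := by
  rw [← sum_normSq_regPair D.hM (D.centralizer_eq ht).2 (D.centralizer_eq ht).1 D.hind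
    (D.blockPart_fn c)]
  exact Finset.sum_congr rfl fun χ _ => by rw [D.regPair_secFun]

/-- The family whose twisted sums are the block parts. -/
noncomputable def wRow (χ : IrrCharacter G) (a : {θ // θ ∈ b}) : C → ℂ :=
  fun u => (D.n χ a : ℂ) * pRegularPart p ((a : IrrCharacter C) : C → ℂ) u

/-- The diagonal of the contribution matrix. -/
noncomputable def diag (χ : IrrCharacter G) (t : ℕ) : ℝ :=
  qn (blockScale p b) (twist D.ζ (fun a : {θ // θ ∈ b} => D.e a) (D.wRow χ) t)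

theorem diag_nonneg (χ : IrrCharacter G) (t : ℕ) : 0 ≤ D.diag χ t :=
  qn_nonneg (blockScale_nonneg b) _

theorem diag_eq (χ : IrrCharacter G) (t : ℕ) :
    (D.diag χ t : ℂ) = regPair p (blockScale p b) (D.fn (D.coef χ t)) (D.fn (D.coef χ t)) := by
  rw [diag, ← qn_eq_regPair]
  congr 2
  funext u
  simp only [twist, wRow, fn, coef, pRegularPart_apply]
  split_ifs
  · simp
  · exact Finset.sum_congr rfl fun a _ => by ring

theorem qn_comb_wRow (χ : IrrCharacter G) (m : {θ // θ ∈ b} → ℤ) :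
    qn (blockScale p b) (comb (D.wRow χ) m) =
      (D.form (fun a => m a * D.n χ a) (fun a => m a * D.n χ a) : ℝ) := by
  apply Complex.ofReal_injective
  rw [Complex.ofReal_intCast, ← D.regPair_fn_int, ← qn_eq_regPair]
  congr 2
  funext u
  simp only [comb, wRow, fn, pRegularPart_apply]
  split_ifs
  · simp
  · exact Finset.sum_congr rfl fun a _ => by push_cast; ring

theorem sum_diag {t : ℕ} (ht : t ∈ primExps p (p ^ (D.j + 1))) :
    ∑ χ ∈ Finset.univ.filter (· ∈ B), D.diag χ t =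
      ((p ^ blockDefect p b : ℕ) : ℝ) * (blockRank p b : ℝ) := by
  have h := sum_regPair_self D.hM (D.centralizer_eq ht).2 (D.centralizer_eq ht).1 D.hind
  simp only [D.blockPart_secFun, ← D.diag_eq] at h
  apply Complex.ofReal_injective
  push_cast at h ⊢
  exact h

/-- The multiplicity vector. -/
def nv (χ : IrrCharacter G) (a : {θ // θ ∈ b}) : ℤ := D.n χ a

theorem dvd_row_iff {χ : IrrCharacter G} (hχ : χ ∈ B) :
    (p : ℤ) ∣ ∑ a, D.nv χ a * D.r a D.ψ ↔ blockHeight p B (χ : G → ℂ) ≠ 0 := by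
  rw [← dvd_mult_sum_iff D.hM D.hind hχ (D.hn χ) D.hr D.hψ D.hψ0,
    Finset.sum_subtype (p := fun θ => θ ∈ b) (Finset.univ.filter (· ∈ b)) (fun θ => by simp)
      (fun θ => (D.n χ θ : ℤ) * D.r θ D.ψ)]
  rfl

theorem dvd_form_congr (c c' : {θ // θ ∈ b} → ℤ) :
    (p : ℤ) ∣ D.form c c' * D.r D.ψ D.ψ -
      (∑ a, c a * D.r a D.ψ) * ∑ a, c' a * D.r D.ψ a :=
  sum_rMat_congr Finset.univ (fun a a' : {θ // θ ∈ b} => D.r a a') (ψ := ⟨D.ψ, D.hψ⟩)
    (fun a _ a' _ => D.hrank _ a.2 _ a'.2 _ D.hψ) c c'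

theorem dvd_form_iff {χ χ' : IrrCharacter G} (hχ : χ ∈ B) (hχ' : χ' ∈ B) :
    (p : ℤ) ∣ D.form (D.nv χ) (D.nv χ') ↔
      blockHeight p B (χ : G → ℂ) ≠ 0 ∨ blockHeight p B (χ' : G → ℂ) ≠ 0 := by
  have hp := Nat.prime_iff_prime_int.1 D.hM.1
  rw [← D.dvd_row_iff hχ, ← D.dvd_row_iff hχ']
  have h := D.dvd_form_congr (D.nv χ) (D.nv χ')
  simp only [fun a : {θ // θ ∈ b} => D.hsymm D.ψ a] at h
  rw [← hp.dvd_mul]
  constructor
  · intro h1
    have := dvd_sub (h1.mul_right (D.r D.ψ D.ψ)) h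
    rwa [sub_sub_cancel] at this
  · intro h1
    have := dvd_add h h1
    rw [sub_add_cancel] at this
    exact (hp.dvd_or_dvd this).resolve_right D.hψψ

/-- The contribution of two characters. -/
noncomputable def K (χ χ' : IrrCharacter G) (t : ℕ) : ℂ :=
  regPair p (blockScale p b) (D.fn (D.coef χ t)) (D.fn (D.coef χ' t))

/-- The exponents of a contribution. -/
def expPair (a : {θ // θ ∈ b} × {θ // θ ∈ b}) : ℕ :=
  D.e a.1 + (p ^ (D.j + 1) - 1) * D.e a.2

/-- The coefficients of a contribution. -/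
def coefPair (χ χ' : IrrCharacter G) (a : {θ // θ ∈ b} × {θ // θ ∈ b}) : ℤ :=
  D.nv χ a.1 * D.nv χ' a.2 * D.r a.1 a.2

theorem twist_pair (χ χ' : IrrCharacter G) (t : ℕ) :
    twist D.ζ D.expPair (fun a (_ : Unit) => (D.coefPair χ χ' a : ℂ)) t () = D.K χ χ' t := by
  rw [K, D.regPair_fn, twist, Fintype.sum_prod_type]
  refine Finset.sum_congr rfl fun a _ => Finset.sum_congr rfl fun a' _ => ?_
  simp only [coef, coefPair, nv, expPair, map_mul, map_natCast,
    conj_root_pow (pow_ne_zero _ D.hM.1.ne_zero) D.zeta_pow_eq_one, Int.cast_mul,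
    Int.cast_natCast, mul_add, pow_add, mul_left_comm t]
  ring

theorem K_congr (χ χ' : IrrCharacter G) (t : ℕ) :
    MemLocalIdeal M (D.K χ χ' t - (D.form (D.nv χ) (D.nv χ') : ℂ)) := by
  rw [← D.twist_pair, show D.form (D.nv χ) (D.nv χ') = ∑ a, D.coefPair χ χ' a by
    rw [Fintype.sum_prod_type]; rfl]
  exact sum_root_congr D.hM _ D.zeta_pow_eq_one _ _

theorem K_mem_iff {χ χ' : IrrCharacter G} (hχ : χ ∈ B) (hχ' : χ' ∈ B) (t : ℕ) :
    MemLocalIdeal M (D.K χ χ' t) ↔
      blockHeight p B (χ : G → ℂ) ≠ 0 ∨ blockHeight p B (χ' : G → ℂ) ≠ 0 := by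
  rw [← D.dvd_form_iff hχ hχ', ← intCast_memLocalIdeal_iff D.hM]
  refine ⟨fun h => ?_, fun h => ?_⟩
  · have := MemLocalIdeal.sub h (D.K_congr χ χ' t)
    simpa using this
  · have := MemLocalIdeal.add (D.K_congr χ χ' t) h
    simpa using this

theorem card_primExps_real :
    ((primExps p (p ^ (D.j + 1))).card : ℝ) = ((p ^ D.j * (p - 1) : ℕ) : ℝ) := by
  rw [card_primExps D.hM.1.ne_zero]

theorem le_sum_normSq_K {χ χ' : IrrCharacter G} (h : D.K χ χ' 1 ≠ 0) :
    ((p ^ D.j * (p - 1) : ℕ) : ℝ) ≤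
      ∑ t ∈ primExps p (p ^ (D.j + 1)), Complex.normSq (D.K χ χ' t) := by
  have h1 := le_sum_primExps D.hM.1.one_lt D.hζ D.expPair (lam := 1) (μ := 1) zero_le_one
    zero_le_one (fun a (_ : Unit) => (D.coefPair χ χ' a : ℂ))
    (fun m hm => one_le_qn_comb_unit _ m hm)
    (fun e => h (by rw [← D.twist_pair, e]; rfl))
  simpa only [qn_unit, D.twist_pair, mul_one] using h1

theorem bessel_K {t : ℕ} (ht : t ∈ primExps p (p ^ (D.j + 1))) (χ' : IrrCharacter G) :
    ∑ χ ∈ Finset.univ.filter (· ∈ B), Complex.normSq (D.K χ χ' t) =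
      ((p ^ blockDefect p b : ℕ) : ℝ) * D.diag χ' t := by
  apply Complex.ofReal_injective
  rw [Complex.ofReal_sum, Complex.ofReal_mul, Complex.ofReal_natCast, D.diag_eq]
  exact D.bessel ht (D.coef χ' t)

/-- The first coordinate of a major subsection detects every character. -/
theorem regPair_major' (hd : blockDefect p b = blockDefect p B) {χ χ₀ : IrrCharacter G}
    (hχ : χ ∈ B) (hχ₀ : χ₀ ∈ B) (h0 : blockHeight p B (χ₀ : G → ℂ) = 0)
    (c : {θ // θ ∈ b} → ℂ) (hc : ∀ a, MemLocalRing M (conj (c a))) :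
    MemLocalRing M (regPair p (blockScale p b) (D.fn (D.coef χ 1)) (D.fn c) /
        (p : ℂ) ^ blockHeight p B (χ : G → ℂ)) ∧
      (MemLocalIdeal M (regPair p (blockScale p b) (D.fn (D.coef χ 1)) (D.fn c) /
          (p : ℂ) ^ blockHeight p B (χ : G → ℂ)) ↔
        MemLocalIdeal M (regPair p (blockScale p b) (D.fn (D.coef χ₀ 1)) (D.fn c))) := by
  rw [← D.regPair_secFun, ← D.regPair_secFun, pow_one]
  exact regPair_major D.hM D.hx D.hC D.hind hd hχ hχ₀ h0 (D.isClassFunction_fn c)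
    (D.fn_conj_memLocalRing hc)

include D in
/-- A major subsection with at most two irreducible Brauer characters. -/
theorem card_le_of_rank_le_two (hd : blockDefect p b = blockDefect p B)
    (hl : blockRank p b ≤ 2) : Nat.card B ≤ p ^ blockDefect p B := by
  classical
  obtain ⟨χ₀, hχ₀, h0⟩ := exists_heightZero D.hM D.hind.2.1
  set T := primExps p (p ^ (D.j + 1)) with hT
  set s := Finset.univ.filter (· ∈ B) with hs
  have hk : Nat.card B = s.card := by rw [Nat.card_eq_fintype_card, Fintype.card_subtype]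
  set φ : ℝ := ((p ^ D.j * (p - 1) : ℕ) : ℝ) with hφ
  have hφ0 : 0 < φ := by
    rw [hφ]
    have := D.hM.1.two_le
    exact Nat.cast_pos.2 (Nat.mul_pos (pow_pos D.hM.1.pos _) (by omega))
  set N : ℝ := ((p ^ blockDefect p b : ℕ) : ℝ) with hN
  suffices hgoal : φ * (s.card : ℝ) ≤ φ * N by
    rw [hk, ← hd, ← Nat.cast_le (α := ℝ)]
    exact le_of_mul_le_mul_left hgoal hφ0
  have hp := Nat.prime_iff_prime_int.1 D.hM.1
  by_cases hB : ∃ m : {θ // θ ∈ b} → ℤ, D.form m m = 1
  · obtain ⟨m, hm⟩ := hB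
    set v : {θ // θ ∈ b} → ℂ := fun a => (m a : ℂ) with hv
    let L : IrrCharacter G → ℕ → ℂ := fun χ t =>
      regPair p (blockScale p b) (D.fn (D.coef χ t)) (D.fn v)
    let c : IrrCharacter G → {θ // θ ∈ b} → ℤ := fun χ a =>
      D.nv χ a * ∑ a', m a' * D.r a a'
    have hLtw : ∀ χ t,
        twist D.ζ (fun a : {θ // θ ∈ b} => D.e a) (fun a (_ : Unit) => (c χ a : ℂ)) t () =
          L χ t := by
      intro χ t
      simp only [L, D.regPair_fn, twist, c, coef, nv, hv, map_intCast, Int.cast_mul, Int.cast_sum,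
        Int.cast_natCast, Finset.mul_sum]
      exact Finset.sum_congr rfl fun a _ => Finset.sum_congr rfl fun a' _ => by ring
    have hL0 : ¬ MemLocalIdeal M (L χ₀ 1) := by
      intro hmem
      have h1 : (p : ℤ) ∣ D.form (D.nv χ₀) m := by
        rw [← intCast_memLocalIdeal_iff D.hM]
        have e : ∑ a : {θ // θ ∈ b}, D.ζ ^ (1 * D.e a) * (c χ₀ a : ℂ) = L χ₀ 1 := hLtw χ₀ 1
        rw [← e] at hmem
        have := MemLocalIdeal.sub hmem (sum_root_congr D.hM Finset.univ D.zeta_pow_eq_one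
            (fun a : {θ // θ ∈ b} => 1 * D.e a) (c χ₀))
        rw [sub_sub_cancel, show ∑ a, c χ₀ a = D.form (D.nv χ₀) m by
          simp only [c, form, Finset.mul_sum, mul_assoc]] at this
        exact this
      have h2 := D.dvd_form_congr (D.nv χ₀) m
      have h3 := dvd_sub (h1.mul_right (D.r D.ψ D.ψ)) h2
      rw [sub_sub_cancel] at h3
      rcases hp.dvd_or_dvd h3 with h4 | h4
      · exact (D.dvd_row_iff hχ₀).1 h4 h0
      · have h5 := D.dvd_form_congr m m
        rw [hm, one_mul] at h5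
        have h6 := dvd_add h5 (h4.mul_left (∑ a, m a * D.r a D.ψ))
        rw [sub_add_cancel] at h6
        exact D.hψψ h6
    have hcR : ∀ a, MemLocalRing M (conj (v a)) := fun a => by
      simp only [hv, map_intCast]; exact intCast_mem (locRing M) _
    have hlow : ∀ χ ∈ s, φ ≤ ∑ t ∈ T, Complex.normSq (L χ t) := by
      intro χ hχ
      have hne : L χ 1 ≠ 0 := fun e => hL0 ((D.regPair_major' hd (Finset.mem_filter.1 hχ).2 hχ₀ h0
        v hcR).2.1 (memLocalIdeal_zero_div e))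
      have h1 := le_sum_primExps D.hM.1.one_lt D.hζ (fun a : {θ // θ ∈ b} => D.e a) (lam := 1)
        (μ := 1) zero_le_one zero_le_one (fun a (_ : Unit) => (c χ a : ℂ))
        (fun m hm => one_le_qn_comb_unit _ m hm) (fun e => hne (by rw [← hLtw, e]; rfl))
      simpa only [qn_unit, hLtw, mul_one] using h1
    have hsum : ∀ t ∈ T, ∑ χ ∈ s, Complex.normSq (L χ t) = N := by
      intro t ht
      apply Complex.ofReal_injective
      have h1 := D.bessel ht v
      rw [show regPair p (blockScale p b) (D.fn v) (D.fn v) = ((D.form m m : ℤ) : ℂ) from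
        D.regPair_fn_int m m, hm, Int.cast_one, mul_one] at h1
      rw [Complex.ofReal_sum]
      exact h1.trans (Complex.ofReal_natCast _).symm
    calc φ * (s.card : ℝ) = ∑ _χ ∈ s, φ := by rw [Finset.sum_const, nsmul_eq_mul]; ring
      _ ≤ ∑ χ ∈ s, ∑ t ∈ T, Complex.normSq (L χ t) := Finset.sum_le_sum hlow
      _ = ∑ t ∈ T, N := by rw [Finset.sum_comm]; exact Finset.sum_congr rfl hsum
      _ = φ * N := by rw [Finset.sum_const, nsmul_eq_mul, D.card_primExps_real]
  · push Not at hB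
    have hlam : 0 < blockScale p b :=
      div_pos (pow_pos (Nat.cast_pos.2 D.hM.1.pos) _) (Nat.cast_pos.2 Nat.card_pos)
    have hlow : ∀ χ ∈ s, φ * 2 ≤ ∑ t ∈ T, D.diag χ t := by
      intro χ hχ
      refine le_sum_primExps D.hM.1.one_lt D.hζ (fun a : {θ // θ ∈ b} => D.e a)
        (blockScale_nonneg b) two_pos.le (D.wRow χ) (fun m hm => ?_) ?_
      · rw [D.qn_comb_wRow]
        set v := D.form (fun a => m a * D.n χ a) (fun a => m a * D.n χ a) with hv
        have hv0 : (0 : ℤ) ≤ v := by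
          have := qn_nonneg (blockScale_nonneg (p := p) b) (comb (D.wRow χ) m)
          rw [D.qn_comb_wRow] at this
          exact_mod_cast this
        have hv1 : v ≠ 1 := hB _
        have hv2 : v ≠ 0 := by
          intro e
          refine hm (funext fun u => ?_)
          have h' : qn (blockScale p b) (comb (D.wRow χ) m) = 0 := by
            rw [D.qn_comb_wRow, ← hv, e, Int.cast_zero]
          rw [qn, mul_eq_zero, or_iff_right hlam.ne',
            Finset.sum_eq_zero_iff_of_nonneg fun _ _ => Complex.normSq_nonneg _] at h'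
          exact Complex.normSq_eq_zero.1 (h' u (Finset.mem_univ _))
        exact_mod_cast (show (2 : ℤ) ≤ v by omega)
      · intro e
        have hz : D.diag χ 1 = 0 := by rw [diag, e]; simp [qn]
        have hzero : ∀ u : C, pRegularPart p (D.fn (D.coef χ 1)) u = 0 := by
          intro u
          have h' : qn (blockScale p b) (pRegularPart p (D.fn (D.coef χ 1))) = 0 :=
            Complex.ofReal_injective (by rw [qn_eq_regPair, ← D.diag_eq, hz])
          rw [qn, mul_eq_zero, or_iff_right hlam.ne',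
            Finset.sum_eq_zero_iff_of_nonneg fun _ _ => Complex.normSq_nonneg _] at h'
          exact Complex.normSq_eq_zero.1 (h' u (Finset.mem_univ _))
        -- against a height zero member of the block of the centraliser
        let c : {θ // θ ∈ b} → ℂ := fun a => if (a : IrrCharacter C) = D.ψ then 1 else 0
        have hcR : ∀ a, MemLocalRing M (conj (c a)) := fun a => by
          simp only [c]
          split_ifs
          · rw [map_one]; exact (locRing M).one_mem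
          · rw [map_zero]; exact (locRing M).zero_mem
        have hL : regPair p (blockScale p b) (D.fn (D.coef χ 1)) (D.fn c) = 0 := by
          rw [regPair]; simp [hzero]
        have h1 := (D.regPair_major' hd (Finset.mem_filter.1 hχ).2 hχ₀ h0 c hcR).2.1
          (by rw [hL, zero_div]; exact memLocalIdeal_zero)
        refine (D.dvd_row_iff hχ₀).1 ?_ h0
        rw [← intCast_memLocalIdeal_iff D.hM]
        have h2 : regPair p (blockScale p b) (D.fn (D.coef χ₀ 1)) (D.fn c) =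
            ∑ a : {θ // θ ∈ b}, D.ζ ^ (1 * D.e a) * ((D.nv χ₀ a * D.r a D.ψ : ℤ) : ℂ) := by
          rw [D.regPair_fn]
          refine Finset.sum_congr rfl fun a _ => ?_
          rw [Finset.sum_eq_single ⟨D.ψ, D.hψ⟩]
          · simp [c, coef, nv]; ring
          · intro a' _ ha'
            simp [c, show (a' : IrrCharacter C) ≠ D.ψ from fun h => ha' (Subtype.ext h)]
          · exact fun h => absurd (Finset.mem_univ _) h
        have h3 := MemLocalIdeal.sub h1 (h2 ▸ (sum_root_congr D.hM Finset.univ D.zeta_pow_eq_one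
          (fun a : {θ // θ ∈ b} => 1 * D.e a) fun a => D.nv χ₀ a * D.r a D.ψ))
        rwa [sub_sub_cancel] at h3
    have h1 : (s.card : ℝ) * (φ * 2) ≤ φ * (N * (blockRank p b : ℝ)) := by
      calc (s.card : ℝ) * (φ * 2) = ∑ _χ ∈ s, φ * 2 := by rw [Finset.sum_const, nsmul_eq_mul]
        _ ≤ ∑ χ ∈ s, ∑ t ∈ T, D.diag χ t := Finset.sum_le_sum hlow
        _ = _ := by
          rw [Finset.sum_comm, Finset.sum_congr rfl fun t ht => D.sum_diag ht, Finset.sum_const,
            nsmul_eq_mul, D.card_primExps_real]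
    have hl' : (blockRank p b : ℝ) ≤ 2 := by exact_mod_cast hl
    have := mul_le_mul_of_nonneg_left hl' (mul_nonneg hφ0.le (Nat.cast_nonneg (α := ℝ) _ : 0 ≤ N))
    nlinarith

end SubData

end General

section Two

variable (D : SubData 2 M x C b B)

namespace SubData

theorem card_primExps_two : (2 ^ D.j * (2 - 1) : ℕ) = 2 ^ D.j := Nat.mul_one _

theorem exists_avg (χ : IrrCharacter G) :
    ∃ A : ℕ, ∑ t ∈ primExps 2 (2 ^ (D.j + 1)), D.diag χ t = (2 ^ D.j : ℕ) * (A : ℝ) ∧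
      ((A : ℤ) : ZMod 2) = (D.form (D.nv χ) (D.nv χ) : ℤ) := by
  obtain ⟨A, hA, hA2⟩ := exists_avg_two D.hζ (fun a : {θ // θ ∈ b} => D.e a) (blockScale 2 b)
    (D.wRow χ) (fun a a' => D.nv χ a * D.nv χ a' * D.r a a')
    (fun a a' => by rw [D.hsymm]; ring) (fun m => by
      rw [D.qn_comb_wRow]
      simp only [form, nv]
      congr 1
      exact Finset.sum_congr rfl fun a _ => Finset.sum_congr rfl fun a' _ => by ring)
  have h0 : 0 ≤ A := by
    have h1 : 0 ≤ ((2 ^ D.j : ℕ) : ℝ) * (A : ℝ) := by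
      rw [← hA]; exact Finset.sum_nonneg fun t _ => D.diag_nonneg χ t
    exact_mod_cast nonneg_of_mul_nonneg_right h1 (Nat.cast_pos.2 (Nat.two_pow_pos _))
  lift A to ℕ using h0
  exact ⟨A, hA, hA2⟩

theorem odd_avg {χ : IrrCharacter G} (hχ : χ ∈ B) (h0 : blockHeight 2 B (χ : G → ℂ) = 0) {A : ℕ}
    (hA : ((A : ℤ) : ZMod 2) = (D.form (D.nv χ) (D.nv χ) : ℤ)) : Odd A := by
  have hn : ¬ ((2 : ℕ) : ℤ) ∣ D.form (D.nv χ) (D.nv χ) := fun h => by
    rcases (D.dvd_form_iff hχ hχ).1 h with h' | h' <;> exact h' h0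
  rw [← ZMod.intCast_zmod_eq_zero_iff_dvd] at hn
  by_contra hne
  refine hn ?_
  rw [← hA, Int.cast_natCast, ZMod.natCast_eq_zero_iff]
  exact even_iff_two_dvd.1 (Nat.not_odd_iff_even.1 hne)

/-- The number of height zero characters against one diagonal average. -/
theorem card_heightZero_le {χ : IrrCharacter G} (hχ : χ ∈ B)
    (h0 : blockHeight 2 B (χ : G → ℂ) = 0) {A : ℕ}
    (hA : ∑ t ∈ primExps 2 (2 ^ (D.j + 1)), D.diag χ t = (2 ^ D.j : ℕ) * (A : ℝ)) :
    (Finset.univ.filter fun φ : IrrCharacter G =>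
      φ ∈ B ∧ blockHeight 2 B (φ : G → ℂ) = 0).card ≤ 2 ^ blockDefect 2 b * A := by
  classical
  set s₀ := Finset.univ.filter fun φ : IrrCharacter G =>
    φ ∈ B ∧ blockHeight 2 B (φ : G → ℂ) = 0 with hs₀
  have h1 : (s₀.card : ℝ) * (2 ^ D.j : ℕ) ≤
      ((2 ^ blockDefect 2 b : ℕ) : ℝ) * ((2 ^ D.j : ℕ) * (A : ℝ)) := by
    rw [← hA, Finset.mul_sum]
    calc (s₀.card : ℝ) * (2 ^ D.j : ℕ) = ∑ _φ ∈ s₀, ((2 ^ D.j : ℕ) : ℝ) := by
          rw [Finset.sum_const, nsmul_eq_mul]
      _ ≤ ∑ φ ∈ s₀, ∑ t ∈ primExps 2 (2 ^ (D.j + 1)), Complex.normSq (D.K φ χ t) := by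
          refine Finset.sum_le_sum fun φ hφ => ?_
          obtain ⟨hφ, hφ0⟩ := (Finset.mem_filter.1 hφ).2
          have := D.le_sum_normSq_K (χ := φ) (χ' := χ) fun e => by
            rcases (D.K_mem_iff hφ hχ 1).1 (e ▸ memLocalIdeal_zero) with h' | h'
            · exact h' hφ0
            · exact h' h0
          rwa [D.card_primExps_two] at this
      _ ≤ ∑ φ ∈ Finset.univ.filter (· ∈ B), ∑ t ∈ primExps 2 (2 ^ (D.j + 1)),
          Complex.normSq (D.K φ χ t) :=
          Finset.sum_le_sum_of_subset_of_nonneg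
            (fun φ hφ => Finset.mem_filter.2 ⟨Finset.mem_univ _, (Finset.mem_filter.1 hφ).2.1⟩)
            fun _ _ _ => Finset.sum_nonneg fun _ _ => Complex.normSq_nonneg _
      _ = _ := by
          rw [Finset.sum_comm]
          exact Finset.sum_congr rfl fun t ht => D.bessel_K ht χ
  have hP : (0 : ℝ) < (2 ^ D.j : ℕ) := Nat.cast_pos.2 (Nat.two_pow_pos _)
  rw [← Nat.cast_le (α := ℝ), Nat.cast_mul]
  nlinarith

theorem sum_avg_le (s : Finset (IrrCharacter G)) (hs : ∀ φ ∈ s, φ ∈ B) (A : IrrCharacter G → ℕ)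
    (hA : ∀ φ, ∑ t ∈ primExps 2 (2 ^ (D.j + 1)), D.diag φ t = (2 ^ D.j : ℕ) * (A φ : ℝ)) :
    ∑ φ ∈ s, A φ ≤ blockRank 2 b * 2 ^ blockDefect 2 b := by
  classical
  refine le_trans (Finset.sum_le_sum_of_subset (fun φ hφ =>
    Finset.mem_filter.2 ⟨Finset.mem_univ φ, hs φ hφ⟩)) (le_of_eq ?_)
  have h1 : ((2 ^ D.j : ℕ) : ℝ) * ((∑ φ ∈ Finset.univ.filter (· ∈ B), A φ : ℕ) : ℝ) =
      (2 ^ D.j : ℕ) * ((blockRank 2 b * 2 ^ blockDefect 2 b : ℕ) : ℝ) := by
    rw [Nat.cast_sum, Finset.mul_sum]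
    simp only [← hA]
    rw [Finset.sum_comm, Finset.sum_congr rfl fun t ht => D.sum_diag ht, Finset.sum_const,
      nsmul_eq_mul, D.card_primExps_real, D.card_primExps_two]
    push_cast; ring
  exact_mod_cast mul_left_cancel₀ (Nat.cast_pos.2 (Nat.two_pow_pos _)).ne' h1

include D in
/-- The bound on the number of height zero characters of a 2-block from a subsection. -/
theorem heightZero_bound :
    (Odd (Nat.sqrt (blockRank 2 b)) →
        Nat.card {χ : IrrCharacter G // χ ∈ B ∧ blockHeight 2 B (χ : G → ℂ) = 0} ≤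
          Nat.sqrt (blockRank 2 b) * 2 ^ blockDefect 2 b) ∧
      (¬ Odd (Nat.sqrt (blockRank 2 b)) →
        (Nat.sqrt (blockRank 2 b) + 1) *
          Nat.card {χ : IrrCharacter G // χ ∈ B ∧ blockHeight 2 B (χ : G → ℂ) = 0} ≤
            blockRank 2 b * 2 ^ blockDefect 2 b) ∧
      (blockRank 2 b ≤ 3 →
        Nat.card {χ : IrrCharacter G // χ ∈ B ∧ blockHeight 2 B (χ : G → ℂ) = 0} ≤
          2 ^ blockDefect 2 b) := by
  classical
  set s := Finset.univ.filter fun φ : IrrCharacter G =>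
    φ ∈ B ∧ blockHeight 2 B (φ : G → ℂ) = 0 with hs
  rw [show Nat.card {χ : IrrCharacter G // χ ∈ B ∧ blockHeight 2 B (χ : G → ℂ) = 0} = s.card by
    rw [Nat.card_eq_fintype_card, Fintype.card_subtype]]
  choose A hA hA2 using fun φ => D.exists_avg φ
  obtain ⟨χ₁, hχ₁, h1⟩ := exists_heightZero D.hM D.hind.2.1
  obtain ⟨χ, hχ, hmin⟩ := s.exists_min_image A ⟨χ₁, Finset.mem_filter.2 ⟨by simp, hχ₁, h1⟩⟩
  obtain ⟨hχB, hχ0⟩ := (Finset.mem_filter.1 hχ).2
  have e1 := D.card_heightZero_le hχB hχ0 (hA χ)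
  rw [← hs] at e1
  have e2 : s.card * A χ ≤ blockRank 2 b * 2 ^ blockDefect 2 b :=
    le_trans (le_trans (by rw [smul_eq_mul]) (Finset.card_nsmul_le_sum s A (A χ) hmin))
      (D.sum_avg_le s (fun φ hφ => (Finset.mem_filter.1 hφ).2.1) A hA)
  have hodd := D.odd_avg hχB hχ0 (hA2 χ)
  have hs1 : 1 ≤ s.card := Finset.card_pos.2 ⟨χ, hχ⟩
  set l := blockRank 2 b
  set Q := 2 ^ blockDefect 2 b
  set a := A χ
  set k := s.card
  have hup := Nat.lt_succ_sqrt l
  have hlo := Nat.sqrt_le l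
  set r := Nat.sqrt l with hr
  have hoddBound : Odd r → k ≤ r * Q := by
    intro hr1
    by_cases har : a ≤ r
    · exact e1.trans (by rw [mul_comm]; exact Nat.mul_le_mul_right _ har)
    · have har2 : r + 2 ≤ a := by
        obtain ⟨i, hi⟩ := hodd
        obtain ⟨i', hi'⟩ := hr1
        omega
      have h2 : k * (r + 2) ≤ r * Q * (r + 2) := by
        calc k * (r + 2) ≤ k * a := Nat.mul_le_mul_left _ har2
          _ ≤ l * Q := e2
          _ ≤ (r * (r + 2)) * Q := Nat.mul_le_mul_right _ (by rw [Nat.succ_eq_add_one] at hup; nlinarith)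
          _ = r * Q * (r + 2) := by ring
      exact Nat.le_of_mul_le_mul_right h2 (by omega)
  refine ⟨hoddBound, fun hr2 => ?_, fun hl3 => ?_⟩
  · by_cases har : r + 1 ≤ a
    · calc (r + 1) * k ≤ a * k := Nat.mul_le_mul_right _ har
        _ ≤ l * Q := by rw [mul_comm]; exact e2
    · have har2 : a + 1 ≤ r := by
        obtain ⟨i, hi⟩ := hodd
        obtain ⟨i', hi'⟩ := Nat.not_odd_iff_even.1 hr2
        omega
      calc (r + 1) * k ≤ (r + 1) * (Q * a) := Nat.mul_le_mul_left _ e1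
        _ = ((r + 1) * a) * Q := by ring
        _ ≤ l * Q := Nat.mul_le_mul_right _ (by
          have : (r + 1) * (a + 1) ≤ (r + 1) * r := Nat.mul_le_mul_left _ har2
          nlinarith)
  · have ha1 : 1 ≤ a := hodd.pos
    rcases Nat.eq_zero_or_pos l with hl0 | hl0
    · have h2 : k * a ≤ 0 := by rw [hl0, zero_mul] at e2; exact e2
      have := Nat.mul_le_mul hs1 ha1
      omega
    · have hr1 : r = 1 := by
        rw [Nat.succ_eq_add_one] at hup
        have hle : r ≤ 1 := by nlinarith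
        interval_cases r <;> omega
      have := hoddBound (hr1 ▸ odd_one)
      rwa [hr1, one_mul] at this

theorem four_pow_le_of_major (hd : blockDefect 2 b = blockDefect 2 B) {χ χ₁ : IrrCharacter G}
    (hχ : χ ∈ B) (hχ₁ : χ₁ ∈ B) (h1 : blockHeight 2 B (χ₁ : G → ℂ) = 0) :
    ((2 ^ D.j : ℕ) : ℝ) * (4 : ℝ) ^ blockHeight 2 B (χ : G → ℂ) ≤
      ∑ t ∈ primExps 2 (2 ^ (D.j + 1)), Complex.normSq (D.K χ χ₁ t) := by
  classical
  set h := blockHeight 2 B (χ : G → ℂ) with hh
  have hM := D.regPair_major' hd hχ hχ₁ h1 (D.coef χ₁ 1) (D.coef_conj_memLocalRing χ₁ 1)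
  set w : {θ // θ ∈ b} × {θ // θ ∈ b} → Unit → ℂ := fun a _ => (D.coefPair χ χ₁ a : ℂ) with hw
  set E : ℕ → ℤ := fun r => ∑ a, coord D.j D.expPair r a * D.coefPair χ χ₁ a with hE
  have hK : D.K χ χ₁ 1 = ∑ r ∈ Finset.range (2 ^ D.j), (E r : ℂ) * D.ζ ^ r := by
    rw [← D.twist_pair, twist_eq_coord D.hζ D.expPair w (by norm_num)]
    exact Finset.sum_congr rfl fun r _ => by rw [comb_unit, one_mul, mul_comm]
  have hdvd := dvd_of_combination D.hM D.hζ h E (by rw [← hK]; exact_mod_cast hM.1)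
  have hne : D.K χ χ₁ 1 ≠ 0 := by
    intro e
    have h2 := hM.2.1 (memLocalIdeal_zero_div e)
    rcases (D.K_mem_iff hχ₁ hχ₁ 1).1 h2 with h3 | h3 <;> exact h3 h1
  have hex : ∃ r ∈ Finset.range (2 ^ D.j), E r ≠ 0 := by
    by_contra hcon
    push Not at hcon
    exact hne (by rw [hK]; exact Finset.sum_eq_zero fun r hr => by rw [hcon r hr]; simp)
  obtain ⟨r, hr, hr0⟩ := hex
  have h3 := sum_primExps_two D.hζ D.expPair 1 w
  simp only [qn_unit, hw, D.twist_pair, comb_unit, Complex.normSq_intCast] at h3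
  rw [h3]
  refine mul_le_mul_of_nonneg_left (le_trans ?_ (Finset.single_le_sum
    (f := fun r => ((E r : ℤ) : ℝ) * ((E r : ℤ) : ℝ)) (fun _ _ => mul_self_nonneg _) hr))
    (Nat.cast_nonneg _)
  obtain ⟨z, hz⟩ := hdvd r (Finset.mem_range.1 hr)
  have hz0 : z ≠ 0 := fun e => hr0 (by rw [hz, e, mul_zero])
  have h4 : (4 : ℤ) ^ h ≤ E r * E r := by
    rw [hz, show (4 : ℤ) ^ h = 2 ^ h * 2 ^ h by rw [← mul_pow]; norm_num,
      show (2 : ℤ) ^ h * z * (2 ^ h * z) = 2 ^ h * 2 ^ h * (z * z) by ring]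
    exact le_mul_of_one_le_right (by positivity) (by have := mul_self_pos.2 hz0; omega)
  exact_mod_cast h4

theorem two_pow_succ_le_avg (hd : blockDefect 2 b = blockDefect 2 B) {χ : IrrCharacter G}
    (hχ : χ ∈ B) (hh : blockHeight 2 B (χ : G → ℂ) ≠ 0) {A : ℕ}
    (hA : ∑ t ∈ primExps 2 (2 ^ (D.j + 1)), D.diag χ t = (2 ^ D.j : ℕ) * (A : ℝ)) :
    2 * 2 ^ blockHeight 2 B (χ : G → ℂ) ≤ A := by
  classical
  set h := blockHeight 2 B (χ : G → ℂ) with hhd
  obtain ⟨χ₀, hχ₀, h0⟩ := exists_heightZero D.hM D.hind.2.1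
  set ι := {θ // θ ∈ b}
  set e' : ι → ℕ := fun a => D.e a with he'
  set c : ℕ → ι → ℤ := fun r => coord D.j e' r with hc
  set P := 2 ^ D.j with hP
  -- the pairings with the members of the block
  have hrow : ∀ a' : ι, ∀ r, r < P → (2 : ℤ) ^ h ∣ ∑ a, c r a * (D.nv χ a * D.r a a') := by
    intro a'
    let v : ι → ℂ := fun a => if a = a' then 1 else 0
    have hvR : ∀ a, MemLocalRing M (conj (v a)) := fun a => by
      simp only [v]
      split_ifs
      · rw [map_one]; exact (locRing M).one_mem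
      · rw [map_zero]; exact (locRing M).zero_mem
    have hM := (D.regPair_major' hd hχ hχ₀ h0 v hvR).1
    refine dvd_of_combination D.hM D.hζ h _ ?_
    convert hM using 2
    · have := twist_eq_coord D.hζ e' (fun a (_ : Unit) => ((D.nv χ a * D.r a a' : ℤ) : ℂ))
        (t := 1) (by norm_num) ()
      simp only [comb_unit, one_mul] at this
      rw [D.regPair_fn]
      refine Eq.trans (Finset.sum_congr rfl fun r _ => mul_comm _ _) (this.symm.trans ?_)
      refine Finset.sum_congr rfl fun a _ => ?_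
      rw [Finset.sum_eq_single a']
      · simp [v, coef, nv, he']; ring
      · intro a'' _ hne; simp [v, hne]
      · exact fun h => absurd (Finset.mem_univ _) h
    · simp [hhd]
  choose s hs using fun (r : Fin P) (a' : ι) => hrow a' r r.2
  have h2 : (2 : ℤ) ^ h ≠ 0 := pow_ne_zero _ (by norm_num)
  let X : Fin P → Fin P → ℤ := fun r r' => ∑ a', c r' a' * D.nv χ a' * s r a'
  have hX : ∀ r r' : Fin P, (2 : ℤ) ^ h * X r r' =
      D.form (fun a => c r a * D.nv χ a) (fun a => c r' a * D.nv χ a) := by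
    intro r r'
    simp only [X, form, Finset.mul_sum]
    rw [Finset.sum_comm (γ := ι)]
    refine Finset.sum_congr rfl fun a' _ => ?_
    rw [show (2 : ℤ) ^ h * (c r' a' * D.nv χ a' * s r a') =
      c r' a' * D.nv χ a' * (2 ^ h * s r a') by ring, ← hs r a', Finset.mul_sum]
    exact Finset.sum_congr rfl fun a _ => by ring
  have hXs : ∀ r r', X r r' = X r' r := fun r r' => mul_left_cancel₀ h2 (by
    rw [hX, hX]
    simp only [form]
    rw [Finset.sum_comm]
    exact Finset.sum_congr rfl fun a _ => Finset.sum_congr rfl fun a' _ => by rw [D.hsymm]; ring)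
  -- the average
  have hAe : (A : ℤ) = 2 ^ h * ∑ r : Fin P, X r r := by
    have h3 : ∑ t ∈ primExps 2 (2 ^ (D.j + 1)), D.diag χ t = _ :=
      sum_primExps_two D.hζ e' (blockScale 2 b) (D.wRow χ)
    rw [hA] at h3
    simp only [D.qn_comb_wRow] at h3
    rw [← Int.cast_sum] at h3
    have h4 := mul_left_cancel₀
      (Nat.cast_ne_zero.2 (Nat.two_pow_pos _).ne') h3
    rw [← Int.cast_natCast (R := ℝ) A] at h4
    rw [Int.cast_injective h4, Finset.mul_sum, Finset.sum_range]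
    exact Finset.sum_congr rfl fun r _ => by rw [hX]; rfl
  -- parity through the local ideal
  have hI : (2 : ℤ) ∣ ∑ r : Fin P, ∑ a', D.nv χ a' * s r a' := by
    have hM := D.regPair_major' hd hχ hχ₀ h0 (D.coef χ 1) (D.coef_conj_memLocalRing χ 1)
    have hmem : MemLocalIdeal M (D.K χ χ 1 / (2 : ℂ) ^ h) := by
      have := hM.2.2 ((D.K_mem_iff hχ₀ hχ 1).2 (Or.inr hh))
      exact_mod_cast this
    let q := 2 ^ (D.j + 1)
    have hKe : D.K χ χ 1 / (2 : ℂ) ^ h = ∑ y : Fin P × ι,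
        D.ζ ^ ((y.1 : ℕ) + (q - 1) * D.e y.2) * ((D.nv χ y.2 * s y.1 y.2 : ℤ) : ℂ) := by
      rw [K, D.regPair_fn, Finset.sum_comm, Fintype.sum_prod_type, Finset.sum_comm (γ := Fin P),
        Finset.sum_div]
      refine Finset.sum_congr rfl fun a' _ => ?_
      have := twist_eq_coord D.hζ e' (fun a (_ : Unit) => ((D.nv χ a * D.r a a' : ℤ) : ℂ))
        (t := 1) (by norm_num) ()
      simp only [comb_unit, one_mul, twist, Finset.sum_range] at this
      calc (∑ a, D.coef χ 1 a * conj (D.coef χ 1 a') * (D.r a a' : ℂ)) / (2 : ℂ) ^ h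
          = (D.ζ ^ ((q - 1) * D.e a') * (D.nv χ a' : ℂ)) *
              (∑ a, D.ζ ^ e' a * ((D.nv χ a * D.r a a' : ℤ) : ℂ)) / (2 : ℂ) ^ h := by
            congr 1
            rw [Finset.mul_sum]
            refine Finset.sum_congr rfl fun a _ => ?_
            simp only [coef, nv, one_mul, map_mul, map_natCast, he', q,
              conj_root_pow (pow_ne_zero _ two_ne_zero) D.zeta_pow_eq_one]
            push_cast; ring
        _ = _ := by
            rw [this, Finset.mul_sum, Finset.sum_div]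
            refine Finset.sum_congr rfl fun r _ => ?_
            rw [show (∑ a, coord D.j e' (r : ℕ) a * (D.nv χ a * D.r a a')) = 2 ^ h * s r a' from
              hs r a', pow_add]
            push_cast
            field_simp
            
    rw [hKe] at hmem
    have h5 := MemLocalIdeal.sub hmem (sum_root_congr D.hM Finset.univ D.zeta_pow_eq_one
      (fun y : Fin P × ι => (y.1 : ℕ) + (q - 1) * D.e y.2) fun y => D.nv χ y.2 * s y.1 y.2)
    rw [sub_sub_cancel, Fintype.sum_prod_type] at h5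
    exact_mod_cast (intCast_memLocalIdeal_iff D.hM _).1 h5
  have heven : (2 : ℤ) ∣ ∑ r : Fin P, X r r := by
    rw [show (2 : ℤ) = ((2 : ℕ) : ℤ) from rfl, ← ZMod.intCast_zmod_eq_zero_iff_dvd] at hI ⊢
    rw [Int.cast_sum]
    have h6 := quad_mod_two X hXs fun _ => 1
    simp only [one_mul, Int.cast_one] at h6
    rw [← h6, ← hI, Int.cast_sum, Int.cast_sum]
    refine Finset.sum_congr rfl fun r _ => ?_
    rw [Int.cast_sum, Int.cast_sum]
    simp only [X, Int.cast_sum]
    rw [Finset.sum_comm]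
    refine Finset.sum_congr rfl fun a' _ => ?_
    simp only [Int.cast_mul, mul_assoc, ← Finset.sum_mul]
    rw [← Finset.sum_range (fun r => (c r a' : ZMod 2)), sum_coord, one_mul]
  have hpos : 1 ≤ A := by
    by_contra hc0
    have hA0 : A = 0 := by omega
    rw [hA0, Nat.cast_zero, mul_zero] at hA
    have hd0 := (Finset.sum_eq_zero_iff_of_nonneg fun t _ => D.diag_nonneg χ t).1 hA 1
      (one_mem_primExps (j := D.j) one_lt_two)
    have h7 := D.four_pow_le_of_major hd hχ hχ₀ h0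
    have hz : ∀ u, pRegularPart 2 (D.fn (D.coef χ 1)) u = 0 := by
      intro u
      have h' : qn (blockScale 2 b) (pRegularPart 2 (D.fn (D.coef χ 1))) = 0 :=
        Complex.ofReal_injective (by rw [qn_eq_regPair, ← D.diag_eq, hd0])
      have hlam : (0 : ℝ) < blockScale 2 b :=
        div_pos (pow_pos (by norm_num) _) (Nat.cast_pos.2 Nat.card_pos)
      rw [qn, mul_eq_zero, or_iff_right hlam.ne',
        Finset.sum_eq_zero_iff_of_nonneg fun _ _ => Complex.normSq_nonneg _] at h'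
      exact Complex.normSq_eq_zero.1 (h' u (Finset.mem_univ _))
    have hK0 : D.K χ χ₀ 1 = 0 := by rw [K, regPair]; simp [hz]
    have h8 := (D.regPair_major' hd hχ hχ₀ h0 (D.coef χ₀ 1) (D.coef_conj_memLocalRing χ₀ 1)).2.1
      (memLocalIdeal_zero_div hK0)
    rcases (D.K_mem_iff hχ₀ hχ₀ 1).1 h8 with h9 | h9 <;> exact h9 h0
  obtain ⟨y, hy⟩ := heven
  rw [hy] at hAe
  have hy1 : 1 ≤ y := by
    by_contra hy0
    have : (A : ℤ) ≤ 0 := by
      rw [hAe]
      exact mul_nonpos_of_nonneg_of_nonpos (by positivity) (by omega)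
    omega
  have h10 : (2 : ℤ) * 2 ^ h ≤ A := by
    rw [hAe, show (2 : ℤ) ^ h * (2 * y) = 2 * 2 ^ h * y by ring]
    exact le_mul_of_one_le_right (by positivity) hy1
  exact_mod_cast h10

include D in
/-- A major subsection with at most three irreducible Brauer characters in a 2-block. -/
theorem rank_le_three_bound (hd : blockDefect 2 b = blockDefect 2 B) (hl : blockRank 2 b ≤ 3) :
    3 * Nat.card B ≤ 3 * Nat.card {χ : IrrCharacter G // χ ∈ B ∧ blockHeight 2 B (χ : G → ℂ) = 0} +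
        2 * (∑ᶠ χ ∈ {χ : IrrCharacter G | χ ∈ B ∧ 1 ≤ blockHeight 2 B (χ : G → ℂ)},
          2 ^ blockHeight 2 B (χ : G → ℂ)) ∧
      3 * Nat.card {χ : IrrCharacter G // χ ∈ B ∧ blockHeight 2 B (χ : G → ℂ) = 0} +
        2 * (∑ᶠ χ ∈ {χ : IrrCharacter G | χ ∈ B ∧ 1 ≤ blockHeight 2 B (χ : G → ℂ)},
          2 ^ blockHeight 2 B (χ : G → ℂ)) ≤ 3 * 2 ^ blockDefect 2 B := by
  classical
  let H : IrrCharacter G → ℕ := fun φ => blockHeight 2 B (φ : G → ℂ)
  set s₀ := Finset.univ.filter fun φ : IrrCharacter G => φ ∈ B ∧ H φ = 0 with hs₀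
  set s₁ := Finset.univ.filter fun φ : IrrCharacter G => φ ∈ B ∧ 1 ≤ H φ with hs₁
  rw [show Nat.card {χ : IrrCharacter G // χ ∈ B ∧ blockHeight 2 B (χ : G → ℂ) = 0} = s₀.card by
    rw [Nat.card_eq_fintype_card, Fintype.card_subtype],
    show (∑ᶠ χ ∈ {χ : IrrCharacter G | χ ∈ B ∧ 1 ≤ blockHeight 2 B (χ : G → ℂ)},
      2 ^ blockHeight 2 B (χ : G → ℂ)) = ∑ φ ∈ s₁, 2 ^ H φ by
      rw [finsum_mem_eq_finite_toFinset_sum _ (Set.toFinite _)]
      exact Finset.sum_congr (by ext; simp [hs₁, H]) fun _ _ => rfl,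
    show Nat.card B = s₀.card + s₁.card by
      rw [Nat.card_eq_fintype_card, Fintype.card_subtype,
        ← Finset.card_filter_add_card_filter_not (fun φ : IrrCharacter G => H φ = 0),
        Finset.filter_filter, Finset.filter_filter]
      congr 2
      ext φ
      simp only [hs₁, Finset.mem_filter, Finset.mem_univ, true_and, Nat.one_le_iff_ne_zero]]
  refine ⟨?_, ?_⟩
  · have h1 : s₁.card * 2 ≤ ∑ φ ∈ s₁, 2 ^ H φ := by
      rw [← smul_eq_mul]
      exact Finset.card_nsmul_le_sum _ _ _ fun φ hφ => by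
        calc 2 = 2 ^ 1 := (pow_one 2).symm
          _ ≤ 2 ^ H φ := Nat.pow_le_pow_right two_pos (Finset.mem_filter.1 hφ).2.2
    omega
  choose A hA hA2 using fun φ => D.exists_avg φ
  rw [← hd]
  set Q := 2 ^ blockDefect 2 b with hQ
  by_cases hA1 : ∃ χ ∈ s₀, A χ = 1
  · obtain ⟨χ, hχ, hAχ⟩ := hA1
    obtain ⟨hχB, hχ0⟩ := (Finset.mem_filter.1 hχ).2
    have h1 : ((2 ^ D.j : ℕ) : ℝ) * ((s₀.card + ∑ φ ∈ s₁, 4 ^ H φ : ℕ) : ℝ) ≤
        ((2 ^ D.j : ℕ) : ℝ) * (Q : ℝ) := by
      have hdis : Disjoint s₀ s₁ := Finset.disjoint_left.2 fun φ h0 h1 => by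
        have := (Finset.mem_filter.1 h0).2.2
        have := (Finset.mem_filter.1 h1).2.2
        omega
      have hsub : s₀ ∪ s₁ ⊆ Finset.univ.filter (· ∈ B) := by
        intro φ hφ
        refine Finset.mem_filter.2 ⟨Finset.mem_univ _, ?_⟩
        rcases Finset.mem_union.1 hφ with h | h
        · exact (Finset.mem_filter.1 h).2.1
        · exact (Finset.mem_filter.1 h).2.1
      calc ((2 ^ D.j : ℕ) : ℝ) * ((s₀.card + ∑ φ ∈ s₁, 4 ^ H φ : ℕ) : ℝ)
          = ∑ φ ∈ s₀ ∪ s₁, ((2 ^ D.j : ℕ) : ℝ) * (4 : ℝ) ^ H φ := by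
            rw [Finset.sum_union hdis, Finset.sum_congr rfl (g := fun _ => ((2 ^ D.j : ℕ) : ℝ))
              (s₂ := s₀) fun φ hφ => by rw [(Finset.mem_filter.1 hφ).2.2, pow_zero, mul_one],
              Finset.sum_const, nsmul_eq_mul, ← Finset.mul_sum]
            push_cast; ring
        _ ≤ ∑ φ ∈ s₀ ∪ s₁, ∑ t ∈ primExps 2 (2 ^ (D.j + 1)), Complex.normSq (D.K φ χ t) :=
            Finset.sum_le_sum fun φ hφ => D.four_pow_le_of_major hd
              (Finset.mem_filter.1 (hsub hφ)).2 hχB hχ0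
        _ ≤ ∑ φ ∈ Finset.univ.filter (· ∈ B), ∑ t ∈ primExps 2 (2 ^ (D.j + 1)),
            Complex.normSq (D.K φ χ t) :=
            Finset.sum_le_sum_of_subset_of_nonneg hsub
              fun _ _ _ => Finset.sum_nonneg fun _ _ => Complex.normSq_nonneg _
        _ = _ := by
            rw [Finset.sum_comm, Finset.sum_congr rfl fun t ht => D.bessel_K ht χ,
              ← Finset.mul_sum, hA χ, hAχ, hQ]
            push_cast; ring
    have h2 : s₀.card + ∑ φ ∈ s₁, 4 ^ H φ ≤ Q := by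
      exact_mod_cast le_of_mul_le_mul_left h1 (Nat.cast_pos.2 (Nat.two_pow_pos _))
    have h3 : ∑ φ ∈ s₁, 2 ^ H φ ≤ ∑ φ ∈ s₁, 4 ^ H φ :=
      Finset.sum_le_sum fun φ _ => Nat.pow_le_pow_left (by norm_num) _
    omega
  · push Not at hA1
    have h0 : s₀.card * 3 ≤ ∑ φ ∈ s₀, A φ := by
      rw [← smul_eq_mul]
      refine Finset.card_nsmul_le_sum _ _ _ fun φ hφ => ?_
      have ho := D.odd_avg (Finset.mem_filter.1 hφ).2.1 (Finset.mem_filter.1 hφ).2.2 (hA2 φ)
      have := hA1 φ hφ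
      obtain ⟨i, hi⟩ := ho
      omega
    have h1 : ∑ φ ∈ s₁, 2 * 2 ^ H φ ≤ ∑ φ ∈ s₁, A φ :=
      Finset.sum_le_sum fun φ hφ => D.two_pow_succ_le_avg hd (Finset.mem_filter.1 hφ).2.1
        (Nat.one_le_iff_ne_zero.1 (Finset.mem_filter.1 hφ).2.2) (hA φ)
    rw [← Finset.mul_sum] at h1
    have hdis : Disjoint s₀ s₁ := Finset.disjoint_left.2 fun φ h0 h1 => by
      have := (Finset.mem_filter.1 h0).2.2
      have := (Finset.mem_filter.1 h1).2.2
      omega
    have h2 := D.sum_avg_le (s₀ ∪ s₁) (fun φ hφ => by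
      rcases Finset.mem_union.1 hφ with h | h
      · exact (Finset.mem_filter.1 h).2.1
      · exact (Finset.mem_filter.1 h).2.1) A hA
    rw [Finset.sum_union hdis, ← hQ] at h2
    have h3 : blockRank 2 b * Q ≤ 3 * Q := Nat.mul_le_mul_right _ hl
    omega

end SubData

end Two

end Subsection

/-- The defect of a block whose defect group is that of the induced block. -/
theorem blockDefect_eq_of_subgroupOf (hM : IsPModular p M) {C : Subgroup G} [Fintype C]
    {b : Set (IrrCharacter C)} {B : Set (IrrCharacter G)} (hind : IsInducedBlock M C b B)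
    {D : Subgroup G} (hD : IsDefectGroup p M B D) (hle : D ≤ C)
    (hb : IsDefectGroup p M b (D.subgroupOf C)) : blockDefect p b = blockDefect p B := by
  refine Nat.pow_right_injective hM.1.two_le ?_
  show p ^ blockDefect p b = p ^ blockDefect p B
  rw [← card_defectGroup hM hind.1 hb, ← card_defectGroup hM hind.2.1 hD]
  exact Nat.card_congr (Subgroup.subgroupOfEquivOfLe hle).toEquiv

end Cfsg.Agent.Blocks
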