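/-
Blocks whose defect is carried by a central p-subgroup.
-/
import Cfsg.Agent.Lib.Blocks.Heights
import Cfsg.Agent.Lib.Char.DegreeCenter

set_option linter.unusedSectionVars false
set_option linter.style.haveILetI false

namespace Cfsg.Agent.Blocks

open Cfsg Cfsg.Agent.Char
open scoped ComplexConjugate

universe u

variable {G : Type u} [Group G] [Fintype G] {p : ℕ} {M : Ideal AlgInt} [M.IsPrime]

theorem not_dvd_orderOf_iff_pow (hp : p.Prime) {x : G} :
    ¬ p ∣ orderOf x ↔ x ^ ordPrime p G = 1 := by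
  rw [← orderOf_dvd_iff_pow_eq_one]
  constructor
  · intro h
    refine (Nat.Coprime.pow_right _ ((hp.coprime_iff_not_dvd.2 h).symm)).dvd_of_dvd_mul_left
      (m := p ^ (Nat.card G).factorization p) ?_
    rw [ordPrime, Nat.ordProj_mul_ordCompl_eq_self]
    exact orderOf_dvd_natCard x
  · exact fun h hd => not_dvd_ordPrime hp (hd.trans h)

/-- A character with defect zero modulo a central p-subgroup `Z` determines the defect of its
block. -/
theorem blockDefect_eq_of_central_deg (hM : IsPModular p M) {B : Set (IrrCharacter G)}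
    (hB : IsPBlock M B) (Z : Subgroup G) (hZ : Z ≤ Subgroup.center G) (hZp : IsPGroup p Z)
    {θ : IrrCharacter G} (hθ : θ ∈ B)
    (hdeg : (charDegree (θ : G → ℂ)).factorization p + (Nat.card Z).factorization p =
      (Nat.card G).factorization p) :
    blockDefect p B = (Nat.card Z).factorization p := by
  classical
  haveI := Fact.mk hM.1
  have hp := hM.1
  set a := (charDegree (θ : G → ℂ)).factorization p with ha
  set s := Finset.univ.filter (fun x : G => ¬ p ∣ orderOf x) with hs
  set W := omegaR θ (regElt M p (θ : G → ℂ) (irr_isCharacter θ)) with hW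
  obtain ⟨m, hm⟩ := exists_int_regTr (p := p) hp (irr_isCharacter θ) (irr_isCharacter θ)
  have e1 := classInner_regTr_eq (p := p) hM (irr_isCharacter θ) θ
  have e2 := classInner_regTr (G := G) hp (θ : G → ℂ) (θ : G → ℂ)
  rw [hm] at e1 e2
  set R : ℝ := ∑ x ∈ s, Complex.normSq ((θ : G → ℂ) x) with hR
  have hRm : R = (m : ℝ) * (ordPrime p G : ℝ) := by
    have : (R : ℂ) = (m : ℂ) * (ordPrime p G : ℂ) := by
      rw [e2, show Nat.card G / p ^ (Nat.card G).factorization p = ordPrime p G from rfl,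
        div_mul_cancel₀ _ (Nat.cast_ne_zero.2 ordPrime_ne_zero), hR, Complex.ofReal_sum]
      exact Finset.sum_congr rfl fun x _ => (Complex.mul_conj _).symm
    exact_mod_cast this
  have hinv : ∀ z ∈ Z, ∀ x : G,
      Complex.normSq ((θ : G → ℂ) (z * x)) = Complex.normSq ((θ : G → ℂ) x) := fun z hz x => by
    obtain ⟨c, hn, hc, -⟩ := IsIrrCharacter.exists_central_scalar θ.2 (hZ hz)
    rw [hc, map_mul, Complex.normSq_eq_norm_sq c, hn, one_pow, one_mul]
  have hle : (Nat.card Z : ℝ) * R ≤ (Nat.card G : ℝ) := by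
    have htot : ∑ x : G, Complex.normSq ((θ : G → ℂ) x) = (Nat.card G : ℝ) := by
      have h := classInner_self_eq (θ : G → ℂ)
      rw [classInner_self_irr θ.2] at h
      have h' : (1 : ℝ) = (Nat.card G : ℝ)⁻¹ * ∑ g : G, ‖(θ : G → ℂ) g‖ ^ 2 := by exact_mod_cast h
      have hne : (Nat.card G : ℝ) ≠ 0 := Nat.cast_ne_zero.2 Nat.card_pos.ne'
      simp only [Complex.normSq_eq_norm_sq]
      field_simp at h'
      exact h'.symm
    have hinj : Set.InjOn (fun q : Z × G => (q.1 : G) * q.2) ↑((Finset.univ : Finset Z) ×ˢ s) := by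
      rintro ⟨z, x⟩ hzx ⟨z', x'⟩ hzx' h
      simp only [Finset.coe_product, Set.mem_prod, Finset.mem_coe, hs, Finset.mem_filter] at hzx hzx'
      simp only at h
      have hx := (not_dvd_orderOf_iff_pow hp).1 hzx.2.2
      have hx' := (not_dvd_orderOf_iff_pow hp).1 hzx'.2.2
      have hc : Commute ((z'⁻¹ * z : Z) : G) x :=
        (Subgroup.mem_center_iff.1 (hZ (z'⁻¹ * z : Z).2) x).symm
      have hu : ((z'⁻¹ * z : Z) : G) * x = x' := by
        rw [Subgroup.coe_mul, Subgroup.coe_inv, mul_assoc, h, inv_mul_cancel_left]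
      have hu' : ((z'⁻¹ * z : Z) : G) ^ ordPrime p G = 1 := by
        rw [← hu, hc.mul_pow, hx, mul_one] at hx'; exact hx'
      have hu1 : z'⁻¹ * z = 1 := by
        obtain ⟨i, hi⟩ := (IsPGroup.iff_orderOf).1 hZp (z'⁻¹ * z)
        rw [← orderOf_eq_one_iff, hi]
        have hd : p ^ i ∣ ordPrime p G := by
          rw [← hi, ← Subgroup.orderOf_coe]; exact orderOf_dvd_of_pow_eq_one hu'
        rcases Nat.eq_zero_or_pos i with h0 | h0
        · rw [h0, pow_zero]
        · exact absurd ((dvd_pow_self p h0.ne').trans hd) (not_dvd_ordPrime hp)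
      have hzz : z = z' := (inv_mul_eq_one.1 hu1).symm
      subst hzz
      exact Prod.ext rfl (mul_left_cancel h)
    have h1 : ∑ q ∈ (Finset.univ : Finset Z) ×ˢ s,
        Complex.normSq ((θ : G → ℂ) ((q.1 : G) * q.2)) = (Nat.card Z : ℝ) * R := by
      rw [Finset.sum_product]
      simp only [hinv _ (SetLike.coe_mem _), Finset.sum_const, Finset.card_univ, hR,
        Nat.card_eq_fintype_card, nsmul_eq_mul]
    rw [← h1, ← htot, ← Finset.sum_image (f := fun x => Complex.normSq ((θ : G → ℂ) x)) hinj]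
    exact Finset.sum_le_univ_sum_of_nonneg fun x => Complex.normSq_nonneg _
  have hpos : 0 < R := by
    refine lt_of_lt_of_le ?_ (Finset.single_le_sum (fun x _ => Complex.normSq_nonneg _)
      (show (1 : G) ∈ s by simp [hs, hp.ne_one]))
    exact Complex.normSq_pos.2 (irr_one_ne_zero θ)
  have hm1 : 0 < m := by
    rw [hRm] at hpos
    have : (0 : ℝ) < m := pos_of_mul_pos_left hpos (by positivity)
    exact_mod_cast this
  have hm2 : m ≤ ((p ^ a : ℕ) : ℤ) := by
    have hn : (Nat.card G : ℝ) = (p ^ a : ℕ) * (Nat.card Z : ℝ) * (ordPrime p G : ℝ) := by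
      obtain ⟨i, hi⟩ := hZp.exists_card_eq
      have : (Nat.card Z).factorization p = i := by rw [hi, hp.factorization_pow]; simp
      have h2 : Nat.card G = p ^ a * Nat.card Z * ordPrime p G := by
        rw [hi, ← pow_add, ← this, hdeg, ordPrime, Nat.ordProj_mul_ordCompl_eq_self]
      exact_mod_cast h2
    rw [hRm, hn] at hle
    have hZ0 : (0 : ℝ) < Nat.card Z := Nat.cast_pos.2 Nat.card_pos
    have hO : (0 : ℝ) < ordPrime p G := Nat.cast_pos.2 (Nat.pos_of_ne_zero ordPrime_ne_zero)
    have : (m : ℝ) ≤ ((p ^ a : ℕ) : ℝ) :=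
      le_of_mul_le_mul_right (by linarith [hle]) (mul_pos hZ0 hO)
    exact_mod_cast this
  have hht : blockHeight p B (θ : G → ℂ) = 0 := by
    by_contra hne
    have hWI := (omegaR_regElt_mem_iff hM hB hθ hθ).2 hne
    obtain ⟨n, rfl⟩ : ∃ n : ℕ, m = n := ⟨m.toNat, (Int.toNat_of_nonneg hm1.le).symm⟩
    have hn1 : 0 < n := by exact_mod_cast hm1
    have hn2 : n ≤ p ^ a := by exact_mod_cast hm2
    have hpa : ((p ^ a : ℕ) : ℂ) ≠ 0 := Nat.cast_ne_zero.2 (pow_ne_zero _ hp.ne_zero)
    have e3 : (n : ℂ) / ((p ^ a : ℕ) : ℂ) =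
        W * ((ordCompl[p] (charDegree (θ : G → ℂ)) : ℕ) : ℂ) * (ordPrime p G : ℂ)⁻¹ := by
      have e4 : ((n : ℤ) : ℂ) = W * (θ : G → ℂ) 1 * (ordPrime p G : ℂ)⁻¹ := e1
      rw [Int.cast_natCast, irr_one_eq_charDegree θ,
        ← Nat.ordProj_mul_ordCompl_eq_self (charDegree (θ : G → ℂ)) p, ← ha, Nat.cast_mul] at e4
      rw [e4, ha]
      field_simp
    have hmem : MemLocalIdeal M ((n : ℂ) / ((p ^ a : ℕ) : ℂ)) := by
      rw [e3]
      exact MemLocalIdeal.mul_right (MemLocalIdeal.mul_right hWI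
        (mem_locRing.1 (natCast_mem (locRing M) _))) (inv_ordPrime_mem hM)
    have hna : n.factorization p ≤ a := by
      refine (Nat.pow_le_pow_iff_right hp.one_lt).1 (le_trans ?_ hn2)
      exact Nat.le_of_dvd hn1 (Nat.ordProj_dvd n p)
    exact not_memLocalIdeal_natDiv hM (pow_ne_zero _ hp.ne_zero) hn1.ne'
      (by rw [hp.factorization_pow]; simpa using hna) hmem
  have h := (blockHeight_eq_zero_iff hM hB hθ).1 hht
  have := blockDefect_le (p := p) B
  omega

/-- A character that is trivial on a central subgroup `Z` and has defect zero modulo `Z`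
determines the defect of its block. -/
theorem blockDefect_eq_of_central (hM : IsPModular p M) {B : Set (IrrCharacter G)}
    (hB : IsPBlock M B) (Z : Subgroup G) (hZ : Z ≤ Subgroup.center G) (hZp : IsPGroup p Z)
    {θ : IrrCharacter G} (hθ : θ ∈ B) (_hker : ∀ z ∈ Z, (θ : G → ℂ) z = (θ : G → ℂ) 1)
    (hdeg : (charDegree (θ : G → ℂ)).factorization p + (Nat.card Z).factorization p =
      (Nat.card G).factorization p) :
    blockDefect p B = (Nat.card Z).factorization p :=
  blockDefect_eq_of_central_deg hM hB Z hZ hZp hθ hdeg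

/-- Every block has a character trivial on a given central p-subgroup. -/
theorem exists_trivial_on_central (hM : IsPModular p M) {B : Set (IrrCharacter G)}
    (hB : IsPBlock M B) (Z : Subgroup G) (hZ : Z ≤ Subgroup.center G) (hZp : IsPGroup p Z) :
    ∃ θ ∈ B, ∀ z ∈ Z, (θ : G → ℂ) z = (θ : G → ℂ) 1 := by
  classical
  haveI := Fact.mk hM.1
  by_contra hne
  push Not at hne
  have hsum : ∀ χ ∈ B, ∑ z : Z, (χ : G → ℂ) z = 0 := by
    intro χ hχ
    obtain ⟨z₀, hz₀, h0⟩ := hne χ hχ
    obtain ⟨c, -, hc, hc1⟩ := IsIrrCharacter.exists_central_scalar χ.2 (hZ hz₀)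
    have h1 : ∑ z : Z, (χ : G → ℂ) z = c * ∑ z : Z, (χ : G → ℂ) z := by
      conv_lhs => rw [← Equiv.sum_comp (Equiv.mulLeft (⟨z₀, hz₀⟩ : Z))]
      rw [Finset.mul_sum]
      exact Finset.sum_congr rfl fun z _ => hc z
    exact (mul_left_eq_self₀.1 h1.symm).resolve_left fun h => h0 (hc1.1 h)
  have h1 : blockCoeff B 1 = 0 := by
    have : ∑ z : Z, blockCoeff B (z : G) = blockCoeff B 1 := by
      refine (Finset.sum_eq_single (1 : Z) (fun z _ hz => ?_) (by simp)).trans (by simp)
      refine blockCoeff_eq_zero_of_singular hM hB ?_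
      obtain ⟨i, hi⟩ := (IsPGroup.iff_orderOf).1 hZp z
      rw [Subgroup.orderOf_coe, hi]
      refine dvd_pow_self p fun h => hz ?_
      rwa [h, pow_zero, orderOf_eq_one_iff] at hi
    rw [← this]
    simp only [blockCoeff_eq_sum, ← Finset.mul_sum]
    rw [Finset.sum_comm, Finset.sum_eq_zero, mul_zero]
    intro χ hχ
    rw [← Finset.mul_sum, ← map_sum, hsum χ (Finset.mem_filter.1 hχ).2, map_zero, mul_zero]
  obtain ⟨χ, hχ⟩ := isPBlock_nonempty hB
  rw [blockCoeff_eq_sum, mul_eq_zero] at h1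
  rcases h1 with h1 | h1
  · exact (inv_ne_zero (Nat.cast_ne_zero.2 Nat.card_pos.ne')) h1
  · simp only [irr_one_eq_charDegree, map_natCast] at h1
    have h2 : ∑ ψ ∈ Finset.univ.filter (· ∈ B),
        charDegree (ψ : G → ℂ) * charDegree (ψ : G → ℂ) = 0 := by exact_mod_cast h1
    have := (Finset.sum_eq_zero_iff.1 h2) χ (Finset.mem_filter.2 ⟨Finset.mem_univ _, hχ⟩)
    exact (Nat.mul_pos (charDegree_pos χ) (charDegree_pos χ)).ne' this

/-- A block has defect group a central p-subgroup exactly when it carries such a character. -/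
theorem blockDefect_central_iff (hM : IsPModular p M) {B : Set (IrrCharacter G)}
    (hB : IsPBlock M B) (Z : Subgroup G) (hZ : Z ≤ Subgroup.center G) (hZp : IsPGroup p Z) :
    blockDefect p B = (Nat.card Z).factorization p ↔
      ∃ θ ∈ B, (∀ z ∈ Z, (θ : G → ℂ) z = (θ : G → ℂ) 1) ∧
        (charDegree (θ : G → ℂ)).factorization p + (Nat.card Z).factorization p =
          (Nat.card G).factorization p := by
  refine ⟨fun h => ?_, fun ⟨θ, hθ, h1, h2⟩ => blockDefect_eq_of_central hM hB Z hZ hZp hθ h1 h2⟩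
  obtain ⟨θ, hθ, h1⟩ := exists_trivial_on_central hM hB Z hZ hZp
  refine ⟨θ, hθ, h1, ?_⟩
  have hge := degExp_ge hM hB hθ
  have hd : charDegree (θ : G → ℂ) * Nat.card Z ∣ Nat.card G := by
    rw [← (Subgroup.center G).card_mul_index, mul_comm (Nat.card (Subgroup.center G))]
    exact Nat.mul_dvd_mul (degree_dvd_index_center θ.2 (irr_one_eq_charDegree θ))
      (Subgroup.card_dvd_of_le hZ)
  have hle := (Nat.factorization_le_iff_dvd (Nat.mul_ne_zero (charDegree_pos θ).ne'
    Nat.card_pos.ne') Nat.card_pos.ne').2 hd p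
  rw [Nat.factorization_mul (charDegree_pos θ).ne' Nat.card_pos.ne'] at hle
  simp only [Finsupp.coe_add, Pi.add_apply] at hle
  omega

end Cfsg.Agent.Blocks
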