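/-
The second main theorem in the idempotent form: a trace computed on the invariant left
multiplication by a product of block idempotents of a subgroup and of the group.
-/
import Cfsg.Agent.Lib.Blocks.Defect
import Cfsg.Agent.Lib.Blocks.SecondMain

set_option linter.unusedSectionVars false
set_option linter.style.haveILetI false

namespace Cfsg.Agent.Blocks

open Cfsg MonoidAlgebra Cfsg.Agent.Char Cfsg.Agent.Blocks.Orbit
open scoped ComplexConjugate

universe u

variable {G : Type u} [Group G] [Fintype G] {p : ℕ} {M : Ideal AlgInt} [M.IsPrime]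
  [DecidableEq G]

/-- Left multiplication by an element, as a matrix. -/
noncomputable def lMat (x : MonoidAlgebra (locRing M) G) : Matrix G G (locRing M) :=
  Matrix.of fun w v => x.coeff (w * v⁻¹)

theorem lMat_mul (x y : MonoidAlgebra (locRing M) G) : lMat (x * y) = lMat x * lMat y := by
  ext w v
  refine congrArg Subtype.val ?_
  simp only [lMat, Matrix.of_apply, Matrix.mul_apply, coeff_mul_univ]
  refine Fintype.sum_equiv ((Equiv.inv G).trans (Equiv.mulRight w)) _ _ fun a => ?_
  simp [mul_assoc]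

theorem lMat_pow (x : MonoidAlgebra (locRing M) G) (n : ℕ) : lMat (x ^ n) = lMat x ^ n := by
  induction n with
  | zero =>
    refine Matrix.ext fun w v => ?_
    by_cases h : w = v
    · simp [lMat, h, MonoidAlgebra.one_def]
    · simp [lMat, h, MonoidAlgebra.one_def, mul_inv_eq_one]
  | succ n ih => rw [pow_succ, lMat_mul, ih, pow_succ]

theorem isInvMat_lMat {x : MonoidAlgebra (locRing M) G} {a : G}
    (ha : ∀ g, x.coeff (a * g * a⁻¹) = x.coeff g) (b : G) :
    IsInvMat (shiftPerm a b) (lMat x) := fun i j => by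
  simp only [lMat, Matrix.of_apply, shiftPerm_apply]
  rw [show a * i * b⁻¹ * (a * j * b⁻¹)⁻¹ = a * (i * j⁻¹) * a⁻¹ by group]
  exact ha _

theorem traceDatum_lMat {x : MonoidAlgebra (locRing M) G} (hid : x * x = x) {a b y z : G}
    (ha : ∀ g, x.coeff (a * g * a⁻¹) = x.coeff g) (hyc : ∀ g, x.coeff (y * g * y⁻¹) = x.coeff g)
    (hay : Commute a y) (hbz : Commute b z) {m : ℕ} (hy : y ^ m = 1) (hz : z ^ m = 1) :
    TraceDatum M (shiftPerm a b) (lMat x) (permMat (shiftPerm y z)) m where
  idem := by rw [← lMat_mul, hid]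
  invE := isInvMat_lMat ha b
  invY := (traceDatum_mulMat IsClassElt.one (one_mul _) hay hbz hy hz).invY
  pow_eq := (traceDatum_mulMat (M := M) IsClassElt.one (one_mul _) hay hbz hy hz).pow_eq
  comm := by
    refine Matrix.ext fun i j => ?_
    rw [permMat_mul_apply, mul_permMat_apply]
    simp only [lMat, Matrix.of_apply]
    rw [show shiftPerm y z j = y * j * z⁻¹ from rfl,
      show (shiftPerm y z).symm i = y⁻¹ * i * z from by
        rw [Equiv.symm_apply_eq, shiftPerm_apply]; group,
      show i * (y * j * z⁻¹)⁻¹ = y * (y⁻¹ * i * z * j⁻¹) * y⁻¹ by group]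
    exact (hyc _).symm

/-- The extension by zero of an element of the group ring of a subgroup. -/
noncomputable def incl (H : Subgroup G) :
    MonoidAlgebra (locRing M) H →+* MonoidAlgebra (locRing M) G :=
  MonoidAlgebra.mapDomainRingHom (locRing M) H.subtype

theorem coeff_incl (H : Subgroup G) (x : MonoidAlgebra (locRing M) H) (h : H) :
    (incl H x).coeff (h : G) = x.coeff h := by
  simp [incl, MonoidAlgebra.mapDomainRingHom, Finsupp.mapDomain_apply Subtype.val_injective]

theorem coeff_incl_notMem (H : Subgroup G) (x : MonoidAlgebra (locRing M) H) {g : G}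
    (hg : g ∉ H) : (incl H x).coeff g = 0 := by
  simp only [incl, MonoidAlgebra.mapDomainRingHom]
  refine Finsupp.mapDomain_notin_range _ _ ?_
  rintro ⟨h, rfl⟩
  exact hg h.2

theorem incl_conj_invariant (H : Subgroup G) {x : MonoidAlgebra (locRing M) H}
    (hx : IsClassElt x) (a : H) (g : G) :
    (incl H x).coeff ((a : G) * g * (a : G)⁻¹) = (incl H x).coeff g := by
  by_cases hg : g ∈ H
  · have e : (a : G) * g * (a : G)⁻¹ = ((a * ⟨g, hg⟩ * a⁻¹ : H) : G) := rfl
    rw [e, coeff_incl, hx, ← coeff_incl H x ⟨g, hg⟩]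
  · rw [coeff_incl_notMem H x hg, coeff_incl_notMem H x]
    intro h
    apply hg
    have h2 := H.mul_mem (H.mul_mem (H.inv_mem a.2) h) a.2
    simpa [mul_assoc] using h2

theorem coeff_incl_mul (H : Subgroup G) [Fintype H] (x : MonoidAlgebra (locRing M) H)
    (e : MonoidAlgebra (locRing M) G) (c : H) :
    (incl H x * e).coeff (c : G) = (x * restrictElt H e).coeff c := by
  classical
  rw [coeff_mul_univ, coeff_mul_univ]
  rw [← Finset.sum_subset (Finset.subset_univ (Finset.univ.image (fun k : H => (k : G))))]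
  · rw [Finset.sum_image fun a _ b _ h => Subtype.ext h]
    exact Finset.sum_congr rfl fun k _ => by rw [coeff_incl, coeff_restrictElt]; rfl
  · intro g _ hg
    rw [coeff_incl_notMem H x fun h => hg (Finset.mem_image.2 ⟨⟨g, h⟩, Finset.mem_univ _, rfl⟩),
      zero_mul]

theorem mul_conj_invariant {f e : MonoidAlgebra (locRing M) G} {a : G}
    (hf : ∀ g, f.coeff (a * g * a⁻¹) = f.coeff g) (he : IsClassElt e) (g : G) :
    (f * e).coeff (a * g * a⁻¹) = (f * e).coeff g := by
  rw [coeff_mul_univ, coeff_mul_univ]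
  refine (Fintype.sum_equiv (MulAut.conj a).toEquiv _ _ fun k => ?_).symm
  simp only [MulEquiv.toEquiv_eq_coe, MulEquiv.coe_toEquiv, MulAut.conj_apply]
  rw [hf k, show (a * k * a⁻¹)⁻¹ * (a * g * a⁻¹) = a * (k⁻¹ * g) * a⁻¹ by group, he]

theorem sum_blockCoeff_twist (B : Set (IrrCharacter G)) [DecidablePred (· ∈ B)] (g h : G) :
    ∑ j : G, blockCoeff B (g * j * h * j⁻¹) =
      ∑ χ ∈ Finset.univ.filter (· ∈ B), conj ((χ : G → ℂ) g * (χ : G → ℂ) h) := by
  have h1 : ∀ j : G, blockCoeff B (g * j * h * j⁻¹) = blockCoeff B (j⁻¹ * g * j * h) := fun j =>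
    blockCoeff_isConj B (isConj_iff.2 ⟨j⁻¹, by group⟩)
  simp only [h1, blockCoeff_eq_sum, Finset.mul_sum]
  rw [Finset.sum_comm]
  refine Finset.sum_congr rfl fun χ _ => ?_
  rw [← Finset.mul_sum, ← Finset.mul_sum, ← map_sum, irr_sum_conj_mul]
  have hG : (Nat.card G : ℂ) ≠ 0 := Nat.cast_ne_zero.2 Nat.card_pos.ne'
  have h1' := irr_one_ne_zero χ
  simp only [map_div₀, map_mul, map_natCast, conj_irr_one]
  field_simp

theorem conj_blockCoeff (B : Set (IrrCharacter G)) (g : G) :
    conj (blockCoeff B g) = blockCoeff B g⁻¹ := by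
  classical
  rw [blockCoeff_eq_sum, blockCoeff_eq_sum, map_mul, map_inv₀, map_natCast, map_sum]
  congr 1
  refine Finset.sum_congr rfl fun χ _ => ?_
  rw [map_mul, conj_irr_one, irr_inv, Complex.conj_conj]

/-- The second main theorem in the idempotent form. -/
theorem sum_blockCoeff_mul_eq_zero (hM : IsPModular p M) (H : Subgroup G) [Fintype H]
    {b : Set (IrrCharacter H)} {B : Set (IrrCharacter G)} (hind : IsInducedBlock M H b B)
    (h : H) (hC : ∀ z : G, IsPPart p (h : G) z → Subgroup.centralizer ({z} : Set G) ≤ H)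
    {χ : IrrCharacter G} (hχ : χ ∉ B) :
    ∑ k : H, blockCoeff b k * (χ : G → ℂ) ((k : G) * (h : G)) = 0 := by
  classical
  set B' := blockOf M (χ : G → ℂ) with hB'def
  have hB' : IsPBlock M B' := isPBlock_blockOf χ
  obtain ⟨a, ha⟩ := exists_isPPart hM.1 (h : G)
  have hCle := hC a ha
  have haH : a ∈ H := hCle (Subgroup.mem_centralizer_iff.2 fun q hq => by
    rw [Set.mem_singleton_iff.1 hq])
  obtain ⟨u, hau_eq, hau, ⟨i, hai⟩, hu⟩ := ha
  have huH : u ∈ H := by
    have h2 := H.mul_mem (H.inv_mem haH) h.2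
    rwa [← hau_eq, inv_mul_cancel_left] at h2
  set e := blockEltR M B' with he
  set x : MonoidAlgebra (locRing M) G := incl H (blockEltR M b) * e with hxdef
  set X : MonoidAlgebra (locRing M) H := blockEltR M b * restrictElt H e with hXdef
  have hXc : IsClassElt X :=
    IsClassElt.mul (isClassElt_blockEltR b) (IsClassElt.restrictElt (isClassElt_blockEltR B') H)
  obtain ⟨χ₀, hχ₀⟩ := isPBlock_nonempty hind.2.1
  have hXnil : IsNilpotent (resG X) := isNilpotent_resG hXc fun ψ => by
    rw [hXdef, omegaR_mul ψ (isClassElt_blockEltR b)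
      (IsClassElt.restrictElt (isClassElt_blockEltR B') H), omegaR_blockEltR hind.1]
    split_ifs with hψ
    · rw [one_mul]
      have h1 := isInducedBlock_omegaR hind hψ hχ₀ (isClassElt_blockEltR (M := M) B')
      rw [omegaR_blockEltR hB', if_neg fun h0 : χ₀ ∈ B' => hχ (isPBlock_mem_of_sameBlock hind.2.1 hχ₀
        (sameBlock_symm h0)), sub_zero] at h1
      exact h1
    · rw [zero_mul]; exact memLocalIdeal_zero
  obtain ⟨n, hn⟩ := hXnil
  have hinvF : ∀ v : H, ∀ g : G,
      (incl H (blockEltR M b)).coeff ((v : G) * g * (v : G)⁻¹) =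
        (incl H (blockEltR M b)).coeff g := fun v g =>
    incl_conj_invariant H (isClassElt_blockEltR b) v g
  have hxinv : ∀ v : H, ∀ g : G, x.coeff ((v : G) * g * (v : G)⁻¹) = x.coeff g := fun v g =>
    mul_conj_invariant (hinvF v) (isClassElt_blockEltR B') g
  have hxid : x * x = x := by
    have h1 : e * (incl H (blockEltR M b) * e) = incl H (blockEltR M b) * e := by
      rw [← mul_assoc, IsClassElt.comm (isClassElt_blockEltR B'), mul_assoc, blockEltR_idem hB']
    rw [hxdef, mul_assoc, h1, ← mul_assoc, ← map_mul, blockEltR_idem hind.1]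
  have key : ∀ g : G, ∑ φ ∈ Finset.univ.filter (· ∈ B'),
      (∑ k : H, blockCoeff b k * conj ((φ : G → ℂ) ((k : G)⁻¹ * (h : G)))) * (φ : G → ℂ) g = 0 := by
    intro g
    obtain ⟨c, hc⟩ := exists_isPPart hM.1 g
    obtain ⟨w, hcw_eq, hcw, ⟨j, hcj⟩, hw⟩ := hc
    have hD := traceDatum_lMat (m := orderOf u * orderOf w) (b := c) (z := w⁻¹) hxid
      (hxinv ⟨a, haH⟩) (hxinv ⟨u⁻¹, H.inv_mem huH⟩) hau.inv_right hcw.inv_right
      (by rw [inv_pow, pow_mul, pow_orderOf_eq_one, one_pow, inv_one])
      (by rw [inv_pow, mul_comm, pow_mul, pow_orderOf_eq_one, one_pow, inv_one])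
    have hσ := shiftPerm_pow_eq_one (p := p) hai hcj
    have hXinv : IsInvMat (shiftPerm a c) (lMat (incl H X)) :=
      isInvMat_lMat (incl_conj_invariant H hXc ⟨a, haH⟩) c
    have hfix : fixRes (shiftPerm a c) (lMat x) = fixRes (shiftPerm a c) (lMat (incl H X)) := by
      refine Matrix.ext fun s t => ?_
      have hs : a * (s : G) = s * c := mul_inv_eq_iff_eq_mul.1 s.2
      have ht : a * (t : G) = t * c := mul_inv_eq_iff_eq_mul.1 t.2
      have hst : (s : G) * (t : G)⁻¹ ∈ H := by
        refine hCle (Subgroup.mem_centralizer_iff.2 fun q hq => ?_)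
        rw [Set.mem_singleton_iff.1 hq, ← mul_assoc, hs, mul_assoc, mul_assoc]
        congr 1
        rw [eq_inv_mul_iff_mul_eq, ← mul_assoc, ← ht, mul_inv_cancel_right]
      simp only [fixRes, Matrix.of_apply, lMat]
      congr 1
      rw [show (s : G) * (t : G)⁻¹ = ((⟨_, hst⟩ : H) : G) from rfl, hxdef, coeff_incl_mul,
        coeff_incl]
    have hF0 : fixRes (shiftPerm a c) (lMat (incl H X)) ^ n = 0 := by
      rw [← fixRes_pow hM hσ hXinv, ← lMat_pow, ← map_pow]
      refine Matrix.ext fun s t => ?_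
      simp only [fixRes, Matrix.of_apply, lMat, Matrix.zero_apply]
      by_cases hg : (s : G) * (t : G)⁻¹ ∈ H
      · rw [show (s : G) * (t : G)⁻¹ = ((⟨_, hg⟩ : H) : G) from rfl, coeff_incl, ← coeff_resG,
          map_pow, hn]
        simp
      · rw [coeff_incl_notMem H _ hg, map_zero]
    have hidF : fixRes (shiftPerm a c) (lMat x) * fixRes (shiftPerm a c) (lMat x) =
        fixRes (shiftPerm a c) (lMat x) := by
      rw [← fixRes_mul hM hσ hD.invE hD.invE, hD.idem]
    have hzero : fixRes (shiftPerm a c) (lMat x) = 0 := by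
      have hp : IsIdempotentElem (fixRes (shiftPerm a c) (lMat x)) := hidF
      rcases Nat.eq_zero_or_pos n with h0 | h0
      · rw [h0, pow_zero] at hF0
        rw [← Matrix.one_mul (fixRes (shiftPerm a c) (lMat x)), hF0, Matrix.zero_mul]
      · rw [← hp.pow_eq h0.ne', hfix, hF0]
    have h0 := trace_perm_eq_zero hM hσ (not_dvd_mul_orders hM hu hw) hD hzero
    refine Eq.trans ?_ h0
    have hent : ∀ l : G, ((permMat (shiftPerm u⁻¹ w⁻¹) * lMat x : Matrix G G (locRing M))
        (shiftPerm a c l) l : ℂ) = ∑ k : H,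
          blockCoeff b k * blockCoeff B' ((k : G)⁻¹ * (u * a) * l * (c⁻¹ * w⁻¹) * l⁻¹) := by
      intro l
      rw [permMat_mul_apply, show (shiftPerm u⁻¹ w⁻¹).symm (shiftPerm a c l) =
        u * a * l * c⁻¹ * w⁻¹ from by
          rw [Equiv.symm_apply_eq, shiftPerm_apply, shiftPerm_apply]; group]
      simp only [lMat, Matrix.of_apply, hxdef, coeff_mul_univ]
      push_cast
      rw [← Finset.sum_subset (Finset.subset_univ (Finset.univ.image (fun k : H => (k : G))))]
      · rw [Finset.sum_image fun a _ b _ h => Subtype.ext h]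
        refine Finset.sum_congr rfl fun k _ => ?_
        rw [coeff_incl, coeff_blockEltR hind.1, he, coeff_blockEltR hB']
        simp only [mul_assoc]
      · intro g _ hg
        rw [coeff_incl_notMem H _ fun h => hg (Finset.mem_image.2 ⟨⟨g, h⟩, Finset.mem_univ _, rfl⟩)]
        simp
    rw [AddSubmonoidClass.coe_finset_sum]
    simp only [hent]
    rw [Finset.sum_comm]
    simp only [← Finset.mul_sum, sum_blockCoeff_twist]
    simp only [Finset.mul_sum, Finset.sum_mul]
    rw [Finset.sum_comm]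
    refine Finset.sum_congr rfl fun k _ => Finset.sum_congr rfl fun φ _ => ?_
    rw [map_mul, ← hau.eq, hau_eq, ← irr_inv φ (c⁻¹ * w⁻¹), mul_inv_rev, inv_inv, inv_inv,
      ← hcw.eq, hcw_eq]
    ring
  let d : IrrCharacter G → ℂ := fun φ => if φ ∈ B' then
    ∑ k : H, blockCoeff b k * conj ((φ : G → ℂ) ((k : G)⁻¹ * (h : G))) else 0
  have hd0 : ∑ φ, d φ • (φ : G → ℂ) = 0 := by
    funext g
    rw [Finset.sum_apply, Pi.zero_apply, ← key g, Finset.sum_filter]
    exact Finset.sum_congr rfl fun φ _ => by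
      simp only [d, Pi.smul_apply, smul_eq_mul]
      split_ifs <;> ring
  have h1 := classInner_combination d χ
  rw [hd0, classInner_zero_left] at h1
  simp only [d, if_pos (self_mem_blockOf χ), hB'def] at h1
  rw [← map_eq_zero (starRingEnd ℂ), map_sum]
  refine Eq.trans ?_ h1.symm
  refine Fintype.sum_equiv (Equiv.inv H) _ _ fun k => ?_
  rw [map_mul, conj_blockCoeff]
  simp

end Cfsg.Agent.Blocks
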