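/-
The sign vector of a subsection with one Brauer character in a block of defect two.
-/
import Cfsg.Agent.Lib.Blocks.SubsectionBound
import Cfsg.Agent.Lib.Blocks.Misc
import Cfsg.Agent.Lib.BrauerPairs.CartanOne

set_option linter.unusedSectionVars false
set_option linter.style.haveILetI false

namespace Cfsg.Agent.KleinSigns

open Cfsg Cfsg.Agent.Blocks Cfsg.Agent.Char
open scoped ComplexConjugate

universe u

variable {G : Type u} [Group G] [Fintype G] {p : ℕ} {M : Ideal AlgInt} [M.IsPrime]
  {B : Set (IrrCharacter G)} [DecidablePred (· ∈ B)]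

/-- The pairing over a block is divisible by the order of either centraliser. -/
theorem blockPair_div_centralizer (hB : IsPBlock M B) (x z : G) :
    MemLocalRing M (blockPair B x z / (Nat.card (Subgroup.centralizer ({x} : Set G)) : ℂ)) := by
  classical
  have hG : (Nat.card G : ℂ) ≠ 0 := Nat.cast_ne_zero.2 Nat.card_pos.ne'
  have h1 : blockPair B x z = ∑ j : G, blockCoeff B (j⁻¹ * x * j * z⁻¹)⁻¹ := by
    simp only [blockCoeff, finsum_mem_eq_finite_toFinset_sum _ (Set.toFinite B), ← irr_inv,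
      inv_inv, ← Finset.mul_sum]
    rw [Finset.sum_comm]
    simp only [← Finset.mul_sum, irr_sum_conj_mul]
    rw [Finset.mul_sum]
    unfold blockPair
    refine Finset.sum_congr (by ext χ; simp) fun χ _ => ?_
    rw [irr_inv]
    have := irr_one_ne_zero χ
    field_simp
  rw [h1, sum_conj_eq x (fun y => blockCoeff B (y * z⁻¹)⁻¹),
    mul_div_cancel_left₀ _ (Nat.cast_ne_zero.2 Nat.card_pos.ne')]
  exact memLocalRing_sum _ _ fun y _ => blockCoeff_memLocalRing hB _

/-- A local combination of characters that vanishes on the singular elements is divisible by the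
order of the centraliser at each regular element. -/
theorem regular_div_centralizer (hM : IsPModular p M) (s : Finset (IrrCharacter G))
    (n : IrrCharacter G → ℂ) (hn : ∀ χ ∈ s, MemLocalRing M (n χ))
    (h0 : ∀ z : G, p ∣ orderOf z → ∑ χ ∈ s, n χ * (χ : G → ℂ) z = 0) {x : G}
    (hx : ¬ p ∣ orderOf x) :
    MemLocalRing M ((∑ χ ∈ s, n χ * (χ : G → ℂ) x) /
      (Nat.card (Subgroup.centralizer ({x} : Set G)) : ℂ)) := by
  classical
  haveI := Fact.mk hM.1
  set H := Subgroup.centralizer ({x} : Set G)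
  obtain ⟨S⟩ : Nonempty (Sylow p H) := inferInstance
  set Q := (S : Subgroup H).map H.subtype
  haveI : Fintype Q := Fintype.ofFinite _
  have hQH : Q ≤ H := Subgroup.map_subtype_le _
  have hQc : ∀ u ∈ Q, Commute x u := fun u hu =>
    (Subgroup.mem_centralizer_singleton_iff.1 (hQH hu)).symm
  have hQcard : Nat.card Q = p ^ (Nat.card H).factorization p := by
    rw [Subgroup.card_map_of_injective H.subtype_injective, S.card_eq_multiplicity]
  have hQp : IsPGroup p Q := S.isPGroup'.map _
  have hsum : ∑ u : Q, ∑ χ ∈ s, n χ * (χ : G → ℂ) (x * u) = ∑ χ ∈ s, n χ * (χ : G → ℂ) x := by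
    rw [Finset.sum_eq_single (1 : Q) ?_ (fun h => absurd (Finset.mem_univ _) h),
      Subgroup.coe_one, mul_one]
    intro u _ hu
    refine h0 _ ?_
    obtain ⟨k, hk⟩ := (IsPGroup.iff_orderOf.1 hQp) u
    have hk' : orderOf (u : G) = p ^ k := by rwa [Subgroup.orderOf_coe]
    have hk0 : k ≠ 0 := fun e => hu (by
      rw [e, pow_zero, orderOf_eq_one_iff] at hk; exact hk)
    rw [Commute.orderOf_mul_eq_mul_orderOf_of_coprime (hQc u u.2) (by
      rw [hk']; exact (Nat.Coprime.pow_right _ (hM.1.coprime_iff_not_dvd.2 hx).symm)), hk']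
    exact (dvd_pow_self p hk0).mul_left _
  have hQ0 : (Nat.card Q : ℂ) ≠ 0 := Nat.cast_ne_zero.2 Nat.card_pos.ne'
  have e : (∑ χ ∈ s, n χ * (χ : G → ℂ) x) / (Nat.card H : ℂ) =
      ((Nat.card Q : ℂ) / (Nat.card H : ℂ)) *
        ∑ χ ∈ s, n χ * ((Nat.card Q : ℂ)⁻¹ * ∑ u : Q, (χ : G → ℂ) (x * u)) := by
    rw [← hsum, Finset.sum_comm, Finset.mul_sum, Finset.sum_div]
    refine Finset.sum_congr rfl fun χ _ => ?_
    rw [← Finset.mul_sum]
    field_simp
  rw [e]
  refine (locRing M).mul_mem (mem_locRing.2 (memLocalRing_natDiv hM ?_)) ?_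
  · rw [hQcard, hM.1.factorization_pow, Finsupp.single_eq_same]
  · refine mem_locRing.2 (memLocalRing_sum _ _ fun χ hχ => ?_)
    exact (locRing M).mul_mem (mem_locRing.2 (hn χ hχ))
      (mem_locRing_of_isIntegral (isIntegral_coset_avg Q hQc (irr_isCharacter χ)))

/-- A singular element from a nontrivial `p`-element and a commuting regular element. -/
theorem dvd_orderOf_section (hp : p.Prime) {x : G} (hx : ∃ k, orderOf x = p ^ k) (hx1 : x ≠ 1)
    {C : Subgroup G} (hC : C = Subgroup.centralizer ({x} : Set G)) {w : C}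
    (hw : ¬ p ∣ orderOf w) : p ∣ orderOf (x * (w : G)) := by
  obtain ⟨k, hk⟩ := hx
  have hk0 : k ≠ 0 := fun e => hx1 (by rw [e, pow_zero, orderOf_eq_one_iff] at hk; exact hk)
  have hc : Commute x (w : G) := Subgroup.mem_centralizer_iff.1 (hC.le w.2) x rfl
  rw [hc.orderOf_mul_eq_mul_orderOf_of_coprime (by
    rw [hk, Subgroup.orderOf_coe]; exact Nat.Coprime.pow_left _ (hp.coprime_iff_not_dvd.2 hw)), hk]
  exact (dvd_pow_self p hk0).mul_right _

variable {x : G} {C : Subgroup G} [Fintype C]

/-- The pairings of a section against the columns of the block. -/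
theorem sum_conj_regPair_mul (lam : ℝ) (v : C → ℂ) (z : G)
    [DecidablePred fun w : C => ¬ p ∣ orderOf w] :
    ∑ χ ∈ Finset.univ.filter (· ∈ B),
        conj (regPair p lam (secFun x C (χ : G → ℂ)) v) * (χ : G → ℂ) z =
      (lam : ℂ) * ∑ w ∈ Finset.univ.filter (fun w : C => ¬ p ∣ orderOf w),
        v w * blockPair B z (x * (w : G)) := by
  classical
  simp only [regPair_eq_sum, map_mul, map_sum, Complex.conj_ofReal, Complex.conj_conj, secFun,
    Finset.mul_sum, Finset.sum_mul]
  rw [Finset.sum_comm]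
  refine Finset.sum_congr rfl fun w _ => ?_
  unfold blockPair
  rw [Finset.mul_sum, Finset.mul_sum]
  exact Finset.sum_congr (by congr) fun χ _ => by ring

/-- The pairings of a section are orthogonal to the regular columns. -/
theorem sum_conj_regPair_regular (hM : IsPModular p M) (hB : IsPBlock M B)
    (hx : ∃ k, orderOf x = p ^ k) (hx1 : x ≠ 1) (hC : C = Subgroup.centralizer ({x} : Set G))
    (lam : ℝ) (v : C → ℂ) {z : G} (hz : ¬ p ∣ orderOf z) :
    ∑ χ ∈ Finset.univ.filter (· ∈ B),
        conj (regPair p lam (secFun x C (χ : G → ℂ)) v) * (χ : G → ℂ) z = 0 := by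
  classical
  rw [sum_conj_regPair_mul, Finset.sum_eq_zero fun w hw => ?_, mul_zero]
  rw [blockPair_regular_singular hM hB hz
    (dvd_orderOf_section hM.1 hx hx1 hC (Finset.mem_filter.1 hw).2), mul_zero]

/-- The pairing against a character of a local block is divisible by the centraliser. -/
theorem sum_conj_regPair_div (hM : IsPModular p M) (hB : IsPBlock M B)
    (hC : C = Subgroup.centralizer ({x} : Set G)) {b : Set (IrrCharacter C)} (hb : IsPBlock M b)
    {θ : IrrCharacter C} (hθ : θ ∈ b) (z : G) :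
    MemLocalRing M ((∑ χ ∈ Finset.univ.filter (· ∈ B),
        conj (regPair p (blockScale p b) (secFun x C (χ : G → ℂ)) (θ : C → ℂ)) * (χ : G → ℂ) z) /
      (Nat.card (Subgroup.centralizer ({z} : Set G)) : ℂ)) := by
  classical
  haveI : Finite (ConjClasses C) := Finite.of_surjective _ ConjClasses.mk_surjective
  haveI : Fintype (ConjClasses C) := Fintype.ofFinite _
  set cz : ℂ := (Nat.card (Subgroup.centralizer ({z} : Set G)) : ℂ)
  let F : C → ℂ := fun w => if p ∣ orderOf w then 0 else
    ((blockScale p b : ℂ) * (θ : C → ℂ) 1) * centralChar (θ : C → ℂ) w *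
      (blockPair B z (x * (w : G)) / cz)
  have hFc : IsClassFunction C F := by
    intro g h
    have ho : orderOf (h * g * h⁻¹) = orderOf g := by
      rw [← MulAut.conj_apply, MulEquiv.orderOf_eq]
    have hxh : Commute x (h : G) := Subgroup.mem_centralizer_iff.1 (hC.le h.2) x rfl
    have e : x * ((h * g * h⁻¹ : C) : G) = (h : G) * (x * (g : G)) * (h : G)⁻¹ := by
      simp only [Subgroup.coe_mul, Subgroup.coe_inv, ← mul_assoc, hxh.eq]
    simp only [F, ho]
    split_ifs
    · rfl
    · rw [centralChar_isConj θ (g := h * g * h⁻¹) (h := g)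
        (isConj_iff.2 ⟨h⁻¹, by group⟩), e]
      congr 2
      unfold blockPair
      exact Finset.sum_congr rfl fun χ _ => by rw [irr_conj_invariant]
  have hsum : (∑ χ ∈ Finset.univ.filter (· ∈ B),
      conj (regPair p (blockScale p b) (secFun x C (χ : G → ℂ)) (θ : C → ℂ)) * (χ : G → ℂ) z) /
      cz = ∑ w : C, F w / ((Subgroup.centralizer ({w} : Set C)).index : ℂ) := by
    rw [sum_conj_regPair_mul, Finset.sum_filter, Finset.mul_sum, Finset.sum_div]
    refine Finset.sum_congr rfl fun w _ => ?_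
    by_cases hw : p ∣ orderOf w
    · simp [F, hw]
    · simp only [F, if_neg hw, if_pos hw, centralChar]
      have := irr_one_ne_zero θ
      have : ((Subgroup.centralizer ({w} : Set C)).index : ℂ) ≠ 0 :=
        Nat.cast_ne_zero.2 Subgroup.index_ne_zero_of_finite
      field_simp
  rw [hsum, sum_regular_div_index F hFc]
  refine memLocalRing_sum _ _ fun K _ => ?_
  simp only [F]
  split_ifs
  · exact (locRing M).zero_mem
  refine (locRing M).mul_mem ((locRing M).mul_mem (mem_locRing.2 ?_)
    (mem_locRing.2 (centralChar_memLocalRing θ _))) (mem_locRing.2 (blockPair_div_centralizer hB _ _))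
  have e : (blockScale p b : ℂ) * (θ : C → ℂ) 1 =
      ((p ^ blockDefect p b * charDegree (θ : C → ℂ) : ℕ) : ℂ) / (Nat.card C : ℂ) := by
    rw [blockScale, irr_one_eq_charDegree]; push_cast; ring
  rw [e]
  refine memLocalRing_natDiv hM ?_
  rw [Nat.factorization_mul (pow_ne_zero _ hM.1.ne_zero) (charDegree_pos θ).ne',
    Finsupp.add_apply, hM.1.factorization_pow, Finsupp.single_eq_same]
  have h1 := degExp_ge hM hb hθ
  have h2 := blockDefect_le (p := p) b
  omega

/-- Two different blocks of one section give orthogonal pairings. -/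
theorem sum_regPair_mul_conj_same (hM : IsPModular p M) (hx : ∃ k, orderOf x = p ^ k)
    (hC : C = Subgroup.centralizer ({x} : Set G)) (hB : IsPBlock M B)
    {b b' : Set (IrrCharacter C)} (hb : IsPBlock M b) (hb' : IsPBlock M b') (hne : b ≠ b')
    (lam lam' : ℝ) {θ θ' : IrrCharacter C} (hθ : θ ∈ b) (hθ' : θ' ∈ b') :
    ∑ χ ∈ Finset.univ.filter (· ∈ B),
        regPair p lam (secFun x C (χ : G → ℂ)) (θ : C → ℂ) *
          conj (regPair p lam' (secFun x C (χ : G → ℂ)) (θ' : C → ℂ)) = 0 := by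
  classical
  have hθv : ∀ {b : Set (IrrCharacter C)} {θ : IrrCharacter C}, θ ∈ b →
      blockPart b (θ : C → ℂ) = (θ : C → ℂ) := fun {b θ} h => by
    rw [← bcomb_single b h, blockPart_bcomb]
  have horth : regPair p lam (θ' : C → ℂ) (θ : C → ℂ) = 0 := by
    rw [regPair_blockPart hM hb lam _ (hθv hθ)]
    have : blockPart b (θ' : C → ℂ) = fun _ => 0 := by
      funext u
      rw [blockPart_eq_sum]
      refine Finset.sum_eq_zero fun η hη => ?_
      rw [classInner_irr_of_ne θ'.2 η.2 (fun h => ?_), zero_mul]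
      obtain rfl : θ' = η := Subtype.ext h
      exact hne (isPBlock_eq_of_mem hb hb' (Finset.mem_filter.1 hη).2 hθ')
    rw [this]
    simp [regPair, pRegularPart]
  set U := unitBlocks M (restrictElt C (blockEltR M B))
  have hC' : C = Subgroup.centralizer (Subgroup.zpowers x : Set G) := by
    rw [centralizer_zpowers_eq]; exact hC
  have hin : ∀ w : C, ¬ p ∣ orderOf w →
      ∑ w' ∈ Finset.univ.filter (fun w' : C => ¬ p ∣ orderOf w'),
        (θ' : C → ℂ) w' * blockPair B (x * (w : G)) (x * (w' : G)) =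
      if b' ∈ U then (Nat.card C : ℂ) * (θ' : C → ℂ) w else 0 := by
    intro w hw
    rw [Finset.sum_congr rfl fun w' hw' => by
      rw [blockPair_local hM hB x hx C hC' w w' hw (Finset.mem_filter.1 hw').2, Finset.mul_sum],
      Finset.sum_comm]
    have hstep : ∀ c ∈ U, ∑ w' ∈ Finset.univ.filter (fun w' : C => ¬ p ∣ orderOf w'),
        (θ' : C → ℂ) w' * blockPair c w w' = if b' = c then (Nat.card C : ℂ) * (θ' : C → ℂ) w else 0 := by
      intro c hc
      have h := sum_regular_pair hM (mem_unitBlocks.1 hc).1 (θ' : C → ℂ) hw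
      rw [Finset.sum_congr rfl fun w' _ => mul_comm _ _, h]
      split_ifs with he
      · subst he; rw [hθv hθ']
      · rw [blockPart_eq_sum, Finset.sum_eq_zero fun η hη => ?_, mul_zero]
        rw [classInner_irr_of_ne θ'.2 η.2 (fun h => ?_), zero_mul]
        obtain rfl : θ' = η := Subtype.ext h
        exact he (isPBlock_eq_of_mem hb' (mem_unitBlocks.1 hc).1 hθ' (Finset.mem_filter.1 hη).2)
    rw [Finset.sum_congr rfl hstep, Finset.sum_ite_eq]
  calc ∑ χ ∈ Finset.univ.filter (· ∈ B),
        regPair p lam (secFun x C (χ : G → ℂ)) (θ : C → ℂ) *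
          conj (regPair p lam' (secFun x C (χ : G → ℂ)) (θ' : C → ℂ))
      = (lam : ℂ) * (lam' : ℂ) * ∑ w ∈ Finset.univ.filter (fun w : C => ¬ p ∣ orderOf w),
          conj ((θ : C → ℂ) w) * ∑ w' ∈ Finset.univ.filter (fun w' : C => ¬ p ∣ orderOf w'),
            (θ' : C → ℂ) w' * blockPair B (x * (w : G)) (x * (w' : G)) := by
        simp only [regPair_eq_sum, map_mul, map_sum, Complex.conj_ofReal, Complex.conj_conj,
          secFun, Finset.mul_sum, Finset.sum_mul]
        rw [Finset.sum_comm]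
        refine Eq.trans (Finset.sum_congr rfl fun w' _ => Finset.sum_comm) ?_
        rw [Finset.sum_comm]
        refine Finset.sum_congr rfl fun w _ => Finset.sum_congr rfl fun w' _ => ?_
        unfold blockPair
        simp only [Finset.mul_sum]
        exact Finset.sum_congr (by congr) fun χ _ => by ring
    _ = (lam' : ℂ) * (if b' ∈ U then (Nat.card C : ℂ) * regPair p lam (θ' : C → ℂ) (θ : C → ℂ)
          else 0) := by
        rw [Finset.sum_congr rfl fun w hw => by rw [hin w (Finset.mem_filter.1 hw).2]]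
        split_ifs with hU
        · rw [regPair_eq_sum]
          simp only [Finset.mul_sum]
          exact Finset.sum_congr rfl fun w _ => by ring
        · simp
    _ = 0 := by rw [horth]; simp

/-- Sections of elements that are not conjugate give orthogonal pairings. -/
theorem sum_regPair_mul_conj_of_not_isConj (hM : IsPModular p M) (hB : IsPBlock M B)
    {x' : G} {C' : Subgroup G} [Fintype C'] (hx : ∃ k, orderOf x = p ^ k)
    (hx' : ∃ k, orderOf x' = p ^ k) (hC : C = Subgroup.centralizer ({x} : Set G))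
    (hC' : C' = Subgroup.centralizer ({x'} : Set G)) (hnc : ¬ IsConj x x') (lam lam' : ℝ)
    (v : C → ℂ) (v' : C' → ℂ) :
    ∑ χ ∈ Finset.univ.filter (· ∈ B),
        regPair p lam (secFun x C (χ : G → ℂ)) v *
          conj (regPair p lam' (secFun x' C' (χ : G → ℂ)) v') = 0 := by
  classical
  calc ∑ χ ∈ Finset.univ.filter (· ∈ B),
        regPair p lam (secFun x C (χ : G → ℂ)) v *
          conj (regPair p lam' (secFun x' C' (χ : G → ℂ)) v')
      = (lam : ℂ) * (lam' : ℂ) * ∑ w ∈ Finset.univ.filter (fun w : C => ¬ p ∣ orderOf w),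
          ∑ w' ∈ Finset.univ.filter (fun w' : C' => ¬ p ∣ orderOf w'),
            conj (v w) * v' w' * blockPair B (x * (w : G)) (x' * (w' : G)) := by
        simp only [regPair_eq_sum, map_mul, map_sum, Complex.conj_ofReal, Complex.conj_conj,
          secFun, Finset.mul_sum, Finset.sum_mul]
        rw [Finset.sum_comm]
        refine Eq.trans (Finset.sum_congr rfl fun w' _ => Finset.sum_comm) ?_
        rw [Finset.sum_comm]
        refine Finset.sum_congr rfl fun w _ => Finset.sum_congr rfl fun w' _ => ?_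
        unfold blockPair
        simp only [Finset.mul_sum]
        exact Finset.sum_congr (by congr) fun χ _ => by ring
    _ = 0 := by
        refine mul_eq_zero_of_right _ (Finset.sum_eq_zero fun w hw => Finset.sum_eq_zero
          fun w' hw' => mul_eq_zero_of_right _ ?_)
        refine blockPair_eq_zero_of_not_isConj hM hB hx hx'
          (Subgroup.mem_centralizer_iff.1 (hC.le w.2) x rfl)
          (Subgroup.mem_centralizer_iff.1 (hC'.le w'.2) x' rfl) ?_ ?_ hnc
        · rw [Subgroup.orderOf_coe]; exact (Finset.mem_filter.1 hw).2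
        · rw [Subgroup.orderOf_coe]; exact (Finset.mem_filter.1 hw').2

variable {M₂ : Ideal AlgInt}

/-- The height zero member of a block of rank one and defect two pairs to one with itself. -/
theorem regPair_self_eq_one (hM : IsPModular 2 M) {b : Set (IrrCharacter C)} (hb : IsPBlock M b)
    (hl : blockRank 2 b = 1) (hd : blockDefect 2 b = 2)
    {r : IrrCharacter C → IrrCharacter C → ℤ}
    (hr : ∀ θ ∈ b, ∀ η ∈ b, regPair 2 (blockScale 2 b) (θ : C → ℂ) (η : C → ℂ) = (r θ η : ℂ))
    {θ : IrrCharacter C} (hθ : θ ∈ b) (hodd : ¬ (2 : ℤ) ∣ r θ θ) : r θ θ = 1 := by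
  classical
  set s := Finset.univ.filter (· ∈ b) with hs
  have hnn : ∀ η ∈ b, 0 ≤ r η η := fun η hη => by
    have h := qn_nonneg (blockScale_nonneg (p := 2) b) (pRegularPart 2 (η : C → ℂ))
    have e : ((qn (blockScale 2 b) (pRegularPart 2 (η : C → ℂ)) : ℝ) : ℂ) =
        (((r η η : ℤ) : ℝ) : ℂ) := by
      rw [qn_eq_regPair, hr η hη η hη]; norm_num
    rw [Complex.ofReal_inj.1 e] at h
    exact_mod_cast h
  have hsum : ∑ η ∈ s, r η η = 4 := by
    have hC0 : (Nat.card C : ℂ) ≠ 0 := Nat.cast_ne_zero.2 Nat.card_pos.ne'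
    have h1 : ∑ η ∈ s, regPair 2 (blockScale 2 b) (η : C → ℂ) (η : C → ℂ) = (4 : ℂ) := by
      simp only [regPair_eq_sum, ← Finset.mul_sum]
      rw [Finset.sum_comm]
      have h2 := blockRank_eq hM hb
      rw [hl, Nat.cast_one, eq_inv_mul_iff_mul_eq₀ hC0, mul_one] at h2
      have h3 : (∑ u ∈ Finset.univ.filter (fun u : C => ¬ 2 ∣ orderOf u),
          ∑ η ∈ s, (η : C → ℂ) u * conj ((η : C → ℂ) u)) = (Nat.card C : ℂ) := by
        rw [h2]
        refine Finset.sum_congr rfl fun u _ => ?_
        unfold blockPair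
        exact Finset.sum_congr (by ext η; simp [hs]) fun η _ => rfl
      rw [h3, blockScale_mul_card, hd]
      norm_num
    rw [Finset.sum_congr rfl fun η hη => hr η (Finset.mem_filter.1 hη).2 η
      (Finset.mem_filter.1 hη).2] at h1
    exact_mod_cast h1
  have hθs : θ ∈ s := Finset.mem_filter.2 ⟨Finset.mem_univ _, hθ⟩
  have hle : r θ θ ≤ 4 := hsum ▸ Finset.single_le_sum
    (fun η hη => hnn η (Finset.mem_filter.1 hη).2) hθs
  have h0 := hnn θ hθ
  by_contra h1
  have h3 : r θ θ = 3 := by omega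
  have hdiv : ∀ η ∈ s, (3 : ℤ) ∣ r η η := by
    intro η hη
    have hη' := (Finset.mem_filter.1 hη).2
    set κ : ℂ := (η : C → ℂ) 1 / (θ : C → ℂ) 1
    have hκ : conj κ = κ := by
      simp only [κ, irr_one_eq_charDegree, map_div₀, map_natCast]
    have hprop : ∀ u : C, ¬ 2 ∣ orderOf u → (η : C → ℂ) u = κ * (θ : C → ℂ) u := fun u hu => by
      have h := Cfsg.Agent.BrauerPairs.exists_proportional hl (by norm_num) hη' hθ hu
      have := irr_one_ne_zero θ
      simp only [κ]
      field_simp
      linear_combination h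
    have eθη : (r θ η : ℂ) = κ * (r θ θ : ℂ) := by
      rw [← hr θ hθ η hη', ← hr θ hθ θ hθ, regPair_eq_sum, regPair_eq_sum, ← mul_assoc,
        mul_comm κ, mul_assoc]
      congr 1
      rw [Finset.mul_sum]
      refine Finset.sum_congr rfl fun u hu => ?_
      rw [hprop u (Finset.mem_filter.1 hu).2, map_mul, hκ]; ring
    have eηη : (r η η : ℂ) = κ * κ * (r θ θ : ℂ) := by
      rw [← hr η hη' η hη', ← hr θ hθ θ hθ, regPair_eq_sum, regPair_eq_sum, ← mul_assoc,
        mul_comm (κ * κ), mul_assoc]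
      congr 1
      rw [Finset.mul_sum]
      refine Finset.sum_congr rfl fun u hu => ?_
      rw [hprop u (Finset.mem_filter.1 hu).2, map_mul, hκ]; ring
    have e : r θ η ^ 2 = r θ θ * r η η := by
      have : ((r θ η ^ 2 : ℤ) : ℂ) = ((r θ θ * r η η : ℤ) : ℂ) := by
        push_cast; rw [eθη, eηη]; ring
      exact_mod_cast this
    rw [h3] at e
    obtain ⟨k, hk⟩ := Int.prime_three.dvd_of_dvd_pow (n := 2) (e ▸ dvd_mul_right 3 (r η η))
    exact ⟨k ^ 2, by rw [hk] at e; linarith⟩
  have := Finset.dvd_sum hdiv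
  rw [hsum] at this
  omega

/-- The sign vector of a subsection. -/
theorem exists_sign_vector (hM : IsPModular 2 M) {b : Set (IrrCharacter C)} (hx2 : x * x = 1)
    (hx1 : x ≠ 1) (hC : C = Subgroup.centralizer ({x} : Set G)) (hind : IsInducedBlock M C b B)
    (hd : blockDefect 2 b = blockDefect 2 B) (hd2 : blockDefect 2 B = 2)
    (hl : blockRank 2 b = 1) (hk : Nat.card B = 4) :
    ∃ θ ∈ b, ∃ f : IrrCharacter G → ℤ,
      (∀ χ : IrrCharacter G, regPair 2 (blockScale 2 b) (secFun x C (χ : G → ℂ)) (θ : C → ℂ) = (f χ : ℂ)) ∧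
      (∀ χ ∈ B, f χ = 1 ∨ f χ = -1) ∧
      ∀ χ : IrrCharacter G, ∀ w : C, ¬ 2 ∣ orderOf w →
        blockPart b (secFun x C (χ : G → ℂ)) w = (f χ : ℂ) * (θ : C → ℂ) w := by
  classical
  have hx : ∃ k, orderOf x = 2 ^ k :=
    ⟨1, (orderOf_eq_prime (p := 2) (by rw [pow_two, hx2]) hx1).trans (pow_one 2).symm⟩
  obtain ⟨D⟩ := nonempty_subData hM hx hC hind
  obtain ⟨χ₀, hχ₀, h0⟩ := exists_heightZero hM hind.2.1
  set θ := D.ψ
  have hθ : θ ∈ b := D.hψ
  have hθv : blockPart b (θ : C → ℂ) = (θ : C → ℂ) := by rw [← bcomb_single b hθ, blockPart_bcomb]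
  have hr1 := regPair_self_eq_one hM hind.1 hl (hd.trans hd2) D.hr hθ D.hψψ
  have hsgn : ∀ η : IrrCharacter C, ∃ z : ℤ, (z = 1 ∨ z = -1) ∧ D.ζ ^ (1 * D.e η) = (z : ℂ) := by
    intro η
    have h1 := D.he η 2 1 1 (by simp [pow_two, hx2])
    rw [one_mul] at h1
    have h2 : (D.ζ ^ D.e η) ^ 2 = 1 := by
      rw [← pow_mul, mul_comm]
      exact mul_right_cancel₀ (irr_one_ne_zero η) (by rw [one_mul]; exact h1.symm)
    rcases sq_eq_one_iff.1 h2 with h | h
    · exact ⟨1, .inl rfl, by simpa using h⟩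
    · exact ⟨-1, .inr rfl, by simpa using h⟩
  choose sg hsg1 hsg using hsgn
  set s := Finset.univ.filter (· ∈ b)
  let f : IrrCharacter G → ℤ := fun χ => ∑ η ∈ s, sg η * (D.n χ η : ℤ) * D.r η θ
  have hbp : ∀ χ : IrrCharacter G, blockPart b (secFun x C (χ : G → ℂ)) =
      bcomb b (fun η => (sg η : ℂ) * (D.n χ η : ℂ)) := fun χ => by
    have := blockPart_secFun_pow (b := b) hC χ (D.hn χ) D.he 1
    simp only [pow_one] at this
    rw [this]; simp only [hsg]
  have hf : ∀ χ : IrrCharacter G, regPair 2 (blockScale 2 b) (secFun x C (χ : G → ℂ)) (θ : C → ℂ) = (f χ : ℂ) := by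
    intro χ
    rw [regPair_blockPart hM hind.1 _ _ hθv, hbp, regPair_bcomb_left]
    simp only [f, Int.cast_sum, Int.cast_mul, Int.cast_natCast]
    exact Finset.sum_congr rfl fun η hη => by rw [D.hr η (Finset.mem_filter.1 hη).2 θ hθ]
  have hpar : ∀ χ ∈ B, ((2 : ℤ) ∣ f χ ↔ blockHeight 2 B (χ : G → ℂ) ≠ 0) := by
    intro χ hχ
    have h1 := dvd_mult_sum_iff hM hind hχ (D.hn χ) D.hr hθ D.hψ0
    have h2 : (2 : ℤ) ∣ f χ - ∑ η ∈ s, (D.n χ η : ℤ) * D.r η θ := by
      rw [← Finset.sum_sub_distrib]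
      refine Finset.dvd_sum fun η _ => ?_
      rcases hsg1 η with e | e <;> rw [e]
      · simp
      · exact ⟨-((D.n χ η : ℤ) * D.r η θ), by ring⟩
    refine ⟨fun h => h1.1 ?_, fun h => ?_⟩
    · have := dvd_sub h h2
      rwa [sub_sub_cancel] at this
    · have := dvd_add h2 (h1.2 h)
      rwa [sub_add_cancel] at this
  have hne : ∀ χ ∈ B, f χ ≠ 0 := by
    intro χ hχ e
    have h1 := (regPair_major hM hx hC hind hd hχ hχ₀ h0 (v := (θ : C → ℂ))
      (fun g h => irr_conj_invariant θ g h) (fun u => conj_irr_memLocalRing θ u)).2.1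
      (memLocalIdeal_zero_div (by rw [hf, e, Int.cast_zero]))
    rw [hf, intCast_memLocalIdeal_iff hM] at h1
    exact ((hpar χ₀ hχ₀).1 (by exact_mod_cast h1)) h0
  refine ⟨θ, hθ, f, hf, ?_, fun χ w hw => ?_⟩
  · have hB4 : (Finset.univ.filter (· ∈ B)).card = 4 := by
      rw [← hk, Nat.card_eq_fintype_card, Fintype.card_subtype]
    have hsq : ∑ χ ∈ Finset.univ.filter (· ∈ B), f χ ^ 2 = 4 := by
      have h := sum_normSq_regPair hM hx hC hind hθv
      rw [hd, hd2, D.hr θ hθ θ hθ, hr1] at h
      simp only [hf, Complex.normSq_intCast] at h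
      have h' : ((∑ χ ∈ Finset.univ.filter (· ∈ B), f χ ^ 2 : ℤ) : ℂ) = ((4 : ℤ) : ℂ) := by
        push_cast at h ⊢
        rw [mul_one] at h
        convert h using 1
        · exact Finset.sum_congr rfl fun χ _ => by ring
      exact_mod_cast h'
    intro χ hχ
    have h1 : ∀ φ ∈ Finset.univ.filter (· ∈ B), (1 : ℤ) ≤ f φ ^ 2 := fun φ hφ => by
      have := sq_pos_of_ne_zero (hne φ (Finset.mem_filter.1 hφ).2)
      omega
    have h2 := (Finset.sum_eq_sum_iff_of_le h1).1 (by rw [hsq, Finset.sum_const, hB4]; norm_num)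
      χ (Finset.mem_filter.2 ⟨Finset.mem_univ _, hχ⟩)
    exact sq_eq_one_iff.1 h2.symm
  · rw [hbp, bcomb]
    simp only [f, Int.cast_sum, Int.cast_mul, Int.cast_natCast, Finset.sum_mul]
    refine Finset.sum_congr rfl fun η hη => ?_
    have hη' := (Finset.mem_filter.1 hη).2
    have hprop := Cfsg.Agent.BrauerPairs.exists_proportional hl (by norm_num) hη' hθ hw
    have hθ1 := irr_one_ne_zero θ
    set κ : ℂ := (η : C → ℂ) 1 / (θ : C → ℂ) 1 with hκ
    have eκ : (D.r η θ : ℂ) = κ := by
      have e : (D.r η θ : ℂ) = κ * (D.r θ θ : ℂ) := by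
        rw [← D.hr η hη' θ hθ, ← D.hr θ hθ θ hθ, regPair_eq_sum, regPair_eq_sum, ← mul_assoc,
          mul_comm κ, mul_assoc]
        congr 1
        rw [Finset.mul_sum]
        refine Finset.sum_congr rfl fun u hu => ?_
        have h' := Cfsg.Agent.BrauerPairs.exists_proportional hl (by norm_num) hη' hθ
          (Finset.mem_filter.1 hu).2
        rw [hκ]
        field_simp
        linear_combination conj ((θ : C → ℂ) u) * h'
      rw [e, hr1, Int.cast_one, mul_one]
    rw [eκ, hκ]
    field_simp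
    linear_combination (sg η : ℂ) * (D.n χ η : ℂ) * hprop

end Cfsg.Agent.KleinSigns
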