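/-
Blocks with defect group `P` of a group `G = P C(P)`.
-/
import Cfsg.Agent.Lib.Blocks.RegularCriterion
import Cfsg.Agent.Lib.Blocks.SecondMain
import Cfsg.Agent.Lib.Blocks.MinMax
import Cfsg.Agent.Lib.Blocks.Misc
import Cfsg.Agent.Lib.Char.Clifford
import Cfsg.Agent.Lib.Char.Degree
import Cfsg.Agent.Lib.Char.Complete

set_option linter.unusedSectionVars false
set_option linter.style.haveILetI false

namespace Cfsg.Agent.Blocks

open Cfsg MonoidAlgebra Cfsg.Agent.Char
open scoped ComplexConjugate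

universe u

variable {G : Type u} [Group G] [Fintype G] {p : ℕ} {M : Ideal AlgInt} [M.IsPrime]

/-- A normal `p`-subgroup has some character of each block trivial on it. -/
theorem exists_trivial_on_normal (hM : IsPModular p M) {B : Set (IrrCharacter G)}
    (hB : IsPBlock M B) (P : Subgroup G) [P.Normal] (hP : IsPGroup p P) :
    ∃ θ ∈ B, ∀ u ∈ P, (θ : G → ℂ) u = (θ : G → ℂ) 1 := by
  classical
  haveI := Fact.mk hM.1
  by_contra hne
  push Not at hne
  have h1 : blockCoeff B (1 : G) = 0 := by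
    have : ∑ u : P, blockCoeff B (u : G) = blockCoeff B 1 := by
      refine (Finset.sum_eq_single (1 : P) (fun u _ hu => ?_) (by simp)).trans (by simp)
      refine blockCoeff_eq_zero_of_singular hM hB ?_
      obtain ⟨i, hi⟩ := (IsPGroup.iff_orderOf).1 hP u
      rw [Subgroup.orderOf_coe, hi]
      refine dvd_pow_self p fun h => hu ?_
      rwa [h, pow_zero, orderOf_eq_one_iff] at hi
    rw [← this]
    simp only [blockCoeff_eq_sum, ← Finset.mul_sum]
    rw [Finset.sum_comm, Finset.sum_eq_zero, mul_zero]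
    intro χ hχ
    have := Cfsg.Agent.CharX.sum_coset_eq_zero χ.2 P (hne χ (Finset.mem_filter.1 hχ).2) 1
    simp only [one_mul] at this
    rw [← Finset.mul_sum, ← map_sum, this, map_zero, mul_zero]
  obtain ⟨χ, hχ⟩ := isPBlock_nonempty hB
  rw [blockCoeff_eq_sum, mul_eq_zero] at h1
  rcases h1 with h1 | h1
  · exact (inv_ne_zero (Nat.cast_ne_zero.2 Nat.card_pos.ne')) h1
  · simp only [irr_one_eq_charDegree, map_natCast] at h1
    have h2 : ∑ ψ ∈ Finset.univ.filter (· ∈ B),
        charDegree (ψ : G → ℂ) * charDegree (ψ : G → ℂ) = 0 := by exact_mod_cast h1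
    have := (Finset.sum_eq_zero_iff.1 h2) χ (Finset.mem_filter.2 ⟨Finset.mem_univ _, hχ⟩)
    exact (Nat.mul_pos (charDegree_pos χ) (charDegree_pos χ)).ne' this

/-- Bessel's inequality with its equality case for one vector. -/
theorem bessel_aux {ι κ : Type*} (R : Finset κ) (f : κ → ℂ) (s : Finset ι) (v : ι → κ → ℂ)
    {N : ℝ} (hN : 0 < N)
    (horth : ∀ i ∈ s, ∀ j ∈ s, [Decidable (i = j)] →
      ∑ u ∈ R, v i u * conj (v j u) = if i = j then (N : ℂ) else 0) :
    ∑ i ∈ s, Complex.normSq (∑ u ∈ R, f u * conj (v i u)) ≤ N * ∑ u ∈ R, Complex.normSq (f u) ∧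
    (∑ i ∈ s, Complex.normSq (∑ u ∈ R, f u * conj (v i u)) = N * ∑ u ∈ R, Complex.normSq (f u) →
      ∀ u ∈ R, f u = ∑ i ∈ s, ((∑ w ∈ R, f w * conj (v i w)) / (N : ℂ)) * v i u) := by
  classical
  set a : ι → ℂ := fun i => ∑ u ∈ R, f u * conj (v i u) with ha
  set g : κ → ℂ := fun u => ∑ i ∈ s, (a i / (N : ℂ)) * v i u with hg
  have hN' : (N : ℂ) ≠ 0 := Complex.ofReal_ne_zero.2 hN.ne'
  have h1 : ∑ u ∈ R, f u * conj (g u) = (∑ i ∈ s, (Complex.normSq (a i) : ℂ)) / N := by
    simp only [hg, map_sum, map_mul, map_div₀, Complex.conj_ofReal, Finset.mul_sum]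
    rw [Finset.sum_comm, Finset.sum_div]
    refine Finset.sum_congr rfl fun i _ => ?_
    rw [← Complex.mul_conj]
    conv_rhs => rw [mul_comm, ha]
    simp only [Finset.mul_sum, Finset.sum_div]
    exact Finset.sum_congr rfl fun u _ => by ring
  have h2 : ∑ u ∈ R, g u * conj (g u) = (∑ i ∈ s, (Complex.normSq (a i) : ℂ)) / N := by
    simp only [hg, map_sum, map_mul, map_div₀, Complex.conj_ofReal, Finset.mul_sum, Finset.sum_mul]
    rw [Finset.sum_comm, Finset.sum_div]
    refine Finset.sum_congr rfl fun i hi => ?_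
    rw [Finset.sum_comm, Finset.sum_eq_single i]
    · have := horth i hi i hi
      rw [if_pos rfl] at this
      calc _ = a i / (N : ℂ) * (conj (a i) / N) * ∑ u ∈ R, v i u * conj (v i u) := by
            rw [Finset.mul_sum]; exact Finset.sum_congr rfl fun u _ => by ring
        _ = _ := by rw [this, ← Complex.mul_conj]; field_simp
    · intro j hj hne
      have := horth j hj i hi
      rw [if_neg hne] at this
      calc _ = a j / (N : ℂ) * (conj (a i) / N) * ∑ u ∈ R, v j u * conj (v i u) := by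
            rw [Finset.mul_sum]; exact Finset.sum_congr rfl fun u _ => by ring
        _ = _ := by rw [this, mul_zero]
    · exact fun h => absurd hi h
  have h3 : (((∑ u ∈ R, Complex.normSq (f u - g u)) : ℝ) : ℂ) =
      (((∑ u ∈ R, Complex.normSq (f u)) - (∑ i ∈ s, Complex.normSq (a i)) / N : ℝ) : ℂ) := by
    push_cast
    simp only [← Complex.mul_conj, map_sub, sub_mul, mul_sub, Finset.sum_sub_distrib]
    simp only [Complex.mul_conj] at h1 h2 ⊢
    have h1' := congrArg conj h1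
    simp only [map_sum, map_mul, Complex.conj_conj, map_div₀, Complex.conj_ofReal] at h1'
    rw [h1, h2, Finset.sum_congr rfl fun u _ => mul_comm (g u) (conj (f u)), h1']
    ring
  have h4 := Complex.ofReal_injective h3
  have h5 : 0 ≤ ∑ u ∈ R, Complex.normSq (f u - g u) :=
    Finset.sum_nonneg fun u _ => Complex.normSq_nonneg _
  refine ⟨?_, fun he u hu => ?_⟩
  · rw [h4, sub_nonneg, div_le_iff₀ hN, mul_comm] at h5
    exact h5
  · rw [show (∑ i ∈ s, Complex.normSq (a i)) = N * ∑ u ∈ R, Complex.normSq (f u) from he,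
      mul_div_cancel_left₀ _ hN.ne', sub_self] at h4
    exact sub_eq_zero.1 (Complex.normSq_eq_zero.1
      ((Finset.sum_eq_zero_iff_of_nonneg fun u _ => Complex.normSq_nonneg _).1 h4 u hu))

/-- The members of a block with defect group `P` of `P C(P)`. -/
theorem product_block (hM : IsPModular p M) {P : Subgroup G} [P.Normal] [Fintype P]
    (hP : IsPGroup p P) (hG : P ⊔ Subgroup.centralizer (P : Set G) = ⊤)
    {B : Set (IrrCharacter G)} (hB : IsPBlock M B) (hD : IsDefectGroup p M B P) :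
    ∃ θ ∈ B, (∀ x ∈ P, (θ : G → ℂ) x = (θ : G → ℂ) 1) ∧
      (∀ φ ∈ B, (∀ x ∈ P, (φ : G → ℂ) x = (φ : G → ℂ) 1) → φ = θ) ∧
      ∃ ξ : IrrCharacter G → IrrCharacter P,
        (∀ φ ∈ B, ∀ x : P, (φ : G → ℂ) x * (ξ φ : P → ℂ) 1 = (φ : G → ℂ) 1 * (ξ φ : P → ℂ) x) ∧
        (∀ φ ∈ B, ∀ u : G, ¬ p ∣ orderOf u →
          (φ : G → ℂ) u = (ξ φ : P → ℂ) 1 * (θ : G → ℂ) u) ∧
        Set.BijOn ξ B Set.univ := by
  classical
  haveI := Fact.mk hM.1
  have hp := hM.1
  have hG0 : (Nat.card G : ℝ) ≠ 0 := Nat.cast_ne_zero.2 Nat.card_pos.ne'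
  haveI hCn : (Subgroup.centralizer (P : Set G)).Normal := ⟨fun c hc x => by
    refine Subgroup.mem_centralizer_iff.2 fun u hu => ?_
    have h1 := Subgroup.mem_centralizer_iff.1 hc (x⁻¹ * u * x)
      (by simpa using (inferInstance : P.Normal).conj_mem u hu x⁻¹)
    calc u * (x * c * x⁻¹) = x * (x⁻¹ * u * x * c) * x⁻¹ := by group
      _ = x * (c * (x⁻¹ * u * x)) * x⁻¹ := by rw [h1]
      _ = x * c * x⁻¹ * u := by group⟩
  have hdec : ∀ g : G, ∃ a ∈ P, ∃ c ∈ Subgroup.centralizer (P : Set G), g = a * c := fun g => by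
    obtain ⟨a, ha, c, hc, e⟩ := Subgroup.mem_sup_of_normal_right.1 (hG ▸ Subgroup.mem_top g :
      g ∈ P ⊔ Subgroup.centralizer (P : Set G))
    exact ⟨a, ha, c, hc, e.symm⟩
  have hfix : ∀ g : G, ¬ p ∣ orderOf g → g ∈ Subgroup.centralizer (P : Set G) := by
    intro g hg
    obtain ⟨a, ha, c, hc, rfl⟩ := hdec g
    obtain ⟨i, hi⟩ := hP ⟨a, ha⟩
    have hi' : a ^ p ^ i = 1 := congrArg Subtype.val hi
    have hq : ((a * c : G) : G ⧸ Subgroup.centralizer (P : Set G)) = (a : G ⧸ _) := by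
      rw [QuotientGroup.mk_mul, (QuotientGroup.eq_one_iff c).2 hc, mul_one]
    have h1 : orderOf ((a * c : G) : G ⧸ Subgroup.centralizer (P : Set G)) ∣
        Nat.gcd (p ^ i) (orderOf (a * c)) := Nat.dvd_gcd
      (orderOf_dvd_of_pow_eq_one (by rw [hq, ← QuotientGroup.mk_pow, hi']; rfl))
      (orderOf_map_dvd (QuotientGroup.mk' _) _)
    rwa [Nat.Coprime.pow_left i (hp.coprime_iff_not_dvd.2 hg), Nat.dvd_one, orderOf_eq_one_iff,
      QuotientGroup.eq_one_iff] at h1
  -- every defect group is `P`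
  have hallD : ∀ E : Subgroup G, IsDefectGroup p M B E → E = P := fun E hE =>
    (Subgroup.eq_of_le_of_card_ge (le_defectGroup_of_normal hM hB hE P hP)
      (by rw [card_defectGroup hM hB hE, card_defectGroup hM hB hD])).symm
  set R := Finset.univ.filter (fun u : G => ¬ p ∣ orderOf u) with hR
  have hmemR : ∀ u, u ∈ R ↔ ¬ p ∣ orderOf u := fun u => by simp [hR]
  -- the factorisation of a member
  have hξex : ∀ φ : IrrCharacter G, ∃ ξ : IrrCharacter P, ∀ x : P,
      (φ : G → ℂ) x * (ξ : P → ℂ) 1 = (φ : G → ℂ) 1 * (ξ : P → ℂ) x := by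
    intro φ
    obtain ⟨ξ, hξ⟩ := exists_restrict_constituent φ.2 P
    refine ⟨ξ, fun x => ?_⟩
    have horb : conjOrbit P (ξ : P → ℂ) = {(ξ : P → ℂ)} := by
      ext f
      rw [mem_conjOrbit, Finset.mem_singleton]
      refine ⟨?_, fun h => ⟨1, by rw [h, conjChar_one]⟩⟩
      rintro ⟨g, rfl⟩
      funext w
      obtain ⟨a, ha, c, hc, rfl⟩ := hdec g
      show (ξ : P → ℂ) (conjHom P (a * c) w) = _
      rw [show conjHom P (a * c) w = ⟨a, ha⟩ * w * ⟨a, ha⟩⁻¹ from Subtype.ext (by
        show a * c * (w : G) * (a * c)⁻¹ = a * (w : G) * a⁻¹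
        rw [mul_assoc a c, ← Subgroup.mem_centralizer_iff.1 hc w w.2]
        group)]
      exact irr_conj_invariant ξ w _
    have h := clifford P φ.2 ξ.2 hξ
    rw [horb, Finset.sum_singleton] at h
    have hx := congrFun h x
    have h1 := congrFun h 1
    simp only [Pi.smul_apply, smul_eq_mul, OneMemClass.coe_one] at hx h1
    rw [hx, h1]
    ring
  choose ξ hξ using hξex
  have hmul : ∀ (φ : IrrCharacter G) (x : P) (u : G), ¬ p ∣ orderOf u →
      (φ : G → ℂ) ((x : G) * u) * (ξ φ : P → ℂ) 1 = (ξ φ : P → ℂ) x * (φ : G → ℂ) u := by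
    intro φ x u hu
    have h := irr_mul_of_const φ (x : G) u fun x' u' hx' hu' => by
      obtain ⟨c, rfl⟩ := isConj_iff.1 hx'
      obtain ⟨d, rfl⟩ := isConj_iff.1 hu'
      obtain ⟨a, ha, c₁, hc₁, rfl⟩ := hdec c
      obtain ⟨a₂, ha₂, d₁, hd₁, rfl⟩ := hdec d
      have hX : a * c₁ * (x : G) * (a * c₁)⁻¹ = a * (x : G) * a⁻¹ := by
        rw [mul_assoc a c₁, ← Subgroup.mem_centralizer_iff.1 hc₁ x x.2]; group
      have hd : d₁ * u * d₁⁻¹ ∈ Subgroup.centralizer (P : Set G) := hCn.conj_mem u (hfix u hu) d₁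
      have hU : a₂ * d₁ * u * (a₂ * d₁)⁻¹ = d₁ * u * d₁⁻¹ := by
        rw [show a₂ * d₁ * u * (a₂ * d₁)⁻¹ = a₂ * (d₁ * u * d₁⁻¹) * a₂⁻¹ by group,
          Subgroup.mem_centralizer_iff.1 hd a₂ ha₂, mul_inv_cancel_right]
      have h2 : a * (x : G) * a⁻¹ * (d₁ * u * d₁⁻¹) = (a * d₁) * ((x : G) * u) * (a * d₁)⁻¹ := by
        rw [show a * (x : G) * a⁻¹ * (d₁ * u * d₁⁻¹) = a * (x : G) * (a⁻¹ * (d₁ * u * d₁⁻¹)) by
            group,
          Subgroup.mem_centralizer_iff.1 hd a⁻¹ (P.inv_mem ha)]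
        calc a * (x : G) * (d₁ * u * d₁⁻¹ * a⁻¹) = a * ((x : G) * d₁) * u * d₁⁻¹ * a⁻¹ := by group
          _ = a * (d₁ * (x : G)) * u * d₁⁻¹ * a⁻¹ := by
              rw [Subgroup.mem_centralizer_iff.1 hd₁ x x.2]
          _ = _ := by group
      rw [hX, hU, h2, irr_conj_invariant]
    have h1 := irr_one_ne_zero φ
    apply mul_left_cancel₀ h1
    linear_combination -(ξ φ : P → ℂ) 1 * h + (φ : G → ℂ) u * hξ φ x
  set S : IrrCharacter G → IrrCharacter G → ℂ := fun φ ψ =>
    ∑ u ∈ R, (φ : G → ℂ) u * conj ((ψ : G → ℂ) u) with hS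
  -- orthogonality of the members over one character of `P`
  have horth : ∀ φ ∈ B, ∀ ψ ∈ B, ξ φ = ξ ψ →
      S φ ψ = if φ = ψ then
        (((Nat.card G : ℝ) * (charDegree (ξ φ : P → ℂ) : ℝ) ^ 2 / (Nat.card P : ℝ) : ℝ) : ℂ)
        else 0 := by
    intro φ hφ ψ hψ hxi
    have hinj : Set.InjOn (fun w : P × G => (w.1 : G) * w.2)
        ↑((Finset.univ : Finset P) ×ˢ R) := by
      intro w hw w' hw' h
      simp only [Finset.coe_product, Set.mem_prod, Finset.mem_coe] at hw hw'
      have hpp : ∀ {w : P × G}, w.2 ∈ R → IsPPart p ((w.1 : G) * w.2) (w.1 : G) := fun {w} hw => by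
        obtain ⟨i, hi⟩ := IsPGroup.iff_orderOf.1 hP w.1
        exact ⟨w.2, rfl, Subgroup.mem_centralizer_iff.1 (hfix _ ((hmemR _).1 hw)) _ w.1.2,
          ⟨i, by rw [Subgroup.orderOf_coe, hi]⟩, (hmemR _).1 hw⟩
      have e : (w.1 : G) = (w'.1 : G) :=
        isPPart_unique hp (hpp hw.2) ((show (w.1 : G) * w.2 = (w'.1 : G) * w'.2 from h) ▸ hpp hw'.2)
      exact Prod.ext (Subtype.ext e) (mul_left_cancel (a := (w.1 : G)) (h.trans (by rw [e])))
    have hfull : ∑ g : G, (φ : G → ℂ) g * conj ((ψ : G → ℂ) g) =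
        ∑ w ∈ (Finset.univ : Finset P) ×ˢ R,
          (φ : G → ℂ) ((w.1 : G) * w.2) * conj ((ψ : G → ℂ) ((w.1 : G) * w.2)) := by
      rw [← Finset.sum_subset
        (Finset.subset_univ (((Finset.univ : Finset P) ×ˢ R).image fun w => (w.1 : G) * w.2)),
        Finset.sum_image hinj]
      intro g _ hg
      rw [irr_eq_zero_of_notMem_defect hM hB hφ (exists_isPPart (p := p) hp g).choose_spec
        fun E hE hmem => hg ?_, zero_mul]
      rw [hallD E hE] at hmem
      obtain ⟨u, hu, -, -, hu'⟩ := (exists_isPPart (p := p) hp g).choose_spec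
      exact Finset.mem_image.2 ⟨(⟨_, hmem⟩, u),
        Finset.mem_product.2 ⟨Finset.mem_univ _, (hmemR _).2 hu'⟩, hu⟩
    have h1 : classInner (φ : G → ℂ) (ψ : G → ℂ) = if φ = ψ then 1 else 0 := by
      by_cases e : φ = ψ
      · rw [if_pos e, e, classInner_self_irr ψ.2]
      · rw [if_neg e, classInner_irr_of_ne φ.2 ψ.2 fun h => e (Subtype.ext h)]
    unfold classInner at h1
    rw [hfull, Finset.sum_product] at h1
    have hdξ := irr_one_ne_zero (ξ φ)
    have h2 : ∀ x : P, ∑ u ∈ R, (φ : G → ℂ) ((x : G) * u) * conj ((ψ : G → ℂ) ((x : G) * u)) =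
        ((ξ φ : P → ℂ) x * conj ((ξ φ : P → ℂ) x)) * (S φ ψ / ((ξ φ : P → ℂ) 1 * (ξ φ : P → ℂ) 1)) := by
      intro x
      simp only [hS, Finset.sum_div, Finset.mul_sum]
      refine Finset.sum_congr rfl fun u hu => ?_
      have a1 := hmul φ x u ((hmemR u).1 hu)
      have a2 := congrArg conj (hmul ψ x u ((hmemR u).1 hu))
      rw [← hxi] at a2
      simp only [map_mul, conj_irr_one] at a2
      field_simp
      linear_combination (conj ((ψ : G → ℂ) ((x : G) * u)) * (ξ φ : P → ℂ) 1) * a1 +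
        ((ξ φ : P → ℂ) x * (φ : G → ℂ) u) * a2
    rw [Finset.sum_congr rfl fun x _ => h2 x, ← Finset.sum_mul] at h1
    have h3 : ∑ x : P, (ξ φ : P → ℂ) x * conj ((ξ φ : P → ℂ) x) = (Nat.card P : ℂ) := by
      have h := classInner_self_irr (ξ φ).2
      unfold classInner at h
      rw [inv_mul_eq_one₀ (Nat.cast_ne_zero.2 Nat.card_pos.ne'), eq_comm] at h
      exact h
    rw [h3] at h1
    have hGC : (Nat.card G : ℂ) ≠ 0 := Nat.cast_ne_zero.2 Nat.card_pos.ne'
    have hPC : (Nat.card P : ℂ) ≠ 0 := Nat.cast_ne_zero.2 Nat.card_pos.ne'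
    push_cast
    rw [← irr_one_eq_charDegree]
    split_ifs at h1 ⊢ with he
    · field_simp at h1 ⊢
      linear_combination h1
    · simp only [mul_eq_zero, div_eq_zero_iff, inv_eq_zero, hGC, hPC, hdξ, or_self, or_false,
        false_or] at h1
      exact h1
  -- the distinguished member
  obtain ⟨θ, hθ, htriv⟩ := exists_trivial_on_normal hM hB P hP
  have hξθ : ∀ x : P, (ξ θ : P → ℂ) x = (ξ θ : P → ℂ) 1 := fun x => by
    have h := hξ θ x
    rw [htriv x x.2] at h
    exact (mul_left_cancel₀ (irr_one_ne_zero θ) h).symm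
  have hξθ1 : (ξ θ : P → ℂ) = fun _ => 1 := by
    have h := classInner_self_irr (ξ θ).2
    unfold classInner at h
    rw [Finset.sum_congr rfl (g := fun _ => (ξ θ : P → ℂ) 1 * conj ((ξ θ : P → ℂ) 1))
      (fun x _ => by rw [hξθ x]), Finset.sum_const, Finset.card_univ, nsmul_eq_mul,
      ← Nat.card_eq_fintype_card, ← mul_assoc,
      inv_mul_cancel₀ (Nat.cast_ne_zero.2 Nat.card_pos.ne'), one_mul, conj_irr_one,
      irr_one_eq_charDegree, ← Nat.cast_mul, Nat.cast_eq_one] at h
    funext x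
    rw [hξθ x, irr_one_eq_charDegree, (Nat.eq_one_of_mul_eq_one_left h), Nat.cast_one]
  set s : IrrCharacter P → Finset (IrrCharacter G) :=
    fun z => Finset.univ.filter fun φ => φ ∈ B ∧ ξ φ = z with hs
  set N : IrrCharacter P → ℝ := fun z =>
    (Nat.card G : ℝ) * (charDegree (z : P → ℂ) : ℝ) ^ 2 / (Nat.card P : ℝ) with hNdef
  have hNpos : ∀ z, 0 < N z := fun z => div_pos (mul_pos (Nat.cast_pos.2 Nat.card_pos)
    (pow_pos (Nat.cast_pos.2 (charDegree_pos z)) 2)) (Nat.cast_pos.2 Nat.card_pos)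
  have horth' : ∀ z, ∀ i ∈ s z, ∀ j ∈ s z, [Decidable (i = j)] →
      ∑ u ∈ R, (i : G → ℂ) u * conj ((j : G → ℂ) u) = if i = j then (N z : ℂ) else 0 := by
    intro z i hi j hj _
    obtain ⟨-, hiB, hiz⟩ := Finset.mem_filter.1 hi
    obtain ⟨-, hjB, hjz⟩ := Finset.mem_filter.1 hj
    have := horth i hiB j hjB (hiz.trans hjz.symm)
    rw [hiz] at this
    convert this using 2
  have hsumN : ∑ z, N z = (Nat.card G : ℝ) := by
    simp only [hNdef]
    rw [← Finset.sum_div, ← Finset.mul_sum, div_eq_iff (Nat.cast_ne_zero.2 Nat.card_pos.ne')]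
    congr 1
    exact_mod_cast Cfsg.Agent.CharX.sum_deg_sq (G := P)
  -- equality in the Bessel inequalities
  have hkey : ∀ η ∈ B, ∀ z, ∑ φ ∈ s z, Complex.normSq (S η φ) =
      N z * ∑ u ∈ R, Complex.normSq ((η : G → ℂ) u) := by
    intro η hη
    have hle : ∀ z ∈ (Finset.univ : Finset (IrrCharacter P)),
        ∑ φ ∈ s z, Complex.normSq (S η φ) ≤ N z * ∑ u ∈ R, Complex.normSq ((η : G → ℂ) u) :=
      fun z _ => (bessel_aux R (η : G → ℂ) (s z) (fun φ => (φ : G → ℂ)) (hNpos z) (horth' z)).1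
    have htot : ∑ z, ∑ φ ∈ s z, Complex.normSq (S η φ) =
        ∑ z, N z * ∑ u ∈ R, Complex.normSq ((η : G → ℂ) u) := by
      rw [← Finset.sum_mul, hsumN]
      have e : ∑ z, ∑ φ ∈ s z, Complex.normSq (S η φ) =
          ∑ φ ∈ Finset.univ.filter (· ∈ B), Complex.normSq (S η φ) := by
        rw [← Finset.sum_fiberwise (Finset.univ.filter (· ∈ B)) ξ]
        refine Finset.sum_congr rfl fun z _ => Finset.sum_congr ?_ fun _ _ => rfl
        ext φ
        simp [hs]
      rw [e]
      apply Complex.ofReal_injective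
      push_cast
      simp only [← Complex.mul_conj]
      have hη1 : blockPart B (η : G → ℂ) = (η : G → ℂ) :=
        classInner_blockPart_self B (IsCharacter.isClassFunction (irr_isCharacter η))
          fun φ hφ => classInner_irr_of_ne η.2 φ.2 fun h => hφ (Subtype.ext h ▸ hη)
      have h1 : ∀ u ∈ R, ∑ w ∈ R, blockPair B u w * (η : G → ℂ) w =
          (Nat.card G : ℂ) * (η : G → ℂ) u := by
        intro u hu
        have h2 : blockPart B (η : G → ℂ) u =
            (Nat.card G : ℂ)⁻¹ * ∑ w ∈ R, blockPair B u w * (η : G → ℂ) w := by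
          rw [blockPart_eq_pair, hR, Finset.sum_filter]
          congr 1
          refine Finset.sum_congr rfl fun w _ => ?_
          by_cases hw : p ∣ orderOf w
          · rw [if_neg (not_not.2 hw), blockPair_regular_singular hM hB ((hmemR u).1 hu) hw,
              mul_zero]
          · rw [if_pos hw, mul_comm]
        rw [hη1] at h2
        rw [h2, ← mul_assoc, mul_inv_cancel₀ (Nat.cast_ne_zero.2 Nat.card_pos.ne'), one_mul]
      calc ∑ φ ∈ Finset.univ.filter (· ∈ B), S η φ * conj (S η φ)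
          = ∑ u ∈ R, conj ((η : G → ℂ) u) * ∑ w ∈ R, blockPair B u w * (η : G → ℂ) w := by
            simp only [hS, blockPair, map_sum, map_mul, Complex.conj_conj, Finset.mul_sum,
              Finset.sum_mul]
            rw [Finset.sum_comm]
            refine Finset.sum_congr rfl fun u _ => ?_
            rw [Finset.sum_comm]
            exact Finset.sum_congr rfl fun w _ => Finset.sum_congr rfl fun φ _ => by ring
        _ = (Nat.card G : ℂ) * ∑ u ∈ R, (η : G → ℂ) u * conj ((η : G → ℂ) u) := by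
            rw [Finset.mul_sum]
            exact Finset.sum_congr rfl fun u hu => by rw [h1 u hu]; ring
    exact fun z => (Finset.sum_eq_sum_iff_of_le hle).1 htot z (Finset.mem_univ z)
  have hθs : s (ξ θ) = {θ} := by
    ext φ
    simp only [hs, Finset.mem_filter, Finset.mem_univ, true_and, Finset.mem_singleton]
    refine ⟨fun h => ?_, fun h => ⟨h ▸ hθ, h ▸ rfl⟩⟩
    obtain ⟨hφ, hφξ⟩ := h
    by_contra hne
    let Q := Finset.univ.filter (fun g : G => g ∈ P)
    have hint : ∀ g : G, MemLocalRing M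
        (if ¬ p ∣ orderOf g then ((Nat.card P * charDegree (θ : G → ℂ) : ℕ) : ℂ) /
          (Nat.card G : ℂ) * conj ((θ : G → ℂ) g) else 0) := by
      intro g
      have hdeg : (Nat.card G).factorization p ≤
          (Nat.card P * charDegree (θ : G → ℂ)).factorization p := by
        have h1 := degExp_ge hM hB hθ
        rw [Nat.factorization_mul Nat.card_pos.ne' (charDegree_pos θ).ne', Finsupp.add_apply,
          card_defectGroup hM hB hD, hp.factorization_pow, Finsupp.single_eq_same]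
        omega
      split_ifs
      · exact (locRing M).zero_mem
      · exact (locRing M).mul_mem (memLocalRing_natDiv hM hdeg) (conj_irr_memLocalRing θ g)
    let E : MonoidAlgebra (locRing M) G := gaOfFun fun g => ⟨_, hint g⟩
    have hEc : IsClassElt E := fun g h => Subtype.ext (by
      simp only [E, coeff_gaOfFun, irr_conj_invariant θ g h]
      rw [show orderOf (h * g * h⁻¹) = orderOf g from
        orderOf_injective (MulAut.conj h).toMonoidHom (MulAut.conj h).injective g])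
    have hω : ∀ ψ : IrrCharacter G, omegaR ψ E =
        ((Nat.card P * charDegree (θ : G → ℂ) : ℕ) : ℂ) / (Nat.card G : ℂ) *
          S ψ θ / (ψ : G → ℂ) 1 := by
      intro ψ
      simp only [omegaR, omega, coeff_toC, E, coeff_gaOfFun, hS]
      congr 1
      rw [Finset.mul_sum, hR, Finset.sum_filter]
      refine Finset.sum_congr rfl fun g _ => ?_
      split_ifs <;> ring
    have e1 : omegaR θ E = 1 := by
      have h1 := horth θ hθ θ hθ rfl
      rw [if_pos rfl] at h1
      rw [hω θ, h1]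
      have hd : (charDegree (ξ θ : P → ℂ) : ℂ) = 1 := by
        rw [← irr_one_eq_charDegree, hξθ1]
      push_cast
      rw [hd, ← irr_one_eq_charDegree]
      field_simp [irr_one_ne_zero θ]
    have e2 : omegaR φ E = 0 := by
      have h1 := horth φ hφ θ hθ hφξ
      rw [if_neg hne] at h1
      rw [hω φ, h1, mul_zero, zero_div]
    have h1 := omegaR_congr (isPBlock_sameBlock hB hθ hφ) hEc
    rw [e1, e2, sub_zero] at h1
    exact not_memLocalIdeal_one h1
  have hprop : ∀ η ∈ B, ∀ u ∈ R, (η : G → ℂ) u = (ξ η : P → ℂ) 1 * (θ : G → ℂ) u := by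
    intro η hη
    have heq := hkey η hη (ξ θ)
    have hb := (bessel_aux R (η : G → ℂ) (s (ξ θ)) (fun φ => (φ : G → ℂ)) (hNpos _)
      (horth' _)).2 heq
    rw [hθs] at hb
    simp only [Finset.sum_singleton] at hb
    set k := (∑ w ∈ R, (η : G → ℂ) w * conj ((θ : G → ℂ) w)) / (N (ξ θ) : ℂ) with hk
    have h11 : (1 : G) ∈ R := (hmemR 1).2 (by simpa using hp.ne_one)
    have hk1 : k = ((charDegree (η : G → ℂ) / charDegree (θ : G → ℂ) : ℝ) : ℂ) := by
      push_cast
      rw [eq_div_iff (Nat.cast_ne_zero.2 (charDegree_pos θ).ne'), ← irr_one_eq_charDegree,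
        ← irr_one_eq_charDegree]
      exact (hb 1 h11).symm
    have h1 := horth η hη η hη rfl
    rw [if_pos rfl] at h1
    have h2 := horth θ hθ θ hθ rfl
    rw [if_pos rfl] at h2
    have h3 : S η η = k * k * S θ θ := by
      simp only [hS, Finset.mul_sum]
      refine Finset.sum_congr rfl fun u hu => ?_
      rw [hb u hu, map_mul, show conj k = k by rw [hk1, Complex.conj_ofReal]]
      ring
    rw [h1, h2, hk1, ← Complex.ofReal_mul, ← Complex.ofReal_mul] at h3
    have h4 := Complex.ofReal_injective h3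
    have hd : (charDegree (ξ θ : P → ℂ) : ℝ) = 1 := by
      have : (charDegree (ξ θ : P → ℂ) : ℂ) = 1 := by rw [← irr_one_eq_charDegree, hξθ1]
      exact_mod_cast this
    rw [hd] at h4
    have h5 : ((charDegree (η : G → ℂ) / charDegree (θ : G → ℂ) : ℝ)) ^ 2 =
        (charDegree (ξ η : P → ℂ) : ℝ) ^ 2 := by
      have hPp : (Nat.card P : ℝ) ≠ 0 := Nat.cast_ne_zero.2 Nat.card_pos.ne'
      field_simp at h4 ⊢
      linear_combination -h4
    have h6 := (pow_left_inj₀ (div_nonneg (Nat.cast_nonneg _) (Nat.cast_nonneg _))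
      (Nat.cast_nonneg _) two_ne_zero).1 h5
    intro u hu
    rw [hb u hu, hk1, h6, Complex.ofReal_natCast, ← irr_one_eq_charDegree]
  refine ⟨θ, hθ, htriv, fun φ hφ hφt => ?_, ξ, fun φ _ x => hξ φ x,
    fun φ hφ u hu => hprop φ hφ u ((hmemR u).2 hu), fun φ _ => Set.mem_univ _, ?_, ?_⟩
  · have hξφ : ∀ x : P, (ξ φ : P → ℂ) x = (ξ φ : P → ℂ) 1 := fun x => by
      have h := hξ φ x
      rw [hφt x x.2] at h
      exact (mul_left_cancel₀ (irr_one_ne_zero φ) h).symm
    have hξe : ξ φ = ξ θ := by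
      by_contra hne
      have h := classInner_irr_of_ne (ξ φ).2 (ξ θ).2 fun h => hne (Subtype.ext h)
      unfold classInner at h
      rw [Finset.sum_congr rfl (g := fun _ => (ξ φ : P → ℂ) 1) (fun x _ => by
        rw [hξφ x, hξθ1, map_one, mul_one]), Finset.sum_const, Finset.card_univ, nsmul_eq_mul,
        ← Nat.card_eq_fintype_card, ← mul_assoc,
        inv_mul_cancel₀ (Nat.cast_ne_zero.2 Nat.card_pos.ne'), one_mul] at h
      exact irr_one_ne_zero _ h
    have : φ ∈ s (ξ θ) := Finset.mem_filter.2 ⟨Finset.mem_univ _, hφ, hξe⟩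
    rw [hθs] at this
    exact Finset.mem_singleton.1 this
  · intro φ hφ ψ hψ hxi
    by_contra hne
    have h1 := horth φ hφ ψ hψ hxi
    rw [if_neg hne] at h1
    have h2 : S φ ψ = (ξ φ : P → ℂ) 1 * (ξ ψ : P → ℂ) 1 * S θ θ := by
      simp only [hS, Finset.mul_sum]
      refine Finset.sum_congr rfl fun u hu => ?_
      rw [hprop φ hφ u hu, hprop ψ hψ u hu, map_mul, conj_irr_one]
      ring
    rw [h1] at h2
    have h3 := horth θ hθ θ hθ rfl
    rw [if_pos rfl] at h3
    rw [h3] at h2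
    exact mul_ne_zero (mul_ne_zero (irr_one_ne_zero _) (irr_one_ne_zero _))
      (Complex.ofReal_ne_zero.2 (hNpos (ξ θ)).ne') h2.symm
  · intro z _
    by_contra hno
    have hemp : s z = ∅ := by
      ext φ
      simp only [hs, Finset.mem_filter, Finset.mem_univ, true_and, Finset.notMem_empty, iff_false]
      exact fun h => hno ⟨φ, h.1, h.2⟩
    have h := hkey θ hθ z
    rw [hemp, Finset.sum_empty] at h
    have h1 : 0 < ∑ u ∈ R, Complex.normSq ((θ : G → ℂ) u) :=
      Finset.sum_pos' (fun u _ => Complex.normSq_nonneg _)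
        ⟨1, (hmemR 1).2 (by simpa using hp.ne_one), Complex.normSq_pos.2 (irr_one_ne_zero θ)⟩
    exact (mul_pos (hNpos z) h1).ne h

end Cfsg.Agent.Blocks
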