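/-
Blocks of quotient groups.
-/
import Cfsg.Agent.Lib.Blocks.Induced
import Cfsg.Agent.Lib.Blocks.Defect
import Cfsg.Agent.Lib.Blocks.ProductBlock
import Cfsg.Agent.Lib.Char.Degree

set_option linter.unusedSectionVars false
set_option linter.style.haveILetI false

namespace Cfsg.Agent.Blocks

open Cfsg MonoidAlgebra Cfsg.Agent.Char

universe u

variable {G : Type u} [Group G] [Fintype G] (N : Subgroup G) [N.Normal]

/-- The projection onto the group algebra of the quotient. -/
noncomputable def quotA {R : Type*} [CommRing R] : MonoidAlgebra R G →+* MonoidAlgebra R (G ⧸ N) :=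
  mapDomainRingHom R (QuotientGroup.mk' N)

theorem coeff_quotA {R : Type*} [CommRing R] (x : MonoidAlgebra R G) (q : G ⧸ N)
    [DecidablePred fun g : G => (g : G ⧸ N) = q] :
    (quotA N x).coeff q = ∑ g ∈ Finset.univ.filter (fun g : G => (g : G ⧸ N) = q), x.coeff g := by
  classical
  show Finsupp.mapDomain _ x.coeff q = _
  rw [Finsupp.mapDomain, Finsupp.sum_apply, Finsupp.sum_fintype _ _ (fun i => by simp),
    Finset.sum_filter]
  exact Finset.sum_congr rfl fun g _ => by simp [Finsupp.single_apply]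

theorem IsClassElt.quotA {R : Type*} [CommRing R] {x : MonoidAlgebra R G} (hx : IsClassElt x) :
    IsClassElt (quotA N x) := by
  classical
  intro q k
  obtain ⟨k, rfl⟩ := QuotientGroup.mk_surjective k
  rw [coeff_quotA, coeff_quotA]
  refine Finset.sum_equiv (MulAut.conj k⁻¹).toEquiv (fun g => ?_) fun g _ => ?_
  · simp only [Finset.mem_filter, Finset.mem_univ, true_and, MulEquiv.toEquiv_eq_coe,
      MulEquiv.coe_toEquiv, MulAut.conj_apply, QuotientGroup.mk_mul, QuotientGroup.mk_inv, inv_inv]
    constructor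
    · intro h
      rw [h]; group
    · intro h
      rw [← h]; group
  · simp only [MulEquiv.toEquiv_eq_coe, MulEquiv.coe_toEquiv, MulAut.conj_apply]
    exact (hx g k⁻¹).symm

/-- The Brauer map commutes with the projection. -/
theorem brTrunc_quotA {R : Type*} [CommRing R] {p : ℕ} [Fact p.Prime] [CharP R p] {Q : Subgroup G}
    (hQ : IsPGroup p Q) {x : MonoidAlgebra R G} (hx : IsInvElt Q x) :
    brTrunc (Q.map (QuotientGroup.mk' N)) (quotA N x) = quotA N (brTrunc Q x) := by
  classical
  refine gaExt fun q => ?_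
  rw [coeff_brTrunc, coeff_quotA, coeff_quotA]
  split_ifs with hq
  · let _ : MulAction Q G := MulAction.compHom G
      (ConjAct.toConjAct.toMonoidHom.comp Q.subtype)
    have hsmul : ∀ (u : Q) (a : G), u • a = (u : G) * a * (u : G)⁻¹ := fun u a =>
      ConjAct.smul_def (ConjAct.toConjAct (u : G)) a
    have hfix : ∀ (u : Q) (a : G), ((a : G ⧸ N) = q) → (((u • a : G) : G ⧸ N) = q) := by
      intro u a ha
      rw [hsmul, QuotientGroup.mk_mul, QuotientGroup.mk_mul, QuotientGroup.mk_inv, ha,
        show ((u : G) : G ⧸ N) * q = q * ((u : G) : G ⧸ N) from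
          (Subgroup.mem_centralizer_iff.1 hq) _ ⟨(u : G), u.2, rfl⟩, mul_inv_cancel_right]
    rw [Finset.sum_filter, Finset.sum_filter, sum_eq_sum_fixed hQ
      (fun a : G => if (a : G ⧸ N) = q then x.coeff a else 0)]
    · rw [Finset.sum_filter]
      refine Finset.sum_congr rfl fun a _ => ?_
      rw [coeff_brTrunc]
      have h1 : a ∈ MulAction.fixedPoints Q G ↔ a ∈ Subgroup.centralizer (Q : Set G) := by
        simp only [MulAction.mem_fixedPoints, Subgroup.mem_centralizer_iff, hsmul, Subtype.forall,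
          mul_inv_eq_iff_eq_mul]
        rfl
      by_cases ha : a ∈ Subgroup.centralizer (Q : Set G)
      · rw [if_pos (h1.2 ha), if_pos ha]
      · rw [if_neg (h1.not.2 ha), if_neg ha]
        split_ifs <;> rfl
    · intro u a
      by_cases ha : (a : G ⧸ N) = q
      · rw [if_pos ha, if_pos (hfix u a ha), hsmul, hx u u.2 a]
      · rw [if_neg ha, if_neg]
        intro h
        have h2 := hfix u⁻¹ _ h
        rw [inv_smul_smul] at h2
        exact ha h2
  · symm
    refine Finset.sum_eq_zero fun a ha => ?_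
    rw [coeff_brTrunc, if_neg]
    intro hc
    refine hq (Subgroup.mem_centralizer_iff.2 ?_)
    rintro _ ⟨u, hu, rfl⟩
    rw [← (Finset.mem_filter.1 ha).2]
    show (u : G ⧸ N) * (a : G ⧸ N) = (a : G ⧸ N) * (u : G ⧸ N)
    rw [← QuotientGroup.mk_mul, Subgroup.mem_centralizer_iff.1 hc u hu, QuotientGroup.mk_mul]

variable {p : ℕ} {M : Ideal AlgInt} [M.IsPrime]

theorem resG_quotA (x : MonoidAlgebra (locRing M) G) :
    resG (quotA N x) = quotA N (resG x) := by
  classical
  refine gaExt fun q => ?_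
  rw [coeff_resG, coeff_quotA, coeff_quotA, map_sum]
  exact Finset.sum_congr rfl fun g _ => (coeff_resG x g).symm

theorem omegaR_quotA [Fintype (G ⧸ N)] (χ : IrrCharacter (G ⧸ N))
    (x : MonoidAlgebra (locRing M) G) :
    omegaR χ (quotA N x) = omegaR (Cfsg.Agent.CharX.infl N χ) x := by
  classical
  rw [omega_eq_sum_div, omega_eq_sum_div]
  simp only [Cfsg.Agent.CharX.infl_apply]
  rw [← Finset.sum_fiberwise Finset.univ (fun g : G => (g : G ⧸ N))]
  congr 1
  refine Finset.sum_congr rfl fun q _ => ?_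
  rw [coeff_quotA, AddSubmonoidClass.coe_finset_sum, Finset.sum_mul]
  exact Finset.sum_congr rfl fun g hg => by rw [(Finset.mem_filter.1 hg).2]

theorem infl_mem_of_mem [Fintype (G ⧸ N)] {B : Set (IrrCharacter G)} (hB : IsPBlock M B)
    {Bbar : Set (IrrCharacter (G ⧸ N))} (hBb : IsPBlock M Bbar) {χ ψ : IrrCharacter (G ⧸ N)}
    (hχ : χ ∈ Bbar) (hψ : ψ ∈ Bbar) (h : Cfsg.Agent.CharX.infl N χ ∈ B) :
    Cfsg.Agent.CharX.infl N ψ ∈ B := by
  classical
  have h1 := omegaR_congr (isPBlock_sameBlock hBb hχ hψ)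
    (IsClassElt.quotA N (isClassElt_blockEltR (M := M) B))
  rw [omegaR_quotA, omegaR_quotA, omegaR_blockEltR hB, omegaR_blockEltR hB, if_pos h] at h1
  by_contra hn
  rw [if_neg hn, sub_zero] at h1
  exact not_memLocalIdeal_one (M := M) h1

theorem resG_eq_of_omega {H : Type u} [Group H] [Fintype H] {x y : MonoidAlgebra (locRing M) H}
    (hx : IsClassElt x) (hy : IsClassElt y) (hxx : x * x = x) (hyy : y * y = y)
    (h : ∀ φ : IrrCharacter H, MemLocalIdeal M (omegaR φ x - omegaR φ y)) : resG x = resG y := by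
  refine eq_of_idem_of_isNilpotent_sub ?_ ?_ ?_ ?_
  · rw [← map_mul, hxx]
  · rw [← map_mul, hyy]
  · exact IsClassElt.comm (IsClassElt.map hx _) _
  · rw [← map_sub]
    exact isNilpotent_resG (IsClassElt.sub hx hy) fun φ => by rw [omegaR_sub]; exact h φ

theorem quotA_mul_idem {B : Set (IrrCharacter G)} (hB : IsPBlock M B)
    {Bbar : Set (IrrCharacter (G ⧸ N))} [Fintype (G ⧸ N)] (hBb : IsPBlock M Bbar) :
    quotA N (blockEltR M B) * blockEltR M Bbar * (quotA N (blockEltR M B) * blockEltR M Bbar) =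
      quotA N (blockEltR M B) * blockEltR M Bbar := by
  rw [mul_assoc, ← mul_assoc (blockEltR M Bbar),
    ← IsClassElt.comm (IsClassElt.quotA N (isClassElt_blockEltR B)) (blockEltR M Bbar),
    mul_assoc, blockEltR_idem hBb, ← mul_assoc, ← map_mul, blockEltR_idem hB]

theorem quotA_mul_eq [Fintype (G ⧸ N)] {B : Set (IrrCharacter G)} (hB : IsPBlock M B)
    {Bbar : Set (IrrCharacter (G ⧸ N))} (hBb : IsPBlock M Bbar)
    (h : ∀ χ ∈ Bbar, Cfsg.Agent.CharX.infl N χ ∈ B) :
    resG (quotA N (blockEltR M B)) * resG (blockEltR M Bbar) = resG (blockEltR M Bbar) := by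
  classical
  have hq : IsClassElt (quotA N (blockEltR M B)) := IsClassElt.quotA N (isClassElt_blockEltR B)
  rw [← map_mul]
  refine resG_eq_of_omega (IsClassElt.mul hq (isClassElt_blockEltR Bbar))
    (isClassElt_blockEltR Bbar) (quotA_mul_idem N hB hBb) (blockEltR_idem hBb) fun φ => ?_
  rw [omegaR_mul φ hq (isClassElt_blockEltR Bbar), omegaR_blockEltR hBb,
    omegaR_quotA, omegaR_blockEltR hB]
  by_cases hφ : φ ∈ Bbar
  · rw [if_pos hφ, if_pos (h φ hφ), mul_one, sub_self]; exact memLocalIdeal_zero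
  · rw [if_neg hφ, mul_zero, sub_zero]; exact memLocalIdeal_zero

theorem exists_coeff_of_brTrunc_ne_zero {B : Set (IrrCharacter G)} (hB : IsPBlock M B)
    {Q : Subgroup G} (h : brTrunc Q (resG (blockEltR M B)) ≠ 0) :
    ∃ g : G, MemLocalRing M (blockCoeff B g) ∧ ¬ MemLocalIdeal M (blockCoeff B g) ∧
      ∃ c : G, IsConj g c ∧ c ∈ Subgroup.centralizer (Q : Set G) := by
  classical
  by_contra hne
  refine h (gaExt fun g => ?_)
  rw [coeff_brTrunc, MonoidAlgebra.coeff_zero, Finsupp.zero_apply]
  split_ifs with hg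
  · rw [coeff_resG, res_eq_zero_iff, coeff_blockEltR hB]
    by_contra hu
    exact hne ⟨g, blockCoeff_memLocalRing hB g, hu, g, IsConj.refl g, hg⟩
  · rfl

theorem brTrunc_defect_ne_zero {B : Set (IrrCharacter G)} (hB : IsPBlock M B) {D : Subgroup G}
    (hD : IsDefectGroup p M B D) : brTrunc D (resG (blockEltR M B)) ≠ 0 := by
  classical
  obtain ⟨d, hd, S, rfl⟩ := hD
  intro h0
  have := congrArg (fun y : MonoidAlgebra (resField M) G => y.coeff d) h0
  simp only [MonoidAlgebra.coeff_zero, Finsupp.zero_apply] at this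
  rw [coeff_brTrunc, if_pos (show d ∈ Subgroup.centralizer
    (((S : Subgroup _).map (Subgroup.centralizer ({d} : Set G)).subtype : Subgroup G) : Set G) from
      mem_centralizer_of_le (Subgroup.map_subtype_le _))] at this
  rw [coeff_resG, res_eq_zero_iff, coeff_blockEltR hB] at this
  exact hd.2.1 this

/-- Defect groups of a block of the quotient lie in images of defect groups. -/
theorem defect_le_image (hM : IsPModular p M) [Fintype (G ⧸ N)] {B : Set (IrrCharacter G)}
    (hB : IsPBlock M B) {Bbar : Set (IrrCharacter (G ⧸ N))} (hBb : IsPBlock M Bbar)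
    (h : ∀ χ ∈ Bbar, Cfsg.Agent.CharX.infl N χ ∈ B) {Dbar : Subgroup (G ⧸ N)}
    (hD : IsDefectGroup p M Bbar Dbar) :
    ∃ P : Subgroup G, IsDefectGroup p M B P ∧ Dbar ≤ P.map (QuotientGroup.mk' N) := by
  classical
  haveI := Fact.mk hM.1
  haveI : CharP (resField M) p := resField_charP hM
  have hDp := isPGroup_defectGroup hD
  set π := QuotientGroup.mk' N with hπ
  set K := Dbar.comap π with hK
  obtain ⟨S⟩ : Nonempty (Sylow p K) := inferInstance
  have hs : Function.Surjective (π.subgroupComap Dbar) :=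
    π.subgroupComap_surjective_of_surjective Dbar (QuotientGroup.mk'_surjective N)
  set Q := (S : Subgroup K).map K.subtype with hQ
  have hQp : IsPGroup p Q := S.isPGroup'.map _
  have hmap : Q.map π = Dbar := by
    have h1 : ((S.mapSurjective hs : Sylow p Dbar) : Subgroup Dbar) = ⊤ :=
      ((S.mapSurjective hs).is_maximal' (hDp.of_equiv Subgroup.topEquiv.symm) le_top).symm
    rw [Sylow.coe_mapSurjective] at h1
    have h2 := congrArg (Subgroup.map Dbar.subtype) h1
    rw [← MonoidHom.range_eq_map, Subgroup.range_subtype, Subgroup.map_map] at h2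
    rw [hQ, Subgroup.map_map]
    exact h2
  have he : IsClassElt (resG (blockEltR M B)) := IsClassElt.map (isClassElt_blockEltR B) _
  have hne : brTrunc Q (resG (blockEltR M B)) ≠ 0 := by
    intro h0
    refine brTrunc_defect_ne_zero hBb hD ?_
    have hqc : IsClassElt (resG (quotA N (blockEltR M B))) :=
      IsClassElt.map (IsClassElt.quotA N (isClassElt_blockEltR B)) _
    have hbc : IsClassElt (resG (blockEltR M Bbar)) := IsClassElt.map (isClassElt_blockEltR Bbar) _
    conv_lhs => rw [← quotA_mul_eq N hB hBb h]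
    rw [brTrunc_mul hDp (IsClassElt.isInvElt hqc _) (IsClassElt.isInvElt hbc _), resG_quotA]
    conv_lhs => arg 1; rw [← hmap]
    rw [brTrunc_quotA N hQp (IsClassElt.isInvElt he Q), h0, map_zero, zero_mul]
  obtain ⟨P, hP⟩ := exists_isDefectGroup (p := p) hB
  obtain ⟨x, hx⟩ := (exists_unit_coeff_centralizing_iff hM hB hP hQp).1
    (exists_coeff_of_brTrunc_ne_zero hB hne)
  refine ⟨_, IsDefectGroup.map_conj hP x⁻¹, hmap ▸ Subgroup.map_mono fun u hu =>
    ⟨x * u * x⁻¹, hx ⟨u, hu, rfl⟩, by simp [mul_assoc]⟩⟩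

theorem map_conj_mk (P : Subgroup G) (y : G) :
    (P.map (QuotientGroup.mk' N)).map (MulAut.conj (y : G ⧸ N)).toMonoidHom =
      (P.map (MulAut.conj y).toMonoidHom).map (QuotientGroup.mk' N) := by
  rw [Subgroup.map_map, Subgroup.map_map]
  congr 1

/-- Over a normal `p`-subgroup some block of the quotient has the images as defect groups. -/
theorem exists_quotient_block (hM : IsPModular p M) [Fintype (G ⧸ N)] (hN : IsPGroup p N)
    {B : Set (IrrCharacter G)} (hB : IsPBlock M B) :
    ∃ Bbar : Set (IrrCharacter (G ⧸ N)), IsPBlock M Bbar ∧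
      (∀ χ ∈ Bbar, Cfsg.Agent.CharX.infl N χ ∈ B) ∧
      ∀ Dbar : Subgroup (G ⧸ N), IsDefectGroup p M Bbar Dbar ↔
        ∃ P : Subgroup G, IsDefectGroup p M B P ∧ Dbar = P.map (QuotientGroup.mk' N) := by
  classical
  haveI := Fact.mk hM.1
  haveI : CharP (resField M) p := resField_charP hM
  set π := QuotientGroup.mk' N with hπ
  obtain ⟨d, hd, S, -⟩ := exists_isDefectGroup (p := p) hB |>.choose_spec
  set P := sylowImage S
  have hP : IsDefectGroup p M B P := ⟨d, hd, S, rfl⟩
  have hPp : IsPGroup p P := isPGroup_sylowImage S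
  have hNle : ∀ P : Subgroup G, IsDefectGroup p M B P → N ≤ P := fun P h =>
    le_defectGroup_of_normal hM hB h N hN
  have hdC : d ∈ Subgroup.centralizer (P : Set G) := mem_centralizer_of_le (sylowImage_le S)
  have he : IsClassElt (resG (blockEltR M B)) := IsClassElt.map (isClassElt_blockEltR B) _
  have hne : brTrunc (P.map π) (resG (quotA N (blockEltR M B))) ≠ 0 := by
    intro h0
    rw [resG_quotA, brTrunc_quotA N hPp (IsClassElt.isInvElt he P)] at h0
    have h1 := congrArg (fun y : MonoidAlgebra (resField M) (G ⧸ N) => y.coeff (d : G ⧸ N)) h0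
    simp only [coeff_quotA, MonoidAlgebra.coeff_zero, Finsupp.zero_apply] at h1
    rw [Finset.sum_eq_single_of_mem (s := Finset.univ.filter fun g : G => (g : G ⧸ N) = (d : G ⧸ N))
      d (Finset.mem_filter.2 ⟨Finset.mem_univ _, rfl⟩)] at h1
    · rw [coeff_brTrunc, if_pos hdC, coeff_resG, res_eq_zero_iff, coeff_blockEltR hB] at h1
      exact hd.2.1 h1
    · intro a ha hne
      rw [coeff_brTrunc]
      split_ifs with hc
      · rw [coeff_resG, res_eq_zero_iff, coeff_blockEltR hB,
          blockCoeff_eq_zero_of_singular hM hB]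
        · exact memLocalIdeal_zero
        · -- `a = d n` with `n` a nontrivial element of `N` commuting with `d`
          have hn : d⁻¹ * a ∈ N := QuotientGroup.eq.1 (Finset.mem_filter.1 ha).2.symm
          obtain ⟨i, hi⟩ := IsPGroup.iff_orderOf.1 hN ⟨d⁻¹ * a, hn⟩
          rw [← Subgroup.orderOf_coe] at hi
          have hco : Commute d (d⁻¹ * a) :=
            (Subgroup.mem_centralizer_iff.1 hdC _ (hNle P hP hn)).symm
          have hdp := IsDefectClass.not_dvd_orderOf hM hB hd
          have hcop : (orderOf d).Coprime (orderOf (d⁻¹ * a)) := by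
            rw [hi]
            exact (((hM.1.coprime_iff_not_dvd).2 hdp).symm).pow_right i
          have := hco.orderOf_mul_eq_mul_orderOf_of_coprime hcop
          rw [mul_inv_cancel_left] at this
          rw [this, hi]
          refine dvd_mul_of_dvd_right (dvd_pow_self p fun h => hne ?_) _
          rw [h, pow_zero, orderOf_eq_one_iff] at hi
          exact (inv_mul_eq_one.1 hi).symm
      · rfl
  have hPb : IsPGroup p (P.map π) := hPp.map _
  have hq : IsClassElt (quotA N (blockEltR M B)) := IsClassElt.quotA N (isClassElt_blockEltR B)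
  obtain ⟨Bbar, hBb, hB0⟩ : ∃ Bbar ∈ blocks M (G ⧸ N),
      brTrunc (P.map π) (resG (quotA N (blockEltR M B) * blockEltR M Bbar)) ≠ 0 := by
    by_contra hall
    push Not at hall
    refine hne (gaExt fun q => ?_)
    have h1 : resG (quotA N (blockEltR M B)) =
        ∑ b ∈ blocks M (G ⧸ N), resG (quotA N (blockEltR M B) * blockEltR M b) := by
      rw [← map_sum, ← Finset.mul_sum, sum_blockEltR, mul_one]
    rw [h1, coeff_brTrunc, MonoidAlgebra.coeff_zero, Finsupp.zero_apply]
    split_ifs with hq'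
    · rw [MonoidAlgebra.coeff_sum, Finset.sum_apply']
      refine Finset.sum_eq_zero fun b hb => ?_
      have h2 := congrArg (fun y : MonoidAlgebra (resField M) (G ⧸ N) => y.coeff q) (hall b hb)
      simpa only [coeff_brTrunc, if_pos hq', MonoidAlgebra.coeff_zero, Finsupp.zero_apply] using h2
    · rfl
  replace hBb := mem_blocks.1 hBb
  have hinfl : ∀ χ ∈ Bbar, Cfsg.Agent.CharX.infl N χ ∈ B := by
    intro χ hχ
    by_contra hnot
    refine hB0 ?_
    have h0 : resG (quotA N (blockEltR M B) * blockEltR M Bbar) = 0 := by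
      rw [← map_zero (resG (M := M) (G := G ⧸ N))]
      refine resG_eq_of_omega (IsClassElt.mul hq (isClassElt_blockEltR Bbar))
        (fun g k => by simp) (quotA_mul_idem N hB hBb) (zero_mul _) fun φ => ?_
      rw [omegaR_mul φ hq (isClassElt_blockEltR Bbar), omegaR_blockEltR hBb,
        omegaR_quotA, omegaR_blockEltR hB, show omegaR φ (0 : MonoidAlgebra (locRing M) (G ⧸ N)) = 0
          by simp [omegaR, omega], sub_zero]
      by_cases hφ : φ ∈ Bbar
      · rw [if_neg fun h => hnot (infl_mem_of_mem N hB hBb hφ hχ h), zero_mul]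
        exact memLocalIdeal_zero
      · rw [if_neg hφ, mul_zero]; exact memLocalIdeal_zero
    rw [h0]
    exact gaExt fun q => by rw [coeff_brTrunc]; split_ifs <;> simp
  refine ⟨Bbar, hBb, hinfl, ?_⟩
  have hqc : IsClassElt (resG (quotA N (blockEltR M B))) := IsClassElt.map hq _
  have hbc : IsClassElt (resG (blockEltR M Bbar)) := IsClassElt.map (isClassElt_blockEltR Bbar) _
  rw [map_mul, brTrunc_mul hPb (IsClassElt.isInvElt hqc _) (IsClassElt.isInvElt hbc _)] at hB0
  obtain ⟨D₀, hD₀⟩ := exists_isDefectGroup (p := p) hBb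
  obtain ⟨x, hx⟩ := (exists_unit_coeff_centralizing_iff hM hBb hD₀ hPb).1
    (exists_coeff_of_brTrunc_ne_zero hBb (right_ne_zero_of_mul hB0))
  obtain ⟨P₁, hP₁, hle⟩ := defect_le_image N hM hB hBb hinfl hD₀
  have hcard : ∀ P : Subgroup G, IsDefectGroup p M B P →
      Nat.card (P.map π) * Nat.card N = p ^ blockDefect p B := by
    intro P hP
    rw [← card_defectGroup hM hB hP, ← Subgroup.relIndex_bot_left (P.map π),
      ← Subgroup.relIndex_comap, MonoidHom.comap_bot, hπ, QuotientGroup.ker_mk',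
      ← Subgroup.relIndex_bot_left N, mul_comm, Subgroup.relIndex_mul_relIndex _ _ _ bot_le
        (hNle P hP), Subgroup.relIndex_bot_left]
  have heq : (P.map π).map (MulAut.conj x).toMonoidHom = D₀ := by
    refine Subgroup.eq_of_le_of_card_ge hx ?_
    rw [Subgroup.card_map_of_injective (MulAut.conj x).injective]
    refine (Subgroup.card_le_of_le hle).trans (le_of_eq ?_)
    exact Nat.eq_of_mul_eq_mul_right Nat.card_pos ((hcard P₁ hP₁).trans (hcard P hP).symm)
  obtain ⟨x, rfl⟩ := QuotientGroup.mk_surjective x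
  rw [map_conj_mk] at heq
  intro Dbar
  constructor
  · intro hD
    obtain ⟨y, hy⟩ := defectGroup_conj hM hBb hD hD₀
    obtain ⟨y, rfl⟩ := QuotientGroup.mk_surjective y
    refine ⟨_, IsDefectGroup.map_conj (IsDefectGroup.map_conj hP x) y, ?_⟩
    rw [hy, ← heq, map_conj_mk]
  · rintro ⟨P', hP', rfl⟩
    obtain ⟨y, rfl⟩ := defectGroup_conj hM hB hP' (IsDefectGroup.map_conj hP x)
    rw [← map_conj_mk, heq]
    exact IsDefectGroup.map_conj hD₀ _

end Cfsg.Agent.Blocks
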