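/-
Integer vectors on a block that vanish on the singular elements and separate the regular
restrictions: they bound the number of characters through a major subsection and lift through
central p-subgroups.
-/
import Cfsg.Agent.Lib.BrauerPairs.InertiaHeight
import Cfsg.Agent.Lib.BrauerPairs.RankQuotient
import Cfsg.Agent.Lib.Blocks.KleinSigns
import Cfsg.Agent.Lib.Blocks.RegularCriterion
import Cfsg.Agent.Lib.Blocks.Quotient

set_option linter.unusedSectionVars false
set_option linter.style.haveILetI false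

namespace Cfsg.Agent.ProjVec

open Cfsg Cfsg.Agent.Blocks Cfsg.Agent.Char Cfsg.Agent.BrauerPairs Cfsg.Agent.CharX
open scoped ComplexConjugate

universe u

variable {G : Type u} [Group G] [Fintype G] {p : ℕ} {M : Ideal AlgInt} [M.IsPrime]

/-- The members of a set of characters. -/
noncomputable def bs (b : Set (IrrCharacter G)) : Finset (IrrCharacter G) :=
  (Set.toFinite b).toFinset

@[simp] theorem mem_bs {b : Set (IrrCharacter G)} {θ : IrrCharacter G} : θ ∈ bs b ↔ θ ∈ b :=
  Set.Finite.mem_toFinset _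

theorem card_bs (b : Set (IrrCharacter G)) : (bs b).card = Nat.card b := by
  rw [Nat.card_coe_set_eq, Set.ncard_eq_toFinset_card b (Set.toFinite b)]
  rfl

/-- Integer vectors vanishing on the singular elements, separating the regular restrictions, of
total squared length at most `N`. -/
def HasVectors (p : ℕ) (b : Set (IrrCharacter G)) (N : ℕ) : Prop :=
  ∃ (r : ℕ) (z : Fin r → IrrCharacter G → ℤ),
    (∀ k, ∀ w : G, p ∣ orderOf w → ∑ θ ∈ bs b, (z k θ : ℂ) * (θ : G → ℂ) w = 0) ∧
    (∀ a : IrrCharacter G → ℂ, (∀ k, ∑ θ ∈ bs b, a θ * (z k θ : ℂ) = 0) →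
      ∀ w : G, ¬ p ∣ orderOf w → ∑ θ ∈ bs b, a θ * (θ : G → ℂ) w = 0) ∧
    ∑ k, ∑ θ ∈ bs b, z k θ ^ 2 ≤ (N : ℤ)

/-- Vectors as in `HasVectors` whose non-zero integral pairings have squared length at least
`M0`, of total squared length at most `N * M0`. -/
def HasWeighted (p : ℕ) (b : Set (IrrCharacter G)) (N : ℕ) : Prop :=
  ∃ (r : ℕ) (z : Fin r → IrrCharacter G → ℤ) (M0 : ℕ), 0 < M0 ∧
    (∀ k, ∀ w : G, p ∣ orderOf w → ∑ θ ∈ bs b, (z k θ : ℂ) * (θ : G → ℂ) w = 0) ∧
    (∀ a : IrrCharacter G → ℂ, (∀ k, ∑ θ ∈ bs b, a θ * (z k θ : ℂ) = 0) →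
      ∀ w : G, ¬ p ∣ orderOf w → ∑ θ ∈ bs b, a θ * (θ : G → ℂ) w = 0) ∧
    (∀ (a : IrrCharacter G → ℂ) (y : Fin r → ℤ), (∀ k, (y k : ℂ) = ∑ θ ∈ bs b, a θ * (z k θ : ℂ)) →
      y ≠ 0 → (M0 : ℤ) ≤ ∑ k, y k ^ 2) ∧
    ∑ k, ∑ θ ∈ bs b, z k θ ^ 2 ≤ (N : ℤ) * M0

theorem HasVectors.weighted {b : Set (IrrCharacter G)} {N : ℕ} (h : HasVectors p b N) :
    HasWeighted p b N := by
  obtain ⟨r, z, h1, h2, h3⟩ := h
  refine ⟨r, z, 1, one_pos, h1, h2, fun a y _ hne => ?_, by simpa using h3⟩
  obtain ⟨k, hk⟩ := Function.ne_iff.1 hne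
  have h0 : 0 < y k ^ 2 := lt_of_le_of_ne (sq_nonneg _) (Ne.symm (pow_ne_zero 2 hk))
  have := Finset.single_le_sum (f := fun k => y k ^ 2) (fun k _ => sq_nonneg (y k))
    (Finset.mem_univ k)
  push_cast
  omega

/-- Sums over the regular elements weighted by the class lengths are sums over classes. -/
theorem sum_div_index (F : G → ℂ) (hF : IsClassFunction G F) [Fintype (ConjClasses G)] :
    ∑ w : G, F w / ((Subgroup.centralizer ({w} : Set G)).index : ℂ) =
      ∑ K : ConjClasses G, F K.out := by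
  classical
  rw [← Finset.sum_fiberwise (Finset.univ : Finset G) ConjClasses.mk]
  refine Finset.sum_congr rfl fun K _ => ?_
  have hfil : (Finset.univ.filter fun w : G => ConjClasses.mk w = K) = classFinset K.out := by
    ext w
    rw [mem_classFinset, Finset.mem_filter, ← ConjClasses.mk_eq_mk_iff_isConj]
    simp only [Finset.mem_univ, true_and]
    rw [show ConjClasses.mk (K.out) = K from Quotient.out_eq K, eq_comm]
  rw [hfil]
  have hc : ∀ w ∈ classFinset K.out, F w / ((Subgroup.centralizer ({w} : Set G)).index : ℂ) =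
      F K.out / ((classFinset K.out).card : ℂ) := by
    intro w hw
    obtain ⟨c, rfl⟩ := isConj_iff.1 ((mem_classFinset).1 hw)
    rw [hF, ← card_classFinset,
      show classFinset (c * K.out * c⁻¹) = classFinset K.out by
        ext z
        simp only [mem_classFinset]
        exact ⟨fun e => (isConj_iff.2 ⟨c, rfl⟩).trans e,
          fun e => (isConj_iff.2 ⟨c, rfl⟩).symm.trans e⟩]
  rw [Finset.sum_congr rfl hc, Finset.sum_const, nsmul_eq_mul, mul_div_cancel₀]
  exact Nat.cast_ne_zero.2 (Finset.card_ne_zero.2 ⟨K.out, mem_classFinset.2 (IsConj.refl _)⟩)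

/-! ## Through a major subsection -/

section Major

variable {x : G} {C : Subgroup G} [Fintype C] {b : Set (IrrCharacter C)}
  {B : Set (IrrCharacter G)}

open scoped Classical in
theorem regPair_irr_vanish (b : Set (IrrCharacter C)) (θ : IrrCharacter C) {v : C → ℂ}
    (hv : ∀ w, p ∣ orderOf w → v w = 0) :
    regPair p (blockScale p b) (θ : C → ℂ) v =
      ((p ^ blockDefect p b : ℕ) : ℂ) * classInner (θ : C → ℂ) v := by
  rw [regPair_eq_sum, ← blockScale_mul_card b, classInner, mul_assoc,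
    mul_inv_cancel_left₀ (Nat.cast_ne_zero.2 Nat.card_pos.ne'), Finset.sum_filter]
  refine congrArg _ (Finset.sum_congr rfl fun w _ => ?_)
  by_cases h : p ∣ orderOf w
  · rw [if_neg (not_not.2 h), hv w h]; simp
  · rw [if_pos h]

/-- The characters are at most the total squared length. -/
theorem card_le_of_hasVectors (hM : IsPModular p M) (hx : ∃ k, orderOf x = p ^ k)
    (hC : C = Subgroup.centralizer ({x} : Set G)) (hind : IsInducedBlock M C b B)
    (hd : blockDefect p b = blockDefect p B) {N : ℕ} (h : HasVectors p b N) :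
    Nat.card B ≤ N := by
  classical
  obtain ⟨D⟩ := nonempty_subData hM hx hC hind
  obtain ⟨r, z, hsing, hinj, hN⟩ := h
  set T := primExps p (p ^ (D.j + 1)) with hT
  set s := Finset.univ.filter (· ∈ B) with hs
  let c : Fin r → {θ // θ ∈ b} → ℂ := fun k a => (z k a.1 : ℂ)
  let L : Fin r → IrrCharacter G → ℕ → ℂ := fun k χ t => ∑ a, D.coef χ t a * c k a
  have hfn : ∀ k, ∀ w : C, p ∣ orderOf w → D.fn (c k) w = 0 := by
    intro k w hw
    rw [← hsing k w hw, SubData.fn, Finset.sum_subtype (p := fun θ => θ ∈ b) (bs b)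
      (fun θ => mem_bs) fun θ => (z k θ : ℂ) * (θ : C → ℂ) w]
  have hpair : ∀ k (c' : {θ // θ ∈ b} → ℂ),
      regPair p (blockScale p b) (D.fn c') (D.fn (c k)) =
        ((p ^ blockDefect p b : ℕ) : ℂ) * ∑ a, c' a * c k a := by
    intro k c'
    show regPair p _ (fun u => ∑ a : {θ // θ ∈ b}, c' a * ((a : IrrCharacter C) : C → ℂ) u) _ = _
    rw [regPair_sum_left, Finset.mul_sum]
    refine Finset.sum_congr rfl fun a _ => ?_
    have e : D.fn (c k) = ∑ a' : {θ // θ ∈ b}, c k a' • ((a' : IrrCharacter C) : C → ℂ) := by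
      funext u; simp [SubData.fn]
    rw [regPair_irr_vanish b a.1 (hfn k), e, classInner_sum_right, Finset.sum_eq_single a]
    · rw [classInner_smul_right, classInner_self_irr a.1.2, mul_one]
      simp only [c, map_intCast]
      ring
    · intro a' _ ha'
      rw [classInner_smul_right, classInner_irr_of_ne a.1.2 a'.1.2
        (fun e => ha' (Subtype.ext (Subtype.ext e.symm))), mul_zero]
    · exact fun h => absurd (Finset.mem_univ _) h
  set φ : ℝ := ((p ^ D.j * (p - 1) : ℕ) : ℝ) with hφ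
  have hφ0 : 0 < φ := by
    have := hM.1.two_le
    exact Nat.cast_pos.2 (Nat.mul_pos (pow_pos hM.1.pos _) (by omega))
  have hbessel : ∀ t ∈ T, ∀ k, ∑ χ ∈ s, Complex.normSq (L k χ t) =
      ((∑ θ ∈ bs b, z k θ ^ 2 : ℤ) : ℝ) := by
    intro t ht k
    have h1 := D.bessel ht (c k)
    simp only [hpair] at h1
    have hP : ((p ^ blockDefect p b : ℕ) : ℝ) * ((p ^ blockDefect p b : ℕ) : ℝ) ≠ 0 :=
      mul_ne_zero (Nat.cast_ne_zero.2 (pow_ne_zero _ hM.1.ne_zero))
        (Nat.cast_ne_zero.2 (pow_ne_zero _ hM.1.ne_zero))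
    refine mul_left_cancel₀ hP (Complex.ofReal_injective ?_)
    rw [Complex.ofReal_mul, Complex.ofReal_sum]
    simp only [map_mul, Complex.normSq_natCast, Complex.ofReal_mul, Complex.ofReal_natCast,
      ← Finset.mul_sum] at h1
    simp only [Complex.ofReal_mul, Complex.ofReal_natCast]
    rw [h1, show ∑ θ ∈ bs b, z k θ ^ 2 = ∑ a : {θ // θ ∈ b}, z k a.1 ^ 2 from
      Finset.sum_subtype (p := fun θ => θ ∈ b) (bs b) (fun θ => mem_bs) fun θ => z k θ ^ 2]
    simp only [c, Int.cast_sum, Complex.ofReal_sum, sq, Int.cast_mul, Complex.ofReal_mul,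
      Complex.ofReal_intCast, mul_assoc]
  have hlow : ∀ χ ∈ s, φ ≤ ∑ k, ∑ t ∈ T, Complex.normSq (L k χ t) := by
    intro χ hχ
    obtain ⟨k, hk⟩ : ∃ k, L k χ 1 ≠ 0 := by
      by_contra hcon
      push Not at hcon
      let a : IrrCharacter C → ℂ := fun θ => if hθ : θ ∈ b then D.coef χ 1 ⟨θ, hθ⟩ else 0
      have ha : ∀ f : IrrCharacter C → ℂ, ∑ θ ∈ bs b, a θ * f θ =
          ∑ q : {θ // θ ∈ b}, D.coef χ 1 q * f q.1 := fun f => by
        rw [Finset.sum_subtype (p := fun θ => θ ∈ b) (bs b) (fun θ => mem_bs) fun θ => a θ * f θ]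
        exact Finset.sum_congr rfl fun q _ => by simp only [a, dif_pos q.2]
      have hzero := hinj a fun k => (ha fun θ => (z k θ : ℂ)).trans (hcon k)
      refine InertiaHeight.diag_ne_zero D hd (Finset.mem_filter.1 hχ).2
        (one_mem_primExps (j := D.j) hM.1.one_lt) (Complex.ofReal_injective ?_)
      rw [D.diag_eq, regPair_eq_sum, Complex.ofReal_zero]
      refine mul_eq_zero_of_right _ (Finset.sum_eq_zero fun w hw => ?_)
      have h0 : D.fn (D.coef χ 1) w = 0 := (ha fun θ => (θ : C → ℂ) w).symm.trans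
        (hzero w (Finset.mem_filter.1 hw).2)
      rw [h0, zero_mul]
    refine le_trans ?_ (Finset.single_le_sum (f := fun k => ∑ t ∈ T, Complex.normSq (L k χ t))
      (fun _ _ => Finset.sum_nonneg fun _ _ => Complex.normSq_nonneg _) (Finset.mem_univ k))
    let w : {θ // θ ∈ b} → Unit → ℂ := fun a _ => ((D.nv χ a * z k a.1 : ℤ) : ℂ)
    have htw : ∀ t, twist D.ζ (fun a : {θ // θ ∈ b} => D.e a) w t () = L k χ t := by
      intro t
      simp only [twist, w, L, c, SubData.coef, SubData.nv, Int.cast_mul, Int.cast_natCast]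
      exact Finset.sum_congr rfl fun a _ => by ring
    have h1 := le_sum_primExps hM.1.one_lt D.hζ (fun a : {θ // θ ∈ b} => D.e a) (lam := 1)
      (μ := 1) zero_le_one zero_le_one w (fun m hm => one_le_qn_comb_unit _ m hm)
      (fun e => hk (by rw [← htw, e]; rfl))
    simpa only [qn_unit, htw, mul_one] using h1
  have hk : Nat.card B = s.card := by rw [Nat.card_eq_fintype_card, Fintype.card_subtype]
  have hfin : φ * (s.card : ℝ) ≤ φ * (N : ℝ) := by
    calc φ * (s.card : ℝ) = ∑ _χ ∈ s, φ := by rw [Finset.sum_const, nsmul_eq_mul]; ring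
      _ ≤ ∑ χ ∈ s, ∑ k, ∑ t ∈ T, Complex.normSq (L k χ t) := Finset.sum_le_sum hlow
      _ = ∑ k, ∑ t ∈ T, ((∑ θ ∈ bs b, z k θ ^ 2 : ℤ) : ℝ) := by
        rw [Finset.sum_comm]
        refine Finset.sum_congr rfl fun k _ => ?_
        rw [Finset.sum_comm]
        exact Finset.sum_congr rfl fun t ht => hbessel t ht k
      _ = φ * ((∑ k, ∑ θ ∈ bs b, z k θ ^ 2 : ℤ) : ℝ) := by
        simp only [Finset.sum_const, nsmul_eq_mul, ← Finset.mul_sum, hT, D.card_primExps_real]
        rw [hφ]
        push_cast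
        ring
      _ ≤ _ := mul_le_mul_of_nonneg_left (by exact_mod_cast hN) hφ0.le
  rw [hk, ← Nat.cast_le (α := ℝ)]
  exact le_of_mul_le_mul_left hfin hφ0

/-- The characters are at most the order of a defect group times the Brauer characters of a
major subsection. -/
theorem card_le_mul_rank (hM : IsPModular p M) (hx : ∃ k, orderOf x = p ^ k)
    (hC : C = Subgroup.centralizer ({x} : Set G)) (hind : IsInducedBlock M C b B)
    (hd : blockDefect p b = blockDefect p B) :
    Nat.card B ≤ p ^ blockDefect p B * blockRank p b := by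
  classical
  obtain ⟨D⟩ := nonempty_subData hM hx hC hind
  set T := primExps p (p ^ (D.j + 1)) with hT
  set s := Finset.univ.filter (· ∈ B) with hs
  set φ : ℝ := ((p ^ D.j * (p - 1) : ℕ) : ℝ) with hφ
  have hφ0 : 0 < φ := by
    have := hM.1.two_le
    exact Nat.cast_pos.2 (Nat.mul_pos (pow_pos hM.1.pos _) (by omega))
  have hlam : 0 < blockScale p b :=
    div_pos (pow_pos (Nat.cast_pos.2 hM.1.pos) _) (Nat.cast_pos.2 Nat.card_pos)
  have hlow : ∀ χ ∈ s, φ * 1 ≤ ∑ t ∈ T, D.diag χ t := by
    intro χ hχ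
    refine le_sum_primExps hM.1.one_lt D.hζ (fun a : {θ // θ ∈ b} => D.e a)
      (blockScale_nonneg b) zero_le_one (D.wRow χ) (fun m hm => ?_) ?_
    · rw [D.qn_comb_wRow]
      set v := D.form (fun a => m a * D.n χ a) (fun a => m a * D.n χ a) with hv
      have hv0 : (0 : ℤ) ≤ v := by
        have := qn_nonneg (blockScale_nonneg (p := p) b) (comb (D.wRow χ) m)
        rw [D.qn_comb_wRow] at this
        exact_mod_cast this
      have hv2 : v ≠ 0 := by
        intro e
        refine hm (funext fun u => ?_)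
        have h' : qn (blockScale p b) (comb (D.wRow χ) m) = 0 := by
          rw [D.qn_comb_wRow, ← hv, e, Int.cast_zero]
        rw [qn, mul_eq_zero, or_iff_right hlam.ne',
          Finset.sum_eq_zero_iff_of_nonneg fun _ _ => Complex.normSq_nonneg _] at h'
        exact Complex.normSq_eq_zero.1 (h' u (Finset.mem_univ _))
      exact_mod_cast (show (1 : ℤ) ≤ v by omega)
    · intro e
      exact InertiaHeight.diag_ne_zero D hd (Finset.mem_filter.1 hχ).2
        (one_mem_primExps (j := D.j) hM.1.one_lt) (by rw [SubData.diag, e]; simp [qn])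
  have hk : Nat.card B = s.card := by rw [Nat.card_eq_fintype_card, Fintype.card_subtype]
  have hfin : φ * (s.card : ℝ) ≤ φ * ((p ^ blockDefect p b * blockRank p b : ℕ) : ℝ) := by
    calc φ * (s.card : ℝ) = ∑ _χ ∈ s, φ * 1 := by rw [Finset.sum_const, nsmul_eq_mul]; ring
      _ ≤ ∑ χ ∈ s, ∑ t ∈ T, D.diag χ t := Finset.sum_le_sum hlow
      _ = _ := by
        rw [Finset.sum_comm, Finset.sum_congr rfl fun t ht => D.sum_diag ht, Finset.sum_const,
          nsmul_eq_mul, D.card_primExps_real]
        rw [hφ]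
        push_cast
        ring
  rw [hk, ← hd, ← Nat.cast_le (α := ℝ)]
  exact le_of_mul_le_mul_left hfin hφ0

end Major

/-! ## Through a central p-subgroup -/

section Lift

variable (N : Subgroup G) [N.Normal] [Fintype (G ⧸ N)]

theorem sup_centralizer_eq_top (hNc : N ≤ Subgroup.center G) :
    N ⊔ Subgroup.centralizer (N : Set G) = ⊤ :=
  eq_top_iff.2 (le_trans (fun g _ => Subgroup.mem_centralizer_iff.2 fun _ hx =>
    (Subgroup.mem_center_iff.1 (hNc hx) g).symm) le_sup_right)

open scoped Classical in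
/-- Sums over the regular elements of the quotient. -/
theorem sum_regular_quotient (hp : p.Prime) (hN : IsPGroup p N)
    (hsup : N ⊔ Subgroup.centralizer (N : Set G) = ⊤) (F : G ⧸ N → ℂ) :
    ∑ g ∈ Finset.univ.filter (fun g : G => ¬ p ∣ orderOf g), F (g : G ⧸ N) =
      ∑ y ∈ Finset.univ.filter (fun y : G ⧸ N => ¬ p ∣ orderOf y), F y := by
  refine Finset.sum_bij (fun g _ => (g : G ⧸ N))
    (fun g hg => Finset.mem_filter.2
      ⟨Finset.mem_univ _, regular_mk N hp (Finset.mem_filter.1 hg).2⟩)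
    (fun g hg g' hg' e => regular_lift_unique N hp hN hsup (Finset.mem_filter.1 hg).2
      (Finset.mem_filter.1 hg').2 e)
    (fun y hy => ?_) fun g _ => rfl
  obtain ⟨g, hg, e⟩ := exists_regular_lift N hp (Finset.mem_filter.1 hy).2
  exact ⟨g, Finset.mem_filter.2 ⟨Finset.mem_univ _, hg⟩, e⟩

variable {N}

/-- A character of the quotient lies in the block below as soon as its inflation lies above. -/
theorem mem_of_infl_mem (hM : IsPModular p M) (hN : IsPGroup p N)
    (hsup : N ⊔ Subgroup.centralizer (N : Set G) = ⊤) {b : Set (IrrCharacter G)}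
    (hb : IsPBlock M b) {bbar : Set (IrrCharacter (G ⧸ N))} (hbb : IsPBlock M bbar)
    (hinfl : ∀ η ∈ bbar, infl N η ∈ b) {η : IrrCharacter (G ⧸ N)} (hη : infl N η ∈ b) :
    η ∈ bbar := by
  obtain ⟨ψ, hψ⟩ := isPBlock_nonempty hbb
  have h := isPBlock_sameBlock hb (hinfl ψ hψ) hη
  refine isPBlock_mem_of_sameBlock hbb hψ (sameBlock_of_regular hM fun y hy => ?_)
  obtain ⟨g, hg, rfl⟩ := exists_regular_lift N hM.1 hy
  have h1 := h g
  simp only [centralChar, infl_apply, QuotientGroup.mk_one,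
    ← index_centralizer_regular N hM.1 hN hsup hg] at h1
  simpa [centralChar] using h1

open scoped Classical in
/-- The regular sum of an inflation against a character. -/
noncomputable def liftCoef (p : ℕ) (A : G → ℂ) (η : IrrCharacter (G ⧸ N)) : ℂ :=
  (Nat.card (G ⧸ N) : ℂ)⁻¹ * ∑ g ∈ Finset.univ.filter (fun g : G => ¬ p ∣ orderOf g),
    A g * conj ((η : G ⧸ N → ℂ) (g : G ⧸ N))

/-- A class function is expanded on the regular elements by the quotient. -/
theorem eq_sum_liftCoef (hp : p.Prime) (hN : IsPGroup p N)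
    (hsup : N ⊔ Subgroup.centralizer (N : Set G) = ⊤) {A : G → ℂ} (hA : IsClassFunction G A)
    {g : G} (hg : ¬ p ∣ orderOf g) :
    A g = ∑ η : IrrCharacter (G ⧸ N), liftCoef p A η * (η : G ⧸ N → ℂ) (g : G ⧸ N) := by
  classical
  let lift : G ⧸ N → G := fun y => if h : ¬ p ∣ orderOf y
    then (exists_regular_lift N hp h).choose else 1
  let f : G ⧸ N → ℂ := fun y => if p ∣ orderOf y then 0 else A (lift y)
  have hlift : ∀ g : G, ¬ p ∣ orderOf g → lift (g : G ⧸ N) = g := by
    intro g hg
    simp only [lift, dif_pos (regular_mk N hp hg)]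
    obtain ⟨h1, h2⟩ := (exists_regular_lift N hp (regular_mk N hp hg)).choose_spec
    exact regular_lift_unique N hp hN hsup h1 hg h2
  have hfg : ∀ g : G, ¬ p ∣ orderOf g → f (g : G ⧸ N) = A g := fun g hg => by
    simp only [f, if_neg (regular_mk N hp hg), hlift g hg]
  have hf : IsClassFunction (G ⧸ N) f := by
    intro y c
    obtain ⟨c, rfl⟩ := QuotientGroup.mk_surjective c
    have horder : orderOf ((c : G ⧸ N) * y * (c : G ⧸ N)⁻¹) = orderOf y := by
      rw [← MulAut.conj_apply, MulEquiv.orderOf_eq]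
    by_cases hy : p ∣ orderOf y
    · simp only [f, horder, if_pos hy]
    obtain ⟨g₀, hg₀, rfl⟩ := exists_regular_lift N hp hy
    rw [← QuotientGroup.mk_mul, ← QuotientGroup.mk_inv, ← QuotientGroup.mk_mul,
      hfg _ (by rwa [← MulAut.conj_apply, MulEquiv.orderOf_eq]), hfg _ hg₀, hA]
  have hcoef : ∀ η : IrrCharacter (G ⧸ N), classInner f (η : G ⧸ N → ℂ) = liftCoef p A η := by
    intro η
    rw [classInner, liftCoef]
    congr 1
    calc ∑ y : G ⧸ N, f y * conj ((η : G ⧸ N → ℂ) y)
        = ∑ y ∈ Finset.univ.filter (fun y : G ⧸ N => ¬ p ∣ orderOf y),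
            f y * conj ((η : G ⧸ N → ℂ) y) := by
          refine (Finset.sum_subset (Finset.subset_univ _) fun y _ hy => ?_).symm
          have hy' : p ∣ orderOf y := not_not.1 fun h =>
            hy (Finset.mem_filter.2 ⟨Finset.mem_univ _, h⟩)
          simp only [f, if_pos hy', zero_mul]
      _ = _ := by
          rw [← sum_regular_quotient N hp hN hsup]
          exact Finset.sum_congr rfl fun g hg => by rw [hfg g (Finset.mem_filter.1 hg).2]
  rw [← hfg g hg]
  conv_lhs => rw [classFunction_eq_sum hf]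
  simp only [Finset.sum_apply, Pi.smul_apply, smul_eq_mul, hcoef]

variable {b : Set (IrrCharacter G)} {bbar : Set (IrrCharacter (G ⧸ N))}

/-- On the regular elements a block is carried by the quotient block. -/
theorem block_eq_sum_liftCoef (hM : IsPModular p M) (hN : IsPGroup p N)
    (hsup : N ⊔ Subgroup.centralizer (N : Set G) = ⊤) (hb : IsPBlock M b)
    (hbb : IsPBlock M bbar) (hinfl : ∀ η ∈ bbar, infl N η ∈ b) (a : IrrCharacter G → ℂ)
    {g : G} (hg : ¬ p ∣ orderOf g) :
    ∑ θ ∈ bs b, a θ * (θ : G → ℂ) g = ∑ η ∈ bs bbar,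
      liftCoef p (fun u => ∑ θ ∈ bs b, a θ * (θ : G → ℂ) u) η * (η : G ⧸ N → ℂ) (g : G ⧸ N) := by
  classical
  set A := fun u => ∑ θ ∈ bs b, a θ * (θ : G → ℂ) u with hAdef
  have hA : IsClassFunction G A := fun u v => Finset.sum_congr rfl fun θ _ => by
    rw [irr_conj_invariant]
  show A g = _
  rw [eq_sum_liftCoef hM.1 hN hsup hA hg]
  refine (Finset.sum_subset (Finset.subset_univ _) fun η _ hη => ?_).symm
  refine mul_eq_zero_of_left (mul_eq_zero_of_right _ ?_) _
  simp only [hAdef, Finset.sum_mul]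
  rw [Finset.sum_comm]
  refine Finset.sum_eq_zero fun θ hθ => ?_
  have hns : ¬ SameBlock M (θ : G → ℂ) ((infl N η : IrrCharacter G) : G → ℂ) := fun h =>
    hη (mem_bs.2 (mem_of_infl_mem hM hN hsup hb hbb hinfl
      (isPBlock_mem_of_sameBlock hb (mem_bs.1 hθ) h)))
  calc _ = a θ * ∑ u ∈ Finset.univ.filter (fun u : G => ¬ p ∣ orderOf u),
        (θ : G → ℂ) u * conj (((infl N η : IrrCharacter G) : G → ℂ) u) := by
        rw [Finset.mul_sum]
        exact Finset.sum_congr rfl fun u _ => by rw [infl_apply]; ring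
    _ = 0 := by rw [sum_regular_eq_zero hM hns, mul_zero]

/-- The Brauer characters of a block are at most the characters of the quotient block. -/
theorem blockRank_le_quotient (hM : IsPModular p M) (hN : IsPGroup p N)
    (hsup : N ⊔ Subgroup.centralizer (N : Set G) = ⊤) (hb : IsPBlock M b)
    (hbb : IsPBlock M bbar) (hinfl : ∀ η ∈ bbar, infl N η ∈ b) :
    blockRank p b ≤ Nat.card bbar := by
  classical
  let R : IrrCharacter G → G → ℂ := fun φ => pRegularPart p (φ : G → ℂ)
  have hle : Submodule.span ℂ (R '' b) ≤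
      Submodule.span ℂ (Set.range fun η : bs bbar => R (infl N η.1)) := by
    refine Submodule.span_le.2 ?_
    rintro _ ⟨θ, hθ, rfl⟩
    let a : IrrCharacter G → ℂ := fun φ => if φ = θ then 1 else 0
    have e : R θ = ∑ η : bs bbar,
        liftCoef p (fun u => ∑ φ ∈ bs b, a φ * (φ : G → ℂ) u) η.1 • R (infl N η.1) := by
      funext u
      simp only [R, Finset.sum_apply, Pi.smul_apply, smul_eq_mul, pRegularPart_apply, infl_apply]
      by_cases hu : p ∣ orderOf u
      · simp [hu]
      · simp only [if_neg hu]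
        rw [Finset.sum_coe_sort (bs bbar) fun η => liftCoef p
          (fun u => ∑ φ ∈ bs b, a φ * (φ : G → ℂ) u) η * (η : G ⧸ N → ℂ) (u : G ⧸ N),
          ← block_eq_sum_liftCoef hM hN hsup hb hbb hinfl a hu]
        simp [a, hθ]
    rw [SetLike.mem_coe, e]
    exact Submodule.sum_mem _ fun η _ => Submodule.smul_mem _ _ (Submodule.subset_span ⟨η, rfl⟩)
  show Module.finrank ℂ (Submodule.span ℂ (R '' b)) ≤ _
  rw [← card_bs]
  exact (Submodule.finrank_mono hle).trans ((finrank_range_le_card _).trans (Fintype.card_coe _).le)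

theorem int_dvd_of_local_div (hM : IsPModular p M) :
    ∀ (i : ℕ) (n : ℤ), MemLocalRing M ((n : ℂ) / (p : ℂ) ^ i) → ∃ m : ℤ, n = (p : ℤ) ^ i * m := by
  intro i
  induction i with
  | zero => exact fun n _ => ⟨n, by simp⟩
  | succ i ih =>
    intro n hn
    have hp : (p : ℂ) ≠ 0 := Nat.cast_ne_zero.2 hM.1.ne_zero
    have h1 : MemLocalRing M ((n : ℂ) / (p : ℂ) ^ i) := by
      have e : (n : ℂ) / (p : ℂ) ^ i = (p : ℂ) * ((n : ℂ) / (p : ℂ) ^ (i + 1)) := by
        rw [pow_succ]; field_simp
      rw [e]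
      exact (locRing M).mul_mem (natCast_mem _ p) (mem_locRing.2 hn)
    obtain ⟨m, rfl⟩ := ih n h1
    have h2 : MemLocalIdeal M (m : ℂ) := by
      have := MemLocalIdeal.mul_left hn ((natCast_memLocalIdeal_iff hM p).2 dvd_rfl)
      convert this using 1
      push_cast
      rw [pow_succ]
      field_simp
    obtain ⟨k, rfl⟩ := (intCast_memLocalIdeal_iff hM m).1 h2
    exact ⟨k, by ring⟩

/-- Vectors of the quotient block lift with squared lengths multiplied by the order of the
subgroup; their pairings are pairings of the vectors of the quotient. -/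
theorem exists_lift (hM : IsPModular p M) (hN : IsPGroup p N)
    (hNc : N ≤ Subgroup.center G) (hb : IsPBlock M b) (hbb : IsPBlock M bbar)
    (hinfl : ∀ η ∈ bbar, infl N η ∈ b) {r : ℕ} (zb : Fin r → IrrCharacter (G ⧸ N) → ℤ)
    (hsing : ∀ k, ∀ y : G ⧸ N, p ∣ orderOf y →
      ∑ η ∈ bs bbar, (zb k η : ℂ) * (η : G ⧸ N → ℂ) y = 0)
    (hinj : ∀ a : IrrCharacter (G ⧸ N) → ℂ, (∀ k, ∑ η ∈ bs bbar, a η * (zb k η : ℂ) = 0) →
      ∀ y : G ⧸ N, ¬ p ∣ orderOf y → ∑ η ∈ bs bbar, a η * (η : G ⧸ N → ℂ) y = 0) :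
    ∃ z : Fin r → IrrCharacter G → ℤ,
      (∀ k, ∀ w : G, p ∣ orderOf w → ∑ θ ∈ bs b, (z k θ : ℂ) * (θ : G → ℂ) w = 0) ∧
      (∀ a : IrrCharacter G → ℂ, (∀ k, ∑ θ ∈ bs b, a θ * (z k θ : ℂ) = 0) →
        ∀ w : G, ¬ p ∣ orderOf w → ∑ θ ∈ bs b, a θ * (θ : G → ℂ) w = 0) ∧
      (∀ a : IrrCharacter G → ℂ, ∃ a' : IrrCharacter (G ⧸ N) → ℂ,
        ∀ k, ∑ η ∈ bs bbar, a' η * (zb k η : ℂ) = ∑ θ ∈ bs b, a θ * (z k θ : ℂ)) ∧
      ∀ k, ∑ θ ∈ bs b, z k θ ^ 2 = (Nat.card N : ℤ) * ∑ η ∈ bs bbar, zb k η ^ 2 := by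
  classical
  have hp := hM.1
  haveI := Fact.mk hp
  have hsup := sup_centralizer_eq_top N hNc
  set q : ℂ := (Nat.card N : ℂ) with hq
  have hq0 : q ≠ 0 := Nat.cast_ne_zero.2 Nat.card_pos.ne'
  have hGn : (Nat.card G : ℂ) = (Nat.card (G ⧸ N) : ℂ) * q := by
    rw [hq, ← Nat.cast_mul, ← Subgroup.card_eq_card_quotient_mul_card_subgroup]
  have hG0 : (Nat.card (G ⧸ N) : ℂ) ≠ 0 := Nat.cast_ne_zero.2 Nat.card_pos.ne'
  set R := Finset.univ.filter (fun g : G => ¬ p ∣ orderOf g) with hR
  let F : Fin r → G ⧸ N → ℂ := fun k y => ∑ η ∈ bs bbar, (zb k η : ℂ) * (η : G ⧸ N → ℂ) y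
  let Φ : Fin r → G → ℂ := fun k g => if p ∣ orderOf g then 0 else q * F k (g : G ⧸ N)
  have hΦcl : ∀ k, IsClassFunction G (Φ k) := by
    intro k g c
    simp only [Φ, F, show orderOf (c * g * c⁻¹) = orderOf g by
      rw [← MulAut.conj_apply, MulEquiv.orderOf_eq], QuotientGroup.mk_mul, QuotientGroup.mk_inv,
      irr_conj_invariant]
  have hinner : ∀ k (A : G → ℂ), classInner A (Φ k) = (Nat.card (G ⧸ N) : ℂ)⁻¹ *
      ∑ g ∈ R, A g * conj (F k (g : G ⧸ N)) := by
    intro k A
    rw [classInner, hGn, mul_inv, mul_assoc]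
    congr 1
    rw [hR, Finset.sum_filter, Finset.mul_sum]
    refine Finset.sum_congr rfl fun g _ => ?_
    simp only [Φ]
    by_cases hg : p ∣ orderOf g
    · simp [hg]
    · rw [if_neg hg, if_pos hg, map_mul, hq, map_natCast, ← hq]
      field_simp
  have hswap : ∀ k (θ : IrrCharacter G),
      classInner (Φ k) (θ : G → ℂ) = conj (classInner (θ : G → ℂ) (Φ k)) := fun k θ => by
    simp only [classInner, map_mul, map_inv₀, map_natCast, map_sum, Complex.conj_conj]
    exact congrArg _ (Finset.sum_congr rfl fun g _ => mul_comm _ _)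
  -- the coefficients are integers
  have hint : ∀ k (θ : IrrCharacter G), ∃ n : ℤ, classInner (θ : G → ℂ) (Φ k) = n := by
    intro k θ
    choose m hm using fun η : IrrCharacter (G ⧸ N) =>
      exists_int_regTr hp (irr_isCharacter θ) (irr_isCharacter (infl N η))
    simp only [classInner_regTr hp, ← hR, infl_apply] at hm
    set g' : ℕ := Nat.card G / p ^ (Nat.card G).factorization p
    have hg' : (g' : ℂ) ≠ 0 := Nat.cast_ne_zero.2 (Nat.ordCompl_pos p Nat.card_pos.ne').ne'
    set a := (Nat.card G).factorization p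
    have hGa : (Nat.card G : ℂ) = (p : ℂ) ^ a * (g' : ℂ) := by
      rw [← Nat.cast_pow, ← Nat.cast_mul, Nat.ordProj_mul_ordCompl_eq_self]
    have hpa : (p : ℂ) ^ a ≠ 0 := pow_ne_zero _ (Nat.cast_ne_zero.2 hp.ne_zero)
    have heq : classInner (θ : G → ℂ) (Φ k) =
        (((Nat.card N : ℤ) * ∑ η ∈ bs bbar, zb k η * m η : ℤ) : ℂ) / (p : ℂ) ^ a := by
      rw [hinner]
      simp only [F, map_sum, map_mul, map_intCast, Finset.mul_sum]
      push_cast
      rw [Finset.sum_comm, ← hq, Finset.sum_div]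
      refine Finset.sum_congr rfl fun η _ => ?_
      have h1 := (div_eq_iff hg').1 (hm η)
      calc _ = (Nat.card (G ⧸ N) : ℂ)⁻¹ * ((zb k η : ℂ) *
            ∑ g ∈ R, (θ : G → ℂ) g * conj ((η : G ⧸ N → ℂ) (g : G ⧸ N))) := by
            simp only [Finset.mul_sum]
            exact Finset.sum_congr rfl fun g _ => by ring
        _ = _ := by
            rw [h1]
            have hGG := hGn.symm.trans hGa
            field_simp
            linear_combination (-(zb k η : ℂ) * (m η : ℂ)) * hGG
    -- locality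
    have hloc : MemLocalRing M (classInner (θ : G → ℂ) (Φ k)) := by
      haveI : Finite (ConjClasses G) := Finite.of_surjective _ ConjClasses.mk_surjective
      haveI : Fintype (ConjClasses G) := Fintype.ofFinite _
      let E : G → ℂ := fun g => if p ∣ orderOf g then 0 else (θ : G → ℂ) g *
        conj (F k (g : G ⧸ N) /
          (Nat.card (Subgroup.centralizer ({(g : G ⧸ N)} : Set (G ⧸ N))) : ℂ))
      have hE : IsClassFunction G E := by
        intro g c
        simp only [E, F, show orderOf (c * g * c⁻¹) = orderOf g by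
          rw [← MulAut.conj_apply, MulEquiv.orderOf_eq], QuotientGroup.mk_mul, QuotientGroup.mk_inv,
          irr_conj_invariant]
        split_ifs
        · rfl
        congr 3
        refine Nat.cast_inj.2 (Nat.card_congr
          ((MulAut.conj (c : G ⧸ N)).toEquiv.subtypeEquiv fun d => ?_)).symm
        show d ∈ Subgroup.centralizer _ ↔ _ ∈ Subgroup.centralizer _
        simp only [Subgroup.mem_centralizer_singleton_iff, MulEquiv.toEquiv_eq_coe,
          EquivLike.coe_coe, MulAut.conj_apply]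
        constructor
        · intro e; simp only [← mul_assoc, inv_mul_cancel_right]; rw [mul_assoc (c : G ⧸ N) d, e]; group
        · intro e
          have := congrArg (fun z => (c : G ⧸ N)⁻¹ * z * c) e
          simpa [mul_assoc] using this
      have hEK : classInner (θ : G → ℂ) (Φ k) = ∑ C : ConjClasses G, E C.out := by
        rw [← sum_div_index E hE, hinner, Finset.mul_sum, hR, Finset.sum_filter]
        refine Finset.sum_congr rfl fun g _ => ?_
        simp only [E]
        by_cases hg : p ∣ orderOf g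
        · simp [hg]
        · rw [if_neg hg, if_pos hg, ← index_centralizer_regular N hp hN hsup hg, map_div₀,
            map_natCast, ← Subgroup.card_mul_index
              (Subgroup.centralizer ({(g : G ⧸ N)} : Set (G ⧸ N)))]
          push_cast
          have := Nat.cast_ne_zero (R := ℂ).2
            (Nat.card_pos (α := Subgroup.centralizer ({(g : G ⧸ N)} : Set (G ⧸ N)))).ne'
          have := Nat.cast_ne_zero (R := ℂ).2
            (Subgroup.index_ne_zero_of_finite
              (H := Subgroup.centralizer ({(g : G ⧸ N)} : Set (G ⧸ N))))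
          field_simp
      rw [hEK]
      refine memLocalRing_sum _ _ fun C _ => ?_
      simp only [E]
      split_ifs with hC
      · exact (locRing M).zero_mem
      refine (locRing M).mul_mem (mem_locRing_of_isIntegral (irr_isIntegral θ _)) ?_
      have e : conj (F k (C.out : G ⧸ N) /
          (Nat.card (Subgroup.centralizer ({(C.out : G ⧸ N)} : Set (G ⧸ N))) : ℂ)) =
          F k ((C.out : G ⧸ N)⁻¹) /
            (Nat.card (Subgroup.centralizer ({(C.out : G ⧸ N)⁻¹} : Set (G ⧸ N))) : ℂ) := by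
        have hcc : Subgroup.centralizer ({(C.out : G ⧸ N)⁻¹} : Set (G ⧸ N)) =
            Subgroup.centralizer ({(C.out : G ⧸ N)} : Set (G ⧸ N)) := by
          ext d
          simp only [Subgroup.mem_centralizer_singleton_iff]
          exact ⟨fun h => by simpa using (Commute.inv_right h).eq,
            fun h => (Commute.inv_right h).eq⟩
        simp only [F, map_div₀, map_sum, map_mul, map_intCast, map_natCast, irr_inv, hcc]
      rw [e]
      exact mem_locRing.2 (KleinSigns.regular_div_centralizer hM (bs bbar) (fun η => (zb k η : ℂ))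
        (fun η _ => mem_locRing.1 (intCast_mem _ _)) (fun y hy => hsing k y hy)
        (by rw [orderOf_inv]; exact regular_mk N hp hC))
    rw [heq] at hloc
    obtain ⟨n, hn⟩ := int_dvd_of_local_div hM a _ hloc
    exact ⟨n, by rw [heq, hn]; push_cast; field_simp⟩
  choose z hz using hint
  have hout : ∀ k, ∀ θ, θ ∉ bs b → classInner (θ : G → ℂ) (Φ k) = 0 := by
    intro k θ hθ
    rw [hinner]
    refine mul_eq_zero_of_right _ ?_
    simp only [F, map_sum, map_mul, map_intCast, Finset.mul_sum]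
    rw [Finset.sum_comm]
    refine Finset.sum_eq_zero fun η hη => ?_
    have hns : ¬ SameBlock M (θ : G → ℂ) ((infl N η : IrrCharacter G) : G → ℂ) := fun h =>
      hθ (mem_bs.2 (isPBlock_mem_of_sameBlock hb (hinfl η (mem_bs.1 hη)) (sameBlock_symm h)))
    calc _ = (zb k η : ℂ) * ∑ g ∈ R, (θ : G → ℂ) g *
          conj (((infl N η : IrrCharacter G) : G → ℂ) g) := by
          rw [Finset.mul_sum]
          exact Finset.sum_congr rfl fun g _ => by rw [infl_apply]; ring
      _ = 0 := by rw [hR, sum_regular_eq_zero hM hns, mul_zero]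
  have hexp : ∀ k, Φ k = ∑ θ : IrrCharacter G, (if θ ∈ bs b then (z k θ : ℂ) else 0) • (θ : G → ℂ) := by
    intro k
    conv_lhs => rw [classFunction_eq_sum (hΦcl k)]
    refine Finset.sum_congr rfl fun θ _ => ?_
    rw [hswap]
    split_ifs with h
    · rw [hz, map_intCast]
    · rw [hout k θ h, map_zero]
  have hpair : ∀ (a : IrrCharacter G → ℂ) (k : Fin r),
      ∑ η ∈ bs bbar, liftCoef p (fun u => ∑ θ ∈ bs b, a θ * (θ : G → ℂ) u) η * (zb k η : ℂ) =
        ∑ θ ∈ bs b, a θ * (z k θ : ℂ) := by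
    intro a k
    simp only [← hz, hinner, liftCoef, F, map_sum, map_mul, map_intCast, ← hR, Finset.mul_sum,
      Finset.sum_mul]
    rw [Finset.sum_comm]
    conv_rhs => rw [Finset.sum_comm]
    refine Finset.sum_congr rfl fun g _ => ?_
    rw [Finset.sum_comm]
    exact Finset.sum_congr rfl fun η _ => Finset.sum_congr rfl fun θ _ => by ring
  refine ⟨z, fun k w hw => ?_, fun a ha g hg => ?_, fun a => ⟨_, hpair a⟩, ?_⟩
  · have h1 := congrFun (hexp k) w
    simp only [Φ, if_pos hw, Finset.sum_apply, Pi.smul_apply, smul_eq_mul, ite_mul, zero_mul,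
      Finset.sum_ite_mem, Finset.univ_inter] at h1
    exact h1.symm
  · rw [block_eq_sum_liftCoef hM hN hsup hb hbb hinfl a hg]
    exact hinj _ (fun k => (hpair a k).trans (ha k)) _ (regular_mk N hp hg)
  · have hk : ∀ k, ∑ θ ∈ bs b, z k θ ^ 2 = (Nat.card N : ℤ) * ∑ η ∈ bs bbar, zb k η ^ 2 := by
      intro k
      apply Int.cast_injective (α := ℂ)
      push_cast
      have h1 : classInner (Φ k) (Φ k) = ∑ θ ∈ bs b, (z k θ : ℂ) ^ 2 := by
        rw [hexp k, classInner_combination₂, ← Finset.sum_subset (Finset.subset_univ (bs b))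
          fun θ _ hθ => by rw [if_neg hθ, zero_mul]]
        exact Finset.sum_congr rfl fun θ hθ => by rw [if_pos hθ, map_intCast, sq]
      have hF : F k = ∑ η : IrrCharacter (G ⧸ N),
          (if η ∈ bs bbar then (zb k η : ℂ) else 0) • (η : G ⧸ N → ℂ) := by
        funext y
        simp only [F, Finset.sum_apply, Pi.smul_apply, smul_eq_mul, ite_mul, zero_mul,
          Finset.sum_ite_mem, Finset.univ_inter]
      have h2 : classInner (F k) (F k) = ∑ η ∈ bs bbar, (zb k η : ℂ) ^ 2 := by
        rw [hF, classInner_combination₂, ← Finset.sum_subset (Finset.subset_univ (bs bbar))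
          fun θ _ hθ => by rw [if_neg hθ, zero_mul]]
        exact Finset.sum_congr rfl fun θ hθ => by rw [if_pos hθ, map_intCast, sq]
      rw [← h1, ← h2, ← hq, hinner, classInner, mul_left_comm q]
      congr 1
      rw [Finset.mul_sum, ← Finset.sum_subset (Finset.subset_univ
        (Finset.univ.filter fun y : G ⧸ N => ¬ p ∣ orderOf y)) fun y _ hy => by
          rw [show F k y = 0 from hsing k y (not_not.1 fun h =>
            hy (Finset.mem_filter.2 ⟨Finset.mem_univ _, h⟩))]
          simp,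
        ← sum_regular_quotient N hp hN hsup]
      refine Finset.sum_congr rfl fun g hg => ?_
      simp only [Φ, if_neg (Finset.mem_filter.1 hg).2]
      ring
    exact hk

/-- Vectors of the quotient block lift with length multiplied by the order of the subgroup. -/
theorem hasVectors_lift (hM : IsPModular p M) (hN : IsPGroup p N)
    (hNc : N ≤ Subgroup.center G) (hb : IsPBlock M b) (hbb : IsPBlock M bbar)
    (hinfl : ∀ η ∈ bbar, infl N η ∈ b) {K : ℕ} (h : HasVectors p bbar K) :
    HasVectors p b (Nat.card N * K) := by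
  obtain ⟨r, zb, hsing, hinj, hK⟩ := h
  obtain ⟨z, h1, h2, -, h4⟩ := exists_lift hM hN hNc hb hbb hinfl zb hsing hinj
  refine ⟨r, z, h1, h2, ?_⟩
  rw [Finset.sum_congr rfl fun k _ => h4 k, ← Finset.mul_sum, Nat.cast_mul]
  exact mul_le_mul_of_nonneg_left hK (Int.natCast_nonneg _)

/-- Weighted vectors of the quotient block lift in the same way. -/
theorem hasWeighted_lift (hM : IsPModular p M) (hN : IsPGroup p N)
    (hNc : N ≤ Subgroup.center G) (hb : IsPBlock M b) (hbb : IsPBlock M bbar)
    (hinfl : ∀ η ∈ bbar, infl N η ∈ b) {K : ℕ} (h : HasWeighted p bbar K) :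
    HasWeighted p b (Nat.card N * K) := by
  obtain ⟨r, zb, M0, hM0, hsing, hinj, hthr, hK⟩ := h
  obtain ⟨z, h1, h2, h3, h4⟩ := exists_lift hM hN hNc hb hbb hinfl zb hsing hinj
  refine ⟨r, z, M0, hM0, h1, h2, fun a y hy hne => ?_, ?_⟩
  · obtain ⟨a', ha'⟩ := h3 a
    exact hthr a' y (fun k => (hy k).trans (ha' k).symm) hne
  · rw [Finset.sum_congr rfl fun k _ => h4 k, ← Finset.mul_sum, Nat.cast_mul, mul_assoc]
    exact mul_le_mul_of_nonneg_left hK (Int.natCast_nonneg _)

end Lift

end Cfsg.Agent.ProjVec
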