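/-
A major subsection at an involution with one Brauer character, in a block of defect two.
-/
import Cfsg.Agent.Lib.Blocks.SubsectionBound

set_option linter.unusedSectionVars false
set_option linter.style.haveILetI false

namespace Cfsg.Agent.Blocks

open Cfsg MonoidAlgebra Cfsg.Agent.Char
open scoped ComplexConjugate

universe u

variable {G : Type u} [Group G] [Fintype G] {M : Ideal AlgInt} [M.IsPrime] {x : G}
  {C : Subgroup G} [Fintype C] {b : Set (IrrCharacter C)} [DecidablePred (· ∈ b)]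
  {B : Set (IrrCharacter G)} [DecidablePred (· ∈ B)]

/-- Three integers cannot be the column of an involution in a block of defect two. -/
theorem no_three_column {ι : Type*} (s : Finset ι) (hs : s.card = 3) (a K : ι → ℤ) {i₀ : ι}
    (hi : i₀ ∈ s) (hK0 : K i₀ = a i₀) (hodd : ¬ (2 : ℤ) ∣ a i₀) (hpos : ∀ i ∈ s, 0 < a i)
    (hKne : ∀ i ∈ s, K i ≠ 0) (hsum : ∑ i ∈ s, a i = 4) (hsq : ∑ i ∈ s, K i ^ 2 = 4 * a i₀)
    (hcs : ∀ i ∈ s, 0 ≤ a i + 2 * K i + a i₀ ∧ 0 ≤ a i - 2 * K i + a i₀) : False := by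
  classical
  obtain ⟨x, y, hxy, he⟩ := Finset.card_eq_two.1
    (show (s.erase i₀).card = 2 by rw [Finset.card_erase_of_mem hi, hs])
  have hx : x ∈ s := Finset.mem_of_mem_erase (by rw [he]; simp)
  have hy : y ∈ s := Finset.mem_of_mem_erase (by rw [he]; simp)
  rw [← Finset.add_sum_erase _ _ hi, he, Finset.sum_pair hxy] at hsum hsq
  have hp0 := hpos i₀ hi
  have hpx := hpos x hx
  have hpy := hpos y hy
  have ha0 : a i₀ = 1 := by omega
  have hsqx : K x ^ 2 = 1 := by
    have h := hcs x hx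
    have hne := hKne x hx
    have : K x = 1 ∨ K x = -1 := by omega
    rcases this with h | h <;> rw [h] <;> norm_num
  have hsqy : K y ^ 2 = 1 := by
    have h := hcs y hy
    have hne := hKne y hy
    have : K y = 1 ∨ K y = -1 := by omega
    rcases this with h | h <;> rw [h] <;> norm_num
  rw [hK0, ha0, hsqx, hsqy] at hsq
  norm_num at hsq

namespace SubData

variable (D : SubData 2 M x C b B)

theorem form_symm (c c' : {θ // θ ∈ b} → ℤ) : D.form c c' = D.form c' c := by
  rw [form, form, Finset.sum_comm]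
  exact Finset.sum_congr rfl fun a _ => Finset.sum_congr rfl fun a' _ => by rw [D.hsymm]; ring

theorem form_self_nonneg (c : {θ // θ ∈ b} → ℤ) : 0 ≤ D.form c c := by
  have h0 := qn_nonneg (blockScale_nonneg (p := 2) b) (pRegularPart 2 (D.fn fun a => (c a : ℂ)))
  have h : ((qn (blockScale 2 b) (pRegularPart 2 (D.fn fun a => (c a : ℂ))) : ℝ) : ℂ) =
      (((D.form c c : ℤ) : ℝ) : ℂ) := by
    rw [qn_eq_regPair, D.regPair_fn_int]; norm_num
  rw [Complex.ofReal_inj] at h
  rw [h] at h0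
  exact_mod_cast h0

theorem form_add_smul (c c' : {θ // θ ∈ b} → ℤ) (m n : ℤ) :
    D.form (fun a => m * c a + n * c' a) (fun a => m * c a + n * c' a) =
      m ^ 2 * D.form c c + 2 * m * n * D.form c c' + n ^ 2 * D.form c' c' := by
  have h : D.form (fun a => m * c a + n * c' a) (fun a => m * c a + n * c' a) =
      m ^ 2 * D.form c c + m * n * D.form c c' + m * n * D.form c' c + n ^ 2 * D.form c' c' := by
    simp only [form, Finset.mul_sum, ← Finset.sum_add_distrib]
    exact Finset.sum_congr rfl fun a _ => Finset.sum_congr rfl fun a' _ => by ring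
  rw [h, D.form_symm c' c]; ring

include D in
/-- A block of defect two has no major subsection at an involution of rank one if it has three
characters. -/
theorem card_ne_three (hx2 : x * x = 1) (hd : blockDefect 2 b = blockDefect 2 B)
    (hd2 : blockDefect 2 B = 2) (hl : blockRank 2 b = 1) : Nat.card B ≠ 3 := by
  classical
  intro hk
  obtain ⟨χ₀, hχ₀, h0⟩ := exists_heightZero D.hM D.hind.2.1
  have hxC : x ∈ C := by
    rw [D.hC]; exact Subgroup.mem_centralizer_singleton_iff.2 rfl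
  have hsgn : ∀ θ : IrrCharacter C, ∃ z : ℤ, D.ζ ^ D.e θ = (z : ℂ) := by
    intro θ
    have h1 := D.he θ 2 1 1 (by simp [pow_two, hx2])
    rw [one_mul] at h1
    have h2 : (D.ζ ^ D.e θ) ^ 2 = 1 := by
      rw [← pow_mul, mul_comm]
      exact mul_right_cancel₀ (irr_one_ne_zero θ) (by rw [one_mul]; exact h1.symm)
    rcases sq_eq_one_iff.1 h2 with h | h
    · exact ⟨1, by simpa using h⟩
    · exact ⟨-1, by simpa using h⟩
  choose sg hsg using hsgn
  let z : IrrCharacter G → {θ // θ ∈ b} → ℤ := fun χ a => sg a * D.n χ a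
  have hcoef : ∀ χ, D.coef χ 1 = fun a => (z χ a : ℂ) := fun χ => funext fun a => by
    simp [coef, z, hsg]
  let a : IrrCharacter G → ℤ := fun χ => D.form (z χ) (z χ)
  let K : IrrCharacter G → ℤ := fun χ => D.form (z χ) (z χ₀)
  have hK : ∀ χ, D.K χ χ₀ 1 = (K χ : ℂ) := fun χ => by
    rw [SubData.K, hcoef, hcoef, D.regPair_fn_int]
  have h1T : 1 ∈ primExps 2 (2 ^ (D.j + 1)) :=
    Finset.mem_filter.2 ⟨Finset.mem_range.2 (Nat.one_lt_pow (by omega) (by norm_num)), by norm_num⟩
  have hodd : ¬ (2 : ℤ) ∣ a χ₀ := by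
    intro h
    have h1 : MemLocalIdeal M (D.K χ₀ χ₀ 1) := by
      rw [hK]
      exact (intCast_memLocalIdeal_iff D.hM _).2 (by exact_mod_cast h)
    rcases (D.K_mem_iff hχ₀ hχ₀ 1).1 h1 with h | h <;> exact h h0
  have hKne : ∀ χ ∈ B, K χ ≠ 0 := by
    intro χ hχ e
    have h1 := (D.regPair_major' hd hχ hχ₀ h0 (D.coef χ₀ 1)
      (fun a => D.coef_conj_memLocalRing χ₀ 1 a)).2.1 (memLocalIdeal_zero_div (by
        change D.K χ χ₀ 1 = 0
        rw [hK, e, Int.cast_zero]))
    rcases (D.K_mem_iff hχ₀ hχ₀ 1).1 h1 with h | h <;> exact h h0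
  have hcs : ∀ χ, 0 ≤ a χ + 2 * K χ + a χ₀ ∧ 0 ≤ a χ - 2 * K χ + a χ₀ := fun χ => by
    have h1 := D.form_self_nonneg fun i => 1 * z χ i + 1 * z χ₀ i
    have h2 := D.form_self_nonneg fun i => 1 * z χ i + (-1) * z χ₀ i
    rw [D.form_add_smul] at h1 h2
    constructor <;> simp only [a, K] <;> linarith
  have hpos : ∀ χ ∈ B, 0 < a χ := fun χ hχ => by
    refine lt_of_le_of_ne (D.form_self_nonneg _) fun e => hKne χ hχ ?_
    have h1 := D.form_self_nonneg fun i => a χ₀ * z χ i + 1 * z χ₀ i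
    have h2 := D.form_self_nonneg fun i => (-(a χ₀)) * z χ i + 1 * z χ₀ i
    change 0 = D.form (z χ) (z χ) at e
    rw [D.form_add_smul, ← e] at h1 h2
    have h3 : 0 < a χ₀ := lt_of_le_of_ne (D.form_self_nonneg _) fun e => hodd (by
      simp only [a] at e ⊢; rw [← e]; exact dvd_zero _)
    simp only [a, K] at h1 h2 h3 ⊢
    nlinarith
  set s := Finset.univ.filter (· ∈ B)
  have hs : s.card = 3 := by rw [← hk, Nat.card_eq_fintype_card, Fintype.card_subtype]
  have hsum : ∑ χ ∈ s, a χ = 4 := by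
    have h := D.sum_diag h1T
    rw [hl, hd, hd2] at h
    have h' : ((∑ χ ∈ s, a χ : ℤ) : ℂ) = ((4 : ℤ) : ℂ) := by
      have := congrArg (fun r : ℝ => (r : ℂ)) h
      push_cast at this ⊢
      refine Eq.trans ?_ (this.trans (mul_one _))
      exact Finset.sum_congr rfl fun χ _ => by rw [D.diag_eq, hcoef, D.regPair_fn_int]
    exact_mod_cast h'
  have hsq : ∑ χ ∈ s, K χ ^ 2 = 4 * a χ₀ := by
    have h := D.bessel h1T (D.coef χ₀ 1)
    rw [hd, hd2, hcoef χ₀, D.regPair_fn_int] at h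
    have h' : ((∑ χ ∈ s, K χ ^ 2 : ℤ) : ℂ) = ((4 * a χ₀ : ℤ) : ℂ) := by
      push_cast at h ⊢
      refine Eq.trans ?_ h
      refine Finset.sum_congr rfl fun χ _ => ?_
      rw [hcoef χ, D.regPair_fn_int, Complex.normSq_intCast]
      push_cast; ring
    exact_mod_cast h'
  exact no_three_column s hs a K (Finset.mem_filter.2 ⟨Finset.mem_univ _, hχ₀⟩) rfl hodd
    (fun χ hχ => hpos χ (Finset.mem_filter.1 hχ).2) (fun χ hχ => hKne χ (Finset.mem_filter.1 hχ).2)
    hsum hsq fun χ _ => hcs χ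

end SubData

end Cfsg.Agent.Blocks
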