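/-
The Fong–Reynolds correspondence.
-/
import Cfsg.Agent.Lib.Blocks.Covering
import Cfsg.Agent.Lib.Blocks.Misc
import Cfsg.Agent.Lib.Blocks.Defect
import Cfsg.Agent.Lib.Blocks.SecondMain
import Cfsg.Agent.Lib.Char.Clifford

set_option linter.unusedSectionVars false
set_option linter.style.haveILetI false

namespace Cfsg.Agent.FongReynolds

open Cfsg MonoidAlgebra Cfsg.Agent.Char Cfsg.Agent.Blocks
open scoped ComplexConjugate

universe u

variable {G : Type u} [Group G] [Fintype G] {p : ℕ} {M : Ideal AlgInt} [M.IsPrime]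
  (N : Subgroup G) [N.Normal] [Fintype N] {T : Subgroup G} [Fintype T] (hNT : N ≤ T)
  (b : Set (IrrCharacter N))

/-- Restriction from `T` to `N`. -/
def resT (ψ : T → ℂ) : N → ℂ := fun n => ψ ⟨(n : G), hNT n.2⟩

/-- Having a constituent in `b`. -/
def Over (ψ : IrrCharacter T) : Prop :=
  ∃ θ ∈ b, classInner (resT N hNT (ψ : T → ℂ)) (θ : N → ℂ) ≠ 0

theorem isCharacter_resT (ψ : IrrCharacter T) : IsCharacter N (resT N hNT (ψ : T → ℂ)) :=
  IsCharacter.comp (irr_isCharacter ψ) (Subgroup.inclusion hNT)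

theorem resT_conj (ψ : IrrCharacter T) {t : G} (ht : t ∈ T) :
    conjChar N t (resT N hNT (ψ : T → ℂ)) = resT N hNT (ψ : T → ℂ) := funext fun n =>
  irr_conj_invariant ψ ⟨(n : G), hNT n.2⟩ ⟨t, ht⟩

theorem classInner_cjIrr (ψ : IrrCharacter T) (θ : IrrCharacter N) {t : G} (ht : t ∈ T) :
    classInner (resT N hNT (ψ : T → ℂ)) (cjIrr N t θ : N → ℂ) =
      classInner (resT N hNT (ψ : T → ℂ)) (θ : N → ℂ) := by
  conv_lhs => rw [← resT_conj N hNT ψ ht]
  exact classInner_conjChar N _ _ t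

/-- The constituents of a restriction form one orbit under `T`. -/
theorem exists_conj_mem (ψ : IrrCharacter T) {θ φ : IrrCharacter N}
    (h1 : classInner (resT N hNT (ψ : T → ℂ)) (θ : N → ℂ) ≠ 0)
    (h2 : classInner (resT N hNT (ψ : T → ℂ)) (φ : N → ℂ) ≠ 0) :
    ∃ t ∈ T, φ = cjIrr N t θ := by
  classical
  haveI : Fintype (N.subgroupOf T) := Fintype.ofFinite _
  let e := Subgroup.subgroupOfEquivOfLe hNT
  have htr : ∀ f : N → ℂ, classInner (fun m : N.subgroupOf T => (ψ : T → ℂ) (m : T))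
      (fun m => f (e m)) = classInner (resT N hNT (ψ : T → ℂ)) f := by
    intro f
    unfold classInner
    rw [Nat.card_congr e.toEquiv]
    congr 1
    exact Fintype.sum_equiv e.toEquiv _ _ fun m => rfl
  have hirr : ∀ θ : IrrCharacter N, IsIrrCharacter (N.subgroupOf T) fun m => (θ : N → ℂ) (e m) :=
    fun θ => IsIrrCharacter.comp θ.2 e.toMonoidHom e.surjective
  obtain ⟨t, ht⟩ := (mem_conjOrbit _).1 (restrict_constituent_conj (N.subgroupOf T) ψ.2
    (hirr θ) (hirr φ) (by rw [htr]; exact h1) (by rw [htr]; exact h2))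
  refine ⟨t, t.2, Subtype.ext (funext fun n => ?_)⟩
  obtain ⟨m, rfl⟩ := e.surjective n
  rw [show (φ : N → ℂ) (e m) = _ from congrFun ht m]
  rfl

theorem exists_nat (ψ : IrrCharacter T) (θ : IrrCharacter N) :
    ∃ n : ℕ, classInner (resT N hNT (ψ : T → ℂ)) (θ : N → ℂ) = n :=
  IsCharacter.exists_classInner_nat (isCharacter_resT N hNT ψ) (irr_isCharacter θ)

variable (hstab : ∀ g : G, g ∈ T ↔ ∀ θ ∈ b, cjIrr N g θ ∈ b) (hb : IsPBlock M b)

include hstab hb in
theorem mem_of_maps {θ : IrrCharacter N} (hθ : θ ∈ b) {g : G} (hg : cjIrr N g θ ∈ b) : g ∈ T :=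
  (hstab g).2 fun φ hφ =>
    isPBlock_mem_of_sameBlock hb hg (sameBlock_cjIrr N (isPBlock_sameBlock hb hθ hφ) g)

include hstab in
theorem constituent_mem {ψ : IrrCharacter T} (h : Over N hNT b ψ) {φ : IrrCharacter N}
    (hφ : classInner (resT N hNT (ψ : T → ℂ)) (φ : N → ℂ) ≠ 0) : φ ∈ b := by
  obtain ⟨θ, hθ, h1⟩ := h
  obtain ⟨t, ht, rfl⟩ := exists_conj_mem N hNT ψ h1 hφ
  exact (hstab t).1 ht θ hθ

include hstab hb in
theorem card_inertia_mul {θ : IrrCharacter N} (hθ : θ ∈ b) (ψ : IrrCharacter T)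
    (h : classInner (resT N hNT (ψ : T → ℂ)) (θ : N → ℂ) ≠ 0) :
    (Nat.card (inertia N (θ : N → ℂ)) : ℂ) * (ψ : T → ℂ) 1 =
      classInner (resT N hNT (ψ : T → ℂ)) (θ : N → ℂ) * (Nat.card T : ℂ) * (θ : N → ℂ) 1 := by
  classical
  have e : (Nat.card (inertia N (θ : N → ℂ)) : ℂ) • resT N hNT (ψ : T → ℂ) =
      classInner (resT N hNT (ψ : T → ℂ)) (θ : N → ℂ) •
        ∑ t : T, conjChar N (t : G) (θ : N → ℂ) := by
    refine eq_of_forall_classInner ?_ ?_ fun φ => ?_
    · intro a c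
      simp only [Pi.smul_apply]
      congr 1
      exact IsCharacter.isClassFunction (isCharacter_resT N hNT ψ) a c
    · intro a c
      simp only [Pi.smul_apply, Finset.sum_apply]
      congr 1
      exact Finset.sum_congr rfl fun t _ =>
        IsCharacter.isClassFunction (isCharacter_conjChar N (irr_isCharacter θ) _) a c
    rw [classInner_smul_left, classInner_smul_left, classInner_sum_left,
      Finset.sum_congr rfl fun (t : T) _ => classInner_irr (isIrrCharacter_conjChar N θ.2 (t : G)) φ.2,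
      Finset.sum_boole]
    by_cases hex : ∃ t : T, conjChar N (t : G) (θ : N → ℂ) = (φ : N → ℂ)
    · obtain ⟨t₀, ht₀⟩ := hex
      have hφe : φ = cjIrr N (t₀ : G) θ := Subtype.ext ht₀.symm
      have hfib := card_fiber N (θ := (θ : N → ℂ)) (φ := (φ : N → ℂ))
        ((mem_conjOrbit N).2 ⟨t₀, ht₀.symm⟩)
      rw [hφe, classInner_cjIrr N hNT ψ θ t₀.2, ← hφe, ← hfib, Nat.card_eq_fintype_card,
        Fintype.card_subtype, mul_comm]
      congr 2
      refine Finset.card_bij' (fun g hg => ⟨g, ?_⟩) (fun t _ => (t : G)) ?_ ?_ ?_ ?_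
      · refine mem_of_maps N b hstab hb hθ (g := g) ?_
        rw [show cjIrr N g θ = φ from Subtype.ext (Finset.mem_filter.1 hg).2, hφe]
        exact (hstab _).1 t₀.2 θ hθ
      · intro g hg
        exact Finset.mem_filter.2 ⟨Finset.mem_univ _, (Finset.mem_filter.1 hg).2⟩
      · intro t ht
        exact Finset.mem_filter.2 ⟨Finset.mem_univ _, (Finset.mem_filter.1 ht).2⟩
      · intro g _; rfl
      · intro t _; rfl
    · have hcard : (Finset.univ.filter fun t : T =>
          conjChar N (t : G) (θ : N → ℂ) = (φ : N → ℂ)).card = 0 :=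
        Finset.card_eq_zero.2 (Finset.filter_eq_empty_iff.2 fun t _ ht => hex ⟨t, ht⟩)
      rw [hcard, Nat.cast_zero, mul_zero]
      refine mul_eq_zero_of_right _ ?_
      by_contra hne
      obtain ⟨t, ht, rfl⟩ := exists_conj_mem N hNT ψ h hne
      exact hex ⟨⟨t, ht⟩, rfl⟩
  have h1 := congrFun e 1
  simp only [Pi.smul_apply, Finset.sum_apply, smul_eq_mul, resT] at h1
  have hone : ∀ t : T, conjChar N (t : G) (θ : N → ℂ) 1 = (θ : N → ℂ) 1 := fun t =>
    congrArg (θ : N → ℂ) (Subtype.ext (by simp))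
  rw [Finset.sum_congr rfl fun t _ => hone t, Finset.sum_const, Finset.card_univ, nsmul_eq_mul,
    ← Nat.card_eq_fintype_card, ← mul_assoc] at h1
  exact h1

include hstab hb in
/-- A character over `b` is induced from exactly one character of `T` over `b`. -/
theorem exists_inducing {χ : IrrCharacter G} {θ : IrrCharacter N} (hθ : θ ∈ b)
    (hc : classInner (fun n : N => (χ : G → ℂ) n) (θ : N → ℂ) ≠ 0) :
    ∃ ψ : IrrCharacter T, Over N hNT b ψ ∧ (χ : G → ℂ) = indFun T (ψ : T → ℂ) ∧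
      ∀ τ : IrrCharacter T, classInner (fun t : T => (χ : G → ℂ) t) (τ : T → ℂ) ≠ 0 →
        Over N hNT b τ → τ = ψ := by
  classical
  have hχT : IsCharacter T (fun t : T => (χ : G → ℂ) t) :=
    IsCharacter.restrict (irr_isCharacter χ) T
  obtain ⟨m, hm⟩ := IsCharacter.exists_decomp hχT
  have hmv : ∀ τ : IrrCharacter T,
      classInner (fun t : T => (χ : G → ℂ) t) (τ : T → ℂ) = (m τ : ℂ) := fun τ => by
    rw [hm, classInner_combination]
  choose f hf using fun τ : IrrCharacter T => exists_nat N hNT τ θ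
  obtain ⟨e, he⟩ := IsCharacter.exists_classInner_nat
    (IsCharacter.restrict (irr_isCharacter χ) N) (irr_isCharacter θ)
  have hsum : e = ∑ τ : IrrCharacter T, m τ * f τ := by
    have h2 : (fun n : N => (χ : G → ℂ) n) =
        ∑ τ : IrrCharacter T, (m τ : ℂ) • resT N hNT (τ : T → ℂ) := by
      funext n
      have := congrFun hm ⟨(n : G), hNT n.2⟩
      simp only [Finset.sum_apply, Pi.smul_apply] at this ⊢
      exact this
    rw [h2, classInner_sum_left] at he
    simp only [classInner_smul_left, hf] at he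
    exact_mod_cast he.symm
  have he0 : e ≠ 0 := fun h => hc (by rw [he, h, Nat.cast_zero])
  obtain ⟨ψ, -, hψ⟩ : ∃ τ ∈ (Finset.univ : Finset (IrrCharacter T)), m τ * f τ ≠ 0 :=
    Finset.exists_ne_zero_of_sum_ne_zero (hsum ▸ he0)
  obtain ⟨hmψ, hfψ⟩ := mul_ne_zero_iff.1 hψ
  have hcψ : classInner (resT N hNT (ψ : T → ℂ)) (θ : N → ℂ) ≠ 0 := by
    rw [hf]; exact Nat.cast_ne_zero.2 hfψ
  have hψχ : classInner (indFun T (ψ : T → ℂ)) (χ : G → ℂ) ≠ 0 := by
    rw [classInner_indFun_left T _ (IsCharacter.isClassFunction (irr_isCharacter χ)),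
      ← classInner_conj_symm, hmv, map_natCast]
    exact Nat.cast_ne_zero.2 hmψ
  have hindc := isCharacter_indFun T (irr_isCharacter ψ)
  have hindd : indFun T (ψ : T → ℂ) 1 = ((T.index * charDegree (ψ : T → ℂ) : ℕ) : ℂ) := by
    rw [indFun_one_apply, irr_one_eq_charDegree, Nat.cast_mul]
  have hle := degree_le_of_constituent hindc χ.2 hψχ hindd (irr_one_eq_charDegree χ)
  set I := Nat.card (inertia N (θ : N → ℂ))
  have hI0 : 0 < I := Nat.card_pos
  have hT0 : 0 < Nat.card T := Nat.card_pos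
  have hθ0 : 0 < charDegree (θ : N → ℂ) := Cfsg.Agent.Blocks.charDegree_pos θ
  have d1 : I * charDegree (ψ : T → ℂ) = f ψ * Nat.card T * charDegree (θ : N → ℂ) := by
    have := card_inertia_mul N hNT b hstab hb hθ ψ hcψ
    rw [hf, irr_one_eq_charDegree, irr_one_eq_charDegree] at this
    exact_mod_cast this
  have d2 : I * charDegree (χ : G → ℂ) = e * Nat.card G * charDegree (θ : N → ℂ) := by
    have h2 := clifford_degree N χ.2 θ.2 hc
    rw [he, irr_one_eq_charDegree, irr_one_eq_charDegree] at h2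
    have h3 : charDegree (χ : G → ℂ) = e * (inertia N (θ : N → ℂ)).index * charDegree (θ : N → ℂ) := by
      exact_mod_cast h2
    rw [h3, ← (inertia N (θ : N → ℂ)).card_mul_index]
    ring
  have hef : e ≤ f ψ := by
    have h3 : e * (Nat.card G * charDegree (θ : N → ℂ)) ≤
        f ψ * (Nat.card G * charDegree (θ : N → ℂ)) := by
      calc e * (Nat.card G * charDegree (θ : N → ℂ)) = I * charDegree (χ : G → ℂ) := by
            rw [d2]; ring
        _ ≤ I * (T.index * charDegree (ψ : T → ℂ)) := Nat.mul_le_mul_left _ hle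
        _ = T.index * (I * charDegree (ψ : T → ℂ)) := by ring
        _ = f ψ * (Nat.card G * charDegree (θ : N → ℂ)) := by
            rw [d1, ← T.card_mul_index]; ring
    exact Nat.le_of_mul_le_mul_right h3 (Nat.mul_pos Nat.card_pos hθ0)
  have hrest := Finset.add_sum_erase Finset.univ (fun τ => m τ * f τ) (Finset.mem_univ ψ)
  rw [← hsum] at hrest
  have h5 : f ψ ≤ m ψ * f ψ := Nat.le_mul_of_pos_left _ (Nat.pos_of_ne_zero hmψ)
  have hef' : e = f ψ := by omega
  have hzero : ∑ τ ∈ Finset.univ.erase ψ, m τ * f τ = 0 := by omega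
  refine ⟨ψ, ⟨θ, hθ, hcψ⟩, ?_, fun τ hτ hover => ?_⟩
  · refine (eq_of_constituent_degree hindc χ.2 hψχ ?_).symm
    rw [hindd, irr_one_eq_charDegree, Nat.cast_inj]
    apply Nat.eq_of_mul_eq_mul_left hI0
    rw [d2, hef']
    calc I * (T.index * charDegree (ψ : T → ℂ)) = T.index * (I * charDegree (ψ : T → ℂ)) := by ring
      _ = _ := by rw [d1, ← T.card_mul_index]; ring
  · by_contra hne
    have h6 := Finset.sum_eq_zero_iff.1 hzero τ (Finset.mem_erase.2 ⟨hne, Finset.mem_univ _⟩)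
    have hmτ : m τ ≠ 0 := fun h => hτ (by rw [hmv, h, Nat.cast_zero])
    have hfτ : f τ = 0 := (mul_eq_zero.1 h6).resolve_left hmτ
    obtain ⟨φ, hφ, hφc⟩ := hover
    -- `φ` and `θ` are constituents of `χ`, hence conjugate under `T`
    have hφχ : classInner (fun n : N => (χ : G → ℂ) n) (φ : N → ℂ) ≠ 0 := by
      obtain ⟨n, hn⟩ := exists_nat N hNT τ φ
      obtain ⟨eφ, heφ⟩ := IsCharacter.exists_classInner_nat
        (IsCharacter.restrict (irr_isCharacter χ) N) (irr_isCharacter φ)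
      choose g hg using fun σ : IrrCharacter T => exists_nat N hNT σ φ
      have h2 : (fun n : N => (χ : G → ℂ) n) =
          ∑ σ : IrrCharacter T, (m σ : ℂ) • resT N hNT (σ : T → ℂ) := by
        funext n
        have := congrFun hm ⟨(n : G), hNT n.2⟩
        simp only [Finset.sum_apply, Pi.smul_apply] at this ⊢
        exact this
      rw [h2, classInner_sum_left]
      simp only [classInner_smul_left, hg]
      norm_cast
      intro h
      have h7 := Finset.sum_eq_zero_iff.1 h τ (Finset.mem_univ _)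
      exact hφc (by rw [hg, (mul_eq_zero.1 h7).resolve_left hmτ, Nat.cast_zero])
    obtain ⟨g, hg⟩ := (mem_conjOrbit N).1 (restrict_constituent_conj N χ.2 θ.2 φ.2 hc hφχ)
    have hφe : φ = cjIrr N g θ := Subtype.ext hg
    have hgT : g ∈ T := mem_of_maps N b hstab hb hθ (hφe ▸ hφ)
    rw [hφe, classInner_cjIrr N hNT τ θ hgT, hf, hfτ, Nat.cast_zero] at hφc
    exact hφc rfl

include hstab hb in
theorem isIrr_ind {ψ : IrrCharacter T} (h : Over N hNT b ψ) :
    ∃ χ : IrrCharacter G, (χ : G → ℂ) = indFun T (ψ : T → ℂ) ∧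
      classInner (fun t : T => (χ : G → ℂ) t) (ψ : T → ℂ) ≠ 0 ∧
      ∀ θ : IrrCharacter N, classInner (resT N hNT (ψ : T → ℂ)) (θ : N → ℂ) ≠ 0 →
        classInner (fun n : N => (χ : G → ℂ) n) (θ : N → ℂ) ≠ 0 := by
  classical
  have hindc := isCharacter_indFun T (irr_isCharacter ψ)
  obtain ⟨χ, hχ⟩ := IsCharacter.exists_constituent hindc fun h0 => by
    have h1 := congrFun h0 1
    rw [indFun_one_apply, Pi.zero_apply] at h1
    exact mul_ne_zero (Nat.cast_ne_zero.2 Subgroup.index_ne_zero_of_finite)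
      (irr_one_ne_zero ψ) h1
  have hψc : classInner (fun t : T => (χ : G → ℂ) t) (ψ : T → ℂ) ≠ 0 := by
    rw [← classInner_conj_symm,
      ← classInner_indFun_left T _ (IsCharacter.isClassFunction (irr_isCharacter χ))]
    simpa using hχ
  obtain ⟨m, hm⟩ := IsCharacter.exists_decomp (IsCharacter.restrict (irr_isCharacter χ) T)
  have hover : ∀ θ : IrrCharacter N, classInner (resT N hNT (ψ : T → ℂ)) (θ : N → ℂ) ≠ 0 →
      classInner (fun n : N => (χ : G → ℂ) n) (θ : N → ℂ) ≠ 0 := by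
    intro θ hθ
    have hmψ : m ψ ≠ 0 := fun h0 => hψc (by rw [hm, classInner_combination, h0, Nat.cast_zero])
    choose g hg using fun σ : IrrCharacter T => exists_nat N hNT σ θ
    have h2 : (fun n : N => (χ : G → ℂ) n) =
        ∑ σ : IrrCharacter T, (m σ : ℂ) • resT N hNT (σ : T → ℂ) := by
      funext n
      have := congrFun hm ⟨(n : G), hNT n.2⟩
      simp only [Finset.sum_apply, Pi.smul_apply] at this ⊢
      exact this
    rw [h2, classInner_sum_left]
    simp only [classInner_smul_left, hg]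
    norm_cast
    intro h'
    have h7 := Finset.sum_eq_zero_iff.1 h' ψ (Finset.mem_univ _)
    exact hθ (by rw [hg, (mul_eq_zero.1 h7).resolve_left hmψ, Nat.cast_zero])
  obtain ⟨θ, hθ, hθc⟩ := id h
  obtain ⟨ψ', -, hψ', huniq⟩ := exists_inducing N hNT b hstab hb hθ (hover θ hθc)
  refine ⟨χ, ?_, hψc, hover⟩
  rw [huniq ψ hψc h]
  exact hψ'

include hstab hb in
/-- The central characters on `T` are read off from those on `G`. -/
theorem sameBlock_of_ind (hM : IsPModular p M) {ψ ψ' : IrrCharacter T} (h : Over N hNT b ψ)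
    (h' : Over N hNT b ψ') {χ χ' : IrrCharacter G} (hχ : (χ : G → ℂ) = indFun T (ψ : T → ℂ))
    (hχ' : (χ' : G → ℂ) = indFun T (ψ' : T → ℂ))
    (hsame : SameBlock M (χ : G → ℂ) (χ' : G → ℂ)) :
    SameBlock M (ψ : T → ℂ) (ψ' : T → ℂ) := by
  classical
  haveI : Fintype (G ⧸ T) := Fintype.ofFinite _
  intro t₀
  let eT : MonoidAlgebra (locRing M) T := gaOfFun fun t =>
    if ht : (t : G) ∈ N then (blockEltR M b).coeff ⟨(t : G), ht⟩ else 0
  have heT : IsClassElt eT := fun t k => by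
    simp only [eT, coeff_gaOfFun]
    by_cases ht : (t : G) ∈ N
    · have ht' : ((k * t * k⁻¹ : T) : G) ∈ N := by
        simpa using (inferInstance : N.Normal).conj_mem _ ht (k : G)
      rw [dif_pos ht, dif_pos ht']
      refine Subtype.ext ?_
      rw [coeff_blockEltR hb, coeff_blockEltR hb, blockCoeff_eq_sum, blockCoeff_eq_sum]
      congr 1
      refine Finset.sum_bij' (fun θ _ => cjIrr N (k : G) θ) (fun θ _ => cjIrr N (k : G)⁻¹ θ)
        (fun θ hθ => ?_) (fun θ hθ => ?_) (fun θ _ => cjIrr_inv_left N _ θ)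
        (fun θ _ => by
          have := cjIrr_inv_left N (k : G)⁻¹ θ
          rwa [inv_inv] at this) fun θ _ => ?_
      · exact Finset.mem_filter.2 ⟨Finset.mem_univ _, (hstab _).1 k.2 θ (Finset.mem_filter.1 hθ).2⟩
      · exact Finset.mem_filter.2 ⟨Finset.mem_univ _,
          (hstab _).1 (T.inv_mem k.2) θ (Finset.mem_filter.1 hθ).2⟩
      · have e1 : (cjIrr N (k : G) θ : N → ℂ) ⟨(t : G), ht⟩ =
            (θ : N → ℂ) ⟨((k * t * k⁻¹ : T) : G), ht'⟩ := congrArg (θ : N → ℂ) (Subtype.ext rfl)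
        have e2 : (cjIrr N (k : G) θ : N → ℂ) 1 = (θ : N → ℂ) 1 :=
          congrArg (θ : N → ℂ) (Subtype.ext (by simp))
        rw [e1, e2]
    · have ht' : ¬ ((k * t * k⁻¹ : T) : G) ∈ N := fun hn => ht (by
        have := (inferInstance : N.Normal).conj_mem _ hn (k : G)⁻¹
        simpa [mul_assoc] using this)
      rw [dif_neg ht, dif_neg ht']
  have hωe : ∀ τ : IrrCharacter T, omegaR τ eT = if Over N hNT b τ then 1 else 0 := by
    intro τ
    have h1 : ∑ t : T, ((eT.coeff t : locRing M) : ℂ) * (τ : T → ℂ) t =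
        ∑ θ ∈ Finset.univ.filter (· ∈ b), (θ : N → ℂ) 1 *
          classInner (resT N hNT (τ : T → ℂ)) (θ : N → ℂ) := by
      have h2 : ∑ t : T, ((eT.coeff t : locRing M) : ℂ) * (τ : T → ℂ) t =
          ∑ n : N, blockCoeff b n * resT N hNT (τ : T → ℂ) n := by
        symm
        refine Finset.sum_bij_ne_zero (fun n _ _ => (⟨(n : G), hNT n.2⟩ : T))
          (fun _ _ _ => Finset.mem_univ _)
          (fun _ _ _ _ _ _ e => Subtype.ext (congrArg (fun x : T => (x : G)) e)) ?_ ?_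
        · intro t _ ht
          have htN : (t : G) ∈ N := by
            by_contra hn
            simp [eT, hn] at ht
          refine ⟨⟨(t : G), htN⟩, Finset.mem_univ _, ?_, Subtype.ext rfl⟩
          simpa [eT, htN, coeff_blockEltR hb, resT] using ht
        · intro n _ _
          simp [eT, coeff_blockEltR hb, resT]
      rw [h2]
      simp only [blockCoeff_eq_sum, classInner, Finset.mul_sum, Finset.sum_mul]
      rw [Finset.sum_comm]
      exact Finset.sum_congr rfl fun n _ => Finset.sum_congr rfl fun θ _ => by ring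
    simp only [omegaR, omega, coeff_toC]
    rw [h1]
    by_cases ho : Over N hNT b τ
    · rw [if_pos ho]
      have h3 := congrFun (IsCharacter.eq_sum (isCharacter_resT N hNT τ)) 1
      simp only [Finset.sum_apply, Pi.smul_apply, smul_eq_mul, resT, OneMemClass.coe_one] at h3
      rw [div_eq_one_iff_eq (irr_one_ne_zero τ)]
      refine Eq.trans ?_ h3.symm
      rw [Finset.sum_filter]
      refine Finset.sum_congr rfl fun θ _ => ?_
      split_ifs with hθ
      · rw [mul_comm]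
      · by_contra hne
        exact hθ (constituent_mem N hNT b hstab ho (φ := θ) fun h0 => hne (by
          rw [h0, zero_mul]))
    · rw [if_neg ho, Finset.sum_eq_zero, zero_div]
      intro θ hθ
      by_contra hne
      exact ho ⟨θ, (Finset.mem_filter.1 hθ).2, (mul_ne_zero_iff.1 hne).2⟩
  let y : MonoidAlgebra (locRing M) T := classSum (locRing M) t₀
  have hy : IsClassElt y := isClassElt_classSum _
  let z := y * eT
  have hz : IsClassElt z := IsClassElt.mul hy heT
  let zc : G → locRing M := fun g => if hg : g ∈ T then z.coeff ⟨g, hg⟩ else 0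
  have hzc : ∀ (g : G) (k : G), k ∈ T → zc (k * g * k⁻¹) = zc g := by
    intro g k hk
    simp only [zc]
    by_cases hg : g ∈ T
    · have hg' : k * g * k⁻¹ ∈ T := T.mul_mem (T.mul_mem hk hg) (T.inv_mem hk)
      rw [dif_pos hg, dif_pos hg']
      exact hz ⟨g, hg⟩ ⟨k, hk⟩
    · rw [dif_neg hg, dif_neg]
      intro hn
      apply hg
      simpa [mul_assoc] using T.mul_mem (T.mul_mem (T.inv_mem hk) hn) hk
  let Y : MonoidAlgebra (locRing M) G :=
    gaOfFun fun g => ∑ c : G ⧸ T, zc (c.out⁻¹ * g * c.out)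
  have hY : IsClassElt Y := fun g k => by
    simp only [Y, coeff_gaOfFun]
    refine Fintype.sum_equiv (MulAction.toPerm k⁻¹) _ _ fun c => ?_
    simp only [MulAction.toPerm_apply]
    have hmk : ((k⁻¹ * c.out : G) : G ⧸ T) = k⁻¹ • c := by
      conv_rhs => rw [← QuotientGroup.out_eq' c]
      rfl
    obtain ⟨w, hw, he⟩ : ∃ w ∈ T, (k⁻¹ • c).out = k⁻¹ * c.out * w := by
      obtain ⟨w, hw⟩ := QuotientGroup.mk_out_eq_mul T (k⁻¹ * c.out)
      exact ⟨w, w.2, by rw [← hmk]; exact hw⟩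
    rw [he, show (k⁻¹ * c.out * w)⁻¹ * g * (k⁻¹ * c.out * w) =
      w⁻¹ * (c.out⁻¹ * (k * g * k⁻¹) * c.out) * w⁻¹⁻¹ by group, hzc _ _ (T.inv_mem hw)]
  have hval : ∀ {ξ : IrrCharacter T}, Over N hNT b ξ → ∀ {φ : IrrCharacter G},
      (φ : G → ℂ) = indFun T (ξ : T → ℂ) → omegaR φ Y = centralChar (ξ : T → ℂ) t₀ := by
    intro ξ hξ φ hφ
    have hout : ∀ c : G ⧸ T, ∑ g : G, (zc (c.out⁻¹ * g * c.out) : ℂ) * (φ : G → ℂ) g =
        ∑ g : G, (zc g : ℂ) * (φ : G → ℂ) g := by
      intro c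
      refine Fintype.sum_equiv ((Equiv.mulLeft c.out⁻¹).trans (Equiv.mulRight c.out)) _ _ fun g => ?_
      simp only [Equiv.trans_apply, Equiv.coe_mulLeft, Equiv.coe_mulRight]
      congr 1
      have := irr_conj_invariant φ g c.out⁻¹
      rw [inv_inv] at this
      exact this.symm
    have hin : ∑ g : G, (zc g : ℂ) * (φ : G → ℂ) g = ∑ t : T, (z.coeff t : ℂ) * (φ : G → ℂ) t := by
      rw [← Finset.sum_filter_of_ne (p := (· ∈ T)) (fun g _ hg => by
          by_contra hc
          simp [zc, hc] at hg),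
        Finset.sum_subtype (p := (· ∈ T)) _ (fun g => by simp)]
      exact Finset.sum_congr rfl fun t _ => by simp [zc, t.2]
    have hdec := IsCharacter.eq_sum (IsCharacter.restrict (irr_isCharacter φ) T)
    have hsum : ∑ t : T, (z.coeff t : ℂ) * (φ : G → ℂ) t =
        classInner (fun t : T => (φ : G → ℂ) t) (ξ : T → ℂ) *
          ((ξ : T → ℂ) 1 * centralChar (ξ : T → ℂ) t₀) := by
      have h4 : ∀ τ : IrrCharacter T, ∑ t : T, (z.coeff t : ℂ) * (τ : T → ℂ) t =
          (τ : T → ℂ) 1 * (centralChar (τ : T → ℂ) t₀ * if Over N hNT b τ then 1 else 0) := by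
        intro τ
        have h5 : omegaR τ z = centralChar (τ : T → ℂ) t₀ * if Over N hNT b τ then 1 else 0 := by
          rw [omegaR_mul τ hy heT, omegaR_classSum, hωe]
        rw [← h5]
        simp only [omegaR, omega, coeff_toC]
        rw [mul_div_cancel₀ _ (irr_one_ne_zero τ)]
      have h6 : ∀ t : T, (φ : G → ℂ) t =
          ∑ τ : IrrCharacter T, classInner (fun t : T => (φ : G → ℂ) t) (τ : T → ℂ) * (τ : T → ℂ) t :=
        fun t => by
          have := congrFun hdec t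
          simpa only [Finset.sum_apply, Pi.smul_apply, smul_eq_mul] using this
      rw [Finset.sum_congr rfl fun t _ => congrArg (fun w => (z.coeff t : ℂ) * w) (h6 t)]
      simp only [Finset.mul_sum]
      rw [Finset.sum_comm, Finset.sum_eq_single ξ]
      · calc _ = classInner (fun t : T => (φ : G → ℂ) t) (ξ : T → ℂ) *
              ∑ t : T, (z.coeff t : ℂ) * (ξ : T → ℂ) t := by
              rw [Finset.mul_sum]; exact Finset.sum_congr rfl fun t _ => by ring
          _ = _ := by rw [h4, if_pos hξ, mul_one]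
      · intro τ _ hne
        calc _ = classInner (fun t : T => (φ : G → ℂ) t) (τ : T → ℂ) *
              ∑ t : T, (z.coeff t : ℂ) * (τ : T → ℂ) t := by
              rw [Finset.mul_sum]; exact Finset.sum_congr rfl fun t _ => by ring
          _ = 0 := by
            rw [h4]
            by_cases ho : Over N hNT b τ
            · refine mul_eq_zero_of_left ?_ _
              by_contra hn
              obtain ⟨φ', h1, hc', hcon⟩ := isIrr_ind N hNT b hstab hb hξ
              have hφ' : φ = φ' := Subtype.ext (hφ.trans h1.symm)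
              subst hφ'
              obtain ⟨θ, hθ, hθc⟩ := id hξ
              obtain ⟨ψ₀, -, -, huniq⟩ := exists_inducing N hNT b hstab hb hθ (hcon θ hθc)
              exact hne ((huniq τ hn ho).trans (huniq ξ hc' hξ).symm)
            · rw [if_neg ho]; ring
      · exact fun hh => absurd (Finset.mem_univ _) hh
    have hone : classInner (fun t : T => (φ : G → ℂ) t) (ξ : T → ℂ) = 1 := by
      rw [← classInner_indFun_right T _ (IsCharacter.isClassFunction (irr_isCharacter φ)), ← hφ,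
        classInner_self_irr φ.2]
    rw [hone, one_mul] at hsum
    simp only [omegaR, omega, coeff_toC, Y, coeff_gaOfFun, AddSubmonoidClass.coe_finsetSum,
      Finset.sum_mul]
    rw [Finset.sum_comm, Finset.sum_congr rfl fun c _ => hout c, Finset.sum_const, Finset.card_univ,
      nsmul_eq_mul, hin, hsum]
    have hd : (φ : G → ℂ) 1 = (Fintype.card (G ⧸ T) : ℂ) * (ξ : T → ℂ) 1 := by
      rw [hφ, indFun_one_apply, ← Nat.card_eq_fintype_card, ← Subgroup.index_eq_card]
    rw [hd, ← mul_assoc, mul_div_cancel_left₀ _ (mul_ne_zero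
      (Nat.cast_ne_zero.2 Fintype.card_ne_zero) (irr_one_ne_zero ξ))]
  rw [← hval h hχ, ← hval h' hχ']
  exact omegaR_congr hsame hY

/-- A block covering `b`, in the form of the statements. -/
theorem over_of_block {B' : Set (IrrCharacter T)} (hB' : IsPBlock M B') (hb : IsPBlock M b)
    (hstab : ∀ g : G, g ∈ T ↔ ∀ θ ∈ b, cjIrr N g θ ∈ b)
    (hcov : ∃ ψ ∈ B', Over N hNT b ψ) : ∀ ψ ∈ B', Over N hNT b ψ := by
  classical
  haveI : Fintype (N.subgroupOf T) := Fintype.ofFinite _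
  intro ψ hψ
  obtain ⟨ψ₀, hψ₀, θ, hθ, hc⟩ := hcov
  let e := Subgroup.subgroupOfEquivOfLe hNT
  let b₁ : Set (IrrCharacter (N.subgroupOf T)) := {φ | ∃ θ ∈ b, (φ : N.subgroupOf T → ℂ) =
    fun m => (θ : N → ℂ) (e m)}
  let mkI : IrrCharacter N → IrrCharacter (N.subgroupOf T) := fun θ =>
    ⟨_, IsIrrCharacter.comp θ.2 e.toMonoidHom e.surjective⟩
  have htr : ∀ (η : T → ℂ) (f : N → ℂ), classInner (fun m : N.subgroupOf T => η (m : T))
      (fun m => f (e m)) = classInner (resT N hNT η) f := by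
    intro η f
    unfold classInner
    rw [Nat.card_congr e.toEquiv]
    congr 1
    exact Fintype.sum_equiv e.toEquiv _ _ fun m => rfl
  have hcc : ∀ (θ : IrrCharacter N) (m : N.subgroupOf T),
      centralChar (mkI θ : N.subgroupOf T → ℂ) m = centralChar (θ : N → ℂ) (e m) := by
    intro θ m
    have hidx : (Subgroup.centralizer ({m} : Set (N.subgroupOf T))).index =
        (Subgroup.centralizer ({e m} : Set N)).index := by
      rw [← Subgroup.index_comap_of_surjective (f := e.toMonoidHom) _ e.surjective]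
      congr 1
      ext x
      simp only [Subgroup.mem_comap, Subgroup.mem_centralizer_singleton_iff, MulEquiv.coe_toMonoidHom,
        ← map_mul, e.injective.eq_iff]
    unfold centralChar
    rw [hidx]
    simp only [mkI, map_one]
    rfl
  have hb₁ : IsPBlock M b₁ := by
    refine ⟨mkI θ, Set.ext fun φ => ⟨?_, fun hφ => ?_⟩⟩
    · rintro ⟨θ', hθ', hφ⟩
      refine mem_blockOf.2 fun m => ?_
      rw [show φ = mkI θ' from Subtype.ext hφ, hcc, hcc]
      exact isPBlock_sameBlock hb hθ hθ' (e m)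
    · let θ' : IrrCharacter N := ⟨fun n => (φ : N.subgroupOf T → ℂ) (e.symm n),
        IsIrrCharacter.comp φ.2 e.symm.toMonoidHom e.symm.surjective⟩
      have hφ' : φ = mkI θ' := Subtype.ext (funext fun m => by simp [θ', mkI])
      refine ⟨θ', isPBlock_mem_of_sameBlock hb hθ ?_, congrArg Subtype.val hφ'⟩
      intro n
      have h1 := (mem_blockOf.1 hφ) (e.symm n)
      rw [hφ', hcc, hcc, e.apply_symm_apply] at h1
      exact h1
  obtain ⟨φ, hφ⟩ := exists_restrict_constituent ψ.2 (N.subgroupOf T)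
  obtain ⟨t, θ', ⟨θ'', hθ'', hθe⟩, ht⟩ := constituents_conjugate_blocks (N.subgroupOf T) hB' hb₁
    hψ₀ (θ := mkI θ) ⟨θ, hθ, rfl⟩ (by rw [show (mkI θ : N.subgroupOf T → ℂ) =
      fun m => (θ : N → ℂ) (e m) from rfl, htr]; exact hc) hψ hφ
  refine ⟨cjIrr N (t : G) θ'', (hstab _).1 t.2 θ'' hθ'', ?_⟩
  rw [← htr]
  convert hφ using 2
  funext m
  rw [congrFun ht m, hθe]
  rfl

end Cfsg.Agent.FongReynolds

namespace Cfsg.Agent.FongReynolds

open Cfsg MonoidAlgebra Cfsg.Agent.Char Cfsg.Agent.Blocks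

universe v

variable {G : Type v} [Group G] [Fintype G] {p : ℕ} {M : Ideal AlgInt} [M.IsPrime]
  (N : Subgroup G) [N.Normal] [Fintype N] {T : Subgroup G} [Fintype T] (hNT : N ≤ T)
  (b : Set (IrrCharacter N)) (hstab : ∀ g : G, g ∈ T ↔ ∀ θ ∈ b, cjIrr N g θ ∈ b)
  (hb : IsPBlock M b)

include hstab hb in
/-- The correspondence at one block of `T`. -/
theorem fong_reynolds (hM : IsPModular p M) {B' : Set (IrrCharacter T)} (hB' : IsPBlock M B')
    (hcov : ∃ ψ ∈ B', Over N hNT b ψ) :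
    ∃ B : Set (IrrCharacter G), IsInducedBlock M T B' B ∧
      (∃ χ ∈ B, ∃ θ ∈ b, classInner (fun n : N => (χ : G → ℂ) n) (θ : N → ℂ) ≠ 0) ∧
      (∀ ψ ∈ B', IsIrrCharacter G (indFun T (ψ : T → ℂ))) ∧
      ∀ χ : IrrCharacter G, χ ∈ B ↔ ∃ ψ ∈ B', (χ : G → ℂ) = indFun T (ψ : T → ℂ) := by
  have hall := over_of_block (M := M) N hNT b hB' hb hstab hcov
  obtain ⟨ψ₀, hψ₀⟩ := isPBlock_nonempty hB'
  obtain ⟨θ, hθ, hθc⟩ := hall ψ₀ hψ₀
  obtain ⟨χ₀, hχ₀, -, hcon⟩ := isIrr_ind N hNT b hstab hb (hall ψ₀ hψ₀)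
  have hirr : IsIrrCharacter G (indFun T (ψ₀ : T → ℂ)) := hχ₀ ▸ χ₀.2
  have hind : IsInducedBlock M T B' (blockOf M (χ₀ : G → ℂ)) := by
    have h := isInducedBlock_indFun (M := M) ψ₀ hirr
    rw [← isPBlock_eq_blockOf hB' hψ₀, ← hχ₀] at h
    exact h
  refine ⟨_, hind, ⟨χ₀, self_mem_blockOf χ₀, θ, hθ, hcon θ hθc⟩, fun ψ hψ => ?_, fun χ => ⟨?_, ?_⟩⟩
  · obtain ⟨χ, hχ, -⟩ := isIrr_ind N hNT b hstab hb (hall ψ hψ)
    exact hχ ▸ χ.2
  · intro hχ
    obtain ⟨θ', hθ'⟩ := exists_restrict_constituent χ.2 N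
    obtain ⟨g, θ'', hθ'', hg⟩ := constituents_conjugate_blocks N (isPBlock_blockOf χ₀) hb
      (self_mem_blockOf χ₀) hθ (hcon θ hθc) hχ hθ'
    have hc : classInner (fun n : N => (χ : G → ℂ) n) (θ'' : N → ℂ) ≠ 0 := by
      rw [hg] at hθ'
      rwa [classInner_restrict_conjChar N (IsCharacter.isClassFunction (irr_isCharacter χ))] at hθ'
    obtain ⟨ψ, hψ, hψχ, -⟩ := exists_inducing N hNT b hstab hb hθ'' hc
    refine ⟨ψ, ?_, hψχ⟩
    refine isPBlock_mem_of_sameBlock hB' hψ₀ ?_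
    exact sameBlock_of_ind N hNT b hstab hb hM (hall ψ₀ hψ₀) hψ hχ₀ hψχ (mem_blockOf.1 hχ)
  · rintro ⟨ψ, hψ, hψχ⟩
    have h : IsInducedBlock M T B' (blockOf M (χ : G → ℂ)) := by
      have h := isInducedBlock_indFun (M := M) ψ (hψχ ▸ χ.2)
      rw [← isPBlock_eq_blockOf hB' hψ, ← hψχ] at h
      exact h
    rw [isInducedBlock_unique hind h]
    exact self_mem_blockOf χ

include hstab hb in
theorem fong_reynolds_injective (hM : IsPModular p M) {B₁ B₂ : Set (IrrCharacter T)}
    (h₁ : IsPBlock M B₁) (h₂ : IsPBlock M B₂) (c₁ : ∃ ψ ∈ B₁, Over N hNT b ψ)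
    (c₂ : ∃ ψ ∈ B₂, Over N hNT b ψ) {B : Set (IrrCharacter G)} (i₁ : IsInducedBlock M T B₁ B)
    (i₂ : IsInducedBlock M T B₂ B) : B₁ = B₂ := by
  obtain ⟨B', j₁, -, irr₁, hmem₁⟩ := fong_reynolds N hNT b hstab hb hM h₁ c₁
  obtain ⟨B'', j₂, -, irr₂, hmem₂⟩ := fong_reynolds N hNT b hstab hb hM h₂ c₂
  obtain ⟨ψ₁, hψ₁, o₁⟩ := c₁
  obtain ⟨ψ₂, hψ₂, o₂⟩ := c₂
  let χ₁ : IrrCharacter G := ⟨_, irr₁ ψ₁ hψ₁⟩
  let χ₂ : IrrCharacter G := ⟨_, irr₂ ψ₂ hψ₂⟩
  have m₁ : χ₁ ∈ B := isInducedBlock_unique j₁ i₁ ▸ (hmem₁ χ₁).2 ⟨ψ₁, hψ₁, rfl⟩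
  have m₂ : χ₂ ∈ B := isInducedBlock_unique j₂ i₂ ▸ (hmem₂ χ₂).2 ⟨ψ₂, hψ₂, rfl⟩
  exact isPBlock_eq_of_mem h₁ h₂ hψ₁ (isPBlock_mem_of_sameBlock h₂ hψ₂
    (sameBlock_of_ind N hNT b hstab hb hM o₂ o₁ rfl rfl (isPBlock_sameBlock i₁.2.1 m₂ m₁)))

include hstab hb in
theorem fong_reynolds_heights (hM : IsPModular p M) {B' : Set (IrrCharacter T)}
    (hB' : IsPBlock M B') (hcov : ∃ ψ ∈ B', Over N hNT b ψ) {B : Set (IrrCharacter G)}
    (hind : IsInducedBlock M T B' B) :
    (∀ D : Subgroup T, IsDefectGroup p M B' D → IsDefectGroup p M B (D.map T.subtype)) ∧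
      ∀ ψ ∈ B', ∃ χ ∈ B, (χ : G → ℂ) = indFun T (ψ : T → ℂ) ∧
        blockHeight p B (χ : G → ℂ) = blockHeight p B' (ψ : T → ℂ) := by
  obtain ⟨B₀, j, -, irr, hmem⟩ := fong_reynolds N hNT b hstab hb hM hB' hcov
  obtain rfl := isInducedBlock_unique j hind
  have hdeg : ∀ ψ : IrrCharacter T, (charDegree (indFun T (ψ : T → ℂ))).factorization p =
      T.index.factorization p + (charDegree (ψ : T → ℂ)).factorization p := by
    intro ψ
    have h : charDegree (indFun T (ψ : T → ℂ)) = T.index * charDegree (ψ : T → ℂ) := by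
      have h1 : indFun T (ψ : T → ℂ) 1 = ((T.index * charDegree (ψ : T → ℂ) : ℕ) : ℂ) := by
        rw [indFun_one_apply, irr_one_eq_charDegree, Nat.cast_mul]
      rw [charDegree, h1, Complex.natCast_re, Nat.floor_natCast]
    rw [h, Nat.factorization_mul Subgroup.index_ne_zero_of_finite
      (Cfsg.Agent.Blocks.charDegree_pos ψ).ne', Finsupp.add_apply]
  have hGfac : (Nat.card G).factorization p =
      T.index.factorization p + (Nat.card T).factorization p := by
    rw [← T.index_mul_card, Nat.factorization_mul Subgroup.index_ne_zero_of_finite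
      Nat.card_pos.ne', Finsupp.add_apply]
  obtain ⟨ψ₁, hψ₁, e₁⟩ := exists_heightZero hM hB'
  obtain ⟨χ₂, hχ₂, e₂⟩ := exists_heightZero hM hind.2.1
  obtain ⟨ψ₂, hψ₂, eχ⟩ := (hmem χ₂).1 hχ₂
  have q₁ := (blockHeight_eq_zero_iff hM hB' hψ₁).1 e₁
  have q₂ := (blockHeight_eq_zero_iff hM hind.2.1 hχ₂).1 e₂
  have q₃ := degExp_ge hM hB' hψ₂
  have q₄ := degExp_ge hM hind.2.1 ((hmem ⟨_, irr ψ₁ hψ₁⟩).2 ⟨ψ₁, hψ₁, rfl⟩)
  rw [eχ, hdeg] at q₂
  simp only [hdeg] at q₄
  have b1 := blockDefect_le (p := p) B'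
  have b2 := blockDefect_le (p := p) B₀
  have hd : blockDefect p B' = blockDefect p B₀ := by omega
  refine ⟨fun D hD => ?_, fun ψ hψ => ⟨⟨_, irr ψ hψ⟩, (hmem _).2 ⟨ψ, hψ, rfl⟩, rfl, ?_⟩⟩
  · obtain ⟨E, hE, hle⟩ := defectGroup_le_of_induced hM hind hD
    have hDE : D.map T.subtype = E := Subgroup.eq_of_le_of_card_ge hle (by
      rw [card_defectGroup hM hind.2.1 hE, ← hd, ← card_defectGroup hM hB' hD,
        Subgroup.card_map_of_injective Subtype.val_injective])
    exact hDE ▸ hE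
  · unfold blockHeight
    rw [sInf_degExp_eq' hM hind.2.1, sInf_degExp_eq' hM hB']
    simp only [hdeg]
    omega

end Cfsg.Agent.FongReynolds
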