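/-
Fong's theorem on covering blocks of largest defect.
-/
import Cfsg.Agent.Lib.Blocks.Knoerr
import Cfsg.Agent.Lib.BrauerPairs.FusionBridge

set_option linter.unusedSectionVars false
set_option linter.style.haveILetI false

namespace Cfsg.Agent.Blocks

open Cfsg MonoidAlgebra Cfsg.Agent.Char Cfsg.Agent.BrauerPairs
open scoped ComplexConjugate

universe u

variable {G : Type u} [Group G] [Fintype G] {p : ℕ} {M : Ideal AlgInt} [M.IsPrime]
  (N : Subgroup G) [N.Normal]

theorem pullB_eq_of_inv {b : Set (IrrCharacter N)} (hinv : ∀ g : G, ∀ θ ∈ b, cjIrr N g θ ∈ b)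
    (x : G) (h : cjS x N = N) : pullB (cjEquiv x h) b = b := by
  ext χ
  show pullIrr (cjEquiv x h).symm χ ∈ b ↔ χ ∈ b
  have e : pullIrr (cjEquiv x h).symm χ = cjIrr N x⁻¹ χ := Subtype.ext (funext fun a => by
    rw [pullIrr_apply]
    refine congrArg (χ : N → ℂ) ?_
    rw [MulEquiv.symm_apply_eq]
    refine Subtype.ext ?_
    rw [coe_cjEquiv]
    simp only [conjHom, MonoidHom.coe_mk, OneHom.coe_mk]
    group)
  rw [e]
  refine ⟨fun h' => ?_, hinv x⁻¹ χ⟩
  have h1 := hinv x _ h'
  rwa [show cjIrr N x (cjIrr N x⁻¹ χ) = χ by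
    have := cjIrr_inv_left N x⁻¹ χ
    rwa [inv_inv] at this] at h1

/-- An invariant block is stable under conjugation of defect groups. -/
theorem isDefectGroup_inf_of_covers (hM : IsPModular p M) {b : Set (IrrCharacter N)}
    (hb : IsPBlock M b) (hinv : ∀ g : G, ∀ θ ∈ b, cjIrr N g θ ∈ b) {B : Set (IrrCharacter G)}
    (hB : IsPBlock M B)
    (hcov : ∃ χ ∈ B, ∃ θ ∈ b, classInner (fun n : N => (χ : G → ℂ) n) (θ : N → ℂ) ≠ 0)
    {P : Subgroup G} (hP : IsDefectGroup p M B P) :
    IsDefectGroup p M b ((P ⊓ N).subgroupOf N) := by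
  haveI := Fact.mk hM.1
  haveI : CharP (resField M) p := resField_charP hM
  obtain ⟨D, hD⟩ := exists_isDefectGroup (p := p) hb
  have hDN : D.map N.subtype ≤ N := Subgroup.map_subtype_le _
  have hD' : IsDefectGroup p M b ((D.map N.subtype).subgroupOf N) := by
    rwa [show (D.map N.subtype).subgroupOf N = D from
      Subgroup.comap_map_eq_self_of_injective Subtype.val_injective D]
  obtain ⟨P', hP', hinf⟩ := exists_defectGroup_inf_eq N hM hB hb hcov hDN hD'
  obtain ⟨x, rfl⟩ := defectGroup_conj hM hB hP hP'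
  have hxN : cjS x N = N := cjS_eq_of_mem_normalizer (by rw [Subgroup.normalizer_eq_top_iff.2 ‹N.Normal›]; trivial)
  have h1 := ((isDefectGroup_subgroupOf_iff hb hDN).1 hD').conj (isBlk_zB N hb) x
  rw [hxN, ← pullB_eq_of_inv N hinv x hxN, ← zB_pullB x hxN hb, ← hinf, cjS_inf, hxN] at h1
  exact (isDefectGroup_subgroupOf_iff hb inf_le_right).2 h1

variable [Fintype N]

/-- The squared degrees over an invariant block. -/
theorem exists_covering_defect (hM : IsPModular p M) {b : Set (IrrCharacter N)}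
    (hb : IsPBlock M b) (hinv : ∀ g : G, ∀ θ ∈ b, cjIrr N g θ ∈ b) :
    ∃ B : Set (IrrCharacter G), IsPBlock M B ∧
      (∃ χ ∈ B, ∃ θ ∈ b, classInner (fun n : N => (χ : G → ℂ) n) (θ : N → ℂ) ≠ 0) ∧
      blockDefect p b + N.index.factorization p ≤ blockDefect p B := by
  classical
  haveI := Fact.mk hM.1
  set S : Finset (IrrCharacter G) := Finset.univ.filter fun χ =>
    ∃ θ ∈ b, classInner (fun n : N => (χ : G → ℂ) n) (θ : N → ℂ) ≠ 0 with hS
  set Bs : Finset (Set (IrrCharacter G)) := (blocks M G).filter fun B =>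
    ∃ χ ∈ B, ∃ θ ∈ b, classInner (fun n : N => (χ : G → ℂ) n) (θ : N → ℂ) ≠ 0 with hBs
  choose m hm using fun (χ : IrrCharacter G) (θ : IrrCharacter N) =>
    IsCharacter.exists_classInner_nat (IsCharacter.restrict (irr_isCharacter χ) N)
      (irr_isCharacter θ)
  have hin : ∀ (B : Set (IrrCharacter G)), IsPBlock M B → ∀ χ ∈ B, χ ∈ S → ∀ χ' ∈ B, χ' ∈ S := by
    intro B hB χ hχ hχS χ' hχ'
    obtain ⟨θ, hθ, hc⟩ := (Finset.mem_filter.1 hχS).2
    obtain ⟨ψ, hψ⟩ := exists_restrict_constituent χ'.2 N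
    obtain ⟨g, θ', hθ', hg⟩ := constituents_conjugate_blocks N hB hb hχ hθ hc hχ' hψ
    exact Finset.mem_filter.2 ⟨Finset.mem_univ _, cjIrr N g θ', hinv g θ' hθ', by
      rw [cjIrr_apply, ← hg]; exact hψ⟩
  have hres : ∀ χ ∈ S, ∀ θ : IrrCharacter N, θ ∉ b → m χ θ = 0 := by
    intro χ hχ θ hθ
    by_contra h0
    obtain ⟨θ₀, hθ₀, hc⟩ := (Finset.mem_filter.1 hχ).2
    obtain ⟨g, hg⟩ := (mem_conjOrbit N).1 (restrict_constituent_conj N χ.2 θ₀.2 θ.2 hc
      (by rw [hm]; exact Nat.cast_ne_zero.2 h0))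
    exact hθ ((show θ = cjIrr N g θ₀ from Subtype.ext hg) ▸ hinv g θ₀ hθ₀)
  have hdegχ : ∀ χ : IrrCharacter G,
      charDegree (χ : G → ℂ) = ∑ θ : IrrCharacter N, m χ θ * charDegree (θ : N → ℂ) := by
    intro χ
    obtain ⟨a, ha⟩ := IsCharacter.exists_decomp (IsCharacter.restrict (irr_isCharacter χ) N)
    have h1 := congrFun ha 1
    have hma : ∀ θ, m χ θ = a θ := fun θ => by
      have := hm χ θ
      rw [ha, classInner_combination] at this
      exact_mod_cast this.symm
    simp only [OneMemClass.coe_one, Finset.sum_apply, Pi.smul_apply, smul_eq_mul,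
      irr_one_eq_charDegree] at h1
    rw [Finset.sum_congr rfl fun θ _ => by rw [hma θ]]
    exact_mod_cast h1
  have hind : ∀ θ : IrrCharacter N,
      N.index * charDegree (θ : N → ℂ) = ∑ χ : IrrCharacter G, m χ θ * charDegree (χ : G → ℂ) := by
    intro θ
    obtain ⟨a, ha⟩ := IsCharacter.exists_decomp (isCharacter_indFun N (irr_isCharacter θ))
    have hma : ∀ χ, m χ θ = a χ := fun χ => by
      have h := classInner_indFun_left N (θ : N → ℂ)
        (IsCharacter.isClassFunction (irr_isCharacter χ))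
      rw [ha, classInner_combination, ← classInner_conj_symm, hm, map_natCast] at h
      exact_mod_cast h.symm
    have h1 := congrFun ha 1
    simp only [Finset.sum_apply, Pi.smul_apply, smul_eq_mul, indFun_one_apply,
      irr_one_eq_charDegree] at h1
    rw [Finset.sum_congr rfl fun χ _ => by rw [hma χ]]
    exact_mod_cast h1
  have hsum : ∑ χ ∈ S, charDegree (χ : G → ℂ) ^ 2 =
      N.index * ∑ θ ∈ Finset.univ.filter (· ∈ b), charDegree (θ : N → ℂ) ^ 2 := by
    calc ∑ χ ∈ S, charDegree (χ : G → ℂ) ^ 2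
        = ∑ χ ∈ S, ∑ θ ∈ Finset.univ.filter (· ∈ b),
            m χ θ * charDegree (θ : N → ℂ) * charDegree (χ : G → ℂ) := by
          refine Finset.sum_congr rfl fun χ hχ => ?_
          rw [← Finset.sum_mul, sq]
          congr 1
          rw [hdegχ χ]
          refine (Finset.sum_subset (Finset.subset_univ _) fun θ _ hθ => ?_).symm
          rw [hres χ hχ θ fun h => hθ (Finset.mem_filter.2 ⟨Finset.mem_univ _, h⟩), zero_mul]
      _ = ∑ θ ∈ Finset.univ.filter (· ∈ b),
            charDegree (θ : N → ℂ) * ∑ χ ∈ S, m χ θ * charDegree (χ : G → ℂ) := by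
          rw [Finset.sum_comm]
          refine Finset.sum_congr rfl fun θ _ => ?_
          rw [Finset.mul_sum]
          exact Finset.sum_congr rfl fun χ _ => by ring
      _ = _ := by
          rw [Finset.mul_sum]
          refine Finset.sum_congr rfl fun θ hθ => ?_
          rw [Finset.sum_subset (Finset.subset_univ S) fun χ _ hχ => ?_, ← hind θ]
          · ring
          · have : m χ θ = 0 := by
              by_contra h0
              exact hχ (Finset.mem_filter.2 ⟨Finset.mem_univ _, θ, (Finset.mem_filter.1 hθ).2,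
                by rw [hm]; exact Nat.cast_ne_zero.2 h0⟩)
            rw [this, zero_mul]
  have hpart : ∑ χ ∈ S, charDegree (χ : G → ℂ) ^ 2 =
      ∑ B ∈ Bs, ∑ χ ∈ Finset.univ.filter (· ∈ B), charDegree (χ : G → ℂ) ^ 2 := by
    rw [← Finset.sum_fiberwise_of_maps_to (g := fun χ : IrrCharacter G => blockOf M (χ : G → ℂ))
      (t := Bs) (fun χ hχ => Finset.mem_filter.2 ⟨mem_blocks.2 (isPBlock_blockOf χ), χ,
        self_mem_blockOf χ, (Finset.mem_filter.1 hχ).2⟩)]
    refine Finset.sum_congr rfl fun B hB => Finset.sum_congr (Finset.ext fun χ => ?_) fun _ _ => rfl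
    obtain ⟨hBb, χ₀, hχ₀, hc₀⟩ := Finset.mem_filter.1 hB
    simp only [Finset.mem_filter, Finset.mem_univ, true_and]
    constructor
    · rintro ⟨-, rfl⟩
      exact self_mem_blockOf χ
    · intro h
      exact ⟨(Finset.mem_filter.1
          (hin B (mem_blocks.1 hBb) χ₀ hχ₀ (Finset.mem_filter.2 ⟨Finset.mem_univ _, hc₀⟩) χ h)).2,
        (isPBlock_eq_blockOf (mem_blocks.1 hBb) h).symm⟩
  by_contra hcon
  push Not at hcon
  set aN := (Nat.card N).factorization p
  set t := N.index.factorization p + (2 * aN - blockDefect p b)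
  have hGfac : (Nat.card G).factorization p = aN + N.index.factorization p := by
    rw [← N.card_mul_index, Nat.factorization_mul Nat.card_pos.ne'
      Subgroup.index_ne_zero_of_finite, Finsupp.add_apply]
  have hbd : blockDefect p b ≤ aN := blockDefect_le b
  have h0 : (∑ θ ∈ Finset.univ.filter (· ∈ b), charDegree (θ : N → ℂ) ^ 2) ≠ 0 := by
    obtain ⟨θ, hθ⟩ := isPBlock_nonempty hb
    exact (Finset.sum_pos' (fun _ _ => Nat.zero_le _)
      ⟨θ, Finset.mem_filter.2 ⟨Finset.mem_univ _, hθ⟩, pow_pos (charDegree_pos θ) 2⟩).ne'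
  have hfac : (∑ χ ∈ S, charDegree (χ : G → ℂ) ^ 2).factorization p = t := by
    rw [hsum, Nat.factorization_mul Subgroup.index_ne_zero_of_finite h0, Finsupp.add_apply,
      sum_sq_factorization hM hb]
  have hdvd : p ^ (t + 1) ∣ ∑ χ ∈ S, charDegree (χ : G → ℂ) ^ 2 := by
    rw [hpart]
    refine Finset.dvd_sum fun B hB => ?_
    obtain ⟨hBb, hBc⟩ := Finset.mem_filter.1 hB
    have h1 := hcon B (mem_blocks.1 hBb) hBc
    have h2 := sum_sq_factorization hM (mem_blocks.1 hBb)
    refine dvd_trans (pow_dvd_pow p ?_) (Nat.ordProj_dvd _ p)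
    have hBd := blockDefect_le (p := p) B
    rw [h2, hGfac]
    omega
  have h3 := (hM.1.pow_dvd_iff_le_factorization (by
    rw [hsum]
    exact Nat.mul_ne_zero Subgroup.index_ne_zero_of_finite h0)).1 hdvd
  rw [hfac] at h3
  omega

theorem fong (hM : IsPModular p M) {b : Set (IrrCharacter N)}
    (hb : IsPBlock M b) (hinv : ∀ g : G, ∀ θ ∈ b, cjIrr N g θ ∈ b) {B : Set (IrrCharacter G)}
    (hB : IsPBlock M B)
    (hcov : ∃ χ ∈ B, ∃ θ ∈ b, classInner (fun n : N => (χ : G → ℂ) n) (θ : N → ℂ) ≠ 0)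
    (hmax : ∀ B' : Set (IrrCharacter G), IsPBlock M B' →
      (∃ χ ∈ B', ∃ θ ∈ b, classInner (fun n : N => (χ : G → ℂ) n) (θ : N → ℂ) ≠ 0) →
      blockDefect p B' ≤ blockDefect p B)
    {P : Subgroup G} (hP : IsDefectGroup p M B P) :
    ¬ p ∣ (P ⊔ N).index ∧ IsDefectGroup p M b ((P ⊓ N).subgroupOf N) ∧
      blockDefect p B = blockDefect p b + N.index.factorization p := by
  haveI := Fact.mk hM.1
  obtain rfl : ‹Fintype N› = fintypeSubgroupBP N := Subsingleton.elim _ _
  have hdef := isDefectGroup_inf_of_covers N hM hb hinv hB hcov hP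
  obtain ⟨B', hB', hc', hge⟩ := exists_covering_defect N hM hb hinv
  have hlow := hge.trans (hmax B' hB' hc')
  have hcP := card_defectGroup hM hB hP
  have hcI : Nat.card (P ⊓ N : Subgroup G) = p ^ blockDefect p b := by
    rw [← card_defectGroup hM hb hdef,
      Nat.card_congr (Subgroup.subgroupOfEquivOfLe inf_le_right).toEquiv]
  have hmul : Nat.card (P ⊓ N : Subgroup G) * N.relIndex P = Nat.card P := by
    have := Subgroup.relIndex_mul_relIndex ⊥ (P ⊓ N) P bot_le inf_le_left
    simp only [Subgroup.relIndex_bot_left, Subgroup.inf_relIndex_left] at this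
    exact this
  have hrel : N.relIndex P * (P ⊔ N).index = N.index := by
    rw [← Subgroup.relIndex_sup_right, Subgroup.relIndex_mul_index le_sup_right]
  have hr0 : N.relIndex P ≠ 0 := fun h => Subgroup.index_ne_zero_of_finite (H := N) (by
    rw [← hrel, h, zero_mul])
  have hidx := congrArg (fun n => n.factorization p) hrel
  simp only [Nat.factorization_mul hr0 Subgroup.index_ne_zero_of_finite, Finsupp.add_apply] at hidx
  have hfac := congrArg (fun n => n.factorization p) hmul
  simp only [hcP, hcI] at hfac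
  rw [Nat.factorization_mul (pow_ne_zero _ hM.1.ne_zero) hr0, Finsupp.add_apply,
    hM.1.factorization_pow, hM.1.factorization_pow, Finsupp.single_eq_same,
    Finsupp.single_eq_same] at hfac
  refine ⟨fun hdvd => ?_, hdef, by omega⟩
  have := (hM.1.dvd_iff_one_le_factorization Subgroup.index_ne_zero_of_finite).1 hdvd
  omega

end Cfsg.Agent.Blocks
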