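/-
Fong: the characters over an invariant character of `O_{p'}` in a `p`-solvable group.
-/
import Cfsg.Agent.Lib.Blocks.FongTheorem
import Cfsg.Agent.Lib.PLocal.PSolvable
import Cfsg.Agent.Lib.FiniteGroup.FittingPow

set_option linter.unusedSectionVars false
set_option linter.style.haveILetI false

namespace Cfsg.Agent.Blocks

open Cfsg MonoidAlgebra Cfsg.Agent.Char Cfsg.Agent.BrauerPairs
open scoped ComplexConjugate

universe u

variable {G : Type u} [Group G] [Fintype G] {p : ℕ} {M : Ideal AlgInt} [M.IsPrime]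

theorem classInner_restrict_ne_zero_of_two_step {K N : Subgroup G} (hNK : N ≤ K) [Fintype K]
    [Fintype N] (χ : IrrCharacter G) (φ : IrrCharacter K) (ψ : IrrCharacter N)
    (h1 : classInner (fun k : K => (χ : G → ℂ) k) (φ : K → ℂ) ≠ 0)
    (h2 : classInner (fun n : N => (φ : K → ℂ) ⟨(n : G), hNK n.2⟩) (ψ : N → ℂ) ≠ 0) :
    classInner (fun n : N => (χ : G → ℂ) n) (ψ : N → ℂ) ≠ 0 := by
  classical
  obtain ⟨m, hm⟩ := IsCharacter.exists_decomp (IsCharacter.restrict (irr_isCharacter χ) K)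
  choose g hg using fun σ : IrrCharacter K => IsCharacter.exists_classInner_nat
    (IsCharacter.comp (irr_isCharacter σ) (Subgroup.inclusion hNK)) (irr_isCharacter ψ)
  have h3 : (fun n : N => (χ : G → ℂ) n) = ∑ σ : IrrCharacter K,
      (m σ : ℂ) • ((σ : K → ℂ) ∘ Subgroup.inclusion hNK) := by
    funext n
    have := congrFun hm ⟨(n : G), hNK n.2⟩
    simp only [Finset.sum_apply, Pi.smul_apply] at this ⊢
    exact this
  rw [h3, classInner_sum_left]
  simp only [classInner_smul_left]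
  rw [Finset.sum_congr rfl fun σ _ => by rw [show classInner ((σ : K → ℂ) ∘ Subgroup.inclusion hNK)
    (ψ : N → ℂ) = (g σ : ℂ) from hg σ]]
  norm_cast
  intro h'
  have h4 := Finset.sum_eq_zero_iff.1 h' φ (Finset.mem_univ _)
  have hmφ : m φ ≠ 0 := fun h0 => h1 (by rw [hm, classInner_combination, h0, Nat.cast_zero])
  refine h2 ?_
  rw [show classInner (fun n : N => (φ : K → ℂ) ⟨(n : G), hNK n.2⟩) (ψ : N → ℂ) = (g φ : ℂ) from
    hg φ, (mul_eq_zero.1 h4).resolve_left hmφ, Nat.cast_zero]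

theorem sameBlock_of_over (hM : IsPModular p M) {K N : Subgroup G} [N.Normal] (hNK : N ≤ K)
    [Fintype K] [Fintype N] (hNp : ¬ p ∣ Nat.card N) (hidx : ∃ k : ℕ, N.relIndex K = p ^ k)
    (θ : IrrCharacter N) {φ φ' : IrrCharacter K}
    (h : classInner (fun n : N => (φ : K → ℂ) ⟨(n : G), hNK n.2⟩) (θ : N → ℂ) ≠ 0)
    (h' : classInner (fun n : N => (φ' : K → ℂ) ⟨(n : G), hNK n.2⟩) (θ : N → ℂ) ≠ 0) :
    SameBlock M (φ : K → ℂ) (φ' : K → ℂ) := by
  classical
  haveI : Fintype (N.subgroupOf K) := Fintype.ofFinite _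
  let e := Subgroup.subgroupOfEquivOfLe hNK
  have htr : ∀ φ : IrrCharacter K,
      classInner (fun m : N.subgroupOf K => (φ : K → ℂ) (m : K))
        (fun m => (θ : N → ℂ) (e m)) =
      classInner (fun n : N => (φ : K → ℂ) ⟨(n : G), hNK n.2⟩) (θ : N → ℂ) := by
    intro φ
    unfold classInner
    rw [Nat.card_congr e.toEquiv]
    congr 1
    exact Fintype.sum_equiv e.toEquiv _ _ fun m => rfl
  refine (sameBlock_iff_common_constituent (N.subgroupOf K) hM ?_ hidx φ φ').2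
    ⟨⟨_, IsIrrCharacter.comp θ.2 e.toMonoidHom e.surjective⟩, ?_, ?_⟩
  · rwa [Nat.card_congr e.toEquiv]
  · show classInner _ (fun m => (θ : N → ℂ) (e m)) ≠ 0
    rw [htr]; exact h
  · show classInner _ (fun m => (θ : N → ℂ) (e m)) ≠ 0
    rw [htr]; exact h'

/-- A covering block times the covered invariant idempotent. -/
theorem inclN_mul_self_of_covers (K : Subgroup G) [K.Normal] [Fintype K] {b : Set (IrrCharacter K)}
    (hb : IsPBlock M b) (hinv : ∀ g : G, ∀ φ ∈ b, cjIrr K g φ ∈ b) {B : Set (IrrCharacter G)}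
    (hB : IsPBlock M B)
    (hcov : ∃ χ ∈ B, ∃ φ ∈ b, classInner (fun k : K => (χ : G → ℂ) k) (φ : K → ℂ) ≠ 0) :
    inclN K (blockEltR M b) * blockEltR M B = blockEltR M B := by
  classical
  obtain ⟨χ, hχ, φ, hφ, hc⟩ := hcov
  have h1 : ∑ b' ∈ blocks M K, inclN K (blockEltR M b') * blockEltR M B = blockEltR M B := by
    rw [← Finset.sum_mul, ← map_sum, sum_blockEltR, map_one, one_mul]
  refine Eq.trans (Finset.sum_eq_single_of_mem (f := fun b' => inclN K (blockEltR M b') * blockEltR M B) b (mem_blocks.2 hb) fun b' hb' hne => ?_).symm h1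
  refine inclN_mul_eq_zero_of_not_covers K hB (mem_blocks.1 hb') fun χ' hχ' ψ hψ => ?_
  by_contra hc'
  obtain ⟨g, φ', hφ', hg⟩ := constituents_conjugate_blocks K hB hb hχ hφ hc hχ' hc'
  exact hne (isPBlock_eq_of_mem (mem_blocks.1 hb') hb hψ
    ((show ψ = cjIrr K g φ' from Subtype.ext hg) ▸ hinv g φ' hφ'))

/-- Blocks over an invariant block with self-centralising defect group coincide. -/
theorem covering_unique_of_centralizer_le (hM : IsPModular p M) (K : Subgroup G) [K.Normal]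
    {b : Set (IrrCharacter K)} (hb : IsPBlock M b)
    (hinv : ∀ g : G, ∀ φ ∈ b, cjIrr K g φ ∈ b) {Q : Subgroup G} (hQK : Q ≤ K)
    (hQ : IsDefectGroup p M b (Q.subgroupOf K))
    (hC : Subgroup.centralizer (Q : Set G) ≤ K) {B B' : Set (IrrCharacter G)}
    (hB : IsPBlock M B) (hB' : IsPBlock M B')
    (hcov : ∃ χ ∈ B, ∃ φ ∈ b, classInner (fun k : K => (χ : G → ℂ) k) (φ : K → ℂ) ≠ 0)
    (hcov' : ∃ χ ∈ B', ∃ φ ∈ b, classInner (fun k : K => (χ : G → ℂ) k) (φ : K → ℂ) ≠ 0) :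
    B = B' := by
  haveI := Fact.mk hM.1
  haveI : CharP (resField M) p := resField_charP hM
  have hQd := (isDefectGroup_subgroupOf_iff hb hQK).1 hQ
  have hQp : IsPGroup p Q := hQd.pgroup
  have key : ∀ {B : Set (IrrCharacter G)}, IsPBlock M B →
      (∃ χ ∈ B, ∃ φ ∈ b, classInner (fun k : K => (χ : G → ℂ) k) (φ : K → ℂ) ≠ 0) →
      ∃ f, IsPairOf p ⊤ (Ek M B) (Q, f) ∧ IsPairOf p K (zB M K b) (Q, f) := by
    intro B hB hcov
    have hinvB : IsInvElt Q (Ek M B) := IsClassElt.isInvElt (isClassElt_Ek B) Q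
    have hne : brTrunc Q (Ek M B) ≠ 0 := by
      obtain ⟨g, -, hg, c, hgc, hc⟩ :=
        exists_coeff_centralizing_of_covers K hM hB hb hcov hQK hQ
      intro h0
      have := congrArg (fun y : MonoidAlgebra (resField M) G => y.coeff c) h0
      simp only [coeff_brTrunc_pos hc, coeff_Ek hB, MonoidAlgebra.coeff_zero,
        Finsupp.zero_apply, res_eq_zero_iff] at this
      exact hg (by rwa [blockCoeff_isConj B hgc])
    obtain ⟨f, hf, hocc⟩ := exists_blk_mul_eq ((isBlk_Ek hB).inZ.brTrunc Q)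
      (by rw [← brTrunc_mul hQp hinvB hinvB, Ek_idem hB]) hne
    refine ⟨f, ⟨⟨hQp, le_top, hf⟩, isBlk_Ek hB, hocc⟩,
      ⟨⟨hQp, hQK, ?_⟩, isBlk_zB K hb, ?_⟩⟩
    · rw [top_inf_eq] at hf
      rwa [inf_eq_right.2 hC]
    · have hz : zB M K b * Ek M B = Ek M B := by
        have h1 := congrArg (resG (M := M)) (inclN_mul_self_of_covers K hb hinv hB hcov)
        rw [map_mul, resG_inclN] at h1
        exact h1
      show brTrunc Q (zB M K b) * f = f
      rw [← hocc, ← mul_assoc, ← brTrunc_mul hQp ((isBlk_zB K hb).inZ.isInvElt hQK) hinvB, hz]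
  obtain ⟨f, hf, hfK⟩ := key hB hcov
  obtain ⟨f', hf', hfK'⟩ := key hB' hcov'
  obtain ⟨x, -, hx⟩ := exists_conj_defect_pair hfK' hfK hQd hQd
  have h1 := hf.cjT x
  rw [hx] at h1
  exact Ek_injective hB hB' (h1.unique hf')

theorem fong_solvable (hM : IsPModular p M) (hsolv : IsPSolvable p G) (N : Subgroup G) [N.Normal]
    [Fintype N] (hN : N = pPrimeCore p G) (hNp : ¬ p ∣ Nat.card N) (θ : IrrCharacter N)
    (hinv : ∀ g : G, cjIrr N g θ = θ) :
    ∃ B : Set (IrrCharacter G), IsPBlock M B ∧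
      (∀ χ : IrrCharacter G, χ ∈ B ↔
        classInner (fun n : N => (χ : G → ℂ) n) (θ : N → ℂ) ≠ 0) ∧
      (∀ P : Sylow p G, IsDefectGroup p M B (P : Subgroup G)) ∧
      ∀ D : Subgroup G, IsDefectGroup p M B D → ∃ P : Sylow p G, D = (P : Subgroup G) := by
  classical
  haveI := Fact.mk hM.1
  have hθb : IsPBlock M ({θ} : Set (IrrCharacter N)) := by
    refine ⟨θ, ?_⟩
    refine (blockOf_eq_singleton hM θ ?_).symm
    have h1 : (Nat.card N).factorization p = 0 := Nat.factorization_eq_zero_of_not_dvd hNp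
    have h2 := degExp_le_card (p := p) θ
    omega
  have hθinv : ∀ g : G, ∀ φ ∈ ({θ} : Set (IrrCharacter N)), cjIrr N g φ ∈ ({θ} : Set _) :=
    fun g φ hφ => by rw [Set.mem_singleton_iff] at hφ; subst hφ; simp [hinv]
  obtain ⟨B, hB, ⟨χ₀, hχ₀, θ₀, hθ₀, hc₀⟩, hge⟩ := exists_covering_defect N hM hθb hθinv
  rw [Set.mem_singleton_iff] at hθ₀
  subst θ₀
  have hfull : blockDefect p B = (Nat.card G).factorization p := by
    refine le_antisymm (blockDefect_le B) (le_trans ?_ hge)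
    rw [← N.card_mul_index, Nat.factorization_mul Nat.card_pos.ne'
      Subgroup.index_ne_zero_of_finite, Finsupp.add_apply,
      Nat.factorization_eq_zero_of_not_dvd hNp]
    omega
  set π := QuotientGroup.mk' N with hπ
  have hπs : Function.Surjective π := QuotientGroup.mk'_surjective N
  set K : Subgroup G := (pCore p (G ⧸ N)).comap π with hK
  haveI : (pCore p (G ⧸ N)).Normal := Cfsg.pCore_normal p _
  haveI : K.Normal := Subgroup.Normal.comap inferInstance π
  have hNK : N ≤ K := fun n hn => by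
    rw [hK, Subgroup.mem_comap, hπ, QuotientGroup.mk'_apply, (QuotientGroup.eq_one_iff n).2 hn]
    exact one_mem _
  have hidx : ∃ k : ℕ, N.relIndex K = p ^ k := by
    obtain ⟨k, hk⟩ := IsPGroup.iff_card.1
      (Cfsg.Agent.PBasic.pCore_isPGroup p (G ⧸ N) : IsPGroup p (pCore p (G ⧸ N)))
    refine ⟨k, ?_⟩
    rw [← hk, ← Subgroup.relIndex_bot_left (pCore p (G ⧸ N))]
    conv_rhs => rw [← Subgroup.map_comap_eq_self_of_surjective hπs (pCore p (G ⧸ N))]
    rw [← hK, ← Subgroup.relIndex_comap, MonoidHom.comap_bot, hπ, QuotientGroup.ker_mk']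
  have hstep : ∀ (χ : IrrCharacter G) (φ : IrrCharacter K),
      classInner (fun n : N => (χ : G → ℂ) n) (θ : N → ℂ) ≠ 0 →
      classInner (fun k : K => (χ : G → ℂ) k) (φ : K → ℂ) ≠ 0 →
      classInner (fun n : N => (φ : K → ℂ) ⟨(n : G), hNK n.2⟩) (θ : N → ℂ) ≠ 0 := by
    intro χ φ hχ hφ
    obtain ⟨ψ, hψ⟩ := IsCharacter.exists_constituent
      (IsCharacter.comp (irr_isCharacter φ) (Subgroup.inclusion hNK)) fun h0 =>
        irr_one_ne_zero φ (congrFun h0 1)
    obtain ⟨g, hg⟩ := (mem_conjOrbit N).1 (restrict_constituent_conj N χ.2 θ.2 ψ.2 hχ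
      (classInner_restrict_ne_zero_of_two_step hNK χ φ ψ hφ hψ))
    have : ψ = θ := (show ψ = cjIrr N g θ from Subtype.ext hg).trans (hinv g)
    exact this ▸ hψ
  obtain ⟨φ₀, hφ₀⟩ := exists_restrict_constituent χ₀.2 K
  set b := blockOf M (φ₀ : K → ℂ)
  have hb : IsPBlock M b := isPBlock_blockOf φ₀
  have hbover : ∀ (χ : IrrCharacter G) (φ : IrrCharacter K),
      classInner (fun n : N => (χ : G → ℂ) n) (θ : N → ℂ) ≠ 0 →
      classInner (fun k : K => (χ : G → ℂ) k) (φ : K → ℂ) ≠ 0 → φ ∈ b := fun χ φ hχ hφ =>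
    mem_blockOf.2 (sameBlock_of_over hM hNK hNp hidx θ (hstep χ₀ φ₀ hc₀ hφ₀)
      (hstep χ φ hχ hφ))
  have hbinv : ∀ g : G, ∀ φ ∈ b, cjIrr K g φ ∈ b := fun g φ hφ => by
    refine isPBlock_mem_of_sameBlock hb (hbover χ₀ (cjIrr K g φ₀) hc₀ (by
      rw [constituent_cjIrr]; exact hφ₀)) ?_
    exact sameBlock_cjIrr K (isPBlock_sameBlock hb (self_mem_blockOf φ₀) hφ) g
  have hcovB : ∀ χ : IrrCharacter G, classInner (fun n : N => (χ : G → ℂ) n) (θ : N → ℂ) ≠ 0 →
      ∃ χ' ∈ blockOf M (χ : G → ℂ), ∃ φ ∈ b,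
        classInner (fun k : K => (χ' : G → ℂ) k) (φ : K → ℂ) ≠ 0 := fun χ hχ => by
    obtain ⟨φ, hφ⟩ := exists_restrict_constituent χ.2 K
    exact ⟨χ, self_mem_blockOf χ, φ, hbover χ φ hχ hφ, hφ⟩
  have hcB : ∃ χ ∈ B, ∃ φ ∈ b, classInner (fun k : K => (χ : G → ℂ) k) (φ : K → ℂ) ≠ 0 :=
    ⟨χ₀, hχ₀, φ₀, self_mem_blockOf φ₀, hφ₀⟩
  obtain ⟨D, hD⟩ := exists_isDefectGroup (p := p) hB
  have hDcard : Nat.card D = p ^ (Nat.card G).factorization p := by
    rw [card_defectGroup hM hB hD, hfull]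
  obtain ⟨DS, hDS⟩ : ∃ S : Sylow p G, (S : Subgroup G) = D :=
    ⟨Sylow.ofCard D hDcard, rfl⟩
  have hQ := isDefectGroup_inf_of_covers K hM hb hbinv hB hcB hD
  have hC : Subgroup.centralizer ((D ⊓ K : Subgroup G) : Set G) ≤ K := by
    intro c hc
    rw [hK, Subgroup.mem_comap]
    refine Cfsg.Agent.PSolvable.centralizer_pCore_le (Cfsg.Agent.PSolvable.quotient N hsolv) ?_ ?_
    · subst hN
      exact Cfsg.Agent.PBasic.pPrimeCore_quotient_pPrimeCore p G
    · refine Subgroup.mem_centralizer_iff.2 fun w hw => ?_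
      have h1 : pCore p (G ⧸ N) ≤ (DS.mapSurjective hπs : Subgroup (G ⧸ N)) :=
        Cfsg.Agent.PBasic.pCore_le_sylow _
      obtain ⟨d, hd, rfl⟩ := h1 hw
      rw [← map_mul, ← map_mul, Subgroup.mem_centralizer_iff.1 hc d
        ⟨hDS ▸ hd, Subgroup.mem_comap.2 hw⟩]
  have huniq : ∀ χ : IrrCharacter G, classInner (fun n : N => (χ : G → ℂ) n) (θ : N → ℂ) ≠ 0 →
      χ ∈ B := fun χ hχ => by
    rw [← covering_unique_of_centralizer_le hM K hb hbinv inf_le_right hQ hC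
      (isPBlock_blockOf χ) hB (hcovB χ hχ) hcB]
    exact self_mem_blockOf χ
  refine ⟨B, hB, fun χ => ⟨fun hχ => constituent_of_sameBlock N hM hNp
    (isPBlock_sameBlock hB hχ₀ hχ) hc₀, huniq χ⟩, fun P => ?_, fun E hE => ?_⟩
  · obtain ⟨x, hx⟩ := MulAction.exists_smul_eq G DS P
    rw [← hx, Sylow.coe_subgroup_smul, hDS]
    exact IsDefectGroup.map_conj hD x
  · exact ⟨Sylow.ofCard E (by rw [card_defectGroup hM hB hE, hfull]), rfl⟩

end Cfsg.Agent.Blocks
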