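/-
Heights in p-solvable groups are bounded by the index of the centre of a defect group.
-/
import Cfsg.Agent.Lib.Blocks.FongSolvable
import Cfsg.Agent.Lib.Blocks.FongReynolds
import Cfsg.Agent.Lib.Char.CoprimeDegree
import Cfsg.Agent.Lib.Char.ItoPSolvable
import Cfsg.Agent.Lib.Char.Orbit

set_option linter.unusedSectionVars false
set_option linter.style.haveILetI false

namespace Cfsg.Agent.Blocks.HeightBound

open Cfsg Cfsg.Agent.Char Cfsg.Agent.Blocks

universe u

/-- The index of the centre does not depend on the copy of the group. -/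
theorem center_index_congr {A B : Type*} [Group A] [Group B] (e : A ≃* B) :
    (Subgroup.center A).index = (Subgroup.center B).index := by
  have h : Subgroup.center A = (Subgroup.center B).comap e.toMonoidHom := by
    ext a
    simp only [Subgroup.mem_comap, Subgroup.mem_center_iff, MulEquiv.coe_toMonoidHom]
    refine ⟨fun h b => ?_, fun h b => e.injective (by rw [map_mul, map_mul]; exact h (e b))⟩
    obtain ⟨b, rfl⟩ := e.surjective b
    rw [← map_mul, ← map_mul, h b]
  rw [h, Subgroup.index_comap_of_surjective _ e.surjective]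

variable {G : Type u} [Group G] [Fintype G] {p : ℕ} {M : Ideal AlgInt} [M.IsPrime]

/-- An invariant character of `O_{p'}` only meets constituents of its own `p`-part of degree on a
normal subgroup with abelian `p`-quotient above it. -/
theorem charDegree_eq_of_over [Fact p.Prime] {N K : Subgroup G} [N.Normal] [K.Normal] [Fintype N]
    [Fintype K] (hNK : N ≤ K) (hNp : ¬ p ∣ Nat.card N) (hidx : ∃ k : ℕ, N.relIndex K = p ^ k)
    (hcomm : ∀ a ∈ K, ∀ b ∈ K, a * b * a⁻¹ * b⁻¹ ∈ N) (θ : IrrCharacter N)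
    (hinv : ∀ g : G, cjIrr N g θ = θ) (φ : IrrCharacter K)
    (hφ : classInner (fun n : N => (φ : K → ℂ) ⟨(n : G), hNK n.2⟩) (θ : N → ℂ) ≠ 0) :
    charDegree (φ : K → ℂ) = charDegree (θ : N → ℂ) := by
  set N' : Subgroup K := N.subgroupOf K with hN'
  haveI : N'.Normal := inferInstance
  haveI : Fintype N' := Fintype.ofFinite N'
  let e : N' ≃* N := Subgroup.subgroupOfEquivOfLe hNK
  have hθ' : IsIrrCharacter N' (fun n => (θ : N → ℂ) (e n)) :=
    IsIrrCharacter.comp θ.2 e.toMonoidHom e.surjective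
  have hcop : (Nat.card N').Coprime N'.index := by
    obtain ⟨k, hk⟩ := hidx
    rw [Nat.card_congr e.toEquiv, show N'.index = N.relIndex K from rfl, hk]
    exact Nat.Coprime.pow_right k (((Fact.out : p.Prime).coprime_iff_not_dvd.2 hNp).symm)
  have hinv' : ∀ g : K, conjChar N' g (fun n => (θ : N → ℂ) (e n)) =
      fun n => (θ : N → ℂ) (e n) := by
    intro g
    funext n
    have h1 := congrFun (congrArg Subtype.val (hinv (g : G))) (e n)
    rw [cjIrr_apply] at h1
    exact h1
  obtain ⟨χ, hχ, hχN⟩ := Cfsg.Agent.CoprimeDegree.exists_extension_coprime N' hcop hθ' hinv'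
  have hres : (fun n : N' => χ n) = fun n => (θ : N → ℂ) (e n) := funext hχN
  obtain ⟨-, -, h3⟩ := gallagher_one N' (IsIrrCharacter.isCharacter hχ)
    (by rw [hres]; exact hθ')
  have hne : classInner (fun n : N' => (φ : K → ℂ) n) (fun n : N' => χ n) ≠ 0 := by
    rw [hres]
    refine fun h => hφ ?_
    rw [← h]
    simp only [Cfsg.classInner, Nat.card_congr e.toEquiv]
    congr 1
    exact (Fintype.sum_equiv e.toEquiv _ _ fun n => rfl).symm
  obtain ⟨β, hβ, hβφ⟩ := h3 (φ : K → ℂ) φ.2 hne
  have hβ1 : (β : K → ℂ) 1 = 1 := degree_one_of_commutators β.2 fun a b =>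
    hβ ⟨a * b * a⁻¹ * b⁻¹, Subgroup.mem_subgroupOf.2 (hcomm a a.2 b b.2)⟩
  have h4 := congrFun hβφ 1
  have h5 : χ 1 = (θ : N → ℂ) 1 := by
    have := hχN 1
    rwa [Subgroup.coe_one, map_one] at this
  rw [Pi.mul_apply, hβ1, one_mul, h5, irr_one_eq_charDegree θ, irr_one_eq_charDegree φ] at h4
  exact (Nat.cast_inj.1 h4).symm

/-- The case of an invariant character of `O_{p'}`. -/
theorem degExp_le_center [Fact p.Prime] (hsolv : IsPSolvable p G) (N : Subgroup G) [N.Normal]
    [Fintype N] (hN : N = pPrimeCore p G) (θ : IrrCharacter N)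
    (hinv : ∀ g : G, cjIrr N g θ = θ) (P : Sylow p G) (χ : IrrCharacter G)
    (hχ : classInner (fun n : N => (χ : G → ℂ) n) (θ : N → ℂ) ≠ 0) :
    (charDegree (χ : G → ℂ)).factorization p ≤
      (Subgroup.center (P : Subgroup G)).index.factorization p := by
  classical
  have hp : p.Prime := Fact.out
  have hNp : ¬ p ∣ Nat.card N := by
    subst hN
    exact (hp.coprime_iff_not_dvd.1
      (Cfsg.Agent.PBasic.pPrimeCore_coprime p G).symm)
  set π := QuotientGroup.mk' N with hπ
  have hπs : Function.Surjective π := QuotientGroup.mk'_surjective N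
  haveI : (pCore p (G ⧸ N)).Normal := Cfsg.pCore_normal p _
  set Zbar : Subgroup (G ⧸ N) :=
    pCore p (G ⧸ N) ⊓ Subgroup.centralizer (pCore p (G ⧸ N) : Set (G ⧸ N)) with hZbar
  haveI : (Subgroup.centralizer (pCore p (G ⧸ N) : Set (G ⧸ N))).Normal :=
    centralizer_normal_of_normal _
  haveI : Zbar.Normal := Subgroup.normal_inf_normal _ _
  set K : Subgroup G := Zbar.comap π with hK
  haveI : K.Normal := Subgroup.Normal.comap inferInstance π
  have hNK : N ≤ K := fun n hn => by
    rw [hK, Subgroup.mem_comap, hπ, QuotientGroup.mk'_apply, (QuotientGroup.eq_one_iff n).2 hn]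
    exact one_mem _
  have hidx : ∃ k : ℕ, N.relIndex K = p ^ k := by
    obtain ⟨k, hk⟩ := IsPGroup.iff_card.1
      ((Cfsg.Agent.PBasic.pCore_isPGroup p (G ⧸ N) : IsPGroup p (pCore p (G ⧸ N))).to_le
        (inf_le_left : Zbar ≤ _))
    refine ⟨k, ?_⟩
    rw [← hk, ← Subgroup.relIndex_bot_left Zbar]
    conv_rhs => rw [← Subgroup.map_comap_eq_self_of_surjective hπs Zbar]
    rw [← hK, ← Subgroup.relIndex_comap, MonoidHom.comap_bot, hπ, QuotientGroup.ker_mk']
  have hcomm : ∀ a ∈ K, ∀ b ∈ K, a * b * a⁻¹ * b⁻¹ ∈ N := by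
    intro a ha b hb
    rw [hK, Subgroup.mem_comap] at ha hb
    have h := Subgroup.mem_centralizer_iff.1 hb.2 _ ha.1
    have : π (a * b * a⁻¹ * b⁻¹) = 1 := by
      rw [map_mul, map_mul, map_mul, map_inv, map_inv, h, mul_inv_cancel_right, mul_inv_cancel]
    rwa [hπ, QuotientGroup.mk'_apply, QuotientGroup.eq_one_iff] at this
  have hquot := Cfsg.Agent.PSolvable.quotient N hsolv
  have hO : pPrimeCore p (G ⧸ N) = ⊥ := by
    subst hN
    exact Cfsg.Agent.PBasic.pPrimeCore_quotient_pPrimeCore p G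
  have hPK : (Subgroup.center (P : Subgroup G)).map (P : Subgroup G).subtype ≤ K := by
    rintro _ ⟨z, hz, rfl⟩
    have hcore : pCore p (G ⧸ N) ≤ (P.mapSurjective hπs : Subgroup (G ⧸ N)) :=
      Cfsg.Agent.PBasic.pCore_le_sylow _
    have hmem : π (z : G) ∈ Subgroup.centralizer (pCore p (G ⧸ N) : Set (G ⧸ N)) := by
      refine Subgroup.mem_centralizer_iff.2 fun w hw => ?_
      obtain ⟨d, hd, rfl⟩ := hcore hw
      rw [← map_mul, ← map_mul]
      exact congrArg π (congrArg Subtype.val (Subgroup.mem_center_iff.1 hz ⟨d, hd⟩))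
    rw [hK, Subgroup.mem_comap]
    exact ⟨Cfsg.Agent.PSolvable.centralizer_pCore_le hquot hO hmem, hmem⟩
  haveI : Fintype K := Fintype.ofFinite K
  obtain ⟨φ, hφ⟩ := exists_restrict_constituent χ.2 K
  have hφθ : classInner (fun n : N => (φ : K → ℂ) ⟨(n : G), hNK n.2⟩) (θ : N → ℂ) ≠ 0 := by
    obtain ⟨ψ, hψ⟩ := IsCharacter.exists_constituent
      (IsCharacter.comp (irr_isCharacter φ) (Subgroup.inclusion hNK)) fun h0 =>
        irr_one_ne_zero φ (congrFun h0 1)
    obtain ⟨g, hg⟩ := (mem_conjOrbit N).1 (restrict_constituent_conj N χ.2 θ.2 ψ.2 hχ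
      (classInner_restrict_ne_zero_of_two_step hNK χ φ ψ hφ hψ))
    have : ψ = θ := (show ψ = cjIrr N g θ from Subtype.ext hg).trans (hinv g)
    exact this ▸ hψ
  have hφd := charDegree_eq_of_over hNK hNp hidx hcomm θ hinv φ hφθ
  obtain ⟨e, he, hedvd⟩ := exists_ratio_dvd_index K χ.2 φ.2 hφ
  rw [irr_one_eq_charDegree, irr_one_eq_charDegree, ← Nat.cast_mul, Nat.cast_inj, hφd] at he
  have hθ0 : (charDegree (θ : N → ℂ)).factorization p = 0 := by
    have h1 : (Nat.card N).factorization p = 0 := Nat.factorization_eq_zero_of_not_dvd hNp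
    have h2 := degExp_le_card (p := p) θ
    omega
  have he0 : e ≠ 0 := fun h => (charDegree_pos χ).ne' (by rw [he, h, zero_mul])
  rw [he, Nat.factorization_mul he0 (charDegree_pos θ).ne', Finsupp.add_apply, hθ0, add_zero]
  have h1 : e.factorization p ≤ K.index.factorization p :=
    (Nat.factorization_le_iff_dvd he0 Subgroup.index_ne_zero_of_finite).2 hedvd p
  have h2 := (Nat.factorization_le_iff_dvd Nat.card_pos.ne' Nat.card_pos.ne').2
    (Subgroup.card_dvd_of_le hPK) p
  rw [Subgroup.card_map_of_injective (Subgroup.subtype_injective _)] at h2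
  have h3 := congrArg (fun n : ℕ => n.factorization p) K.card_mul_index
  have h4 := congrArg (fun n : ℕ => n.factorization p)
    (Subgroup.center (P : Subgroup G)).card_mul_index
  simp only [Nat.factorization_mul Nat.card_pos.ne' Subgroup.index_ne_zero_of_finite,
    Finsupp.add_apply] at h3 h4
  have h5 : (Nat.card (P : Subgroup G)).factorization p = (Nat.card G).factorization p := by
    rw [Sylow.card_eq_multiplicity, hp.factorization_pow, Finsupp.single_eq_same]
  omega

theorem height_le_aux (n : ℕ) : ∀ (G : Type u) [Group G] [Fintype G] (p : ℕ) [Fact p.Prime]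
    (M : Ideal AlgInt) [M.IsPrime], Nat.card G = n → IsPModular p M → IsPSolvable p G →
    ∀ B : Set (IrrCharacter G), IsPBlock M B → ∀ P : Subgroup G, IsDefectGroup p M B P →
      ∀ χ ∈ B, blockHeight p B (χ : G → ℂ) ≤ (Subgroup.center P).index.factorization p := by
  induction n using Nat.strong_induction_on with
  | _ n ih =>
    intro G _ _ p _ M _ hn hM hsolv B hB P hP χ hχ
    classical
    set N := pPrimeCore p G with hN
    have hNp : ¬ p ∣ Nat.card N := (Fact.out : p.Prime).coprime_iff_not_dvd.1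
      (Cfsg.Agent.PBasic.pPrimeCore_coprime p G).symm
    haveI : Fintype N := Fintype.ofFinite N
    obtain ⟨θ, hθ⟩ := exists_restrict_constituent χ.2 N
    by_cases hinv : ∀ g : G, cjIrr N g θ = θ
    · obtain ⟨B₀, hB₀, hmem, hsyl, huniq⟩ := fong_solvable hM hsolv N hN hNp θ hinv
      obtain rfl := isPBlock_eq_of_mem hB hB₀ hχ ((hmem χ).2 hθ)
      obtain ⟨S, rfl⟩ := huniq P hP
      refine le_trans ?_ (degExp_le_center hsolv N hN θ hinv S χ hθ)
      exact Nat.sub_le _ _
    set T := inertia N (θ : N → ℂ) with hT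
    haveI : Fintype T := Fintype.ofFinite T
    have hNT : N ≤ T := le_inertia N (IsCharacter.isClassFunction (irr_isCharacter θ))
    have hstab : ∀ g : G, g ∈ T ↔ ∀ φ ∈ ({θ} : Set (IrrCharacter N)),
        cjIrr N g φ ∈ ({θ} : Set (IrrCharacter N)) := by
      intro g
      simp only [Set.mem_singleton_iff, forall_eq]
      exact ⟨fun h => Subtype.ext h, fun h => congrArg Subtype.val h⟩
    have hb : IsPBlock M ({θ} : Set (IrrCharacter N)) := by
      refine ⟨θ, (blockOf_eq_singleton hM θ ?_).symm⟩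
      have h1 : (Nat.card N).factorization p = 0 := Nat.factorization_eq_zero_of_not_dvd hNp
      have h2 := degExp_le_card (p := p) θ
      omega
    obtain ⟨ψ, hψ, hχψ, -⟩ := Cfsg.Agent.FongReynolds.exists_inducing N hNT
      ({θ} : Set (IrrCharacter N)) hstab hb (Set.mem_singleton θ) hθ
    set B' := blockOf M (ψ : T → ℂ) with hB'def
    have hB' : IsPBlock M B' := isPBlock_blockOf ψ
    have hcov : ∃ τ ∈ B', Cfsg.Agent.FongReynolds.Over N hNT {θ} τ :=
      ⟨ψ, self_mem_blockOf ψ, hψ⟩
    obtain ⟨B₁, hind, -, -, hmem⟩ :=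
      Cfsg.Agent.FongReynolds.fong_reynolds N hNT {θ} hstab hb hM hB' hcov
    obtain rfl := isPBlock_eq_of_mem hB hind.2.1 hχ
      ((hmem χ).2 ⟨ψ, self_mem_blockOf ψ, hχψ⟩)
    obtain ⟨hdef, hht⟩ := Cfsg.Agent.FongReynolds.fong_reynolds_heights N hNT {θ} hstab hb hM
      hB' hcov hind
    obtain ⟨χ', -, hχ', hh⟩ := hht ψ (self_mem_blockOf ψ)
    rw [← hχψ] at hχ'
    rw [← hχ', hh]
    obtain ⟨D, hD⟩ := exists_isDefectGroup (M := M) (p := p) hB'
    have hlt : Nat.card T < n := by
      rw [← hn]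
      refine lt_of_le_of_ne (Subgroup.card_le_card_group T) fun he => hinv fun g => ?_
      exact Subtype.ext (show g ∈ T by
        rw [(Subgroup.card_eq_iff_eq_top T).1 he]; exact Subgroup.mem_top g)
    refine (ih _ hlt T p M rfl hM (Cfsg.Agent.PSolvable.subgroup T hsolv) B' hB' D hD ψ
      (self_mem_blockOf ψ)).trans (le_of_eq ?_)
    obtain ⟨y, hy⟩ := defectGroup_conj hM hB hP (hdef D hD)
    subst hy
    rw [center_index_congr ((Subgroup.equivMapOfInjective D T.subtype
      (Subgroup.subtype_injective T)).trans (Subgroup.equivMapOfInjective (D.map T.subtype) (MulAut.conj y).toMonoidHom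
      (MulAut.conj y).injective))]

end Cfsg.Agent.Blocks.HeightBound
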