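/-
Reynolds: heights in a block with normal defect group.
-/
import Cfsg.Agent.Lib.Blocks.ExtFirstMain
import Cfsg.Agent.Lib.Blocks.CoverAll
import Cfsg.Agent.Lib.Blocks.ProductBlock
import Cfsg.Agent.Lib.Blocks.Heights
import Cfsg.Agent.Lib.Char.Multiplicity
import Cfsg.Agent.Lib.Char.DegreeCenter
import Cfsg.Agent.Lib.Char.ThompsonComplement

set_option linter.unusedSectionVars false
set_option linter.style.haveILetI false

namespace Cfsg.Agent.Blocks

open Cfsg MonoidAlgebra Cfsg.Agent.Char Cfsg.Agent.BrauerPairs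

universe u

variable {G : Type u} [Group G] [Fintype G] {p : ℕ} {M : Ideal AlgInt} [M.IsPrime]

theorem charDegree_eq_one_of_comm {H : Type u} [Group H] [Fintype H]
    (h : ∀ a b : H, a * b = b * a) (ξ : IrrCharacter H) : charDegree (ξ : H → ℂ) = 1 := by
  have hc : (Subgroup.center H) = ⊤ :=
    eq_top_iff.2 fun a _ => Subgroup.mem_center_iff.2 fun b => (h b a)
  have := degree_dvd_index_center ξ.2 (irr_one_eq_charDegree ξ)
  rw [hc, Subgroup.index_top, Nat.dvd_one] at this
  exact this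

/-- The degrees in a block with normal defect group `P`. -/
theorem degExp_normal_defect (hM : IsPModular p M) {B : Set (IrrCharacter G)}
    (hB : IsPBlock M B) {P : Subgroup G} [P.Normal] (hP : IsDefectGroup p M B P) :
    (∀ χ ∈ B, ∃ ξ : IrrCharacter P, (charDegree (χ : G → ℂ)).factorization p +
        blockDefect p B = (Nat.card G).factorization p + (charDegree (ξ : P → ℂ)).factorization p) ∧
      ∀ ξ : IrrCharacter P, ∃ χ ∈ B, (charDegree (χ : G → ℂ)).factorization p +
        blockDefect p B = (Nat.card G).factorization p + (charDegree (ξ : P → ℂ)).factorization p := by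
  classical
  haveI := Fact.mk hM.1
  have hp := hM.1
  have hPp := isPGroup_defectGroup hP
  haveI : (P ⊔ Subgroup.centralizer (P : Set G)).Normal := by
    haveI : (Subgroup.centralizer (P : Set G)).Normal := centralizer_normal_of_normal P
    infer_instance
  obtain ⟨b, hbP, hind⟩ := exists_inducing_block hM hB hP
  obtain ⟨χ₀, hχ₀⟩ := isPBlock_nonempty hB
  obtain ⟨φ₀, hφ₀⟩ := isPBlock_nonempty hind.1
  have hb := hind.1
  obtain ⟨χ₁, hχ₁, φ₁, hφ₁, hc₁⟩ := (covers_iff (P ⊔ Subgroup.centralizer (P : Set G)) hB hb).2 fun χ hχ θ hθ n => by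
    simpa using MemLocalIdeal.neg (hind.2.2 θ hθ χ hχ (n : G))
  -- the block of `(P ⊔ Subgroup.centralizer (P : Set G))`
  haveI : Fintype (P.subgroupOf (P ⊔ Subgroup.centralizer (P : Set G))) := Fintype.ofFinite _
  have hPH : P ≤ (P ⊔ Subgroup.centralizer (P : Set G)) := le_sup_left
  haveI : (P.subgroupOf (P ⊔ Subgroup.centralizer (P : Set G))).Normal := Subgroup.normal_subgroupOf
  have htop : (P.subgroupOf (P ⊔ Subgroup.centralizer (P : Set G))) ⊔ Subgroup.centralizer ((P.subgroupOf (P ⊔ Subgroup.centralizer (P : Set G))) : Set ↥(P ⊔ Subgroup.centralizer (P : Set G))) = ⊤ := by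
    refine eq_top_iff.2 fun h _ => ?_
    obtain ⟨u, hu, c, hc, e⟩ := exists_mul_of_mem (P := P) h.2
    have hc' : (⟨c, (le_sup_right (a := P) hc : c ∈ (P ⊔ Subgroup.centralizer (P : Set G)))⟩ : ↥(P ⊔ Subgroup.centralizer (P : Set G))) ∈ Subgroup.centralizer ((P.subgroupOf (P ⊔ Subgroup.centralizer (P : Set G))) : Set ↥(P ⊔ Subgroup.centralizer (P : Set G))) :=
      Subgroup.mem_centralizer_iff.2 fun w hw =>
        Subtype.ext (Subgroup.mem_centralizer_iff.1 hc w hw)
    rw [show h = ⟨u, hPH hu⟩ * ⟨c, (le_sup_right (a := P) hc : c ∈ (P ⊔ Subgroup.centralizer (P : Set G)))⟩ from Subtype.ext e]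
    exact mul_mem (Subgroup.mem_sup_left (show (⟨u, hPH hu⟩ : ↥(P ⊔ Subgroup.centralizer (P : Set G))) ∈ (P.subgroupOf (P ⊔ Subgroup.centralizer (P : Set G))) from hu))
      (Subgroup.mem_sup_right hc')
  obtain ⟨θ, hθ, -, -, ξ, -, hreg, hbij⟩ := product_block (P := P.subgroupOf (P ⊔ Subgroup.centralizer (P : Set G))) hM
    (hPp.comap_of_injective _ Subtype.val_injective) htop hb hbP
  have hdegφ : ∀ φ ∈ b, (charDegree (φ : ↥(P ⊔ Subgroup.centralizer (P : Set G)) → ℂ)).factorization p =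
      (charDegree (ξ φ : ↥(P.subgroupOf (P ⊔ Subgroup.centralizer (P : Set G))) → ℂ)).factorization p + (charDegree (θ : ↥(P ⊔ Subgroup.centralizer (P : Set G)) → ℂ)).factorization p := by
    intro φ hφ
    have h1 := hreg φ hφ 1 (by simpa using hp.ne_one)
    rw [irr_one_eq_charDegree, irr_one_eq_charDegree, irr_one_eq_charDegree, ← Nat.cast_mul,
      Nat.cast_inj] at h1
    rw [h1, Nat.factorization_mul (Cfsg.Agent.Blocks.charDegree_pos _).ne'
      (Cfsg.Agent.Blocks.charDegree_pos _).ne', Finsupp.add_apply]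
  have hdH : blockDefect p b = blockDefect p B := by
    have h1 := card_defectGroup hM hb hbP
    have h2 := card_defectGroup hM hB hP
    rw [Nat.card_congr (Subgroup.subgroupOfEquivOfLe hPH).toEquiv, h2] at h1
    exact (Nat.pow_right_injective hp.two_le h1).symm
  have hξtriv : ∃ φ ∈ b, (charDegree (ξ φ : ↥(P.subgroupOf (P ⊔ Subgroup.centralizer (P : Set G))) → ℂ)).factorization p = 0 := by
    obtain ⟨φ, hφ, e⟩ := hbij.surjOn (Set.mem_univ (principal (P.subgroupOf (P ⊔ Subgroup.centralizer (P : Set G)))))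
    exact ⟨φ, hφ, by rw [e]; simp [charDegree, principal]⟩
  have hθdeg : (charDegree (θ : ↥(P ⊔ Subgroup.centralizer (P : Set G)) → ℂ)).factorization p + blockDefect p b =
      (Nat.card ↥(P ⊔ Subgroup.centralizer (P : Set G))).factorization p := by
    obtain ⟨φ, hφ, e⟩ := exists_heightZero hM hb
    have h1 := (blockHeight_eq_zero_iff hM hb hφ).1 e
    obtain ⟨φ', hφ', e'⟩ := hξtriv
    have h2 := degExp_ge hM hb hφ'
    have h3 := blockDefect_le (p := p) b
    rw [hdegφ φ hφ] at h1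
    rw [hdegφ φ' hφ', e'] at h2
    omega
  have hP'iso : Nonempty ((P.subgroupOf (P ⊔ Subgroup.centralizer (P : Set G))) ≃* P) := ⟨Subgroup.subgroupOfEquivOfLe hPH⟩
  obtain ⟨eP⟩ := hP'iso
  have hpull : ∀ ζ : IrrCharacter ↥(P.subgroupOf (P ⊔ Subgroup.centralizer (P : Set G))), ∃ ζ' : IrrCharacter P,
      charDegree (ζ' : P → ℂ) = charDegree (ζ : (P.subgroupOf (P ⊔ Subgroup.centralizer (P : Set G))) → ℂ) := fun ζ =>
    ⟨⟨_, IsIrrCharacter.comp ζ.2 eP.symm.toMonoidHom eP.symm.surjective⟩, by simp [charDegree]⟩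
  have hpush : ∀ ζ : IrrCharacter P, ∃ ζ' : IrrCharacter ↥(P.subgroupOf (P ⊔ Subgroup.centralizer (P : Set G))),
      charDegree (ζ' : (P.subgroupOf (P ⊔ Subgroup.centralizer (P : Set G))) → ℂ) = charDegree (ζ : P → ℂ) := fun ζ =>
    ⟨⟨_, IsIrrCharacter.comp ζ.2 eP.toMonoidHom eP.surjective⟩, by simp [charDegree]⟩
  -- characters over `φ`
  have hover : ∀ χ ∈ B, ∀ φ ∈ b, classInner (fun h : ↥(P ⊔ Subgroup.centralizer (P : Set G)) => (χ : G → ℂ) h) (φ : ↥(P ⊔ Subgroup.centralizer (P : Set G)) → ℂ) ≠ 0 →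
      (charDegree (χ : G → ℂ)).factorization p + blockDefect p B =
        (Nat.card G).factorization p + (charDegree (ξ φ : ↥(P.subgroupOf (P ⊔ Subgroup.centralizer (P : Set G))) → ℂ)).factorization p := by
    intro χ hχ φ hφ hc
    obtain ⟨e, he, hedvd⟩ := exists_ratio_dvd_index (P ⊔ Subgroup.centralizer (P : Set G)) χ.2 φ.2 hc
    obtain ⟨m, hm⟩ := IsCharacter.exists_classInner_nat
      (IsCharacter.restrict (irr_isCharacter χ) (P ⊔ Subgroup.centralizer (P : Set G))) (irr_isCharacter φ)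
    have hcl := clifford_degree (P ⊔ Subgroup.centralizer (P : Set G)) χ.2 φ.2 hc
    rw [hm, irr_one_eq_charDegree, irr_one_eq_charDegree] at hcl
    rw [irr_one_eq_charDegree, irr_one_eq_charDegree, ← Nat.cast_mul, Nat.cast_inj] at he
    have hcl' : charDegree (χ : G → ℂ) =
        m * (inertia (P ⊔ Subgroup.centralizer (P : Set G)) (φ : ↥(P ⊔ Subgroup.centralizer (P : Set G)) → ℂ)).index * charDegree (φ : ↥(P ⊔ Subgroup.centralizer (P : Set G)) → ℂ) := by exact_mod_cast hcl
    have heq : e = m * (inertia (P ⊔ Subgroup.centralizer (P : Set G)) (φ : ↥(P ⊔ Subgroup.centralizer (P : Set G)) → ℂ)).index :=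
      Nat.eq_of_mul_eq_mul_right (Cfsg.Agent.Blocks.charDegree_pos φ) (he.symm.trans hcl')
    have he0 : e ≠ 0 := fun h0 => Subgroup.index_ne_zero_of_finite (H := (P ⊔ Subgroup.centralizer (P : Set G)))
      (Nat.eq_zero_of_zero_dvd (h0 ▸ hedvd))
    set z := zB M (P ⊔ Subgroup.centralizer (P : Set G)) b
    have hzC : IsBlk (Subgroup.centralizer (P : Set G)) z := isBlk_centralizer hM hPp (isBlk_zB _ hb)
    have hndvd : ¬ p ∣ (P ⊔ Subgroup.centralizer (P : Set G)).relIndex (stabP (P, z)) :=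
      (defect_iff_not_dvd hM hPp hzC (isBlk_zB _ hb)
        ((isDefectGroup_subgroupOf_iff hb hPH).1 hbP) (isPairOf_of_induced hM hPp hind)).1
        ((isDefectGroup_iff hB P).1 hP)
    have hIT : inertia (P ⊔ Subgroup.centralizer (P : Set G)) (φ : ↥(P ⊔ Subgroup.centralizer (P : Set G)) → ℂ) ≤ stabP (P, z) := by
      intro g hg
      have hgH : g ∈ Subgroup.normalizer ((P ⊔ Subgroup.centralizer (P : Set G) : Subgroup G) : Set G) := by
        rw [Subgroup.normalizer_eq_top_iff.2 inferInstance]; trivial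
      refine ⟨by
        show g ∈ Subgroup.normalizer (P : Set G)
        rw [Subgroup.normalizer_eq_top_iff.2 inferInstance]; trivial,
        (stabilizesBlock_iff hb hgH).1 ⟨hgH, fun η hη => ⟨cjIrr (P ⊔ Subgroup.centralizer (P : Set G)) g⁻¹ η, ?_, fun k k' hk => ?_⟩⟩⟩
      · refine isPBlock_mem_of_sameBlock hb hφ ?_
        have h1 := sameBlock_cjIrr (P ⊔ Subgroup.centralizer (P : Set G)) (isPBlock_sameBlock hb hφ hη) g⁻¹
        rwa [show cjIrr (P ⊔ Subgroup.centralizer (P : Set G)) g⁻¹ φ = φ from Subtype.ext (mem_inertia (P ⊔ Subgroup.centralizer (P : Set G)) |>.1 (inv_mem hg))] at h1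
      · rw [cjIrr_apply]
        unfold conjChar
        refine congrArg _ (Subtype.ext ?_)
        show g⁻¹ * (k' : G) * g⁻¹⁻¹ = k
        rw [hk]; group
    have hHI : (P ⊔ Subgroup.centralizer (P : Set G)) ≤ inertia (P ⊔ Subgroup.centralizer (P : Set G)) (φ : ↥(P ⊔ Subgroup.centralizer (P : Set G)) → ℂ) :=
      le_inertia (P ⊔ Subgroup.centralizer (P : Set G)) (IsCharacter.isClassFunction (irr_isCharacter φ))
    have hrel : ¬ p ∣ (P ⊔ Subgroup.centralizer (P : Set G)).relIndex (inertia (P ⊔ Subgroup.centralizer (P : Set G)) (φ : ↥(P ⊔ Subgroup.centralizer (P : Set G)) → ℂ)) := fun hd => hndvd (hd.trans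
      (Dvd.intro _ (Subgroup.relIndex_mul_relIndex (P ⊔ Subgroup.centralizer (P : Set G)) _ _ hHI hIT)))
    have hidx : (P ⊔ Subgroup.centralizer (P : Set G)).index.factorization p = (inertia (P ⊔ Subgroup.centralizer (P : Set G)) (φ : ↥(P ⊔ Subgroup.centralizer (P : Set G)) → ℂ)).index.factorization p := by
      rw [← Subgroup.relIndex_mul_index hHI, Nat.factorization_mul
        (fun h0 => hrel (by rw [h0]; exact dvd_zero p)) Subgroup.index_ne_zero_of_finite, Finsupp.add_apply,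
        Nat.factorization_eq_zero_of_not_dvd hrel, zero_add]
    have h1 : (inertia (P ⊔ Subgroup.centralizer (P : Set G)) (φ : ↥(P ⊔ Subgroup.centralizer (P : Set G)) → ℂ)).index.factorization p ≤ e.factorization p :=
      (Nat.factorization_le_iff_dvd Subgroup.index_ne_zero_of_finite he0).2
        (heq ▸ dvd_mul_left _ m) p
    have h2 : e.factorization p ≤ (P ⊔ Subgroup.centralizer (P : Set G)).index.factorization p :=
      (Nat.factorization_le_iff_dvd he0 Subgroup.index_ne_zero_of_finite).2 hedvd p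
    have hG : (Nat.card G).factorization p =
        (Nat.card ↥(P ⊔ Subgroup.centralizer (P : Set G))).factorization p + (P ⊔ Subgroup.centralizer (P : Set G)).index.factorization p := by
      rw [← (P ⊔ Subgroup.centralizer (P : Set G)).card_mul_index, Nat.factorization_mul Nat.card_pos.ne'
        Subgroup.index_ne_zero_of_finite, Finsupp.add_apply]
    rw [he, Nat.factorization_mul he0 (Cfsg.Agent.Blocks.charDegree_pos φ).ne', Finsupp.add_apply,
      hdegφ φ hφ, hG]
    omega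
  refine ⟨fun χ hχ => ?_, fun ζ => ?_⟩
  · obtain ⟨ψ, hψ⟩ := exists_restrict_constituent χ.2 (P ⊔ Subgroup.centralizer (P : Set G))
    obtain ⟨g, φ, hφ, hg⟩ := constituents_conjugate_blocks (P ⊔ Subgroup.centralizer (P : Set G)) hB hb hχ₁ hφ₁ hc₁ hχ hψ
    obtain ⟨ζ, hζ⟩ := hpull (ξ φ)
    refine ⟨ζ, ?_⟩
    rw [hζ]
    refine hover χ hχ φ hφ ?_
    rw [hg] at hψ
    rwa [classInner_restrict_conjChar (P ⊔ Subgroup.centralizer (P : Set G)) (IsCharacter.isClassFunction (irr_isCharacter χ))] at hψ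
  · obtain ⟨ζ', hζ'⟩ := hpush ζ
    obtain ⟨φ, hφ, e⟩ := hbij.surjOn (Set.mem_univ ζ')
    obtain ⟨χ, hχ, hc⟩ := exists_over_of_covers (P ⊔ Subgroup.centralizer (P : Set G)) hB hb hχ₁ hφ₁ hc₁ hφ
    exact ⟨χ, hχ, by rw [← hζ', ← e]; exact hover χ hχ φ hφ hc⟩

theorem reynolds (hM : IsPModular p M) {B : Set (IrrCharacter G)}
    (hB : IsPBlock M B) {P : Subgroup G} [P.Normal] (hP : IsDefectGroup p M B P) :
    (∀ a ∈ P, ∀ c ∈ P, a * c = c * a) ↔ ∀ χ ∈ B, blockHeight p B (χ : G → ℂ) = 0 := by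
  haveI := Fact.mk hM.1
  obtain ⟨h1, h2⟩ := degExp_normal_defect hM hB hP
  constructor
  · intro hcomm χ hχ
    obtain ⟨ξ, hξ⟩ := h1 χ hχ
    rw [charDegree_eq_one_of_comm (fun a b : P => Subtype.ext (hcomm a a.2 b b.2)) ξ] at hξ
    rw [blockHeight_eq_zero_iff hM hB hχ]
    simp only [Nat.factorization_one, Finsupp.zero_apply] at hξ
    have := blockDefect_le (p := p) B
    omega
  · intro hzero a ha c hc
    refine congrArg Subtype.val (commute_of_all_linear (fun ξ : IrrCharacter P => ?_)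
      (⟨a, ha⟩ : P) ⟨c, hc⟩)
    obtain ⟨χ, hχ, e⟩ := h2 ξ
    have h0 := (blockHeight_eq_zero_iff hM hB hχ).1 (hzero χ hχ)
    have h3 : (charDegree (ξ : P → ℂ)).factorization p = 0 := by
      have := blockDefect_le (p := p) B
      omega
    obtain ⟨k, hk⟩ := IsPGroup.iff_card.1 (isPGroup_defectGroup hP)
    have hdvd := Cfsg.Agent.CharX.irr_deg_dvd_card ξ
    rw [hk] at hdvd
    obtain ⟨i, -, hi⟩ := (Nat.dvd_prime_pow hM.1).1 hdvd
    rw [hi, hM.1.factorization_pow, Finsupp.single_eq_same] at h3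
    rw [irr_one_eq_charDegree, hi, h3, pow_zero, Nat.cast_one]

end Cfsg.Agent.Blocks
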