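/-
Blichfeldt: an abelian Hall subgroup for the primes larger than the degree plus one.
-/
import Cfsg.Agent.Lib.Char.Clifford
import Cfsg.Agent.Lib.Char.Galois
import Cfsg.Agent.Lib.Char.Orbit
import Cfsg.Agent.Lib.Char.Integral
import Cfsg.Agent.Lib.Char.DegreeCenter
import Cfsg.Agent.Lib.Blocks.Degree
import Mathlib.LinearAlgebra.Determinant

set_option linter.unusedSectionVars false
set_option linter.style.haveILetI false

namespace Cfsg.Agent.BlichHall

open Cfsg Cfsg.Agent.Char Cfsg.Agent.Blocks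

open scoped ComplexConjugate Pointwise

universe u

/-- An abelian subgroup which is a Hall subgroup for the primes larger than `B`. -/
def IsGood {G : Type u} [Group G] (B : ℕ) (A : Subgroup G) : Prop :=
  (∀ x ∈ A, ∀ y ∈ A, x * y = y * x) ∧ (∀ q : ℕ, q.Prime → q ∣ Nat.card A → B < q) ∧
    ∀ q : ℕ, q.Prime → q ∣ A.index → q ≤ B

/-- Such a subgroup exists. -/
def Good (G : Type u) [Group G] (B : ℕ) : Prop := ∃ A : Subgroup G, IsGood B A

/-- Descent from a subgroup containing full Sylow subgroups for the large primes. -/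
theorem good_descend {G : Type u} [Group G] [Finite G] {B : ℕ} (X : Subgroup G) (hX : Good X B)
    (h : ∀ q : ℕ, q.Prime → q ∣ X.index → q ≤ B) : Good G B := by
  obtain ⟨A, hA1, hA2, hA3⟩ := hX
  refine ⟨A.map X.subtype, ?_, ?_, ?_⟩
  · rintro _ ⟨a, ha, rfl⟩ _ ⟨b, hb, rfl⟩
    exact congrArg Subtype.val (hA1 a ha b hb)
  · intro q hq hqd
    rw [Subgroup.card_map_of_injective X.subtype_injective] at hqd
    exact hA2 q hq hqd
  · intro q hq hqd
    rw [Subgroup.index_map_of_injective _ X.subtype_injective, Subgroup.range_subtype] at hqd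
    rcases hq.dvd_mul.1 hqd with h1 | h1
    · exact hA3 q hq h1
    · exact h q hq h1

/-- Transport of a good subgroup of a subgroup. -/
theorem good_within {G : Type u} [Group G] [Finite G] {B : ℕ} {X : Subgroup G} (hX : Good X B) :
    ∃ A : Subgroup G, A ≤ X ∧ (∀ x ∈ A, ∀ y ∈ A, x * y = y * x) ∧
      (∀ q : ℕ, q.Prime → q ∣ Nat.card A → B < q) ∧
      ∀ q : ℕ, q.Prime → q ∣ A.relIndex X → q ≤ B := by
  obtain ⟨A, hA1, hA2, hA3⟩ := hX
  refine ⟨A.map X.subtype, Subgroup.map_subtype_le A, ?_, ?_, ?_⟩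
  · rintro _ ⟨a, ha, rfl⟩ _ ⟨b, hb, rfl⟩
    exact congrArg Subtype.val (hA1 a ha b hb)
  · intro q hq hqd
    rw [Subgroup.card_map_of_injective X.subtype_injective] at hqd
    exact hA2 q hq hqd
  · intro q hq hqd
    rw [Subgroup.relIndex, Subgroup.subgroupOf,
      Subgroup.comap_map_eq_self_of_injective X.subtype_injective] at hqd
    exact hA3 q hq hqd

section Big

variable {G : Type u} [Group G] [Fintype G] {χ : G → ℂ}

/-- Subgroups with large prime divisors are abelian. -/
theorem comm_of_big (hχ : IsCharacter G χ) (hfaith : ∀ g, χ g = χ 1 → g = 1) {n : ℕ}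
    (hn : χ 1 = (n : ℂ)) (X : Subgroup G) (hX : ∀ q : ℕ, q.Prime → q ∣ Nat.card X → n < q) :
    ∀ a ∈ X, ∀ b ∈ X, a * b = b * a := by
  classical
  haveI : Fintype X := Fintype.ofFinite X
  intro a ha b hb
  have hres := IsCharacter.restrict hχ X
  set x : X := ⟨a, ha⟩ * ⟨b, hb⟩ * (⟨a, ha⟩)⁻¹ * (⟨b, hb⟩)⁻¹ with hx
  have h1 : χ (x : G) = χ 1 := by
    have hs := IsCharacter.eq_sum hres
    have e1 := congrFun hs x
    have e2 := congrFun hs 1
    rw [← show ((1 : X) : G) = 1 from OneMemClass.coe_one _]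
    rw [e1, e2, Finset.sum_apply, Finset.sum_apply]
    refine Finset.sum_congr rfl fun θ _ => ?_
    simp only [Pi.smul_apply, smul_eq_mul]
    by_cases hθ : classInner (fun h : X => χ h) (θ : X → ℂ) = 0
    · rw [hθ, zero_mul, zero_mul]
    have hle : charDegree (θ : X → ℂ) ≤ n :=
      degree_le_of_constituent hres θ.2 hθ (by rw [OneMemClass.coe_one, hn])
        (irr_one_eq_charDegree θ)
    have hlin : charDegree (θ : X → ℂ) = 1 := by
      by_contra hne
      obtain ⟨q, hq, hqd⟩ := Nat.exists_prime_and_dvd hne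
      have h3 := hX q hq (hqd.trans (charDegree_dvd_card θ))
      have h4 := Nat.le_of_dvd (charDegree_pos θ) hqd
      omega
    obtain ⟨f, hf⟩ := exists_hom_of_degree_one (irr_isCharacter θ)
      (by rw [irr_one_eq_charDegree, hlin, Nat.cast_one])
    have hfx : f x = 1 := by
      simp only [hx, map_mul, map_inv, mul_inv_cancel_comm, mul_inv_cancel]
    rw [hf]
    simp only [hfx, map_one, Units.val_one]
  have h2 := hfaith _ h1
  simp only [hx, Subgroup.coe_mul, Subgroup.coe_inv] at h2
  rwa [mul_inv_eq_one, mul_inv_eq_iff_eq_mul] at h2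

/-- Elements of prime order are not fixed by the Galois group. -/
theorem exists_moved (hχ : IsCharacter G χ) (hfaith : ∀ g, χ g = χ 1 → g = 1) {n : ℕ}
    (hn : χ 1 = (n : ℂ)) {p : ℕ} (hp : p.Prime) (hpn : n + 1 < p) {x : G} (hx : orderOf x = p) :
    ∃ j : ℕ, j.Coprime p ∧ χ (x ^ j) ≠ χ x := by
  classical
  by_contra hcon
  push Not at hcon
  set X := Subgroup.zpowers x
  haveI : Fintype X := Fintype.ofFinite X
  have hcard : Fintype.card X = p := by
    rw [← Nat.card_eq_fintype_card, Nat.card_zpowers, hx]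
  have hX : ∀ y : X, y ≠ 1 → χ (y : G) = χ x := by
    intro y hy
    obtain ⟨j, hj⟩ : (y : G) ∈ Submonoid.powers x :=
      (isOfFinOrder_of_finite x).mem_powers_iff_mem_zpowers.2 y.2
    change x ^ j = (y : G) at hj
    rw [← hj]
    refine hcon j ((hp.coprime_iff_not_dvd.2 fun hd => hy ?_).symm)
    exact Subtype.ext (by rw [← hj, OneMemClass.coe_one]; exact orderOf_dvd_iff_pow_eq_one.1 (hx ▸ hd))
  have hres := IsCharacter.restrict hχ X
  have hsum : ∀ f : X → ℂ, ∑ y : X, χ (y : G) * f y =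
      ((n : ℂ) - χ x) * f 1 + χ x * ∑ y : X, f y := by
    intro f
    rw [← Finset.add_sum_erase _ _ (Finset.mem_univ (1 : X)),
      ← Finset.add_sum_erase _ f (Finset.mem_univ (1 : X)),
      Finset.sum_congr rfl fun y hy => by rw [hX y (Finset.ne_of_mem_erase hy)], ← Finset.mul_sum,
      OneMemClass.coe_one, hn]
    ring
  -- a non-trivial constituent
  obtain ⟨ψ, hψ, hψne⟩ : ∃ ψ : IrrCharacter X, classInner (fun y : X => χ y) (ψ : X → ℂ) ≠ 0 ∧
      ψ ≠ principal X := by
    by_contra hall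
    push Not at hall
    have hx1 : x ≠ 1 := fun h => hp.ne_one (by rw [← hx, h, orderOf_one])
    refine hx1 (hfaith x ?_)
    have hs := IsCharacter.eq_sum hres
    rw [← show ((1 : X) : G) = 1 from OneMemClass.coe_one _]
    refine (congrFun hs ⟨x, Subgroup.mem_zpowers x⟩).trans (Eq.trans ?_ (congrFun hs 1).symm)
    rw [Finset.sum_apply, Finset.sum_apply]
    refine Finset.sum_congr rfl fun ψ _ => ?_
    by_cases h0 : classInner (fun y : X => χ y) (ψ : X → ℂ) = 0
    · simp [h0]
    · rw [hall ψ h0]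
      rfl
  have hψ1 : (ψ : X → ℂ) 1 = 1 := degree_one_of_comm (fun a b => Subtype.ext (by
    obtain ⟨i, hi⟩ := a.2
    obtain ⟨k, hk⟩ := b.2
    simp only [Subgroup.coe_mul, ← hi, ← hk]
    exact ((Commute.refl x).zpow_zpow i k).eq)) ψ.2
  have hψsum : ∑ y : X, conj ((ψ : X → ℂ) y) = 0 := by
    have h := classInner_irr_of_ne (principal X).2 ψ.2 fun e => hψne (Subtype.ext e.symm)
    simp only [classInner, principal, one_mul] at h
    exact (mul_eq_zero.1 h).resolve_left (inv_ne_zero (Nat.cast_ne_zero.2 Nat.card_pos.ne'))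
  obtain ⟨m1, hm1⟩ := IsCharacter.exists_classInner_nat hres (irr_isCharacter ψ)
  obtain ⟨m0, hm0⟩ := IsCharacter.exists_classInner_nat hres (irr_isCharacter (principal X))
  have hm1pos : 0 < m1 := Nat.pos_of_ne_zero fun h => hψ (by rw [hm1, h, Nat.cast_zero])
  have hp0 : (p : ℂ) ≠ 0 := Nat.cast_ne_zero.2 hp.ne_zero
  have e1 : (n : ℂ) - χ x = (p : ℂ) * m1 := by
    rw [← hm1]
    simp only [classInner, hsum, hψsum, hψ1, map_one, mul_one, mul_zero, add_zero]
    rw [Nat.card_eq_fintype_card, hcard, mul_inv_cancel_left₀ hp0]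
  have e0 : (n : ℂ) - χ x + χ x * p = (p : ℂ) * m0 := by
    rw [← hm0]
    have h := hsum fun _ => 1
    simp only [mul_one, Finset.sum_const, Finset.card_univ, nsmul_eq_mul, hcard] at h
    simp only [classInner, principal, map_one, mul_one, h]
    rw [Nat.card_eq_fintype_card, hcard, mul_inv_cancel_left₀ hp0]
  have e2 : (n : ℂ) + (m1 : ℂ) = (p : ℂ) * m1 + m0 := by
    refine mul_left_cancel₀ hp0 ?_
    linear_combination e0 + ((p : ℂ) - 1) * e1
  have e3 : n + m1 = p * m1 + m0 := by exact_mod_cast e2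
  nlinarith

/-- The exponent of a Galois automorphism fixing the roots of unity of order prime to `p`. -/
theorem exists_exponent_local {p : ℕ} (hp : p.Prime) (hdvd : p ∣ Nat.card G) {j : ℕ}
    (hj : j.Coprime p) :
    ∃ k : ℕ, k.Coprime (Nat.card G) ∧ k ≡ j [MOD p] ∧
      ∀ g : G, ¬ p ∣ orderOf g → g ^ k = g := by
  set a := (Nat.card G).factorization p
  set m := ordCompl[p] (Nat.card G)
  have hG : p ^ a * m = Nat.card G := Nat.ordProj_mul_ordCompl_eq_self _ p
  have hpm : Nat.Coprime p m := Nat.coprime_ordCompl hp Nat.card_pos.ne'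
  obtain ⟨k, hk1, hk2⟩ := Nat.chineseRemainder (hpm.pow_left a) j 1
  have ha : a ≠ 0 := (hp.factorization_pos_of_dvd Nat.card_pos.ne' hdvd).ne'
  have hkj : k ≡ j [MOD p] := hk1.of_dvd (dvd_pow_self p ha)
  refine ⟨k, ?_, hkj, fun g hg => ?_⟩
  · rw [← hG]
    refine Nat.Coprime.mul_right (Nat.Coprime.pow_right a ?_) ?_
    · refine (hp.coprime_iff_not_dvd.2 fun hd => hp.coprime_iff_not_dvd.1 hj.symm ?_).symm
      exact (hkj.dvd_iff dvd_rfl).1 hd
    · unfold Nat.Coprime
      rw [hk2.gcd_eq, Nat.gcd_one_left]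
  · have hgm : orderOf g ∣ m := by
      refine Nat.Coprime.dvd_of_dvd_mul_left (k := orderOf g) (m := p ^ a)
        (Nat.Coprime.pow_right a (hp.coprime_iff_not_dvd.2 hg).symm) ?_
      rw [hG]
      exact orderOf_dvd_natCard g
    rw [pow_eq_pow_iff_modEq.2 (hk2.of_dvd hgm), pow_one]

/-- An element whose order is divisible by two given large primes. -/
theorem exists_order_two_primes (hχ : IsIrrCharacter G χ) (hfaith : ∀ g, χ g = χ 1 → g = 1)
    {n : ℕ} (hn : χ 1 = (n : ℂ)) {p q : ℕ} (hp : p.Prime) (hq : q.Prime) (hpn : n + 1 < p)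
    (hqn : n + 1 < q) (hpd : p ∣ Nat.card G) (hqd : q ∣ Nat.card G) :
    ∃ g : G, p ∣ orderOf g ∧ q ∣ orderOf g := by
  classical
  by_contra hcon
  push Not at hcon
  haveI := Fact.mk hp
  haveI := Fact.mk hq
  obtain ⟨x, hx⟩ := exists_prime_orderOf_dvd_card' (G := G) p hpd
  obtain ⟨y, hy⟩ := exists_prime_orderOf_dvd_card' (G := G) q hqd
  obtain ⟨i, hi, hxne⟩ := exists_moved (IsIrrCharacter.isCharacter hχ) hfaith hn hp hpn hx
  obtain ⟨j, hj, hyne⟩ := exists_moved (IsIrrCharacter.isCharacter hχ) hfaith hn hq hqn hy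
  obtain ⟨k, hk, hki, hkfix⟩ := exists_exponent_local (G := G) hp hpd hi
  obtain ⟨l, hl, hlj, hlfix⟩ := exists_exponent_local (G := G) hq hqd hj
  have hχk := CharGalois.IsIrrCharacter.powMap hχ hk
  have hχl := CharGalois.IsIrrCharacter.powMap hχ hl
  have hnek : (fun g => χ (g ^ k)) ≠ χ := fun e => hxne (by
    have h1 : χ (x ^ k) = χ x := congrFun e x
    rwa [pow_eq_pow_iff_modEq.2 (show k ≡ i [MOD orderOf x] by rw [hx]; exact hki)] at h1)
  have hnel : (fun g => χ (g ^ l)) ≠ χ := fun e => hyne (by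
    have h1 : χ (y ^ l) = χ y := congrFun e y
    rwa [pow_eq_pow_iff_modEq.2 (show l ≡ j [MOD orderOf y] by rw [hy]; exact hlj)] at h1)
  have hzero : classInner (fun g => χ g - χ (g ^ k)) (fun g => χ g - χ (g ^ l)) = 0 := by
    simp only [classInner]
    rw [Finset.sum_eq_zero, mul_zero]
    intro g _
    by_cases hg : p ∣ orderOf g
    · rw [hlfix g (hcon g hg), sub_self, map_zero, mul_zero]
    · rw [hkfix g hg, sub_self, zero_mul]
  obtain ⟨c, hc⟩ := IsCharacter.exists_classInner_nat (IsIrrCharacter.isCharacter hχk)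
    (IsIrrCharacter.isCharacter hχl)
  rw [show (fun g => χ g - χ (g ^ k)) = χ - (fun g => χ (g ^ k)) from rfl,
    show (fun g => χ g - χ (g ^ l)) = χ - (fun g => χ (g ^ l)) from rfl, classInner_sub_left,
    classInner_sub_right, classInner_sub_right, classInner_self_irr hχ,
    classInner_irr_of_ne hχ hχl hnel.symm, classInner_irr_of_ne hχk hχ hnek, hc] at hzero
  have h : ((1 + c : ℕ) : ℂ) = 0 := by push_cast; linear_combination hzero
  rw [Nat.cast_eq_zero] at h
  omega

/-- Central elements of prime order give a proper normal subgroup of prime power index. -/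
theorem exists_normal_pow_index (hχ : IsIrrCharacter G χ) (hfaith : ∀ g, χ g = χ 1 → g = 1)
    {n : ℕ} (hn : χ 1 = (n : ℂ)) {p : ℕ} (hp : p.Prime) (hpn : n < p) {z : G}
    (hz : z ∈ Subgroup.center G) (hzp : orderOf z = p) :
    ∃ K : Subgroup G, K.Normal ∧ K ≠ ⊤ ∧ ∀ q : ℕ, q.Prime → q ∣ K.index → q = p := by
  classical
  obtain ⟨d, ρ, hρ, rfl⟩ := hχ
  haveI := hρ
  have hrank : Module.finrank ℂ (Fin d → ℂ) = n := by
    have : (Module.finrank ℂ (Fin d → ℂ) : ℂ) = n := by rw [← hn, Representation.char_one]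
    exact_mod_cast this
  have hnpos : 0 < n := hrank ▸ finrank_pos_of_irreducible ρ
  obtain ⟨c, hc⟩ := schur_scalar ρ (ρ z) fun g x => by
    rw [← Module.End.mul_apply, ← map_mul, ← Module.End.mul_apply, ← map_mul,
      Subgroup.mem_center_iff.mp hz g]
  let D : G →* ℂˣ := MonoidHom.toHomUnits (LinearMap.det.comp ρ)
  have hDz : (D z : ℂ) = c ^ n := by
    show LinearMap.det (ρ z) = c ^ n
    rw [hc, LinearMap.det_smul, hrank, LinearMap.det_id, mul_one]
  set m := ordCompl[p] (Nat.card G)
  let F : G →* ℂˣ := (powMonoidHom m).comp D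
  refine ⟨F.ker, inferInstance, fun htop => ?_, ?_⟩
  · have h1 : F z = 1 := MonoidHom.mem_ker.1 (htop ▸ Subgroup.mem_top z)
    have hc1 : c ^ (n * m) = 1 := by
      rw [pow_mul, ← hDz, ← Units.val_pow_eq_pow_val]
      exact congrArg Units.val h1
    have hzcp : c ^ p = 1 := by
      have h2 : ρ (z ^ p) = (c ^ p) • LinearMap.id := by
        rw [map_pow, hc, smul_pow, ← Module.End.one_eq_id, one_pow]
      rw [show z ^ p = 1 by rw [← hzp]; exact pow_orderOf_eq_one z, map_one] at h2
      have h3 := congrArg (LinearMap.trace ℂ (Fin d → ℂ)) h2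
      rw [map_smul, Module.End.one_eq_id, LinearMap.trace_id, smul_eq_mul, hrank] at h3
      exact mul_right_cancel₀ (b := (n : ℂ)) (Nat.cast_ne_zero.2 hnpos.ne')
        (by rw [one_mul]; exact h3.symm)
    have hcop : Nat.Coprime (n * m) p := Nat.Coprime.mul_left
      (hp.coprime_iff_not_dvd.2 fun hd => absurd (Nat.le_of_dvd hnpos hd) (by omega)).symm
      (Nat.coprime_ordCompl hp Nat.card_pos.ne').symm
    have hc' : c = 1 := by
      have h4 := pow_gcd_eq_one.2 ⟨hc1, hzcp⟩
      rwa [hcop.gcd_eq_one, pow_one] at h4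
    have hz1 : z = 1 := hfaith z (by
      show LinearMap.trace ℂ _ (ρ z) = LinearMap.trace ℂ _ (ρ 1)
      rw [hc, hc', one_smul, map_one ρ, Module.End.one_eq_id])
    exact hp.ne_one (by rw [← hzp, hz1, orderOf_one])
  · intro q hq hqd
    rw [Subgroup.index_ker] at hqd
    haveI := Fact.mk hp
    haveI : Finite F.range := Finite.of_surjective F.rangeRestrict F.rangeRestrict_surjective
    have hpg : IsPGroup p F.range := by
      rintro ⟨_, g, rfl⟩
      refine ⟨(Nat.card G).factorization p, Subtype.ext ?_⟩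
      show ((D g) ^ m) ^ p ^ (Nat.card G).factorization p = 1
      rw [← pow_mul, mul_comm, Nat.ordProj_mul_ordCompl_eq_self, ← map_pow, pow_card_eq_one',
        map_one]
    obtain ⟨e, he⟩ := hpg.exists_card_eq
    rw [he] at hqd
    exact (Nat.prime_dvd_prime_iff_eq hq hp).1 (hq.dvd_of_dvd_pow hqd)

end Big

/-- The theorem. -/
theorem good : ∀ (N : ℕ) (G : Type u) [Group G] [Finite G], Nat.card G = N →
    ∀ (χ : G → ℂ), IsCharacter G χ → (∀ g, χ g = χ 1 → g = 1) → ∀ n : ℕ, χ 1 = (n : ℂ) →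
      ∀ B : ℕ, n + 1 ≤ B → Good G B := by
  intro N
  induction N using Nat.strong_induction_on with
  | _ N ih =>
  intro G _ _ hN χ hχ hfaith n hn B hB
  classical
  haveI : Fintype G := Fintype.ofFinite G
  have hsub : ∀ X : Subgroup G, X ≠ ⊤ → Good X B := fun X hX =>
    ih _ (hN ▸ lt_of_le_of_ne (Subgroup.card_le_card_group X)
        fun e => hX (Subgroup.eq_top_of_card_eq X e)) X rfl (fun x : X => χ x)
      (IsCharacter.restrict hχ X) (fun x hx => Subtype.ext (hfaith x hx)) n
      (by rw [OneMemClass.coe_one]; exact hn) B hB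
  have hbig : ∀ X : Subgroup G, (∀ q : ℕ, q.Prime → q ∣ Nat.card X → B < q) →
      ∀ a ∈ X, ∀ b ∈ X, a * b = b * a := fun X hX =>
    comm_of_big hχ hfaith hn X fun q hq hd => by have := hX q hq hd; omega
  -- a small group
  by_cases hsmall : ∀ q : ℕ, q.Prime → q ∣ Nat.card G → q ≤ B
  · refine ⟨⊥, fun x hx y hy => by simp_all, fun q hq hd => ?_, fun q hq hd => ?_⟩
    · rw [Subgroup.card_bot] at hd
      exact absurd (Nat.dvd_one.1 hd) hq.ne_one
    · rw [Subgroup.index_bot] at hd
      exact hsmall q hq hd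
  push Not at hsmall
  obtain ⟨p₀, hp₀, hp₀d, hp₀B⟩ := hsmall
  -- no proper subgroup contains full Sylow subgroups for all large primes
  by_cases hprop : ∃ X : Subgroup G, X ≠ ⊤ ∧ ∀ q : ℕ, q.Prime → q ∣ X.index → q ≤ B
  · obtain ⟨X, hX, hXi⟩ := hprop
    exact good_descend X (hsub X hX) hXi
  have htopof : ∀ X : Subgroup G, (∀ q : ℕ, q.Prime → q ∣ X.index → q ≤ B) → X = ⊤ := fun X h => by
    by_contra hne
    exact hprop ⟨X, hne, h⟩
  -- reduce to an irreducible character
  by_cases hirr : ∃ ψ : IrrCharacter G, classInner χ (ψ : G → ℂ) ≠ 0 ∧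
      ∀ g, (ψ : G → ℂ) g = (ψ : G → ℂ) 1 → g = 1
  swap
  · push Not at hirr
    have hall : ∀ ψ : IrrCharacter G, classInner χ (ψ : G → ℂ) ≠ 0 → (ψ : G → ℂ) 1 = 1 ∧
        ∀ (g : G) (q : ℕ), q.Prime → orderOf g = q → q ≤ B → (ψ : G → ℂ) g = (ψ : G → ℂ) 1 := by
      intro ψ hψ
      obtain ⟨K, hK, hKmem, -⟩ := IsCharacter.exists_kernel (irr_isCharacter ψ)
      haveI := hK
      obtain ⟨g, hg, hg1⟩ := hirr ψ hψ
      have hlt : Nat.card (G ⧸ K) < N := by
        rw [← hN, ← Subgroup.index_eq_card, ← K.card_mul_index]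
        refine (lt_mul_iff_one_lt_left (Nat.pos_of_ne_zero Subgroup.index_ne_zero_of_finite)).2 ?_
        rw [Subgroup.one_lt_card_iff_ne_bot]
        exact fun h => hg1 (Subgroup.mem_bot.1 (h ▸ (hKmem g).2 hg))
      obtain ⟨ψ', hψ'c, he, hψ'⟩ :=
        IsCharacter.deflate (irr_isCharacter ψ) K fun x hx => (hKmem x).1 hx
      have hle : charDegree (ψ : G → ℂ) ≤ n :=
        degree_le_of_constituent hχ ψ.2 hψ hn (irr_one_eq_charDegree ψ)
      have hd1 : ψ' 1 = (charDegree (ψ : G → ℂ) : ℂ) := by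
        rw [← QuotientGroup.mk_one, he, irr_one_eq_charDegree]
      obtain ⟨Ab, hA1, hA2, hA3⟩ := ih _ hlt (G ⧸ K) rfl ψ' hψ'c (fun x hx => by
          obtain ⟨y, rfl⟩ := QuotientGroup.mk_surjective x
          rw [he, ← QuotientGroup.mk_one, he] at hx
          exact (QuotientGroup.eq_one_iff _).2 ((hKmem y).2 hx))
        (charDegree (ψ : G → ℂ)) hd1 B (by omega)
      have htop : Ab = ⊤ := by
        have h := htopof (Ab.comap (QuotientGroup.mk' K)) (fun q hq hqd => by
          rw [Subgroup.index_comap_of_surjective _ (QuotientGroup.mk'_surjective K)] at hqd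
          exact hA3 q hq hqd)
        rw [← Subgroup.map_comap_eq_self_of_surjective (QuotientGroup.mk'_surjective K) Ab, h,
          Subgroup.map_top_of_surjective _ (QuotientGroup.mk'_surjective K)]
      haveI : Fintype (G ⧸ K) := Fintype.ofFinite _
      refine ⟨?_, fun x q hq hxq hqB => (hKmem x).1 ?_⟩
      · rw [← he 1, QuotientGroup.mk_one]
        exact degree_one_of_comm (fun a b => hA1 a (htop ▸ Subgroup.mem_top a) b
          (htop ▸ Subgroup.mem_top b)) (hψ' ψ.2)
      · have hd : orderOf (x : G ⧸ K) ∣ q := by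
          rw [← hxq]
          exact orderOf_map_dvd (QuotientGroup.mk' K) x
        rcases hq.eq_one_or_self_of_dvd _ hd with h | h
        · exact (QuotientGroup.eq_one_iff x).1 (orderOf_eq_one_iff.1 h)
        · have h2 := hA2 q hq (by
            rw [htop, Subgroup.card_top, ← h]
            exact orderOf_dvd_natCard _)
          omega
    have hconst : ∀ f : G, (∀ ψ : IrrCharacter G, classInner χ (ψ : G → ℂ) ≠ 0 →
        (ψ : G → ℂ) f = (ψ : G → ℂ) 1) → f = 1 := by
      intro f hf
      refine hfaith f ?_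
      have hs := IsCharacter.eq_sum hχ
      rw [congrFun hs f, congrFun hs 1, Finset.sum_apply, Finset.sum_apply]
      refine Finset.sum_congr rfl fun ψ _ => ?_
      simp only [Pi.smul_apply, smul_eq_mul]
      by_cases h0 : classInner χ (ψ : G → ℂ) = 0
      · rw [h0, zero_mul, zero_mul]
      · rw [hf ψ h0]
    refine ⟨⊤, fun a _ b _ => ?_, fun q hq hqd => ?_, fun q hq hqd => ?_⟩
    · have h1 : a * b * a⁻¹ * b⁻¹ = 1 := hconst _ fun ψ hψ => by
        obtain ⟨f, hf⟩ := exists_hom_of_degree_one (irr_isCharacter ψ) (hall ψ hψ).1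
        rw [hf]
        simp [mul_comm]
      rwa [mul_inv_eq_one, mul_inv_eq_iff_eq_mul] at h1
    · by_contra hqB
      haveI := Fact.mk hq
      rw [Subgroup.card_top] at hqd
      obtain ⟨x, hx⟩ := exists_prime_orderOf_dvd_card' q hqd
      have hx1 : x = 1 := hconst x fun ψ hψ => (hall ψ hψ).2 x q hq hx (by omega)
      exact hq.ne_one (by rw [← hx, hx1, orderOf_one])
    · rw [Subgroup.index_top] at hqd
      exact absurd (Nat.dvd_one.1 hqd) hq.ne_one
  obtain ⟨ψ, hψ, hψf⟩ := hirr
  have hle : charDegree (ψ : G → ℂ) ≤ n :=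
    degree_le_of_constituent hχ ψ.2 hψ hn (irr_one_eq_charDegree ψ)
  have hψn := irr_one_eq_charDegree ψ
  set d := charDegree (ψ : G → ℂ)
  have hprime : ∀ {r : ℕ}, r.Prime → ∀ Q : Subgroup G, IsPGroup r Q → ∀ s : ℕ, s.Prime →
      s ∣ Nat.card Q → s = r := by
    intro r hr Q hQ s hs hsd
    haveI := Fact.mk hr
    obtain ⟨k, hk⟩ := hQ.exists_card_eq
    rw [hk] at hsd
    exact (Nat.prime_dvd_prime_iff_eq hs hr).1 (hs.dvd_of_dvd_pow hsd)
  -- centralizers of elements in abelian Sylow subgroups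
  have hfullC : ∀ {r : ℕ}, r.Prime → B < r → ∀ y : G, orderOf y = r →
      ¬ r ∣ (Subgroup.centralizer ({y} : Set G)).index := by
    intro r hr hrB y hy hd
    haveI := Fact.mk hr
    obtain ⟨Q, hQ⟩ := (IsPGroup.of_card (n := 1) (G := Subgroup.zpowers y)
      (by rw [Nat.card_zpowers, hy, pow_one])).exists_le_sylow
    refine Q.not_dvd_index (hd.trans (Subgroup.index_dvd_of_le fun w hw => ?_))
    rw [Subgroup.mem_centralizer_singleton_iff]
    exact hbig _ (fun s hs hsd => hprime hr _ Q.2 s hs hsd ▸ hrB) w hw y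
      (hQ (Subgroup.mem_zpowers y))
  by_cases hcen : ∃ p : ℕ, p.Prime ∧ B < p ∧ ∃ z ∈ Subgroup.center G, orderOf z = p
  · -- a central element of large prime order
    obtain ⟨p, hp, hpB, z, hz, hzp⟩ := hcen
    haveI := Fact.mk hp
    obtain ⟨K, hK, hKtop, hKp⟩ := exists_normal_pow_index ψ.2 hψf hψn hp (by omega) hz hzp
    haveI := hK
    obtain ⟨A, hAK, hAc, hAB, hArel⟩ := good_within (hsub K hKtop)
    have hAidx : ∀ r : ℕ, r.Prime → r ≠ p → r ∣ A.index → r ≤ B := by
      intro r hr hrp hd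
      rw [← Subgroup.relIndex_mul_index hAK] at hd
      exact hArel r hr ((hr.dvd_mul.1 hd).resolve_right fun h => hrp (hKp r hr h))
    obtain ⟨P⟩ : Nonempty (Sylow p G) := inferInstance
    by_cases hex : ∃ r : ℕ, r.Prime ∧ B < r ∧ r ≠ p ∧
        ∃ y ∈ A, y ∉ Subgroup.center G ∧ IsPGroup r (Subgroup.zpowers y)
    · exfalso
      obtain ⟨r, hr, hrB, hrp, y, hyA, hyZ, hY⟩ := hex
      haveI := Fact.mk hr
      obtain ⟨R, hR⟩ := ((hY.comap_of_injective A.subtype A.subtype_injective)).exists_le_sylow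
      set Q := (R : Subgroup A).map A.subtype with hQdef
      have hQr : IsPGroup r Q := R.2.map _
      have hQA : Q ≤ A := Subgroup.map_subtype_le _
      have hQK : Q ≤ K := hQA.trans hAK
      have hyQ : y ∈ Q :=
        ⟨⟨y, hyA⟩, hR (Subgroup.mem_subgroupOf.2 (Subgroup.mem_zpowers y)), rfl⟩
      have hQfull : ¬ r ∣ Q.index := by
        rw [hQdef, Subgroup.index_map_of_injective _ A.subtype_injective, Subgroup.range_subtype]
        intro hd
        rcases hr.dvd_mul.1 hd with h | h
        · exact R.not_dvd_index h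
        · exact absurd (hAidx r hr hrp h) (by omega)
      let Qs : Sylow r G := hQr.toSylow hQfull
      set Nq := Subgroup.normalizer (Q : Set G) with hNq
      have hfr : Nq ⊔ K = ⊤ := Sylow.normalizer_sup_eq_top' (N := K) Qs hQK
      have hAN : A ≤ Nq := fun a ha => Subgroup.centralizer_le_normalizer _
        (Subgroup.mem_centralizer_iff.2 fun w hw => hAc w (hQA hw) a ha)
      have hNidx : Nq.index = Nq.relIndex K := by
        have e1 := Subgroup.relIndex_mul_index (inf_le_left : Nq ⊓ K ≤ Nq)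
        have e2 := Subgroup.relIndex_mul_index (inf_le_right : Nq ⊓ K ≤ K)
        rw [Subgroup.inf_relIndex_left] at e1
        rw [Subgroup.inf_relIndex_right] at e2
        have e3 : K.relIndex Nq = K.index := by
          rw [← Subgroup.relIndex_sup_right (H := Nq) (K := K), hfr, Subgroup.relIndex_top_right]
        rw [e3, ← e2, mul_comm] at e1
        exact Nat.eq_of_mul_eq_mul_right (Nat.pos_of_ne_zero Subgroup.index_ne_zero_of_finite) e1
      have hNtop : Nq = ⊤ := htopof Nq fun q hq hqd => by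
        rw [hNidx] at hqd
        exact hArel q hq (hqd.trans (Subgroup.relIndex_dvd_of_le_left K hAN))
      haveI hQn : Q.Normal := Subgroup.normalizer_eq_top_iff.1 hNtop
      have hPQ : ∀ w ∈ (P : Subgroup G), w * y = y * w := fun w hw =>
        hbig ((P : Subgroup G) ⊔ Q) (fun s hs hsd => by
          have h1 : Nat.card ((P : Subgroup G) ⊔ Q : Subgroup G) ∣
              Nat.card Q * Nat.card (P : Subgroup G) := by
            rw [← Subgroup.card_mul_index (Q.subgroupOf ((P : Subgroup G) ⊔ Q)),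
              Nat.card_congr (Subgroup.subgroupOfEquivOfLe
                (le_sup_right : Q ≤ (P : Subgroup G) ⊔ Q)).toEquiv]
            refine Nat.mul_dvd_mul_left _ ?_
            show Q.relIndex ((P : Subgroup G) ⊔ Q) ∣ _
            rw [Subgroup.relIndex_sup_right]
            exact Subgroup.relIndex_dvd_card _ _
          rcases hs.dvd_mul.1 (hsd.trans h1) with h | h
          · rw [hprime hr _ hQr s hs h]; exact hrB
          · rw [hprime hp _ P.2 s hs h]; exact hpB)
          w (Subgroup.mem_sup_left hw) y (Subgroup.mem_sup_right hyQ)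
      have hCtop : Subgroup.centralizer ({y} : Set G) = ⊤ := htopof _ fun q hq hqd => by
        by_contra hqB
        by_cases hqp : q = p
        · subst hqp
          exact P.not_dvd_index (hqd.trans (Subgroup.index_dvd_of_le fun w hw =>
            Subgroup.mem_centralizer_singleton_iff.2 (hPQ w hw)))
        · exact hqB (hAidx q hq hqp (hqd.trans (Subgroup.index_dvd_of_le fun a ha =>
            Subgroup.mem_centralizer_singleton_iff.2 (hAc a ha y hyA))))
      exact hyZ (Subgroup.mem_center_iff.2 fun g =>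
        Subgroup.mem_centralizer_singleton_iff.1 (hCtop ▸ Subgroup.mem_top g))
    · -- all elements of order prime to `p` in `A` are central
      push Not at hex
      set W := A ⊓ Subgroup.center G with hW
      haveI hWn : W.Normal := ⟨fun w hw g => by
        rw [Subgroup.mem_center_iff.1 (Subgroup.mem_inf.1 hw).2 g, mul_inv_cancel_right]; exact hw⟩
      have hcard : ∀ q : ℕ, q.Prime → q ∣ Nat.card ((P : Subgroup G) ⊔ W : Subgroup G) → B < q := by
        intro q hq hqd
        rw [← Subgroup.card_mul_index (W.subgroupOf ((P : Subgroup G) ⊔ W)),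
          Nat.card_congr (Subgroup.subgroupOfEquivOfLe
            (le_sup_right : W ≤ (P : Subgroup G) ⊔ W)).toEquiv] at hqd
        rcases hq.dvd_mul.1 hqd with h | h
        · exact hAB q hq (h.trans (Subgroup.card_dvd_of_le inf_le_left))
        · have h' : q ∣ W.relIndex ((P : Subgroup G) ⊔ W) := h
          rw [Subgroup.relIndex_sup_right] at h'
          rw [hprime hp _ P.2 q hq (h'.trans (Subgroup.relIndex_dvd_card _ _))]
          exact hpB
      refine ⟨_, hbig _ hcard, hcard, fun q hq hqd => ?_⟩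
      by_contra hqB
      by_cases hqp : q = p
      · subst hqp
        exact P.not_dvd_index (hqd.trans (Subgroup.index_dvd_of_le le_sup_left))
      haveI := Fact.mk hq
      obtain ⟨R⟩ : Nonempty (Sylow q A) := inferInstance
      have hRW : (R : Subgroup A).map A.subtype ≤ W := by
        rintro _ ⟨w, hw, rfl⟩
        refine Subgroup.mem_inf.2 ⟨w.2, ?_⟩
        by_contra hwZ
        refine hex q hq (by omega) hqp _ w.2 hwZ ?_
        exact ((R.2.to_le (Subgroup.zpowers_le.2 hw)).map A.subtype).to_le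
          (by rw [MonoidHom.map_zpowers]; exact le_rfl)
      have h1 := (hqd.trans (Subgroup.index_dvd_of_le (le_sup_right : W ≤ _))).trans
        (Subgroup.index_dvd_of_le hRW)
      rw [Subgroup.index_map_of_injective _ A.subtype_injective, Subgroup.range_subtype] at h1
      rcases hq.dvd_mul.1 h1 with h | h
      · exact R.not_dvd_index h
      · exact hqB (hAidx q hq hqp h)
  · -- no central element of large prime order
    exfalso
    push Not at hcen
    haveI := Fact.mk hp₀
    obtain ⟨x, hx⟩ := exists_prime_orderOf_dvd_card' (G := G) p₀ hp₀d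
    have hxZ : x ∉ Subgroup.center G := fun h => hcen p₀ hp₀ hp₀B x h hx
    have hCne : ∀ w : G, w ∉ Subgroup.center G → Subgroup.centralizer ({w} : Set G) ≠ ⊤ :=
      fun w hw h => hw (Subgroup.mem_center_iff.2 fun g =>
        Subgroup.mem_centralizer_singleton_iff.1 (h ▸ Subgroup.mem_top g))
    refine hCne x hxZ (htopof _ fun r hr hrd => ?_)
    by_contra hrB
    by_cases hrp : r = p₀
    · exact hfullC hp₀ hp₀B x hx (hrp ▸ hrd)
    haveI := Fact.mk hr
    obtain ⟨g, hg1, hg2⟩ := exists_order_two_primes ψ.2 hψf hψn hp₀ hr (by omega) (by omega)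
      hp₀d (hrd.trans (Subgroup.index_dvd_card _))
    have hgo : orderOf g ≠ 0 := (orderOf_pos g).ne'
    set x' := g ^ (orderOf g / p₀) with hx'def
    set y' := g ^ (orderOf g / r) with hy'def
    have hx' : orderOf x' = p₀ := orderOf_pow_orderOf_div hgo hg1
    have hy' : orderOf y' = r := orderOf_pow_orderOf_div hgo hg2
    have hC' : Subgroup.centralizer ({x'} : Set G) ≠ ⊤ :=
      hCne x' fun h => hcen p₀ hp₀ hp₀B x' h hx'
    obtain ⟨A0, hA0C, hA0c, hA0B, hA0rel⟩ := good_within (hsub _ hC')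
    have hp0A0 : ¬ p₀ ∣ A0.index := fun hd => by
      rw [← Subgroup.relIndex_mul_index hA0C] at hd
      rcases hp₀.dvd_mul.1 hd with h | h
      · exact absurd (hA0rel p₀ hp₀ h) (by omega)
      · exact hfullC hp₀ hp₀B x' hx' h
    have hrA0 : r ∣ Nat.card A0 := by
      have h1 : r ∣ Nat.card (Subgroup.centralizer ({x'} : Set G)) := by
        rw [← hy']
        refine Subgroup.orderOf_dvd_natCard (Subgroup.centralizer ({x'} : Set G)) (by
          rw [Subgroup.mem_centralizer_singleton_iff]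
          exact (Commute.pow_pow (Commute.refl g) _ _).eq)
      rw [← Subgroup.card_mul_index (A0.subgroupOf (Subgroup.centralizer ({x'} : Set G))),
        Nat.card_congr (Subgroup.subgroupOfEquivOfLe hA0C).toEquiv] at h1
      exact (hr.dvd_mul.1 h1).resolve_right fun h => hrB (hA0rel r hr h)
    obtain ⟨⟨y, hyA0⟩, hy⟩ := exists_prime_orderOf_dvd_card' (G := A0) r hrA0
    rw [← Subgroup.orderOf_coe] at hy
    obtain ⟨A1, hA1C, hA1c, hA1B, hA1rel⟩ :=
      good_within (hsub _ (hCne y fun h => hcen r hr (by omega) y h hy))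
    have hA1full : ∀ s : ℕ, s.Prime → B < s →
        ¬ s ∣ (Subgroup.centralizer ({y} : Set G)).index → ¬ s ∣ A1.index := fun s hs hsB h hd => by
      rw [← Subgroup.relIndex_mul_index hA1C] at hd
      exact absurd (hA1rel s hs ((hs.dvd_mul.1 hd).resolve_right h)) (by omega)
    have hpA1 : ¬ p₀ ∣ A1.index := hA1full p₀ hp₀ hp₀B fun hd =>
      hp0A0 (hd.trans (Subgroup.index_dvd_of_le fun a ha =>
        Subgroup.mem_centralizer_singleton_iff.2 (hA0c a ha y hyA0)))
    have hrA1 : ¬ r ∣ A1.index := hA1full r hr (by omega) (hfullC hr (by omega) y hy)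
    obtain ⟨R⟩ : Nonempty (Sylow p₀ A1) := inferInstance
    have hRfull : ¬ p₀ ∣ ((R : Subgroup A1).map A1.subtype).index := by
      rw [Subgroup.index_map_of_injective _ A1.subtype_injective, Subgroup.range_subtype]
      intro hd
      rcases hp₀.dvd_mul.1 hd with h | h
      · exact R.not_dvd_index h
      · exact hpA1 h
    let R' : Sylow p₀ G := (R.2.map A1.subtype).toSylow hRfull
    obtain ⟨S, hS⟩ := (IsPGroup.of_card (n := 1) (G := Subgroup.zpowers x)
      (by rw [Nat.card_zpowers, hx, pow_one])).exists_le_sylow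
    obtain ⟨t, ht⟩ := MulAction.exists_smul_eq G R' S
    have hxS : t⁻¹ * x * t ∈ A1 := by
      have h1 : x ∈ (S : Subgroup G) := hS (Subgroup.mem_zpowers x)
      rw [← ht, Sylow.smul_def] at h1
      obtain ⟨w, hw, hwx⟩ := h1
      obtain ⟨w', -, rfl⟩ := hw
      have hwx' : t * (w' : G) * t⁻¹ = x := hwx
      rw [← hwx', show t⁻¹ * (t * (w' : G) * t⁻¹) * t = (w' : G) by group]
      exact w'.2
    refine hrA1 (dvd_trans ?_ (Subgroup.index_dvd_of_le (K := (Subgroup.centralizer ({x} : Set G)).comap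
      (MulAut.conj t).toMonoidHom) fun a ha => ?_))
    · rw [Subgroup.index_comap_of_surjective _ (MulAut.conj t).surjective]
      exact hrd
    · rw [Subgroup.mem_comap, Subgroup.mem_centralizer_singleton_iff]
      show t * a * t⁻¹ * x = x * (t * a * t⁻¹)
      have h2 := hA1c a ha _ hxS
      calc t * a * t⁻¹ * x = t * (a * (t⁻¹ * x * t)) * t⁻¹ := by group
        _ = t * ((t⁻¹ * x * t) * a) * t⁻¹ := by rw [h2]
        _ = _ := by group

end Cfsg.Agent.BlichHall
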