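import Cfsg.Agent.Lib.Blocks.Section
import Cfsg.Agent.Lib.Char.Degree
import Cfsg.Agent.Lib.Char.Induction

/-!
# Congruences for block parts at `p`-elements
-/

set_option linter.unusedSectionVars false
set_option linter.style.haveILetI false

namespace Cfsg.Agent.Blocks

open Cfsg Cfsg.Agent.Char Cfsg.Agent.CharX
open scoped ComplexConjugate

universe u

variable {G : Type u} [Group G] [Fintype G] {p : ℕ} {M : Ideal AlgInt} [M.IsPrime]

/-- The value of a character at a `p`-element is congruent to its degree. -/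
theorem char_sub_one_mem (hM : IsPModular p M) {χ : G → ℂ} (hχ : IsCharacter G χ) {x : G}
    (hx : ∃ k, orderOf x = p ^ k) : MemLocalIdeal M (χ x - χ 1) := by
  classical
  obtain ⟨k, hk⟩ := hx
  obtain ⟨n, ρ, rfl⟩ := hχ
  obtain ⟨m, hm, hroot, hsum, -⟩ := exists_eigenvalues ρ x
  have h1 : ρ.character x = (m.map fun z => z).sum := by simpa using hsum 1
  have h0 : ρ.character 1 = (m.map fun _ => (1 : ℂ)).sum := by simpa using hsum 0
  rw [h1, h0, ← Multiset.sum_map_sub]
  refine Multiset.sum_induction (MemLocalIdeal M) _ (fun _ _ => MemLocalIdeal.add) memLocalIdeal_zero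
    fun w hw => ?_
  obtain ⟨z, hz, rfl⟩ := Multiset.mem_map.1 hw
  exact memLocalIdeal_sub_one_of_pow_eq_one hM (k := k) (hk ▸ hroot z hz)

/-- A combination of characters vanishing at a `p`-element has degree divisible by `p`. -/
theorem dvd_degree_sum_of_eq_zero (hM : IsPModular p M) (s : Finset (IrrCharacter G))
    (a : IrrCharacter G → ℕ) {x : G} (hx : ∃ k, orderOf x = p ^ k)
    (h : ∑ χ ∈ s, (a χ : ℂ) * (χ : G → ℂ) x = 0) :
    p ∣ ∑ χ ∈ s, a χ * charDegree (χ : G → ℂ) := by
  rw [← natCast_memLocalIdeal_iff hM, Nat.cast_sum,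
    show ∑ χ ∈ s, ((a χ * charDegree (χ : G → ℂ) : ℕ) : ℂ) =
      - ∑ χ ∈ s, (a χ : ℂ) * ((χ : G → ℂ) x - (χ : G → ℂ) 1) by
      simp only [mul_sub, Finset.sum_sub_distrib, h, zero_sub, neg_neg]
      exact Finset.sum_congr rfl fun χ _ => by rw [Nat.cast_mul, irr_deg χ]]
  refine MemLocalIdeal.neg (memLocalIdeal_sum _ _ fun χ _ => ?_)
  exact MemLocalIdeal.mul_left (natCast_mem (locRing M) _)
    (char_sub_one_mem hM (irr_isCharacter χ) hx)

theorem mem_of_isPPart_mem {u z : G} (N : Subgroup G) (hz : IsPPart p u z) (hp : p.Prime)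
    (hu : u ∈ N) : z ∈ N := by
  obtain ⟨y, rfl, hc, ⟨k, hk⟩, hy⟩ := hz
  have hcop : (orderOf y).Coprime (orderOf z) :=
    hk ▸ ((hp.coprime_iff_not_dvd.2 hy).symm.pow_right k)
  obtain ⟨j, hj⟩ := exists_pow_eq_self_of_coprime hcop
  rw [← hj]
  refine N.pow_mem ?_ j
  have := N.pow_mem hu (orderOf y)
  rwa [hc.mul_pow, pow_orderOf_eq_one, mul_one] at this

/-- The block part of an induced character vanishes at `p`-elements outside the normal
subgroup. -/
theorem blockPart_indFun_eq_zero (hM : IsPModular p M) {B : Set (IrrCharacter G)}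
    (hB : IsPBlock M B) (N : Subgroup G) [N.Normal] (θ : N → ℂ) {x : G}
    (hx : ∃ k, orderOf x = p ^ k) (hxN : x ∉ N) : blockPart B (indFun N θ) x = 0 := by
  refine blockPart_eq_zero hM hB _ (x := x) (a := x)
    ⟨1, mul_one x, Commute.one_right x, hx, by simpa using hM.1.ne_one⟩ (IsConj.refl x) ?_
  intro u z huz hxz
  refine indFun_eq_zero_of_not_mem N θ fun hu => hxN ?_
  obtain ⟨c, hc⟩ := isConj_iff.1 hxz.symm
  rw [← hc]
  exact Subgroup.Normal.conj_mem inferInstance z (mem_of_isPPart_mem N huz hM.1 hu) c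

/-- For a normal subgroup missing some `p`-element, the degrees over `θ` in a block, weighted by
the multiplicities, sum to a multiple of `p`. -/
theorem dvd_sum_over (hM : IsPModular p M) {B : Set (IrrCharacter G)} [DecidablePred (· ∈ B)]
    (hB : IsPBlock M B) (N : Subgroup G) [N.Normal] [Fintype N] {θ : N → ℂ}
    (hθ : IsIrrCharacter N θ) (m : IrrCharacter G → ℕ)
    (hm : ∀ χ : IrrCharacter G, classInner (fun n : N => (χ : G → ℂ) n) θ = m χ) {x : G}
    (hx : ∃ k, orderOf x = p ^ k) (hxN : x ∉ N) :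
    p ∣ ∑ χ ∈ Finset.univ.filter (· ∈ B), m χ * charDegree (χ : G → ℂ) := by
  refine dvd_degree_sum_of_eq_zero hM _ m hx ?_
  have h := blockPart_indFun_eq_zero hM hB N θ hx hxN
  rw [blockPart_eq_sum] at h
  rw [← h]
  refine Finset.sum_congr rfl fun χ _ => ?_
  rw [classInner_indFun_left N θ (IsCharacter.isClassFunction (irr_isCharacter χ)),
    classInner_comm_of_isCharacter (IsIrrCharacter.isCharacter hθ)
      (IsCharacter.restrict (irr_isCharacter χ) N), hm]

end Cfsg.Agent.Blocks
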