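/-
Counting congruences for p-group actions on pairs; Sylow subgroups of centralisers.
-/
import Cfsg.Agent.Lib.Blocks.MinMax
import Mathlib.GroupTheory.GroupAction.Quotient

set_option linter.unusedSectionVars false
set_option linter.style.haveILetI false

namespace Cfsg.Agent.Blocks

universe u

variable {G : Type u} [Group G] [Fintype G] {p : ℕ}

/-- Conjugation of pairs by a subgroup, on an invariant set of pairs. -/
@[reducible]
def pairAction (P : Subgroup G) (S : G × G → Prop)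
    (hS : ∀ u ∈ P, ∀ x y : G, S (x, y) → S (u * x * u⁻¹, u * y * u⁻¹)) :
    MulAction P {xy : G × G // S xy} where
  smul u xy := ⟨((u : G) * xy.1.1 * (u : G)⁻¹, (u : G) * xy.1.2 * (u : G)⁻¹),
    hS u u.2 _ _ xy.2⟩
  one_smul xy := by
    refine Subtype.ext ?_
    show (((1 : P) : G) * xy.1.1 * ((1 : P) : G)⁻¹, ((1 : P) : G) * xy.1.2 * ((1 : P) : G)⁻¹) = xy.1
    simp
  mul_smul u v xy := by
    refine Subtype.ext ?_
    show (((u * v : P) : G) * xy.1.1 * ((u * v : P) : G)⁻¹,
      ((u * v : P) : G) * xy.1.2 * ((u * v : P) : G)⁻¹) =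
      ((u : G) * ((v : G) * xy.1.1 * (v : G)⁻¹) * (u : G)⁻¹,
        (u : G) * ((v : G) * xy.1.2 * (v : G)⁻¹) * (u : G)⁻¹)
    simp [mul_assoc]

theorem card_pairs_modEq [Fact p.Prime] (P : Subgroup G) (hP : IsPGroup p P) (c : G)
    (hc : c ∈ Subgroup.centralizer (P : Set G)) (g h : G) :
    Nat.card {xy : G × G // IsConj g xy.1 ∧ IsConj h xy.2 ∧ xy.1 * xy.2 = c} ≡
      Nat.card {xy : G × G // IsConj g xy.1 ∧ IsConj h xy.2 ∧ xy.1 * xy.2 = c ∧
        xy.1 ∈ Subgroup.centralizer (P : Set G) ∧ xy.2 ∈ Subgroup.centralizer (P : Set G)}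
      [MOD p] := by
  letI := pairAction P (fun xy => IsConj g xy.1 ∧ IsConj h xy.2 ∧ xy.1 * xy.2 = c)
    fun u hu x y hxy => ⟨hxy.1.trans (isConj_iff.2 ⟨u, rfl⟩),
      hxy.2.1.trans (isConj_iff.2 ⟨u, rfl⟩), by
        show u * x * u⁻¹ * (u * y * u⁻¹) = c
        have e := Subgroup.mem_centralizer_iff.1 hc u hu
        calc u * x * u⁻¹ * (u * y * u⁻¹) = u * (x * y) * u⁻¹ := by group
          _ = c := by rw [hxy.2.2, e, mul_inv_cancel_right]⟩
  refine (hP.card_modEq_card_fixedPoints _).trans ?_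
  rw [Nat.ModEq]
  congr 1
  refine Nat.card_congr
    { toFun := fun z => ⟨z.1.1, z.1.2.1, z.1.2.2.1, z.1.2.2.2, ?_, ?_⟩
      invFun := fun z => ⟨⟨z.1, z.2.1, z.2.2.1, z.2.2.2.1⟩, fun u => ?_⟩
      left_inv := fun _ => rfl
      right_inv := fun _ => rfl }
  · exact Subgroup.mem_centralizer_iff.2 fun u hu => mul_inv_eq_iff_eq_mul.1
      (congrArg (fun w : {xy : G × G // IsConj g xy.1 ∧ IsConj h xy.2 ∧ xy.1 * xy.2 = c} => w.1.1)
        (z.2 ⟨u, hu⟩))
  · exact Subgroup.mem_centralizer_iff.2 fun u hu => mul_inv_eq_iff_eq_mul.1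
      (congrArg (fun w : {xy : G × G // IsConj g xy.1 ∧ IsConj h xy.2 ∧ xy.1 * xy.2 = c} => w.1.2)
        (z.2 ⟨u, hu⟩))
  · refine Subtype.ext (Prod.ext ?_ ?_)
    · exact mul_inv_eq_iff_eq_mul.2 (Subgroup.mem_centralizer_iff.1 z.2.2.2.2.1 u u.2)
    · exact mul_inv_eq_iff_eq_mul.2 (Subgroup.mem_centralizer_iff.1 z.2.2.2.2.2 u u.2)

theorem card_dvd_pairs [Fact p.Prime] (P : Sylow p G) (g h : G)
    (S : Sylow p (Subgroup.centralizer ({g} : Set G))) :
    Nat.card P / Nat.card S ∣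
      Nat.card {yz : G × G // IsConj g yz.1 ∧ IsConj h yz.2 ∧ yz.2 * yz.1⁻¹ ∈ (P : Subgroup G)} := by
  classical
  letI := pairAction (P : Subgroup G)
    (fun yz => IsConj g yz.1 ∧ IsConj h yz.2 ∧ yz.2 * yz.1⁻¹ ∈ (P : Subgroup G))
    fun u hu y z hyz => ⟨hyz.1.trans (isConj_iff.2 ⟨u, rfl⟩),
      hyz.2.1.trans (isConj_iff.2 ⟨u, rfl⟩), by
        show u * z * u⁻¹ * (u * y * u⁻¹)⁻¹ ∈ (P : Subgroup G)
        rw [show u * z * u⁻¹ * (u * y * u⁻¹)⁻¹ = u * (z * y⁻¹) * u⁻¹ by group]
        exact mul_mem (mul_mem hu hyz.2.2) (inv_mem hu)⟩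
  haveI := Fintype.ofFinite (MulAction.orbitRel.Quotient (P : Subgroup G)
    {yz : G × G // IsConj g yz.1 ∧ IsConj h yz.2 ∧ yz.2 * yz.1⁻¹ ∈ (P : Subgroup G)})
  rw [Nat.card_congr (MulAction.selfEquivSigmaOrbitsQuotientStabilizer (P : Subgroup G)
    {yz : G × G // IsConj g yz.1 ∧ IsConj h yz.2 ∧ yz.2 * yz.1⁻¹ ∈ (P : Subgroup G)}),
    Nat.card_sigma]
  refine Finset.dvd_sum fun ω _ => ?_
  set w := ω.out with hw
  set K := MulAction.stabilizer (P : Subgroup G) w with hK
  have h1 : Nat.card (P : Subgroup G) = Nat.card ((P : Subgroup G) ⧸ K) * Nat.card K :=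
    Subgroup.card_eq_card_quotient_mul_card_subgroup K
  have h2 : Nat.card K ∣ Nat.card S := by
    obtain ⟨c, hc⟩ := isConj_iff.1 w.2.1
    let Q : Subgroup G := (K.map (P : Subgroup G).subtype).map (MulAut.conj c⁻¹).toMonoidHom
    have hQ : IsPGroup p Q := ((P.isPGroup'.to_subgroup K).map _).map _
    have hle : Q ≤ Subgroup.centralizer ({g} : Set G) := by
      rintro _ ⟨_, ⟨u, hu, rfl⟩, rfl⟩
      refine Subgroup.mem_centralizer_iff.2 fun q hq => ?_
      rw [Set.mem_singleton_iff.1 hq]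
      have e : (u : G) * w.1.1 * (u : G)⁻¹ = w.1.1 := congrArg (fun w' : {yz : G × G //
        IsConj g yz.1 ∧ IsConj h yz.2 ∧ yz.2 * yz.1⁻¹ ∈ (P : Subgroup G)} => w'.1.1) hu
      rw [mul_inv_eq_iff_eq_mul, ← hc] at e
      simp only [MulEquiv.coe_toMonoidHom, MulAut.conj_apply, Subgroup.coe_subtype, inv_inv]
      calc g * (c⁻¹ * u * c) = c⁻¹ * (c * g * c⁻¹ * u) * c := by group
        _ = c⁻¹ * (u * (c * g * c⁻¹)) * c := by rw [e]
        _ = c⁻¹ * u * c * g := by group
    obtain ⟨S', hS'⟩ := exists_sylowImage_ge hQ hle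
    have h3 := Subgroup.card_dvd_of_le hS'
    rw [card_sylowImage, ← Sylow.card_eq_multiplicity S,
      Subgroup.card_map_of_injective (f := (MulAut.conj c⁻¹).toMonoidHom) (MulAut.conj c⁻¹).injective,
      Subgroup.card_map_of_injective Subtype.val_injective] at h3
    exact h3
  obtain ⟨t, ht⟩ := h2
  show Nat.card (P : Subgroup G) / Nat.card S ∣ _
  have hKc : 0 < Nat.card K := Nat.card_pos
  have hPS : Nat.card S ∣ Nat.card (P : Subgroup G) := by
    rw [Sylow.card_eq_multiplicity P, Sylow.card_eq_multiplicity S]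
    exact pow_dvd_pow p ((Nat.factorization_le_iff_dvd Nat.card_pos.ne' Nat.card_pos.ne').2
      (Subgroup.card_subgroup_dvd_card _) p)
  obtain ⟨r, hr⟩ := hPS
  have hS0 : 0 < Nat.card S := Nat.card_pos
  rw [hr, Nat.mul_div_cancel_left r hS0]
  refine Dvd.intro_left t (mul_left_cancel₀ hKc.ne' ?_)
  rw [← mul_assoc, ← ht, ← hr, h1, mul_comm]

/-- Classes with Sylow centraliser `P` meet `C(P)` in one `N(P)`-class; the converse test. -/
theorem sylow_centralizer_fusion [Fact p.Prime] (P : Subgroup G) (hP : IsPGroup p P) :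
    (∀ g : G, (∃ S : Sylow p (Subgroup.centralizer ({g} : Set G)),
        (S : Subgroup (Subgroup.centralizer ({g} : Set G))).map
          (Subgroup.centralizer ({g} : Set G)).subtype = P) →
      (∃ c : G, IsConj g c ∧ c ∈ Subgroup.centralizer (P : Set G)) ∧
        (∀ c₁ c₂ : G, IsConj g c₁ → IsConj g c₂ → c₁ ∈ Subgroup.centralizer (P : Set G) →
          c₂ ∈ Subgroup.centralizer (P : Set G) →
            ∃ n ∈ Subgroup.normalizer (P : Set G), n * c₁ * n⁻¹ = c₂)) ∧
    (∀ c : G, c ∈ Subgroup.centralizer (P : Set G) →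
      (∃ S : Sylow p (Subgroup.centralizer ({c} : Set G) ⊓ Subgroup.normalizer (P : Set G) :
          Subgroup G),
        (S : Subgroup ↥(Subgroup.centralizer ({c} : Set G) ⊓ Subgroup.normalizer (P : Set G))).map
          (Subgroup.centralizer ({c} : Set G) ⊓ Subgroup.normalizer (P : Set G)).subtype = P) →
      ∃ S : Sylow p (Subgroup.centralizer ({c} : Set G)),
        (S : Subgroup (Subgroup.centralizer ({c} : Set G))).map
          (Subgroup.centralizer ({c} : Set G)).subtype = P) := by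
  constructor
  · rintro g ⟨S, rfl⟩
    refine ⟨⟨g, IsConj.refl g, mem_centralizer_of_le (sylowImage_le S)⟩, fun c₁ c₂ h1 h2 hc1 hc2 => ?_⟩
    obtain ⟨c, rfl⟩ := isConj_iff.1 (h1.symm.trans h2)
    obtain ⟨d, rfl⟩ := isConj_iff.1 h1
    obtain ⟨Q, hQ⟩ := exists_sylowImage_ge hP (le_centralizer_singleton hc1)
    have hcardQ : Nat.card (sylowImage S) = Nat.card (sylowImage Q) := by
      rw [card_sylowImage, card_sylowImage]
      congr 2
      obtain ⟨e, he⟩ := isConj_centralizer_map (g := g) (x := d * g * d⁻¹)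
        (isConj_iff.2 ⟨d, rfl⟩)
      rw [← he, Subgroup.card_map_of_injective (MulAut.conj e).injective]
    have hQeq : sylowImage S = sylowImage Q := Subgroup.eq_of_le_of_card_ge hQ hcardQ.ge
    obtain ⟨y, hy⟩ := exists_conj_le_sylowImage (g := d * g * d⁻¹)
      (x := c * (d * g * d⁻¹) * c⁻¹) (isConj_iff.2 ⟨c, rfl⟩) hP hc2 Q
    rw [← hQeq] at hy
    have hy' : sylowImage S = (sylowImage S).map (MulAut.conj y).toMonoidHom :=
      Subgroup.eq_of_le_of_card_ge hy (Subgroup.card_map_of_injective (MulAut.conj y).injective).le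
    -- move the conjugator into the normaliser
    have hP2 : (sylowImage S).map (MulAut.conj c⁻¹).toMonoidHom ≤
        Subgroup.centralizer ({d * g * d⁻¹} : Set G) := by
      rintro _ ⟨u, hu, rfl⟩
      have e := Subgroup.mem_centralizer_iff.1 hc2 u hu
      refine Subgroup.mem_centralizer_iff.2 fun q hq => ?_
      rw [Set.mem_singleton_iff.1 hq]
      simp only [MulEquiv.coe_toMonoidHom, MulAut.conj_apply, inv_inv]
      calc d * g * d⁻¹ * (c⁻¹ * u * c) = c⁻¹ * (c * (d * g * d⁻¹) * c⁻¹ * u) * c := by group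
        _ = c⁻¹ * (u * (c * (d * g * d⁻¹) * c⁻¹)) * c := by rw [e]
        _ = c⁻¹ * u * c * (d * g * d⁻¹) := by group
    obtain ⟨Q', hQ'⟩ := exists_sylowImage_ge (hP.map _) hP2
    have hQ'eq : (sylowImage S).map (MulAut.conj c⁻¹).toMonoidHom = sylowImage Q' :=
      Subgroup.eq_of_le_of_card_ge hQ' (by
        rw [Subgroup.card_map_of_injective (f := (MulAut.conj c⁻¹).toMonoidHom)
          (MulAut.conj c⁻¹).injective, hcardQ, card_sylowImage, card_sylowImage])
    obtain ⟨z, hz⟩ := MulAction.exists_smul_eq (Subgroup.centralizer ({d * g * d⁻¹} : Set G)) Q Q'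
    have hz' : sylowImage Q' = (sylowImage Q).map (MulAut.conj (z : G)).toMonoidHom := by
      rw [← hz]
      ext u
      simp only [sylowImage, Sylow.coe_subgroup_smul, Subgroup.mem_map, Subgroup.coe_subtype,
        MulEquiv.coe_toMonoidHom, MulAut.conj_apply, Subgroup.mem_smul_pointwise_iff_exists,
        MulAut.smul_def]
      constructor
      · rintro ⟨_, ⟨v, hv, rfl⟩, rfl⟩
        exact ⟨v, ⟨v, hv, rfl⟩, rfl⟩
      · rintro ⟨_, ⟨v, hv, rfl⟩, rfl⟩
        exact ⟨_, ⟨v, hv, rfl⟩, rfl⟩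
    refine ⟨c * (z : G), ?_, ?_⟩
    · refine Subgroup.mem_normalizer_iff.2 fun u => ?_
      have hmap : (sylowImage S).map (MulAut.conj (c * (z : G))).toMonoidHom = sylowImage S := by
        rw [show (MulAut.conj (c * (z : G))).toMonoidHom =
          (MulAut.conj c).toMonoidHom.comp (MulAut.conj (z : G)).toMonoidHom from by
            ext v; simp [mul_assoc], ← Subgroup.map_map]
        nth_rw 1 [hQeq]
        rw [← hz', ← hQ'eq, Subgroup.map_map]
        convert Subgroup.map_id _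
        ext v; simp [mul_assoc]
      constructor
      · intro hu
        exact hmap.le ⟨u, hu, by simp [mul_assoc]⟩
      · intro hu
        obtain ⟨v, hv, hvu⟩ := hmap.ge hu
        simp only [MulEquiv.coe_toMonoidHom, MulAut.conj_apply] at hvu
        have : v = u := mul_left_cancel (mul_right_cancel hvu)
        exact this ▸ hv
    · have e := Subgroup.mem_centralizer_iff.1 z.2 (d * g * d⁻¹) rfl
      calc c * (z : G) * (d * g * d⁻¹) * (c * (z : G))⁻¹
          = c * ((z : G) * (d * g * d⁻¹)) * (z : G)⁻¹ * c⁻¹ := by group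
        _ = c * ((d * g * d⁻¹) * (z : G)) * (z : G)⁻¹ * c⁻¹ := by rw [e]
        _ = c * (d * g * d⁻¹) * c⁻¹ := by group
  · intro c hc
    set A := Subgroup.centralizer ({c} : Set G) ⊓ Subgroup.normalizer (P : Set G) with hA
    rintro ⟨S, hS⟩
    obtain ⟨T, hT⟩ := exists_sylowImage_ge hP (le_centralizer_singleton hc)
    refine ⟨T, le_antisymm ?_ hT⟩
    show sylowImage T ≤ P
    set T' := sylowImage T with hT'
    by_contra hne
    haveI : Group.IsNilpotent T' := (isPGroup_sylowImage T).isNilpotent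
    have hlt : P.subgroupOf T' < ⊤ := lt_top_iff_ne_top.2 fun h =>
      hne (Subgroup.subgroupOf_eq_top.1 h)
    have hgrow := Group.normalizerCondition_of_isNilpotent _ hlt
    obtain ⟨w, hwn, hwP⟩ := SetLike.exists_of_lt hgrow
    -- the enlargement is a p-subgroup of C(c) ∩ N(P)
    have hwA : (w : G) ∈ A := by
      refine ⟨sylowImage_le T w.2, Subgroup.mem_normalizer_iff.2 fun u => ?_⟩
      have hiff := Subgroup.mem_normalizer_iff.1 hwn
      constructor
      · intro hu
        exact (hiff ⟨u, hT hu⟩).1 hu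
      · intro hu
        have hu' : u ∈ T' := by
          have : u = (w : G)⁻¹ * ((w : G) * u * (w : G)⁻¹) * w := by group
          rw [this]
          exact mul_mem (mul_mem (inv_mem w.2) (hT hu)) w.2
        exact (hiff ⟨u, hu'⟩).2 hu
    let K := (T' ⊓ A).subgroupOf A
    have hK : IsPGroup p K := ((isPGroup_sylowImage T).to_le inf_le_left).comap_of_injective _
      Subtype.val_injective
    have hSK : (S : Subgroup A) ≤ K := by
      intro v hv
      have hvP : (v : G) ∈ P := by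
        have h : (v : G) ∈ (S : Subgroup A).map A.subtype := ⟨v, hv, rfl⟩
        rwa [hS] at h
      exact Subgroup.mem_subgroupOf.2 ⟨hT hvP, v.2⟩
    have hKS := S.is_maximal' hK hSK
    have hwK : (⟨(w : G), hwA⟩ : A) ∈ K := Subgroup.mem_subgroupOf.2 ⟨w.2, hwA⟩
    rw [hKS] at hwK
    refine hwP (Subgroup.mem_subgroupOf.2 ?_)
    have h : (w : G) ∈ (S : Subgroup A).map A.subtype := ⟨_, hwK, rfl⟩
    rwa [hS] at h

end Cfsg.Agent.Blocks
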