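import Mathlib.Data.ZMod.Basic
import Mathlib.Algebra.BigOperators.Group.Finset.Basic
import Mathlib.Algebra.Order.BigOperators.Ring.Finset
import Mathlib.Analysis.Complex.Basic
import Mathlib.Tactic

/-!
# Multiplicities on a cyclic Sylow subgroup

Integral vectors with the inner products of the virtual characters `1 - λ` bound the value of a
character on the elements of order `p` by half its degree.
-/

set_option autoImplicit false
set_option linter.style.haveILetI false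

namespace Cfsg.Agent.Blocks.CycCount

/-- Five vectors of a regular simplex cannot have three high and two low values at one point. -/
theorem no_three_two {ι α : Type*} (s : Finset ι) (a : α → ι → ℝ) (e : ℝ) (f : Fin 5 → α)
    (hG : ∀ i j, ∑ ψ ∈ s, a (f i) ψ * a (f j) ψ = e - 1 + if i = j then 1 else 0)
    {χ : ι} (hχ : χ ∈ s) (h01 : a (f 0) χ = a (f 1) χ) (h02 : a (f 0) χ = a (f 2) χ)
    (h3 : a (f 0) χ = a (f 3) χ + 1) (h4 : a (f 4) χ = a (f 3) χ) : False := by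
  classical
  have key : ∀ i : Fin 5, i = 0 ∨ i = 1 →
      ∀ ψ ∈ s, ψ ≠ χ → a (f i) ψ - a (f 3) ψ + (a (f 2) ψ - a (f 4) ψ) = 0 := by
    intro i hi
    have hval : a (f i) χ - a (f 3) χ + (a (f 2) χ - a (f 4) χ) = 2 := by
      rcases hi with rfl | rfl <;> linarith
    have hsum : ∑ ψ ∈ s, (a (f i) ψ - a (f 3) ψ + (a (f 2) ψ - a (f 4) ψ)) ^ 2 = 4 := by
      have e1 : ∀ ψ, (a (f i) ψ - a (f 3) ψ + (a (f 2) ψ - a (f 4) ψ)) ^ 2 =
          a (f i) ψ * a (f i) ψ + a (f 3) ψ * a (f 3) ψ + a (f 2) ψ * a (f 2) ψ +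
          a (f 4) ψ * a (f 4) ψ - 2 * (a (f i) ψ * a (f 3) ψ) + 2 * (a (f i) ψ * a (f 2) ψ) -
          2 * (a (f i) ψ * a (f 4) ψ) - 2 * (a (f 3) ψ * a (f 2) ψ) +
          2 * (a (f 3) ψ * a (f 4) ψ) - 2 * (a (f 2) ψ * a (f 4) ψ) := fun ψ => by ring
      simp only [e1, Finset.sum_add_distrib, Finset.sum_sub_distrib, ← Finset.mul_sum, hG]
      rcases hi with rfl | rfl <;> norm_num [Fin.ext_iff] <;> ring
    rw [← Finset.add_sum_erase s _ hχ, hval] at hsum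
    have h0 : ∑ ψ ∈ s.erase χ, (a (f i) ψ - a (f 3) ψ + (a (f 2) ψ - a (f 4) ψ)) ^ 2 = 0 := by
      linarith
    intro ψ hψ hne
    exact pow_eq_zero_iff two_ne_zero |>.1
      ((Finset.sum_eq_zero_iff_of_nonneg fun ψ _ => sq_nonneg _).1 h0 ψ
        (Finset.mem_erase.2 ⟨hne, hψ⟩))
  have hsum : ∑ ψ ∈ s, (a (f 0) ψ - a (f 1) ψ) ^ 2 = 2 := by
    have e1 : ∀ ψ, (a (f 0) ψ - a (f 1) ψ) ^ 2 =
        a (f 0) ψ * a (f 0) ψ + a (f 1) ψ * a (f 1) ψ - 2 * (a (f 0) ψ * a (f 1) ψ) :=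
      fun ψ => by ring
    simp only [e1, Finset.sum_add_distrib, Finset.sum_sub_distrib, ← Finset.mul_sum, hG]
    norm_num [Fin.ext_iff]
    ring
  rw [Finset.sum_eq_zero fun ψ hψ => ?_] at hsum
  · norm_num at hsum
  rcases eq_or_ne ψ χ with rfl | hne
  · rw [h01, sub_self]; norm_num
  · have h1 := key 0 (Or.inl rfl) ψ hψ hne
    have h2 := key 1 (Or.inr rfl) ψ hψ hne
    rw [show a (f 0) ψ - a (f 1) ψ = 0 by linarith]; norm_num

/-- The value at the elements of order `p` is at most half the degree. -/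
theorem value_le {N p : ℕ} [NeZero N] (hp : p.Prime) (hp2 : p ≠ 2) (hN : ∃ n, N = p ^ n)
    {ι : Type*} (s : Finset ι) (m : ι → ZMod N → ℕ) (E : Finset (ZMod N)) (x₀ : ZMod N)
    (hone : (1 : ZMod N) ∈ E) (hEcard : E.card ≤ p - 1)
    (hinj : ∀ k : ZMod N, k ≠ 0 → ∀ σ ∈ E, ∀ τ ∈ E, σ * k = τ * k → σ = τ)
    (hout : ∀ σ ∈ E, ∀ k : ZMod N, k * x₀ ≠ 0 → σ * k * x₀ ≠ 0)
    (hIn : p * (Finset.univ.filter fun k : ZMod N => k * x₀ = 0).card = N)
    (hinv : ∀ χ ∈ s, ∀ σ ∈ E, ∀ k, m χ (σ * k) = m χ k)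
    (hGram : ∀ k l : ZMod N, k ≠ 0 → l ≠ 0 →
      ∑ χ ∈ s, ((m χ 0 : ℝ) - m χ k) * ((m χ 0 : ℝ) - m χ l) =
        (E.card : ℝ) - 1 + ((E.filter fun σ => σ * l = k).card : ℝ))
    {χ : ι} (hχ : χ ∈ s)
    (hD : (∑ k ∈ Finset.univ.filter (fun k : ZMod N => ¬ k * x₀ = 0), m χ k) ≠ 0)
    (c : ℝ) (hc : c = (∑ k ∈ Finset.univ.filter (fun k : ZMod N => k * x₀ = 0), m χ k : ℕ) -
      (∑ k ∈ Finset.univ.filter (fun k : ZMod N => ¬ k * x₀ = 0), m χ k : ℕ) / ((p : ℝ) - 1))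
    (hc2 : c ^ 2 ≤ (E.card : ℝ) * N / ((p : ℝ) - 1)) :
    2 * c ≤ (∑ k, m χ k : ℕ) := by
  classical
  set Din := ∑ k ∈ Finset.univ.filter (fun k : ZMod N => k * x₀ = 0), m χ k with hDin
  set Out := Finset.univ.filter (fun k : ZMod N => ¬ k * x₀ = 0) with hOut
  set Dout := ∑ k ∈ Out, m χ k with hDout
  have hp3 : (3 : ℝ) ≤ p := by
    have := hp.two_le
    exact_mod_cast (show 3 ≤ p by omega)
  have hp1 : (0 : ℝ) < (p : ℝ) - 1 := by linarith
  have hd : (∑ k, m χ k) = Din + Dout := by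
    rw [hDin, hDout, hOut, Finset.sum_filter_add_sum_filter_not]
  rw [hd, Nat.cast_add]
  -- it suffices to compare with `q = d - c`
  set q : ℝ := (p : ℝ) * Dout / ((p : ℝ) - 1) with hq
  have hdc : (Din : ℝ) + Dout - c = q := by
    rw [hc, hq]
    field_simp
    ring
  suffices c ≤ q by linarith
  rcases le_or_gt c 0 with hc0 | hc0
  · exact hc0.trans (by positivity)
  -- orbits
  have orbit : ∀ k : ZMod N, k ≠ 0 → (E.image fun σ => σ * k).card = E.card := fun k hk =>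
    Finset.card_image_of_injOn fun σ hσ τ hτ h => hinj k hk σ hσ τ hτ h
  obtain ⟨k₁, hk₁, hk₁m⟩ := Finset.exists_ne_zero_of_sum_ne_zero hD
  have hk₁o : ¬ k₁ * x₀ = 0 := (Finset.mem_filter.1 hk₁).2
  have hk₁0 : k₁ ≠ 0 := fun h => hk₁o (by rw [h, zero_mul])
  have hDe : E.card ≤ Dout := by
    calc E.card = (E.image fun σ => σ * k₁).card * 1 := by rw [orbit k₁ hk₁0, mul_one]
      _ ≤ ∑ k ∈ E.image (fun σ => σ * k₁), m χ k := by
        rw [← smul_eq_mul, ← Finset.sum_const]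
        refine Finset.sum_le_sum fun k hk => ?_
        obtain ⟨σ, hσ, rfl⟩ := Finset.mem_image.1 hk
        rw [hinv χ hχ σ hσ]
        omega
      _ ≤ Dout := Finset.sum_le_sum_of_subset (fun k hk => by
        obtain ⟨σ, hσ, rfl⟩ := Finset.mem_image.1 hk
        exact Finset.mem_filter.2 ⟨Finset.mem_univ _, hout σ hσ k₁ hk₁o⟩)
  have he1 : 1 ≤ E.card := Finset.card_pos.2 ⟨1, hone⟩
  have heR : (E.card : ℝ) ≤ (p : ℝ) - 1 := by
    have h : ((E.card : ℕ) : ℝ) ≤ ((p - 1 : ℕ) : ℝ) := by exact_mod_cast hEcard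
    rwa [Nat.cast_sub hp.one_le, Nat.cast_one] at h
  have hN0 : (0 : ℝ) ≤ (N : ℝ) := Nat.cast_nonneg N
  have hcN : c ^ 2 ≤ N := by
    refine hc2.trans ?_
    rw [div_le_iff₀ hp1]
    nlinarith
  have hq0 : (E.card : ℝ) ≤ q := by
    rw [hq, le_div_iff₀ hp1]
    have : (E.card : ℝ) ≤ Dout := by exact_mod_cast hDe
    nlinarith [Nat.cast_nonneg (α := ℝ) E.card]
  -- the number of `k` outside
  have hM : Out.card + (Finset.univ.filter fun k : ZMod N => k * x₀ = 0).card = N := by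
    rw [hOut, add_comm, Finset.card_filter_add_card_filter_not, Finset.card_univ, ZMod.card]
  have hMp : (p : ℝ) * Out.card = ((p : ℝ) - 1) * N := by
    have h1 : ((p : ℝ)) * ((Finset.univ.filter fun k : ZMod N => k * x₀ = 0).card : ℝ) = N := by
      exact_mod_cast hIn
    have h2 : (Out.card : ℝ) + ((Finset.univ.filter fun k : ZMod N => k * x₀ = 0).card : ℝ) = N := by
      exact_mod_cast hM
    linear_combination (p : ℝ) * h2 - h1
  by_cases hall : ∀ k ∈ Out, m χ k ≠ 0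
  · have h1 : (Out.card : ℝ) ≤ Dout := by
      have : Out.card * 1 ≤ Dout := by
        rw [← smul_eq_mul, ← Finset.sum_const]
        exact Finset.sum_le_sum fun k hk => Nat.one_le_iff_ne_zero.2 (hall k hk)
      exact_mod_cast (mul_one Out.card) ▸ this
    have hqN : (N : ℝ) ≤ q := by
      rw [hq, le_div_iff₀ hp1]
      nlinarith
    have hN1 : (1 : ℝ) ≤ N := by exact_mod_cast NeZero.one_le
    nlinarith
  push Not at hall
  obtain ⟨k₀, hk₀, hk₀m⟩ := hall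
  have hk₀o : ¬ k₀ * x₀ = 0 := (Finset.mem_filter.1 hk₀).2
  have hk₀0 : k₀ ≠ 0 := fun h => hk₀o (by rw [h, zero_mul])
  have hdist : ∀ k l : ZMod N, k ≠ 0 → l ≠ 0 → (∀ σ ∈ E, σ * l ≠ k) →
      ∑ ψ ∈ s, ((m ψ 0 : ℝ) - m ψ k) * ((m ψ 0 : ℝ) - m ψ l) = (E.card : ℝ) - 1 := by
    intro k l hk hl hne
    rw [hGram k l hk hl, Finset.filter_eq_empty_iff.2 fun σ hσ => hne σ hσ, Finset.card_empty,
      Nat.cast_zero, add_zero]
  have hself : ∀ k : ZMod N, k ≠ 0 →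
      ∑ ψ ∈ s, ((m ψ 0 : ℝ) - m ψ k) * ((m ψ 0 : ℝ) - m ψ k) = (E.card : ℝ) := by
    intro k hk
    rw [hGram k k hk hk, show (E.filter fun σ => σ * k = k) = {1} from ?_, Finset.card_singleton,
      Nat.cast_one, sub_add_cancel]
    ext σ
    simp only [Finset.mem_filter, Finset.mem_singleton]
    exact ⟨fun h => hinj k hk σ h.1 1 hone (by rw [one_mul]; exact h.2),
      fun h => ⟨h ▸ hone, by rw [h, one_mul]⟩⟩
  -- multiplicities are at most one
  have hle1 : ∀ k : ZMod N, k ≠ 0 → m χ k ≤ 1 := by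
    intro k hk
    by_cases hR : ∃ σ ∈ E, σ * k₀ = k
    · obtain ⟨σ, hσ, rfl⟩ := hR
      rw [hinv χ hχ σ hσ, hk₀m]
      exact zero_le_one
    push Not at hR
    have hR' : ∀ σ ∈ E, σ * k₀ ≠ k := hR
    have hs2 : ∑ ψ ∈ s, ((m ψ k₀ : ℝ) - m ψ k) ^ 2 = 2 := by
      have e1 : ∀ ψ, ((m ψ k₀ : ℝ) - m ψ k) ^ 2 =
          ((m ψ 0 : ℝ) - m ψ k) * ((m ψ 0 : ℝ) - m ψ k) +
          ((m ψ 0 : ℝ) - m ψ k₀) * ((m ψ 0 : ℝ) - m ψ k₀) -
          2 * (((m ψ 0 : ℝ) - m ψ k) * ((m ψ 0 : ℝ) - m ψ k₀)) := fun ψ => by ring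
      simp only [e1, Finset.sum_add_distrib, Finset.sum_sub_distrib, ← Finset.mul_sum,
        hself k hk, hself k₀ hk₀0, hdist k k₀ hk hk₀0 hR']
      ring
    have h1 := (Finset.single_le_sum (fun ψ _ => sq_nonneg ((m ψ k₀ : ℝ) - m ψ k)) hχ).trans hs2.le
    rw [hk₀m, Nat.cast_zero, zero_sub, neg_sq] at h1
    by_contra h2
    have h3 : (2 : ℝ) ≤ (m χ k : ℝ) := by exact_mod_cast (show 2 ≤ m χ k by omega)
    nlinarith
  by_cases hlowin : ∀ k : ZMod N, k * x₀ = 0 → k ≠ 0 → m χ k = 0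
  · -- no low value inside
    have hDin0 : Din = m χ 0 := by
      rw [hDin, Finset.sum_eq_single (0 : ZMod N)]
      · intro k hk hk0
        exact hlowin k (Finset.mem_filter.1 hk).2 hk0
      · intro h
        exact absurd (show (0 : ZMod N) ∈ Finset.univ.filter (fun k : ZMod N => k * x₀ = 0) from
          Finset.mem_filter.2 ⟨Finset.mem_univ _, zero_mul x₀⟩) h
    have hj2 : ((m χ 0 : ℝ)) ^ 2 ≤ E.card := by
      have h1 := Finset.single_le_sum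
        (f := fun ψ => ((m ψ 0 : ℝ) - m ψ k₀) * ((m ψ 0 : ℝ) - m ψ k₀))
        (fun ψ _ => mul_self_nonneg _) hχ
      rw [hself k₀ hk₀0] at h1
      simp only [hk₀m, Nat.cast_zero, sub_zero] at h1
      rw [sq]; exact h1
    have hj : (m χ 0 : ℝ) ≤ (m χ 0 : ℝ) ^ 2 := by
      exact_mod_cast Nat.le_self_pow two_ne_zero (m χ 0)
    have : c ≤ (m χ 0 : ℝ) := by
      rw [hc, hDin0]
      have : (0 : ℝ) ≤ (Dout : ℝ) / ((p : ℝ) - 1) := by positivity
      linarith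
    linarith
  push Not at hlowin
  obtain ⟨k₂, hk₂i, hk₂0, hk₂m⟩ := hlowin
  have hm1 : m χ k₁ = 1 := le_antisymm (hle1 k₁ hk₁0) (Nat.one_le_iff_ne_zero.2 hk₁m)
  have hm2 : m χ k₂ = 1 := le_antisymm (hle1 k₂ hk₂0) (Nat.one_le_iff_ne_zero.2 hk₂m)
  set High := Finset.univ.filter (fun k : ZMod N => k ≠ 0 ∧ m χ k = 0) with hHigh
  -- at most two orbits of high values
  have hHigh2 : High.card ≤ 2 * E.card := by
    by_cases hsub : ∃ h₂ ∈ High, h₂ ∉ E.image fun σ => σ * k₀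
    swap
    · push Not at hsub
      have := Finset.card_le_card hsub
      rw [orbit k₀ hk₀0] at this
      omega
    obtain ⟨h₂, hh₂, hn₂⟩ := hsub
    obtain ⟨hh₂0, hh₂m⟩ := (Finset.mem_filter.1 hh₂).2
    by_cases hsub3 : ∃ h₃ ∈ High, h₃ ∉ (E.image fun σ => σ * k₀) ∪ E.image fun σ => σ * h₂
    swap
    · push Not at hsub3
      have := (Finset.card_le_card hsub3).trans (Finset.card_union_le _ _)
      rw [orbit k₀ hk₀0, orbit h₂ hh₂0] at this
      omega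
    exfalso
    obtain ⟨h₃, hh₃, hn₃⟩ := hsub3
    obtain ⟨hh₃0, hh₃m⟩ := (Finset.mem_filter.1 hh₃).2
    rw [Finset.mem_union, not_or] at hn₃
    simp only [Finset.mem_image, not_exists, not_and] at hn₂ hn₃
    let a : ZMod N → ι → ℝ := fun k ψ => (m ψ 0 : ℝ) - m ψ k
    have sym : ∀ k l : ZMod N, k ≠ 0 → l ≠ 0 → (∀ σ ∈ E, σ * l ≠ k) →
        ∑ ψ ∈ s, a k ψ * a l ψ = (E.card : ℝ) - 1 ∧ ∑ ψ ∈ s, a l ψ * a k ψ = (E.card : ℝ) - 1 :=
      fun k l hk hl hne => ⟨hdist k l hk hl hne, by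
        rw [← hdist k l hk hl hne]
        exact Finset.sum_congr rfl fun ψ _ => mul_comm _ _⟩
    have hlh : ∀ k l : ZMod N, m χ k = 1 → m χ l = 0 → ∀ σ ∈ E, σ * l ≠ k := fun k l hk hl σ hσ h => by
      rw [← h, hinv χ hχ σ hσ, hl] at hk
      exact zero_ne_one hk
    have hio : ∀ σ ∈ E, σ * k₁ ≠ k₂ := fun σ hσ h => hout σ hσ k₁ hk₁o (h ▸ hk₂i)
    have p01 := sym h₂ k₀ hh₂0 hk₀0 hn₂
    have p02 := sym h₃ k₀ hh₃0 hk₀0 hn₃.1
    have p12 := sym h₃ h₂ hh₃0 hh₂0 hn₃.2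
    have p03 := sym k₁ k₀ hk₁0 hk₀0 (hlh _ _ hm1 hk₀m)
    have p04 := sym k₂ k₀ hk₂0 hk₀0 (hlh _ _ hm2 hk₀m)
    have p13 := sym k₁ h₂ hk₁0 hh₂0 (hlh _ _ hm1 hh₂m)
    have p14 := sym k₂ h₂ hk₂0 hh₂0 (hlh _ _ hm2 hh₂m)
    have p23 := sym k₁ h₃ hk₁0 hh₃0 (hlh _ _ hm1 hh₃m)
    have p24 := sym k₂ h₃ hk₂0 hh₃0 (hlh _ _ hm2 hh₃m)
    have p34 := sym k₂ k₁ hk₂0 hk₁0 hio
    have s0 := hself k₀ hk₀0
    have s1 := hself h₂ hh₂0
    have s2 := hself h₃ hh₃0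
    have s3 := hself k₁ hk₁0
    have s4 := hself k₂ hk₂0
    refine no_three_two s a (E.card : ℝ) ![k₀, h₂, h₃, k₁, k₂] ?_ hχ ?_ ?_ ?_ ?_
    · intro i j
      fin_cases i <;> fin_cases j <;>
        simp [p01.1, p01.2, p02.1, p02.2, p12.1, p12.2, p03.1, p03.2, p04.1, p04.2, p13.1, p13.2,
          p14.1, p14.2, p23.1, p23.2, p24.1, p24.2, p34.1, p34.2] <;>
        first
          | linarith [s0]
          | linarith [s1]
          | linarith [s2]
          | linarith [s3]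
          | linarith [s4]
    · simp [a, hk₀m, hh₂m]
    · simp [a, hk₀m, hh₃m]
    · simp [a, hk₀m, hm1]
    · simp [a, hm1, hm2]
  have hsM : Out.card ≤ Dout + High.card := by
    have h1 : (Out.filter fun k => m χ k = 0).card ≤ High.card := Finset.card_le_card fun k hk => by
      obtain ⟨hk, hkm⟩ := Finset.mem_filter.1 hk
      have hko : ¬ k * x₀ = 0 := (Finset.mem_filter.1 hk).2
      exact Finset.mem_filter.2 ⟨Finset.mem_univ _, fun h => hko (by rw [h, zero_mul]), hkm⟩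
    have h2 : (Out.filter fun k => ¬ m χ k = 0).card ≤ Dout := by
      rw [Finset.card_eq_sum_ones]
      refine (Finset.sum_le_sum fun k hk => ?_).trans
        (Finset.sum_le_sum_of_subset (Finset.filter_subset _ _))
      exact Nat.one_le_iff_ne_zero.2 (Finset.mem_filter.1 hk).2
    have h3 := Finset.card_filter_add_card_filter_not (s := Out) (fun k => m χ k = 0)
    omega
  have hsR : (Out.card : ℝ) ≤ (Dout : ℝ) + 2 * E.card := by
    exact_mod_cast hsM.trans (Nat.add_le_add_left hHigh2 _)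
  have hqN : (N : ℝ) - 2 * p ≤ q := by
    rw [hq, le_div_iff₀ hp1]
    nlinarith
  -- `N` is divisible by `p ^ 2`
  have hIn2 : 2 ≤ (Finset.univ.filter fun k : ZMod N => k * x₀ = 0).card :=
    Finset.one_lt_card.2 ⟨k₂, Finset.mem_filter.2 ⟨Finset.mem_univ _, hk₂i⟩, 0,
      Finset.mem_filter.2 ⟨Finset.mem_univ _, zero_mul x₀⟩, hk₂0⟩
  obtain ⟨n, hn⟩ := hN
  have hn2 : 2 ≤ n := by
    by_contra hcon
    have h1 : N ≤ p ^ 1 := hn ▸ Nat.pow_le_pow_right hp.pos (by omega)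
    rw [pow_one] at h1
    nlinarith [hp.pos]
  have hNp : (p : ℝ) * p ≤ N := by
    have : p * p ≤ N := by rw [hn, ← sq]; exact Nat.pow_le_pow_right hp.pos hn2
    exact_mod_cast this
  have h3 : (N : ℝ) / 3 ≤ q := by nlinarith
  by_contra hlt
  push Not at hlt
  have hpos : (0 : ℝ) ≤ (N : ℝ) / 3 := by positivity
  have : ((N : ℝ) / 3) ^ 2 < c ^ 2 := by nlinarith
  have h9 : (9 : ℝ) ≤ N := by nlinarith
  nlinarith [mul_le_mul_of_nonneg_right h9 hN0]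

end Cfsg.Agent.Blocks.CycCount
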