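import Cfsg.Agent.Lib.Blocks.GoodExtension
import Cfsg.Agent.Lib.Blocks.Covering
import Cfsg.Agent.Lib.Char.Gallagher
import Cfsg.Agent.Lib.Char.Galois
import Cfsg.Agent.S0867
import Cfsg.Agent.S4455

/-!
# Galois-fixed characters of degree prime to `p` in the principal block over a cyclic `p`-quotient
-/

set_option autoImplicit false
set_option linter.style.haveILetI false
set_option linter.unusedSectionVars false

namespace Cfsg.Agent.CyclicQuotientFixed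

open Cfsg Cfsg.Agent.Char Cfsg.Agent.Blocks

universe u

variable {G : Type u} [Group G] [Fintype G] {p : ℕ} [hp : Fact p.Prime] {M : Ideal AlgInt}

theorem card_hom_fixed (N : Subgroup G) [N.Normal] (P : Sylow p G) (hNP : N ⊔ (P : Subgroup G) = ⊤)
    (hcyc : IsCyclic (G ⧸ N)) {n : ℕ} (hn : N.index = p ^ n) (hn0 : n ≠ 0) {k : ℕ}
    (hk₁ : ∀ g : G, (∃ j : ℕ, orderOf g = p ^ j) → g ^ k = g ^ (1 + p)) :
    Nat.card {c : G →* ℂˣ // (∀ x ∈ N, c x = 1) ∧ c ^ k = c} = p := by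
  classical
  obtain ⟨q, hq⟩ := hcyc.exists_generator
  obtain ⟨g₀, rfl⟩ := QuotientGroup.mk_surjective q
  obtain ⟨a, ha, x, hx, hax⟩ := Subgroup.mem_sup_of_normal_left.1 (hNP.ge (Subgroup.mem_top g₀))
  have hq' : (x : G ⧸ N) = (g₀ : G ⧸ N) := by
    rw [← hax, QuotientGroup.mk_mul, (QuotientGroup.eq_one_iff a).2 ha, one_mul]
  rw [← hq'] at hq
  have hxp : x ^ k = x ^ (1 + p) := hk₁ x (by
    obtain ⟨j, hj⟩ := P.isPGroup' ⟨x, hx⟩
    obtain ⟨i, -, hi⟩ := (Nat.dvd_prime_pow hp.out).1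
      (orderOf_dvd_of_pow_eq_one (congrArg Subtype.val hj))
    exact ⟨i, hi⟩)
  have key : ∀ c c' : G →* ℂˣ, (∀ y ∈ N, c y = 1) → (∀ y ∈ N, c' y = 1) → c x = c' x → c = c' := by
    intro c c' hc hc' h
    refine MonoidHom.ext fun g => ?_
    obtain ⟨i, hi⟩ := Subgroup.mem_zpowers_iff.1 (hq (g : G ⧸ N))
    have hm : (x ^ i)⁻¹ * g ∈ N := QuotientGroup.eq.1 (by simpa using hi)
    have e : g = x ^ i * ((x ^ i)⁻¹ * g) := by group
    rw [e, map_mul c, map_mul c', map_zpow c, map_zpow c', hc _ hm, hc' _ hm, h]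
  have hroot : ∀ z : ℂˣ, z ^ (1 + p) = z ↔ z ^ p = 1 := fun z => by
    rw [add_comm, pow_succ, mul_eq_right]
  have hord : orderOf (x : G ⧸ N) = p ^ n := by
    rw [orderOf_eq_card_of_forall_mem_zpowers hq]
    exact hn
  haveI : NeZero p := ⟨hp.out.ne_zero⟩
  rw [← Complex.card_rootsOfUnity p]
  refine Nat.card_congr (Equiv.ofBijective (fun c => (⟨c.1 x, by
      rw [mem_rootsOfUnity, ← hroot, ← map_pow, ← hxp, map_pow, ← MonoidHom.pow_apply, c.2.2]⟩ :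
        rootsOfUnity p ℂ)) ⟨fun c c' h => Subtype.ext (key _ _ c.2.1 c'.2.1
          (congrArg Subtype.val h)), fun z => ?_⟩)
  have hz : (z : ℂˣ) ^ p = 1 := (mem_rootsOfUnity p _).1 z.2
  have hdiv : orderOf (z : ℂˣ) ∣ orderOf (x : G ⧸ N) := by
    rw [hord]
    exact (orderOf_dvd_of_pow_eq_one hz).trans (dvd_pow_self p hn0)
  set f : G →* ℂˣ := (monoidHomOfForallMemZpowers hq hdiv).comp (QuotientGroup.mk' N) with hf
  have hfN : ∀ y ∈ N, f y = 1 := fun y hy => by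
    rw [hf, MonoidHom.comp_apply, QuotientGroup.mk'_apply, (QuotientGroup.eq_one_iff y).2 hy,
      map_one]
  have hfx : f x = z := monoidHomOfForallMemZpowers_apply_gen hq hdiv
  refine ⟨⟨f, hfN, key _ _ (fun y hy => by rw [MonoidHom.pow_apply, hfN y hy, one_pow]) hfN ?_⟩,
    Subtype.ext hfx⟩
  rw [MonoidHom.pow_apply, ← map_pow, hxp, map_pow, hroot, hfx]
  exact hz

theorem coprime_of_hyp {k : ℕ} (hk₁ : ∀ g : G, (∃ j : ℕ, orderOf g = p ^ j) → g ^ k = g ^ (1 + p))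
    (hk₂ : ∀ g : G, Nat.Coprime (orderOf g) p → g ^ k = g) : k.Coprime (Nat.card G) := by
  refine Nat.coprime_of_dvd fun q hq hqk hqG => ?_
  haveI := Fact.mk hq
  obtain ⟨g, hg⟩ := exists_prime_orderOf_dvd_card' q hqG
  have hgk : g ^ k = 1 := orderOf_dvd_iff_pow_eq_one.1 (hg.symm ▸ hqk)
  rcases eq_or_ne q p with rfl | hne
  · rw [hk₁ g ⟨1, by rw [hg, pow_one]⟩, pow_add, pow_one, ← hg, pow_orderOf_eq_one, mul_one] at hgk
    rw [hgk, orderOf_one] at hg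
    exact hq.ne_one hg.symm
  · rw [hk₂ g (hg.symm ▸ (Nat.coprime_primes hq hp.out).2 hne)] at hgk
    rw [hgk, orderOf_one] at hg
    exact hq.ne_one hg.symm

theorem counts (hM : IsPModular p M) (P : Sylow p G) (N : Subgroup G) [hN : N.Normal] [Fintype N]
    (hNres : N = pResidual p G) (hcyc : IsCyclic (G ⧸ N)) (hnt : N ≠ ⊤) (k : ℕ)
    (hk₁ : ∀ g : G, (∃ j : ℕ, orderOf g = p ^ j) → g ^ k = g ^ (1 + p))
    (hk₂ : ∀ g : G, Nat.Coprime (orderOf g) p → g ^ k = g) :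
    Nat.card {χ : IrrCharacter G // χ ∈ principalBlock M G ∧ ¬ p ∣ charDegree (χ : G → ℂ) ∧
        ∀ g : G, (χ : G → ℂ) (g ^ k) = (χ : G → ℂ) g} =
      p * Nat.card {θ : IrrCharacter ↥N // θ ∈ principalBlock M ↥N ∧
        ¬ p ∣ charDegree (θ : ↥N → ℂ) ∧
        (∀ x ∈ (P : Subgroup G), ∀ n : ↥N,
          (θ : ↥N → ℂ) ⟨x * n * x⁻¹, hN.conj_mem n n.2 x⟩ = (θ : ↥N → ℂ) n) ∧
        ∀ n : ↥N, (θ : ↥N → ℂ) (n ^ k) = (θ : ↥N → ℂ) n} := by
  classical
  haveI := IsPModular.isPrime hM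
  subst hNres
  obtain ⟨n, hn⟩ := Cfsg.Agent.PBasic.exists_index_pow_of_isPGroup_quotient
    (Cfsg.Agent.PBasic.quotient_pResidual_isPGroup p G)
  have hn0 : n ≠ 0 := fun h => hnt (Subgroup.index_eq_one.1 (by rw [hn, h, pow_zero]))
  have hNP : pResidual p G ⊔ (P : Subgroup G) = ⊤ := by
    rw [sup_comm]
    exact Cfsg.Agent.PBasic.sylow_sup_pResidual P
  set N := pResidual p G with hNdef
  have hkc : k.Coprime (Nat.card G) := coprime_of_hyp hk₁ hk₂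
  obtain ⟨σ, hσ⟩ := CharGalois.exists_galoisAut (Nat.card_pos (α := G)).ne' hkc
  have hmap : ∀ {χ : G → ℂ}, IsCharacter G χ → ∀ g, σ (χ g) = χ (g ^ k) := fun h g =>
    CharGalois.map_char h σ.toRingHom hσ g
  have hcl : ∀ θ : IrrCharacter N, IsClassFunction N (θ : N → ℂ) := fun θ =>
    IsCharacter.isClassFunction (IsIrrCharacter.isCharacter θ.2)
  have hcover : ∀ (χ : IrrCharacter G) (θ : IrrCharacter N),
      (∀ y : N, (χ : G → ℂ) y = (θ : N → ℂ) y) →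
      classInner (fun y : N => (χ : G → ℂ) y) (θ : N → ℂ) ≠ 0 := fun χ θ h => by
    rw [show (fun y : N => (χ : G → ℂ) y) = (θ : N → ℂ) from funext h, classInner_self_irr θ.2]
    exact one_ne_zero
  have hc1 : classInner (fun y : N => (principal G : G → ℂ) y) (principal N : N → ℂ) ≠ 0 :=
    hcover (principal G) (principal N) fun y => rfl
  have hblk : ∀ (χ : IrrCharacter G) (θ : IrrCharacter N),
      (∀ y : N, (χ : G → ℂ) y = (θ : N → ℂ) y) →
      (χ ∈ principalBlock M G ↔ θ ∈ principalBlock M N) := by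
    intro χ θ h
    constructor
    · intro hχ
      obtain ⟨g, θ', hθ', he⟩ := constituents_conjugate_blocks N (isPBlock_principalBlock M G)
        (isPBlock_principalBlock M N) principal_mem_principalBlock principal_mem_principalBlock
        hc1 hχ (hcover χ θ h)
      have hinv := conjChar_restrict N (IsCharacter.isClassFunction (IsIrrCharacter.isCharacter χ.2)) h
      have : (θ : N → ℂ) = (θ' : N → ℂ) := by
        calc (θ : N → ℂ) = conjChar N g⁻¹ (θ : N → ℂ) := (hinv g⁻¹).symm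
          _ = conjChar N g⁻¹ (conjChar N g (θ' : N → ℂ)) := by rw [he]
          _ = θ' := by rw [← conjChar_mul, mul_inv_cancel, conjChar_one]
      rwa [show θ = θ' from Subtype.ext this]
    · intro hθ
      obtain ⟨B, -, hu⟩ := existsUnique_covering N hM ⟨n, hn⟩ (isPBlock_principalBlock M N)
      have e1 := hu _ ⟨isPBlock_blockOf (M := M) χ, χ, self_mem_blockOf _, θ, hθ, hcover χ θ h⟩
      have e2 := hu _ ⟨isPBlock_principalBlock M G, principal G, principal_mem_principalBlock,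
        principal N, principal_mem_principalBlock, hc1⟩
      rw [e2, ← e1]
      exact self_mem_blockOf _
  have hdet : ∀ θ : IrrCharacter N, ¬ p ∣ detOrder (θ : N → ℂ) := by
    intro θ
    obtain ⟨m, ρ, -, hρ⟩ := θ.2
    rw [← hρ, Cfsg.Agent.CharExtend.detOrder_eq]
    exact S4455.not_dvd_orderOf _
  have hdeg : ∀ (χ : IrrCharacter G) (θ : IrrCharacter N),
      (∀ y : N, (χ : G → ℂ) y = (θ : N → ℂ) y) →
      charDegree (χ : G → ℂ) = charDegree (θ : N → ℂ) := fun χ θ h => by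
    apply Nat.cast_injective (R := ℂ)
    rw [← Cfsg.Agent.CharX.irr_deg, ← Cfsg.Agent.CharX.irr_deg, ← h 1, OneMemClass.coe_one]
  have hres : ∀ χ : IrrCharacter G, ¬ p ∣ charDegree (χ : G → ℂ) →
      ∃ θ : IrrCharacter N, ∀ y : N, (χ : G → ℂ) y = (θ : N → ℂ) y := by
    intro χ hd
    obtain ⟨θ, hθ⟩ := exists_restrict_constituent χ.2 N
    obtain ⟨e, he, hed⟩ := exists_ratio_dvd_index N χ.2 θ.2 hθ
    have hd' : charDegree (χ : G → ℂ) = e * charDegree (θ : N → ℂ) := by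
      apply Nat.cast_injective (R := ℂ)
      rw [Nat.cast_mul, ← Cfsg.Agent.CharX.irr_deg, he, ← Cfsg.Agent.CharX.irr_deg]
    have he1 : e = 1 := Nat.dvd_one.1
      ((S4455.index_pow hd : N.index.Coprime _) ▸ Nat.dvd_gcd hed ⟨_, hd'⟩)
    rw [he1, Nat.cast_one, one_mul] at he
    exact ⟨θ, congrFun (eq_of_constituent_degree
      (IsCharacter.restrict (IsIrrCharacter.isCharacter χ.2) N) θ.2 hθ (by simpa using he))⟩
  choose r hr using hres
  let Y := {θ : IrrCharacter N // θ ∈ principalBlock M ↥N ∧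
      ¬ p ∣ charDegree (θ : ↥N → ℂ) ∧
      (∀ x ∈ (P : Subgroup G), ∀ m : ↥N,
        (θ : ↥N → ℂ) ⟨x * m * x⁻¹, hN.conj_mem m m.2 x⟩ = (θ : ↥N → ℂ) m) ∧
      ∀ m : ↥N, (θ : ↥N → ℂ) (m ^ k) = (θ : ↥N → ℂ) m}
  let X := {χ : IrrCharacter G // χ ∈ principalBlock M G ∧ ¬ p ∣ charDegree (χ : G → ℂ) ∧
      ∀ g : G, (χ : G → ℂ) (g ^ k) = (χ : G → ℂ) g}
  let f : X → Y := fun χ => ⟨r χ.1 χ.2.2.1, (hblk _ _ (hr χ.1 χ.2.2.1)).1 χ.2.1,
    hdeg _ _ (hr χ.1 χ.2.2.1) ▸ χ.2.2.1,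
    fun x _ m => by
      rw [← hr χ.1 χ.2.2.1, ← hr χ.1 χ.2.2.1]
      exact IsCharacter.isClassFunction (IsIrrCharacter.isCharacter χ.1.2) (m : G) x,
    fun m => by
      rw [← hr χ.1 χ.2.2.1, ← hr χ.1 χ.2.2.1, Subgroup.coe_pow]
      exact χ.2.2.2 _⟩
  haveI : Finite X := Subtype.finite
  haveI : Fintype Y := Fintype.ofFinite _
  show Nat.card X = p * Nat.card Y
  rw [Nat.card_congr (Equiv.sigmaFiberEquiv f).symm, Nat.card_sigma,
    Finset.sum_congr rfl fun θ _ => show Nat.card {χ : X // f χ = θ} = p from ?_,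
    Finset.sum_const, Finset.card_univ, ← Nat.card_eq_fintype_card, smul_eq_mul, mul_comm]
  obtain ⟨θ, hθB, hθd, hθP, hθk⟩ := θ
  have hinv : ∀ (g : G) (m : N),
      (θ : N → ℂ) ⟨g * m * g⁻¹, hN.conj_mem (m : G) m.2 g⟩ = (θ : N → ℂ) m := by
    intro g m
    obtain ⟨a, ha, x, hx, rfl⟩ := Subgroup.mem_sup_of_normal_left.1 (hNP.ge (Subgroup.mem_top g))
    rw [show (⟨a * x * (m : G) * (a * x)⁻¹, hN.conj_mem (m : G) m.2 (a * x)⟩ : N) =
      ⟨a, ha⟩ * ⟨x * m * x⁻¹, hN.conj_mem m m.2 x⟩ * (⟨a, ha⟩ : N)⁻¹ from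
        Subtype.ext (by simp [mul_assoc])]
    rw [hcl θ, hθP x hx m]
  obtain ⟨χ₀, ⟨hχ₀, hχ₀r, hχ₀d⟩, huniq⟩ := S0867.result N (θ : N → ℂ) θ.2 hinv
    (charDegree (θ : N → ℂ)) (Cfsg.Agent.CharX.irr_deg θ) (by
      rw [hn]
      exact Nat.Coprime.pow_left _ (hp.out.coprime_iff_not_dvd.2
        ((Nat.Prime.not_dvd_mul hp.out) (hdet θ) hθd)))
  have hχ₀k : ∀ g, χ₀ (g ^ k) = χ₀ g := fun g => by
    have hc := IsIrrCharacter.isCharacter hχ₀
    rw [← hmap hc]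
    refine congrFun (huniq (fun g => σ (χ₀ g)) (CharGalois.IsIrrCharacter.twist hχ₀ σ) (fun m => ?_)
      ?_) g
    · show σ (χ₀ (m : G)) = _
      rw [hmap hc, ← Subgroup.coe_pow, hχ₀r, hθk]
    · rw [Cfsg.Agent.DetComp.detOrder_galois σ hc, hχ₀d, hn]
      exact Nat.Coprime.pow_left _ (hp.out.coprime_iff_not_dvd.2 (hdet θ))
  have hres0 : IsIrrCharacter N (fun y : N => χ₀ y) := by
    rw [show (fun y : N => χ₀ y) = (θ : N → ℂ) from funext hχ₀r]; exact θ.2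
  obtain ⟨hg1, hg2, hg3⟩ := gallagher_one N (IsIrrCharacter.isCharacter hχ₀) hres0
  let lin : (G →* ℂˣ) → IrrCharacter G := fun c => ⟨fun g => (c g : ℂ), isIrrCharacter_linear c⟩
  have hlinN : ∀ c : G →* ℂˣ, (∀ y ∈ N, c y = 1) →
      ∀ y : N, (lin c : G → ℂ) y = (lin c : G → ℂ) 1 := fun c hc y => by
    show (c y : ℂ) = (c 1 : ℂ)
    rw [hc y y.2, map_one]
  have hinj : ∀ c c' : G →* ℂˣ, (∀ y ∈ N, c y = 1) → (∀ y ∈ N, c' y = 1) →
      (∀ g, (c g : ℂ) * χ₀ g = (c' g : ℂ) * χ₀ g) → c = c' := fun c c' hc hc' h => by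
    have := congrArg Subtype.val (hg2 (lin c) (lin c') (hlinN c hc) (hlinN c' hc') (funext h))
    exact MonoidHom.ext fun g => Units.ext (congrFun this g)
  refine (Eq.symm ?_).trans (card_hom_fixed N P hNP hcyc hn hn0 hk₁)
  refine Nat.card_congr (Equiv.ofBijective (fun c => ?_) ⟨fun c c' h => ?_, fun χ => ?_⟩)
  · let χ : IrrCharacter G := ⟨_, hg1 (lin c.1) (hlinN _ c.2.1)⟩
    have hχr : ∀ y : N, (χ : G → ℂ) y = (θ : N → ℂ) y := fun y => by
      show (c.1 y : ℂ) * χ₀ y = _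
      rw [c.2.1 y y.2, Units.val_one, one_mul, hχ₀r]
    have hχd : ¬ p ∣ charDegree (χ : G → ℂ) := hdeg χ θ hχr ▸ hθd
    refine ⟨⟨χ, (hblk χ θ hχr).2 hθB, hχd, fun g => ?_⟩, Subtype.ext (Subtype.ext (funext fun y => ?_))⟩
    · show (c.1 (g ^ k) : ℂ) * χ₀ (g ^ k) = (c.1 g : ℂ) * χ₀ g
      rw [map_pow, ← MonoidHom.pow_apply, c.2.2, hχ₀k]
    · show (r χ hχd : N → ℂ) y = (θ : N → ℂ) y
      rw [← hr, hχr]
  · refine Subtype.ext (hinj _ _ c.2.1 c'.2.1 fun g => ?_)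
    exact congrFun (congrArg Subtype.val (congrArg Subtype.val (congrArg Subtype.val h))) g
  · have hχr : ∀ y : N, (χ.1.1 : G → ℂ) y = (θ : N → ℂ) y := fun y => by
      rw [hr χ.1.1 χ.1.2.2.1]
      exact congrArg (fun θ' : IrrCharacter N => (θ' : N → ℂ) y) (congrArg Subtype.val χ.2)
    obtain ⟨β, hβN, hβ⟩ := hg3 _ χ.1.1.2 (by
      rw [show (fun y : N => χ₀ y) = (θ : N → ℂ) from funext hχ₀r]
      exact hcover _ _ hχr)
    have hβ1 : (β : G → ℂ) 1 = 1 := by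
      have h1 := congrFun hβ 1
      have e : χ₀ 1 = (θ : N → ℂ) 1 := hχ₀r 1
      have e' : (χ.1.1 : G → ℂ) 1 = (θ : N → ℂ) 1 := hχr 1
      rw [Pi.mul_apply, e, e'] at h1
      exact mul_right_cancel₀ (IsIrrCharacter.one_ne_zero θ.2) (h1.trans (one_mul _).symm)
    obtain ⟨c, hc⟩ := exists_hom_of_degree_one (IsIrrCharacter.isCharacter β.2) hβ1
    have hcN : ∀ y ∈ N, c y = 1 := fun y hy =>
      Units.ext (((congrFun hc y).symm.trans (hβN ⟨y, hy⟩)).trans hβ1)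
    have hcχ : ∀ g, (χ.1.1 : G → ℂ) g = (c g : ℂ) * χ₀ g := fun g => by
      rw [← hβ, Pi.mul_apply, hc]
    have hck : c ^ k = c := hinj _ _ (fun y hy => by rw [MonoidHom.pow_apply, hcN y hy, one_pow]) hcN
      fun g => by
        rw [MonoidHom.pow_apply, ← map_pow, ← hcχ g, ← χ.1.2.2.2 g, hcχ, hχ₀k]
    exact ⟨⟨c, hcN, hck⟩, Subtype.ext (Subtype.ext (Subtype.ext (funext fun g => (hcχ g).symm)))⟩

end Cfsg.Agent.CyclicQuotientFixed
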