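/-
Congruences between conjugate algebraic integers of a cyclotomic field.
-/
import Cfsg.Agent.Lib.Blocks.LocalRing
import Cfsg.Agent.Lib.Char.Galois
import Mathlib.NumberTheory.NumberField.Cyclotomic.Basic

set_option linter.unusedSectionVars false
set_option linter.style.haveILetI false

namespace Cfsg.Agent.Blocks

open Cfsg

variable {p : ℕ} {M : Ideal AlgInt} [M.IsPrime]

/-- A `p`-power twist of a root of unity does not change an integer of its cyclotomic field
modulo `M`. -/
theorem sub_mem_of_mem_adjoin (hM : IsPModular p M) {n k : ℕ} (hn : n ≠ 0) {ζ : ℂ}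
    (hζ : IsPrimitiveRoot ζ n) {σ : ℂ ≃+* ℂ} (hσ : σ ζ = ζ ^ k)
    (hk : MemLocalIdeal M (ζ ^ k - ζ)) {x : ℂ}
    (hx : x ∈ IntermediateField.adjoin ℚ ({ζ} : Set ℂ)) (hxi : IsIntegral ℤ x) :
    MemLocalIdeal M (σ x - x) := by
  haveI : NeZero n := ⟨hn⟩
  set K := IntermediateField.adjoin ℚ ({ζ} : Set ℂ)
  haveI : IsCyclotomicExtension {n} ℚ K := by
    change IsCyclotomicExtension {n} ℚ K.toSubalgebra
    rw [IntermediateField.adjoin_simple_toSubalgebra_of_isAlgebraic
      ((hζ.isIntegral (Nat.pos_of_ne_zero hn)).tower_top (A := ℚ)).isAlgebraic]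
    exact hζ.adjoin_isCyclotomicExtension ℚ
  have hζK : ζ ∈ K := IntermediateField.subset_adjoin ℚ _ rfl
  have hζ' : IsPrimitiveRoot (⟨ζ, hζK⟩ : K) n :=
    IsPrimitiveRoot.of_map_of_injective (f := K.val) hζ Subtype.val_injective
  have hxK : IsIntegral ℤ (⟨x, hx⟩ : K) :=
    (isIntegral_algebraMap_iff (B := ℂ) (Subtype.val_injective :
      Function.Injective (algebraMap K ℂ))).1 hxi
  obtain ⟨y, hy⟩ :=
    (IsCyclotomicExtension.Rat.isIntegralClosure_adjoin_singleton hζ').isIntegral_iff.1 hxK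
  have key : ∀ z ∈ Algebra.adjoin ℤ ({(⟨ζ, hζK⟩ : K)} : Set K),
      IsIntegral ℤ (z : ℂ) ∧ MemLocalIdeal M (σ (z : ℂ) - z) := by
    intro z hz
    induction hz using Algebra.adjoin_induction with
    | mem z hz =>
      rw [Set.mem_singleton_iff.1 hz]
      refine ⟨hζ.isIntegral (Nat.pos_of_ne_zero hn), ?_⟩
      show MemLocalIdeal M (σ ζ - ζ)
      rw [hσ]
      exact hk
    | algebraMap r =>
      refine ⟨by simpa using isIntegral_intCast r, ?_⟩
      simpa using memLocalIdeal_zero (M := M)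
    | add z w _ _ hz hw =>
      refine ⟨by simpa using hz.1.add hw.1, ?_⟩
      have := MemLocalIdeal.add hz.2 hw.2
      convert this using 1
      push_cast [map_add]
      ring
    | mul z w _ _ hz hw =>
      refine ⟨by simpa using hz.1.mul hw.1, ?_⟩
      have hint : IsIntegral ℤ (σ (z : ℂ)) := hz.1.map σ.toRingHom.toIntAlgHom
      have := MemLocalIdeal.add
        (MemLocalIdeal.mul_left (mem_locRing_of_isIntegral (M := M) hint) hw.2)
        (MemLocalIdeal.mul_right hz.2 (mem_locRing_of_isIntegral (M := M) hw.1))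
      convert this using 1
      push_cast [map_mul]
      ring
  have h := (key (y : K) y.2).2
  have hyx : ((y : K) : ℂ) = x := congrArg Subtype.val hy
  rwa [hyx] at h

end Cfsg.Agent.Blocks
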