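/-
2-blocks of defect one.
-/
import Cfsg.Agent.Lib.Blocks.FirstMain
import Cfsg.Agent.Lib.Blocks.SecondMain
import Cfsg.Agent.Lib.Blocks.CentralDefect
import Cfsg.Agent.Lib.Blocks.Defect
import Cfsg.Agent.Lib.Blocks.Misc
import Cfsg.Agent.Lib.Char.DegreeCenter

set_option linter.unusedSectionVars false
set_option linter.style.haveILetI false

namespace Cfsg.Agent.Blocks

open Cfsg MonoidAlgebra Cfsg.Agent.Char
open scoped ComplexConjugate

universe u

variable {G : Type u} [Group G] [Fintype G] {M : Ideal AlgInt} [M.IsPrime]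

/-- A block with defect group generated by a central involution `z`: all members agree with the
member `θ` that is trivial on `z` at the elements of odd order. -/
theorem central_involution_block (hM : IsPModular 2 M) {z : G} (hz : orderOf z = 2)
    (hzc : z ∈ Subgroup.center G) {b : Set (IrrCharacter G)} (hb : IsPBlock M b)
    (hD : ∀ D : Subgroup G, IsDefectGroup 2 M b D → D = Subgroup.zpowers z)
    {θ : IrrCharacter G} (hθ : θ ∈ b) (hθz : (θ : G → ℂ) z = (θ : G → ℂ) 1) :
    (∀ η ∈ b, (∀ u : G, ¬ 2 ∣ orderOf u → (η : G → ℂ) u = (θ : G → ℂ) u) ∧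
      ∃ c : ℤ, (c = 1 ∨ c = -1) ∧ ∀ g : G, (η : G → ℂ) (z * g) = (c : ℂ) * (η : G → ℂ) g) ∧
    ∀ u v : G, ¬ 2 ∣ orderOf u → ¬ 2 ∣ orderOf v →
      blockPair b u v = 2 * ((θ : G → ℂ) u * conj ((θ : G → ℂ) v)) := by
  classical
  haveI := Fact.mk hM.1
  have hp := hM.1
  have hG : (Nat.card G : ℂ) ≠ 0 := Nat.cast_ne_zero.2 Nat.card_pos.ne'
  set R := Finset.univ.filter (fun u : G => ¬ 2 ∣ orderOf u) with hR
  have hz1 : z ≠ 1 := fun e => by rw [e, orderOf_one] at hz; omega
  have hzz : z * z = 1 := by rw [← pow_two, ← hz, pow_orderOf_eq_one]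
  have hcomm : ∀ g : G, Commute z g := fun g => (Subgroup.mem_center_iff.1 hzc g).symm
  have hzpow : Subgroup.zpowers z ≤ Subgroup.center G := Subgroup.zpowers_le.2 hzc
  have hcardz : Nat.card (Subgroup.zpowers z) = 2 := by rw [Nat.card_zpowers, hz]
  have hzP : IsPGroup 2 (Subgroup.zpowers z) := IsPGroup.of_card (n := 1) (by rw [hcardz, pow_one])
  have hsign : ∀ η : IrrCharacter G, ∃ c : ℤ, (c = 1 ∨ c = -1) ∧
      (∀ g, (η : G → ℂ) (z * g) = (c : ℂ) * (η : G → ℂ) g) := by
    intro η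
    obtain ⟨c, -, hc, -⟩ := IsIrrCharacter.exists_central_scalar η.2 hzc
    have h1 := hc z
    rw [hzz] at h1
    have h2 := hc 1
    rw [mul_one] at h2
    rw [h2, ← mul_assoc] at h1
    have h3 : c * c = 1 := (mul_left_eq_self₀.1 h1.symm).resolve_right (irr_one_ne_zero η)
    rcases mul_self_eq_one_iff.1 h3 with rfl | rfl
    · exact ⟨1, Or.inl rfl, fun g => by rw [hc g]; norm_num⟩
    · exact ⟨-1, Or.inr rfl, fun g => by rw [hc g]; norm_num⟩
  choose c hc1 hc using hsign
  have hcθ : c θ = 1 := by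
    have := hc θ 1
    rw [mul_one, hθz] at this
    have h2 : ((c θ : ℤ) : ℂ) = ((1 : ℤ) : ℂ) := by
      rw [Int.cast_one]
      exact mul_right_cancel₀ (irr_one_ne_zero θ) (by rw [one_mul]; exact this.symm)
    exact_mod_cast h2
  have hvan : ∀ η ∈ b, ∀ g : G, g ∉ R → g ∉ R.image (z * ·) → (η : G → ℂ) g = 0 := by
    intro η hη g hg hg'
    obtain ⟨a, ha⟩ := exists_isPPart (p := 2) hp g
    refine irr_eq_zero_of_notMem_defect hM hb hη ha fun D hD' haD => ?_
    rw [hD D hD', Subgroup.mem_zpowers_iff] at haD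
    obtain ⟨i, hi⟩ := haD
    obtain ⟨u, hau, -, -, hu⟩ := ha
    rcases Int.even_or_odd' i with ⟨j, rfl | rfl⟩
    · rw [zpow_mul, zpow_two, hzz, one_zpow] at hi
      rw [← hi, one_mul] at hau
      exact hg (by rw [← hau]; exact Finset.mem_filter.2 ⟨Finset.mem_univ _, hu⟩)
    · rw [zpow_add, zpow_mul, zpow_two, hzz, one_zpow, zpow_one, one_mul] at hi
      exact hg' (Finset.mem_image.2 ⟨u, Finset.mem_filter.2 ⟨Finset.mem_univ _, hu⟩, by
        rw [hi]; exact hau⟩)
  have hdisj : Disjoint R (R.image (z * ·)) := by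
    refine Finset.disjoint_left.2 fun g hg hg' => ?_
    obtain ⟨u, hu, rfl⟩ := Finset.mem_image.1 hg'
    simp only [hR, Finset.mem_filter, Finset.mem_univ, true_and] at hg hu
    apply hg
    rw [(hcomm u).orderOf_mul_eq_mul_orderOf_of_coprime
      (by rw [hz]; exact (Nat.prime_two.coprime_iff_not_dvd.2 hu)), hz]
    exact dvd_mul_right _ _
  have hsum : ∀ η ∈ b, ∀ φ ∈ b, ∑ g : G, (η : G → ℂ) g * conj ((φ : G → ℂ) g) =
      (1 + (c η : ℂ) * c φ) * ∑ u ∈ R, (η : G → ℂ) u * conj ((φ : G → ℂ) u) := by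
    intro η hη φ hφ
    rw [← Finset.sum_subset (Finset.subset_univ (R ∪ R.image (z * ·))) fun g _ hg => by
        rw [Finset.mem_union, not_or] at hg
        rw [hvan η hη g hg.1 hg.2, zero_mul],
      Finset.sum_union hdisj, Finset.sum_image fun _ _ _ _ h => mul_left_cancel h, add_mul,
      one_mul, Finset.mul_sum]
    congr 1
    refine Finset.sum_congr rfl fun u _ => ?_
    rw [hc η u, hc φ u, map_mul, map_intCast]
    ring
  have horth : ∀ η ∈ b, ∀ φ ∈ b, c η = c φ →
      2 * ∑ u ∈ R, (η : G → ℂ) u * conj ((φ : G → ℂ) u) =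
        if η = φ then (Nat.card G : ℂ) else 0 := by
    intro η hη φ hφ hcc
    have h1 := hsum η hη φ hφ
    have hcc2 : (c η : ℂ) * c φ = 1 := by
      rw [hcc]; rcases hc1 φ with h | h <;> rw [h] <;> norm_num
    rw [hcc2, one_add_one_eq_two] at h1
    rw [← h1]
    have h2 : classInner (η : G → ℂ) (φ : G → ℂ) = if η = φ then 1 else 0 := by
      by_cases e : η = φ
      · rw [if_pos e, e, classInner_self_irr φ.2]
      · rw [if_neg e, classInner_irr_of_ne η.2 φ.2 fun h => e (Subtype.ext h)]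
    unfold classInner at h2
    have := congrArg (fun w => (Nat.card G : ℂ) * w) h2
    simp only [← mul_assoc, mul_inv_cancel₀ hG, one_mul, mul_ite, mul_one, mul_zero] at this
    exact this
  -- the degree of θ
  have hdefect : blockDefect 2 b = 1 := by
    obtain ⟨D, hD'⟩ := exists_isDefectGroup (p := 2) hb
    have := card_defectGroup hM hb hD'
    rw [hD D hD', hcardz] at this
    exact (Nat.pow_right_injective le_rfl (this.symm.trans (pow_one 2).symm))
  have hdeg : (Nat.card G).factorization 2 ≤ (2 * charDegree (θ : G → ℂ)).factorization 2 := by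
    have := degExp_ge hM hb hθ
    rw [Nat.factorization_mul two_ne_zero (charDegree_pos θ).ne', Finsupp.add_apply,
      Nat.prime_two.factorization_self]
    omega
  -- θ is the only member trivial on z
  have huniq : ∀ φ ∈ b, c φ = 1 → φ = θ := by
    intro φ hφ hcφ
    by_contra hne
    have hint : ∀ g : G, MemLocalRing M
        (if ¬ 2 ∣ orderOf g then ((2 * charDegree (θ : G → ℂ) : ℕ) : ℂ) / (Nat.card G : ℂ) *
          conj ((θ : G → ℂ) g) else 0) := by
      intro g
      split_ifs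
      · exact (locRing M).zero_mem
      · exact (locRing M).mul_mem (memLocalRing_natDiv hM hdeg) (conj_irr_memLocalRing θ g)
    let E : MonoidAlgebra (locRing M) G := gaOfFun fun g => ⟨_, hint g⟩
    have hEc : IsClassElt E := fun g h => Subtype.ext (by
      simp only [E, coeff_gaOfFun, irr_conj_invariant θ g h]
      rw [show orderOf (h * g * h⁻¹) = orderOf g from
        orderOf_injective (MulAut.conj h).toMonoidHom (MulAut.conj h).injective g])
    have hω : ∀ ψ : IrrCharacter G, omegaR ψ E =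
        ((2 * charDegree (θ : G → ℂ) : ℕ) : ℂ) / (Nat.card G : ℂ) *
          (∑ u ∈ R, (ψ : G → ℂ) u * conj ((θ : G → ℂ) u)) / (ψ : G → ℂ) 1 := by
      intro ψ
      simp only [omegaR, omega, coeff_toC, E, coeff_gaOfFun]
      congr 1
      rw [Finset.mul_sum, hR, Finset.sum_filter]
      refine Finset.sum_congr rfl fun g _ => ?_
      split_ifs <;> ring
    have h1 := omegaR_congr (isPBlock_sameBlock hb hθ hφ) hEc
    have e1 : omegaR θ E = 1 := by
      rw [hω θ, Nat.cast_mul, Nat.cast_two, ← irr_one_eq_charDegree]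
      have := horth θ hθ θ hθ rfl
      rw [if_pos rfl] at this
      field_simp [irr_one_ne_zero θ]
      linear_combination this
    have e2 : omegaR φ E = 0 := by
      rw [hω φ]
      have := horth φ hφ θ hθ (hcφ.trans hcθ.symm)
      rw [if_neg hne, mul_eq_zero] at this
      rw [this.resolve_left two_ne_zero, mul_zero, zero_div]
    rw [e1, e2, sub_zero] at h1
    exact not_memLocalIdeal_one h1
  -- orthogonality between the section of z and the regular elements
  have hcross : ∀ u v : G, ¬ 2 ∣ orderOf u → ¬ 2 ∣ orderOf v →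
      ∑ φ ∈ Finset.univ.filter (fun φ => φ ∈ b ∧ φ ≠ θ), (φ : G → ℂ) u * conj ((φ : G → ℂ) v) =
        (θ : G → ℂ) u * conj ((θ : G → ℂ) v) := by
    intro u v hu hv
    have h0 := blockPair_eq_zero_of_pPart hM hb (g := z * u) (x := z) (y := 1) (h := v)
      ⟨u, rfl, hcomm u, ⟨1, by rw [hz, pow_one]⟩, hu⟩ ((isPPart_one_iff hp).2 hv)
      fun h => hz1 (isConj_one_left.1 h)
    unfold blockPair at h0
    have hfil : (Finset.univ.filter fun φ => φ ∈ b) =
        insert θ (Finset.univ.filter fun φ => φ ∈ b ∧ φ ≠ θ) := by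
      ext φ
      simp only [Finset.mem_filter, Finset.mem_univ, true_and, Finset.mem_insert]
      constructor
      · intro h
        by_cases e : φ = θ
        · exact Or.inl e
        · exact Or.inr ⟨h, e⟩
      · rintro (rfl | h)
        · exact hθ
        · exact h.1
    rw [hfil, Finset.sum_insert (by simp), hc θ u, hcθ, Int.cast_one, one_mul,
      Finset.sum_congr rfl (g := fun φ : IrrCharacter G => -((φ : G → ℂ) u * conj ((φ : G → ℂ) v)))
        fun φ hφ => by
          obtain ⟨hφb, hφθ⟩ := (Finset.mem_filter.1 hφ).2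
          have hcφ : c φ = -1 := (hc1 φ).resolve_left fun h => hφθ (huniq φ hφb h)
          rw [hc φ u, hcφ]; push_cast; ring,
      Finset.sum_neg_distrib, add_neg_eq_zero] at h0
    exact h0.symm
  have hagree : ∀ η ∈ b, ∀ u : G, ¬ 2 ∣ orderOf u → (η : G → ℂ) u = (θ : G → ℂ) u := by
    intro η hη
    by_cases hηθ : η = θ
    · rw [hηθ]; exact fun _ _ => rfl
    have hcη : c η = -1 := (hc1 η).resolve_left fun h => hηθ (huniq η hη h)
    set S := ∑ u ∈ R, (θ : G → ℂ) u * conj ((η : G → ℂ) u) with hS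
    have hk : ∀ v : G, ¬ 2 ∣ orderOf v →
        (Nat.card G : ℂ) * conj ((η : G → ℂ) v) = 2 * S * conj ((θ : G → ℂ) v) := by
      intro v hv
      have h1 : ∑ u ∈ R, (∑ φ ∈ Finset.univ.filter (fun φ => φ ∈ b ∧ φ ≠ θ),
          (φ : G → ℂ) u * conj ((φ : G → ℂ) v)) * (2 * conj ((η : G → ℂ) u)) =
          (Nat.card G : ℂ) * conj ((η : G → ℂ) v) := by
        simp only [Finset.sum_mul]
        rw [Finset.sum_comm, Finset.sum_eq_single η]
        · have := horth η hη η hη rfl
          rw [if_pos rfl] at this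
          rw [← this, Finset.mul_sum, Finset.sum_mul]
          exact Finset.sum_congr rfl fun u _ => by ring
        · intro φ hφ hne
          obtain ⟨hφb, hφθ⟩ := (Finset.mem_filter.1 hφ).2
          have hcφ : c φ = -1 := (hc1 φ).resolve_left fun h => hφθ (huniq φ hφb h)
          have := horth φ hφb η hη (hcφ.trans hcη.symm)
          rw [if_neg hne] at this
          calc ∑ u ∈ R, (φ : G → ℂ) u * conj ((φ : G → ℂ) v) * (2 * conj ((η : G → ℂ) u))
              = conj ((φ : G → ℂ) v) * (2 * ∑ u ∈ R, (φ : G → ℂ) u * conj ((η : G → ℂ) u)) := by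
                simp only [Finset.mul_sum]
                exact Finset.sum_congr rfl fun u _ => by ring
            _ = 0 := by rw [this, mul_zero]
        · exact fun h => absurd (Finset.mem_filter.2 ⟨Finset.mem_univ _, hη, hηθ⟩) h
      rw [← h1, hS, Finset.mul_sum, Finset.sum_mul]
      refine Finset.sum_congr rfl fun u hu => ?_
      rw [hcross u v (Finset.mem_filter.1 hu).2 hv]
      ring
    have h11 : ¬ 2 ∣ orderOf (1 : G) := by simp
    obtain ⟨r, hr, hr0⟩ : ∃ r : ℝ, (∀ u : G, ¬ 2 ∣ orderOf u →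
        (η : G → ℂ) u = (r : ℂ) * (θ : G → ℂ) u) ∧ 0 ≤ r := by
      refine ⟨(charDegree (η : G → ℂ) : ℝ) / (charDegree (θ : G → ℂ) : ℝ), fun u hu => ?_,
        by positivity⟩
      have h1 := hk u hu
      have h2 := hk 1 h11
      rw [conj_irr_one, conj_irr_one] at h2
      have h3 : (Nat.card G : ℂ) * (conj ((η : G → ℂ) u) * (θ : G → ℂ) 1 -
          (η : G → ℂ) 1 * conj ((θ : G → ℂ) u)) = 0 := by
        linear_combination ((θ : G → ℂ) 1) * h1 - (conj ((θ : G → ℂ) u)) * h2
      have h4 := congrArg conj (sub_eq_zero.1 ((mul_eq_zero.1 h3).resolve_left hG))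
      simp only [map_mul, Complex.conj_conj, conj_irr_one] at h4
      push_cast
      rw [← irr_one_eq_charDegree, ← irr_one_eq_charDegree, div_mul_eq_mul_div,
        eq_div_iff (irr_one_ne_zero θ)]
      exact h4
    have h1 := horth η hη η hη rfl
    rw [if_pos rfl] at h1
    have h2 := horth θ hθ θ hθ rfl
    rw [if_pos rfl] at h2
    rw [Finset.sum_congr rfl (g := fun u => ((r : ℂ) * r) * ((θ : G → ℂ) u * conj ((θ : G → ℂ) u)))
      fun u hu => by
        rw [hr u (Finset.mem_filter.1 hu).2, map_mul, Complex.conj_ofReal]; ring,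
      ← Finset.mul_sum, mul_left_comm, h2] at h1
    have h3 : ((r * r : ℝ) : ℂ) = ((1 : ℝ) : ℂ) := by
      push_cast
      exact mul_right_cancel₀ hG (by rw [one_mul]; exact h1)
    have h4 : r = 1 := by
      rcases mul_self_eq_one_iff.1 (Complex.ofReal_injective h3) with h | h
      · exact h
      · linarith
    intro u hu
    rw [hr u hu, h4, Complex.ofReal_one, one_mul]
  refine ⟨fun η hη => ⟨hagree η hη, c η, hc1 η, hc η⟩, fun u v hu hv => ?_⟩
  unfold blockPair
  rw [← Finset.add_sum_erase _ _ (Finset.mem_filter.2 ⟨Finset.mem_univ θ, hθ⟩), two_mul]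
  congr 1
  refine Eq.trans (Finset.sum_congr ?_ fun _ _ => rfl) (hcross u v hu hv)
  ext φ
  simp [and_comm]

theorem existsUnique_defect_block (hM : IsPModular 2 M) {x : G} {C : Subgroup G} [Fintype C]
    (hC : C = Subgroup.normalizer (Subgroup.zpowers x : Set G))
    {B : Set (IrrCharacter G)} (hB : IsPBlock M B)
    (hBD : IsDefectGroup 2 M B (Subgroup.zpowers x)) :
    ∃! b : Set (IrrCharacter C), IsPBlock M b ∧
      IsDefectGroup 2 M b ((Subgroup.zpowers x).subgroupOf C) ∧ IsInducedBlock M C b B := by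
  subst hC
  exact (first_main hM (isPGroup_defectGroup hBD)).2 B hB hBD

/-- 2-blocks with a defect group of order two. -/
theorem two_block_defect_one (hM : IsPModular 2 M) {x : G} (hx : orderOf x = 2)
    {B : Set (IrrCharacter G)} (hB : IsPBlock M B)
    (hBD : IsDefectGroup 2 M B (Subgroup.zpowers x)) {C : Subgroup G} [Fintype C]
    (hC : C = Subgroup.centralizer ({x} : Set G)) {b : Set (IrrCharacter C)}
    (hb : IsInducedBlock M C b B) {θ : IrrCharacter C} (hθ : θ ∈ b)
    (hθx : ∀ z : C, (z : G) = x → (θ : C → ℂ) z = (θ : C → ℂ) 1) :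
    Nat.card B = 2 ∧ (∀ χ ∈ B, ∀ ψ ∈ B, ∀ g : G, ¬ 2 ∣ orderOf g →
        (χ : G → ℂ) g = (ψ : G → ℂ) g) ∧
      ∃ χ₁ ∈ B, ∃ χ₂ ∈ B, χ₁ ≠ χ₂ ∧ ∃ ε₁ ε₂ : ℤ, (ε₁ = 1 ∨ ε₁ = -1) ∧ (ε₂ = 1 ∨ ε₂ = -1) ∧
        ε₁ * ε₂ = -1 ∧ ∀ y : C, ¬ 2 ∣ orderOf y →
          (χ₁ : G → ℂ) (x * y) = (ε₁ : ℂ) * (θ : C → ℂ) y ∧
            (χ₂ : G → ℂ) (x * y) = (ε₂ : ℂ) * (θ : C → ℂ) y := by
  classical
  haveI := Fact.mk hM.1
  have hp := hM.1
  have hxx : x * x = 1 := by rw [← pow_two, ← hx, pow_orderOf_eq_one]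
  have hx1 : x ≠ 1 := fun e => by rw [e, orderOf_one] at hx; omega
  have hxk : ∃ k, orderOf x = 2 ^ k := ⟨1, by rw [hx, pow_one]⟩
  have hxC : x ∈ C := by
    rw [hC, Subgroup.mem_centralizer_singleton_iff]
  set z : C := ⟨x, hxC⟩ with hzdef
  have hzo : orderOf z = 2 := by rw [← Subgroup.orderOf_coe, hx]
  have hzc : z ∈ Subgroup.center C := Subgroup.mem_center_iff.2 fun g => Subtype.ext
    (Subgroup.mem_centralizer_singleton_iff.1 (hC ▸ g.2 : (g : G) ∈ Subgroup.centralizer {x}))
  have hzp : Subgroup.zpowers z = (Subgroup.zpowers x).subgroupOf C := by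
    ext g
    simp only [Subgroup.mem_subgroupOf, Subgroup.mem_zpowers_iff]
    exact ⟨fun ⟨i, hi⟩ => ⟨i, by rw [← hi]; rfl⟩, fun ⟨i, hi⟩ => ⟨i, Subtype.ext (by rw [← hi]; rfl)⟩⟩
  have hNC : C = Subgroup.normalizer (Subgroup.zpowers x : Set G) := by
    ext g
    rw [hC, Subgroup.mem_centralizer_singleton_iff, Subgroup.mem_normalizer_iff]
    have hmem : ∀ y : G, y ∈ Subgroup.zpowers x ↔ y = 1 ∨ y = x := by
      intro y
      constructor
      · intro h
        obtain ⟨i, rfl⟩ := Subgroup.mem_zpowers_iff.1 h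
        rcases Int.even_or_odd' i with ⟨j, rfl | rfl⟩
        · left; rw [zpow_mul, zpow_two, hxx, one_zpow]
        · right; rw [zpow_add, zpow_mul, zpow_two, hxx, one_zpow, zpow_one, one_mul]
      · rintro (h | h) <;> rw [h]
        · exact one_mem _
        · exact Subgroup.mem_zpowers x
    constructor
    · intro hg y
      simp only [hmem]
      constructor
      · rintro (rfl | rfl)
        · left; group
        · right; rw [hg, mul_inv_cancel_right]
      · rintro (h | h)
        · left; simpa using h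
        · right
          have : y = g⁻¹ * x * g := by rw [← h]; group
          rw [this, mul_assoc, ← hg, inv_mul_cancel_left]
    · intro h
      rcases (hmem _).1 ((h x).1 (Subgroup.mem_zpowers x)) with e | e
      · exact absurd (conj_eq_one_iff.1 e) hx1
      · exact mul_inv_eq_iff_eq_mul.1 e
  have hle : Subgroup.zpowers x ≤ C := Subgroup.zpowers_le.2 hxC
  have hdef : ∀ (b' : Set (IrrCharacter C)), IsInducedBlock M C b' B →
      ∀ D : Subgroup C, IsDefectGroup 2 M b' D → D = (Subgroup.zpowers x).subgroupOf C :=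
    fun b' hb' D hD => defectGroup_eq_of_induced hM hBD hle hNC.le hb' hD
  have huniqb : ∀ b' : Set (IrrCharacter C), IsInducedBlock M C b' B → b' = b := by
    intro b' hb'
    obtain ⟨b₀, -, hu⟩ := existsUnique_defect_block hM hNC hB hBD
    obtain ⟨D, hD⟩ := exists_isDefectGroup (p := 2) hb.1
    obtain ⟨D', hD'⟩ := exists_isDefectGroup (p := 2) hb'.1
    rw [hu b' ⟨hb'.1, hdef b' hb' D' hD' ▸ hD', hb'⟩, hu b ⟨hb.1, hdef b hb D hD ▸ hD, hb⟩]
  obtain ⟨hbag, hbpair⟩ := central_involution_block hM hzo hzc hb.1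
    (fun D hD => (hdef b hb D hD).trans hzp.symm) hθ (hθx z rfl)
  -- the values on the section of x
  have hsec : ∀ χ : IrrCharacter G, χ ∈ B → ∃ a : ℤ, ∀ u : C, ¬ 2 ∣ orderOf u →
      (χ : G → ℂ) (x * u) = (a : ℂ) * (θ : C → ℂ) u ∧
        blockPart b (secFun x C (χ : G → ℂ)) u = (a : ℂ) * (θ : C → ℂ) u := by
    intro χ hχ
    have hres : IsCharacter C (fun u : C => (χ : G → ℂ) u) :=
      IsCharacter.restrict (irr_isCharacter χ) C
    have hint : ∀ φ : IrrCharacter C, φ ∈ b → ∃ m : ℤ,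
        classInner (secFun x C (χ : G → ℂ)) (φ : C → ℂ) = (m : ℂ) := by
      intro φ hφ
      obtain ⟨c, -, hc⟩ := (hbag φ hφ).2
      obtain ⟨n, hn⟩ := IsCharacter.exists_classInner_nat hres (irr_isCharacter φ)
      refine ⟨c * n, ?_⟩
      rw [Int.cast_mul, Int.cast_natCast, ← hn]
      unfold classInner secFun
      rw [← mul_assoc (c : ℂ), mul_comm (c : ℂ), mul_assoc, Finset.mul_sum (a := (c : ℂ))]
      congr 1
      refine Fintype.sum_equiv (Equiv.mulLeft z) _ _ fun u => ?_
      simp only [Equiv.coe_mulLeft, Subgroup.coe_mul, hc, map_mul, map_intCast]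
      have hcc : (c : ℂ) * c = 1 := by
        have h1 := hc z
        have h2 := hc 1
        rw [mul_one] at h2
        rw [show z * z = 1 from Subtype.ext hxx, h2, ← mul_assoc] at h1
        exact (mul_left_eq_self₀.1 h1.symm).resolve_right (irr_one_ne_zero φ)
      linear_combination (-((χ : G → ℂ) (x * u) * conj ((φ : C → ℂ) u))) * hcc
    choose! m hm using hint
    refine ⟨∑ φ ∈ Finset.univ.filter (· ∈ b), m φ, fun u hu => ?_⟩
    have h1 : blockPart b (secFun x C (χ : G → ℂ)) u =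
        ((∑ φ ∈ Finset.univ.filter (· ∈ b), m φ : ℤ) : ℂ) * (θ : C → ℂ) u := by
      rw [blockPart_eq_sum, Int.cast_sum, Finset.sum_mul]
      refine Finset.sum_congr rfl fun φ hφ => ?_
      rw [hm φ (Finset.mem_filter.1 hφ).2, (hbag φ (Finset.mem_filter.1 hφ).2).1 u hu]
    refine ⟨?_, h1⟩
    rw [← h1]
    show secFun x C (χ : G → ℂ) u = _
    rw [← sum_blockPart (M := M) (isClassFunction_secFun hC
      (IsCharacter.isClassFunction (irr_isCharacter χ))) u]
    refine Finset.sum_eq_single b (fun b' hb' hne => ?_) fun h => absurd (mem_blocks.2 hb.1) h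
    exact blockPart_secFun_eq_zero hM hxk hC hB hχ (mem_blocks.1 hb')
      (fun h => hne (huniqb b' h)) hu
  choose! a ha using hsec
  set s := Finset.univ.filter (fun χ : IrrCharacter G => χ ∈ B) with hs
  have h1o : ¬ 2 ∣ orderOf (1 : C) := by simp
  have hsq : ∑ χ ∈ s, a χ * a χ = 2 := by
    have h := blockPart_secFun_gram (u := (1 : C)) (v := (1 : C)) hM hxk hC hB hb.1 h1o h1o
    rw [if_pos ((mem_unitBlocks_iff_induced' hM hxk hC hB).2 hb), hbpair 1 1 h1o h1o,
      Finset.sum_congr rfl fun χ hχ => by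
        rw [(ha χ (Finset.mem_filter.1 hχ).2 1 h1o).2, map_mul, map_intCast]] at h
    have h2 : ((∑ χ ∈ s, a χ * a χ : ℤ) : ℂ) = ((2 : ℤ) : ℂ) := by
      refine mul_right_cancel₀ (mul_ne_zero (irr_one_ne_zero θ) ((map_ne_zero (starRingEnd ℂ)).2
        (irr_one_ne_zero θ))) ?_
      push_cast
      rw [← h, Finset.sum_mul]
      exact Finset.sum_congr rfl fun χ _ => by ring
    exact_mod_cast h2
  -- vanishing away from the section of x
  have haway : ∀ χ ∈ B, ∀ g : G, 2 ∣ orderOf g →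
      (χ : G → ℂ) g = 0 ∨ a χ ≠ 0 := by
    intro χ hχ g hg
    by_cases h0 : a χ = 0
    · left
      obtain ⟨t, ht⟩ := exists_isPPart (p := 2) hp g
      by_cases hconj : IsConj t x
      · obtain ⟨w, rfl, hcw, -, hw⟩ := ht
        obtain ⟨d, hd⟩ := isConj_iff.1 hconj
        have hmem : d * w * d⁻¹ ∈ C := by
          rw [hC, Subgroup.mem_centralizer_singleton_iff, ← hd]
          calc d * w * d⁻¹ * (d * t * d⁻¹) = d * (w * t) * d⁻¹ := by group
            _ = d * (t * w) * d⁻¹ := by rw [hcw.eq]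
            _ = _ := by group
        have hodd : ¬ 2 ∣ orderOf (⟨d * w * d⁻¹, hmem⟩ : C) := by
          rw [← Subgroup.orderOf_coe]
          show ¬ 2 ∣ orderOf ((MulAut.conj d).toMonoidHom w)
          rwa [orderOf_injective (MulAut.conj d).toMonoidHom (MulAut.conj d).injective w]
        have h := (ha χ hχ _ hodd).1
        rw [h0, Int.cast_zero, zero_mul] at h
        rw [← h, ← hd, show d * t * d⁻¹ * (d * w * d⁻¹) = d * (t * w) * d⁻¹ by group,
          irr_conj_invariant]
      · refine irr_eq_zero_of_notMem_defect hM hB hχ ht fun D hD htD => hconj ?_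
        obtain ⟨u, hu, -, hu1, hu2⟩ := id ht
        have ht1 : t ≠ 1 := by
          rintro rfl
          rw [one_mul] at hu
          exact hu2 (hu ▸ hg)
        have hDc : Nat.card D = 2 := by
          rw [card_defectGroup hM hB hD, ← card_defectGroup hM hB hBD, Nat.card_zpowers, hx]
        obtain ⟨P, hP⟩ := id hD
        have hD2 : ∃ d : G, ∀ y ∈ D, d * y * d⁻¹ ∈ Subgroup.zpowers x := by
          obtain ⟨d, hd⟩ := defectGroup_conj hM hB hBD hD
          exact ⟨d, fun y hy => by rw [hd]; exact ⟨y, hy, rfl⟩⟩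
        obtain ⟨d, hd⟩ := hD2
        have h := hd t htD
        rcases Int.even_or_odd' (Subgroup.mem_zpowers_iff.1 h).choose with ⟨j, hj | hj⟩ <;>
          have hk := (Subgroup.mem_zpowers_iff.1 h).choose_spec <;> rw [hj] at hk
        · rw [zpow_mul, zpow_two, hxx, one_zpow] at hk
          exact absurd (conj_eq_one_iff.1 hk.symm) ht1
        · rw [zpow_add, zpow_mul, zpow_two, hxx, one_zpow, zpow_one, one_mul] at hk
          exact isConj_iff.2 ⟨d, hk.symm⟩
    · exact Or.inr h0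
  have hne0 : ∀ χ ∈ B, a χ ≠ 0 := by
    intro χ hχ h0
    have hvan : ∀ g : G, orderOf g = 2 → (χ : G → ℂ) g = 0 := fun g hg =>
      (haway χ hχ g (by rw [hg])).resolve_right fun h => h h0
    have hBeq : B = {χ} := by
      rw [← blockOf_eq_singleton hM χ (degExp_of_vanish hM χ hvan)]
      exact isPBlock_eq_blockOf hB hχ
    have : s = {χ} := by
      ext ψ
      simp [hs, hBeq]
    rw [this, Finset.sum_singleton, h0] at hsq
    simp at hsq
  have hone : ∀ χ ∈ s, 1 ≤ a χ * a χ := fun χ hχ => by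
    have := mul_self_pos.2 (hne0 χ (Finset.mem_filter.1 hχ).2)
    omega
  have hcard : s.card = 2 := by
    have h1 := Finset.card_nsmul_le_sum s (fun χ => a χ * a χ) 1 hone
    rw [hsq] at h1
    simp at h1
    obtain ⟨χ, hχ⟩ := isPBlock_nonempty hB
    have h2 : 0 < s.card := Finset.card_pos.2 ⟨χ, Finset.mem_filter.2 ⟨Finset.mem_univ _, hχ⟩⟩
    by_contra hne
    obtain ⟨ψ, hψ⟩ := Finset.card_eq_one.1 (show s.card = 1 by omega)
    rw [hψ, Finset.sum_singleton] at hsq
    have h3 : a ψ ≤ 1 ∧ -1 ≤ a ψ := ⟨by nlinarith, by nlinarith⟩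
    obtain ⟨h3, h4⟩ := h3
    interval_cases (a ψ) <;> omega
  obtain ⟨χ₁, χ₂, hne, hs12⟩ := Finset.card_eq_two.1 hcard
  have hmem : ∀ χ, χ ∈ B ↔ χ = χ₁ ∨ χ = χ₂ := fun χ => by
    have := Finset.ext_iff.1 hs12 χ
    simpa [hs] using this
  have h1B := (hmem χ₁).2 (Or.inl rfl)
  have h2B := (hmem χ₂).2 (Or.inr rfl)
  rw [hs12, Finset.sum_pair hne] at hsq
  have ha1 : a χ₁ * a χ₁ = 1 := by
    have := hone χ₁ (by rw [hs12]; simp)
    have := hone χ₂ (by rw [hs12]; simp)
    omega
  have ha2 : a χ₂ * a χ₂ = 1 := by omega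
  have he1 := mul_self_eq_one_iff.1 ha1
  have he2 := mul_self_eq_one_iff.1 ha2
  have hcol : ∀ v : G, ¬ 2 ∣ orderOf v →
      (a χ₁ : ℂ) * conj ((χ₁ : G → ℂ) v) + (a χ₂ : ℂ) * conj ((χ₂ : G → ℂ) v) = 0 := by
    intro v hv
    have h0 := blockPair_eq_zero_of_pPart hM hB (g := x) (x := x) (y := 1) (h := v)
      ⟨1, mul_one _, Commute.one_right _, hxk, by simp⟩ ((isPPart_one_iff hp).2 hv)
      fun h => hx1 (isConj_one_left.1 h)
    unfold blockPair at h0
    rw [Finset.sum_congr hs12 fun _ _ => rfl, Finset.sum_pair hne] at h0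
    have e1 := (ha χ₁ h1B 1 h1o).1
    have e2 := (ha χ₂ h2B 1 h1o).1
    rw [Subgroup.coe_one, mul_one] at e1 e2
    rw [e1, e2] at h0
    have h3 : (θ : C → ℂ) 1 * ((a χ₁ : ℂ) * conj ((χ₁ : G → ℂ) v) +
        (a χ₂ : ℂ) * conj ((χ₂ : G → ℂ) v)) = 0 := by linear_combination h0
    exact (mul_eq_zero.1 h3).resolve_left (irr_one_ne_zero θ)
  have hprod : a χ₁ * a χ₂ = -1 := by
    have h0 := hcol 1 (by simp)
    rw [conj_irr_one, conj_irr_one, irr_one_eq_charDegree, irr_one_eq_charDegree] at h0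
    have h0' : a χ₁ * (charDegree (χ₁ : G → ℂ) : ℤ) + a χ₂ * (charDegree (χ₂ : G → ℂ) : ℤ) = 0 := by
      exact_mod_cast h0
    have d1 := charDegree_pos χ₁
    have d2 := charDegree_pos χ₂
    rcases he1 with e1 | e1 <;> rcases he2 with e2 | e2 <;> rw [e1, e2] at h0' ⊢ <;> omega
  have heq : ∀ v : G, ¬ 2 ∣ orderOf v → (χ₁ : G → ℂ) v = (χ₂ : G → ℂ) v := by
    intro v hv
    have h0 := congrArg conj (hcol v hv)
    simp only [map_add, map_mul, map_intCast, Complex.conj_conj, map_zero] at h0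
    have e : ((a χ₁ : ℤ) : ℂ) * a χ₂ = -1 := by exact_mod_cast hprod
    have e' : ((a χ₁ : ℤ) : ℂ) * a χ₁ = 1 := by exact_mod_cast ha1
    linear_combination (a χ₁ : ℂ) * h0 - (χ₁ : G → ℂ) v * e' - (χ₂ : G → ℂ) v * e
  refine ⟨?_, ?_, χ₁, h1B, χ₂, h2B, hne, a χ₁, a χ₂, he1, he2, hprod, fun y hy =>
    ⟨(ha χ₁ h1B y hy).1, (ha χ₂ h2B y hy).1⟩⟩
  · rw [Nat.card_eq_fintype_card, Fintype.card_subtype]
    exact hcard
  · intro χ hχ ψ hψ g hg
    rcases (hmem χ).1 hχ with rfl | rfl <;> rcases (hmem ψ).1 hψ with rfl | rfl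
    · rfl
    · exact heq g hg
    · exact (heq g hg).symm
    · rfl

end Cfsg.Agent.Blocks
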