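/-
Lower bounds for the norm of a character through its values on subgroups of prime order.
-/
import Cfsg.Agent.Lib.Blocks.Center
import Cfsg.Agent.Lib.Char.Degree
import Cfsg.Agent.Lib.Char.Integral
import Cfsg.Agent.Lib.Char.Complete
import Cfsg.Agent.Lib.Fusion.Basic

set_option linter.unusedSectionVars false
set_option linter.style.haveILetI false

namespace Cfsg.Agent.DefectZero

set_option maxRecDepth 2000

open Cfsg Cfsg.Agent.Char Cfsg.Agent.CharX
open scoped ComplexConjugate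

universe u

/-- The elementary inequality for integers with given sum. -/
theorem int_bound {ι : Type*} [Fintype ι] (m : ι → ℤ) {p : ℤ} (hp : (Fintype.card ι : ℤ) = p)
    {d r : ℤ} (hr0 : 0 ≤ r) (hrp : r < p) (hd : ∑ i, m i = d) (hmod : d % p = r) :
    r * (p - r) ≤ p * (∑ i, m i ^ 2) - d ^ 2 ∧
      (p * (∑ i, m i ^ 2) - d ^ 2 ≤ r * (p - r) → ∀ i, m i = d / p ∨ m i = d / p + 1) := by
  set q := d / p
  have hq : d = p * q + r := by rw [← hmod]; exact (Int.mul_ediv_add_emod d p).symm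
  have hnn : ∀ i, 0 ≤ (m i - q) * (m i - q - 1) := fun i => by
    rcases le_or_gt (m i) q with h | h
    · exact mul_nonneg_of_nonpos_of_nonpos (by omega) (by omega)
    · exact mul_nonneg (by omega) (by omega)
  have key : p * (∑ i, m i ^ 2) - d ^ 2 = r * (p - r) + p * ∑ i, (m i - q) * (m i - q - 1) := by
    have : ∑ i, (m i - q) * (m i - q - 1) =
        (∑ i, m i ^ 2) - (2 * q + 1) * d + p * (q * (q + 1)) := by
      rw [← hd, ← hp, Finset.mul_sum, ← Finset.sum_sub_distrib]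
      rw [show (Fintype.card ι : ℤ) * (q * (q + 1)) = ∑ _i : ι, q * (q + 1) by
        simp [Finset.sum_const], ← Finset.sum_add_distrib]
      exact Finset.sum_congr rfl fun i _ => by ring
    rw [this, hq]
    ring
  have hsum : 0 ≤ ∑ i, (m i - q) * (m i - q - 1) := Finset.sum_nonneg fun i _ => hnn i
  have hp0 : 0 < p := by omega
  refine ⟨by rw [key]; nlinarith, fun h i => ?_⟩
  rw [key] at h
  have h0 : ∑ i, (m i - q) * (m i - q - 1) = 0 := by nlinarith
  rcases mul_eq_zero.1 ((Finset.sum_eq_zero_iff_of_nonneg fun j _ => hnn j).1 h0 i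
    (Finset.mem_univ i)) with h1 | h1 <;> omega

variable {G : Type u} [Group G] [Fintype G] {p : ℕ} [Fact p.Prime]

open scoped Classical

theorem irr_one_of_prime {P : Type u} [Group P] [Fintype P] (hP : Nat.card P = p) :
    Nat.card (IrrCharacter P) = p ∧ ∀ ψ : IrrCharacter P, (ψ : P → ℂ) 1 = 1 := by
  classical
  have hcomm : ∀ a b : P, a * b = b * a := by
    haveI : IsCyclic P := isCyclic_of_prime_card hP
    exact fun a b => mul_comm' a b
  have hcl : Nat.card (ConjClasses P) = p := by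
    rw [← hP]
    refine (Nat.card_congr (Equiv.ofBijective ConjClasses.mk ⟨fun a b h => ?_,
      ConjClasses.mk_surjective⟩)).symm
    obtain ⟨c, hc⟩ := isConj_iff.1 (ConjClasses.mk_eq_mk_iff_isConj.1 h)
    rwa [hcomm c a, mul_inv_cancel_right] at hc
  have hc : Nat.card (IrrCharacter P) = p := card_irrCharacter.trans hcl
  refine ⟨hc, fun ψ => ?_⟩
  rw [irr_deg ψ]
  norm_cast
  by_contra hne
  have h1 : ∀ φ : IrrCharacter P, 1 ≤ charDegree (φ : P → ℂ) ^ 2 := fun φ =>
    Nat.one_le_pow _ _ (irr_deg_pos φ)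
  have h2 := Finset.sum_lt_sum (s := Finset.univ) (f := fun _ => 1)
    (g := fun φ : IrrCharacter P => charDegree (φ : P → ℂ) ^ 2) (fun φ _ => h1 φ)
    ⟨ψ, Finset.mem_univ _, by
      have := irr_deg_pos ψ
      have : 2 ≤ charDegree (ψ : P → ℂ) := by omega
      nlinarith⟩
  rw [sum_deg_sq, Finset.sum_const, Finset.card_univ, ← Nat.card_eq_fintype_card, hc, hP,
    smul_eq_mul, mul_one] at h2
  exact lt_irrefl _ h2

/-- The sum of the squared absolute values over the non-identity elements of a subgroup of order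
`p`, when the values there are divisible by `e`. -/
theorem restrict_bound {χ : G → ℂ} (hχ : IsCharacter G χ) {d : ℕ} (hd : χ 1 = d)
    (P : Subgroup G) [Fintype P] (hP : Nat.card P = p) (e : ℕ) (he : e ≠ 0) (hep : Nat.Coprime e p)
    (hdiv : ∀ u : P, u ≠ 1 → IsIntegral ℤ (χ u / e)) {r : ℕ} (hr : r < p)
    (hmod : e * r % p = d % p) :
    ((e ^ 2 * (r * (p - r)) : ℕ) : ℝ) ≤
        ∑ u : P, (if u = 1 then 0 else Complex.normSq (χ u)) ∧
      (e = 1 → ∑ u : P, (if u = 1 then 0 else Complex.normSq (χ u)) ≤ ((r * (p - r) : ℕ) : ℝ) →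
        ∑ u : P, (if u = 1 then 0 else χ u) = -(r : ℂ) ∨
          ∑ u : P, (if u = 1 then 0 else χ u) = ((p - r : ℕ) : ℂ)) := by
  classical
  have hp : p.Prime := Fact.out
  obtain ⟨hcard, hlin⟩ := irr_one_of_prime hP
  set f : P → ℂ := fun u => χ u with hf
  have hfc : IsCharacter P f := IsCharacter.restrict hχ P
  choose m hm using fun ψ : IrrCharacter P =>
    IsCharacter.exists_classInner_nat hfc (IsIrrCharacter.isCharacter ψ.2)
  have hexp : ∀ u : P, f u = ∑ ψ : IrrCharacter P, (m ψ : ℂ) * (ψ : P → ℂ) u := fun u => by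
    have := congrFun (classFunction_eq_sum (IsCharacter.isClassFunction hfc)) u
    rw [this, Finset.sum_apply]
    exact Finset.sum_congr rfl fun ψ _ => by rw [Pi.smul_apply, smul_eq_mul, hm]
  have hsum : ∑ ψ : IrrCharacter P, (m ψ : ℤ) = (d : ℤ) := by
    have h1 := hexp 1
    simp only [hlin, mul_one] at h1
    rw [show f 1 = χ 1 from rfl, hd] at h1
    exact_mod_cast h1.symm
  have hnorm : ∑ u : P, Complex.normSq (f u) = (p : ℝ) * ∑ ψ : IrrCharacter P, (m ψ : ℝ) ^ 2 := by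
    have h2 : classInner f f = ∑ ψ : IrrCharacter P, ((m ψ : ℂ)) ^ 2 := by
      conv_lhs => arg 1; rw [classFunction_eq_sum (IsCharacter.isClassFunction hfc)]
      rw [classInner_sum_left]
      refine Finset.sum_congr rfl fun ψ _ => ?_
      rw [classInner_smul_left, ← classInner_conj_symm f (ψ : P → ℂ), hm, map_natCast, sq]
    rw [classInner_self_eq] at h2
    have h3 : (Nat.card P : ℝ)⁻¹ * ∑ u : P, ‖f u‖ ^ 2 = ∑ ψ : IrrCharacter P, (m ψ : ℝ) ^ 2 := by
      exact_mod_cast h2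
    rw [← h3, hP, ← mul_assoc, mul_inv_cancel₀ (Nat.cast_ne_zero.2 hp.ne_zero), one_mul]
    simp [Complex.normSq_eq_norm_sq]
  obtain ⟨ψ₀⟩ : Nonempty (IrrCharacter P) := ⟨⟨fun _ => 1, isIrrCharacter_one⟩⟩
  have hcong : ∀ ψ : IrrCharacter P, (e : ℤ) ∣ (m ψ : ℤ) - m ψ₀ := by
    intro ψ
    have hmul : ∀ φ : IrrCharacter P, (p : ℂ) * m φ = ∑ u : P, f u * conj ((φ : P → ℂ) u) := by
      intro φ
      rw [← hm, classInner, ← mul_assoc, hP, mul_inv_cancel₀ (Nat.cast_ne_zero.2 hp.ne_zero),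
        one_mul]
    have h1 : IsIntegral ℤ ((((p : ℤ) * ((m ψ : ℤ) - m ψ₀) : ℤ) : ℂ) / ((e : ℤ) : ℂ)) := by
      have : (((p : ℤ) * ((m ψ : ℤ) - m ψ₀) : ℤ) : ℂ) / ((e : ℤ) : ℂ) = ∑ u : P,
          (f u / e) * (conj ((ψ : P → ℂ) u) - conj ((ψ₀ : P → ℂ) u)) := by
        push_cast
        rw [mul_sub, hmul, hmul, ← Finset.sum_sub_distrib, Finset.sum_div]
        exact Finset.sum_congr rfl fun u _ => by ring
      rw [this]
      refine IsIntegral.sum _ fun u _ => ?_
      by_cases hu : u = 1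
      · subst hu
        rw [hlin, hlin, sub_self, mul_zero]
        exact isIntegral_zero
      · exact (hdiv u hu).mul ((IsCharacter.isIntegral (IsCharacter.conj
          (IsIrrCharacter.isCharacter ψ.2)) u).sub (IsCharacter.isIntegral (IsCharacter.conj
          (IsIrrCharacter.isCharacter ψ₀.2)) u))
    obtain ⟨n, hn⟩ := exists_int_of_isIntegral
      (q := (((p : ℤ) * ((m ψ : ℤ) - m ψ₀) : ℤ) : ℚ) / ((e : ℤ) : ℚ)) (by simpa using h1)
    have he' : ((e : ℤ) : ℚ) ≠ 0 := by exact_mod_cast he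
    rw [div_eq_iff he'] at hn
    refine (Int.isCoprime_iff_nat_coprime.2 (by simpa using hep)).dvd_of_dvd_mul_left
      (⟨n, ?_⟩ : (e : ℤ) ∣ (p : ℤ) * ((m ψ : ℤ) - m ψ₀))
    rw [mul_comm (e : ℤ)]
    exact_mod_cast hn
  choose l hl using hcong
  set L := ∑ ψ, l ψ with hL
  have hdL : (d : ℤ) = (p : ℤ) * m ψ₀ + (e : ℤ) * L := by
    rw [← hsum, hL, Finset.mul_sum]
    simp_rw [← hl]
    rw [Finset.sum_sub_distrib, Finset.sum_const, Finset.card_univ, ← Nat.card_eq_fintype_card,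
      hcard, nsmul_eq_mul]
    ring
  have hLr : L % (p : ℤ) = (r : ℤ) := by
    have h1 : ((e * r : ℕ) : ℤ) % (p : ℤ) = (d : ℤ) % (p : ℤ) := by exact_mod_cast hmod
    rw [hdL, Int.mul_add_emod_self_left] at h1
    push_cast at h1
    have h2 : (p : ℤ) ∣ (e : ℤ) * (L - r) := by
      rw [mul_sub]; exact Int.ModEq.dvd h1
    have h3 : (p : ℤ) ∣ L - r :=
      (Int.isCoprime_iff_nat_coprime.2 (by simpa using hep.symm)).dvd_of_dvd_mul_left h2
    have h4 : L % (p : ℤ) = (r : ℤ) % (p : ℤ) := (Int.ModEq.symm (Int.modEq_iff_dvd.2 h3))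
    rw [h4, Int.emod_eq_of_lt (by positivity) (by exact_mod_cast hr)]
  obtain ⟨hb, heq⟩ := int_bound l (p := (p : ℤ))
    (by rw [← Nat.card_eq_fintype_card, hcard]) (d := L) (r := (r : ℤ)) (by positivity)
    (by exact_mod_cast hr) hL.symm hLr
  have hS : (∑ u : P, (if u = 1 then 0 else Complex.normSq (χ u))) =
      (((e : ℤ) ^ 2 * ((p : ℤ) * (∑ ψ, l ψ ^ 2) - L ^ 2) : ℤ) : ℝ) := by
    have hI : ((p : ℤ) * ∑ ψ, (m ψ : ℤ) ^ 2) - (d : ℤ) ^ 2 =
        (e : ℤ) ^ 2 * ((p : ℤ) * (∑ ψ, l ψ ^ 2) - L ^ 2) := by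
      have hmψ : ∀ ψ, (m ψ : ℤ) = m ψ₀ + e * l ψ := fun ψ => by rw [← hl ψ]; ring
      have h5 : ∑ ψ, (m ψ : ℤ) ^ 2 =
          (p : ℤ) * (m ψ₀ : ℤ) ^ 2 + 2 * (m ψ₀ : ℤ) * (e : ℤ) * L + (e : ℤ) ^ 2 * ∑ ψ, l ψ ^ 2 := by
        rw [hL, Finset.mul_sum, Finset.mul_sum,
          show (p : ℤ) * (m ψ₀ : ℤ) ^ 2 = ∑ _ψ : IrrCharacter P, (m ψ₀ : ℤ) ^ 2 by
            rw [Finset.sum_const, Finset.card_univ, ← Nat.card_eq_fintype_card, hcard, nsmul_eq_mul],
          ← Finset.sum_add_distrib, ← Finset.sum_add_distrib]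
        exact Finset.sum_congr rfl fun ψ _ => by rw [hmψ ψ]; ring
      rw [hdL, h5]
      ring
    rw [← hI]
    have : (∑ u : P, (if u = 1 then 0 else Complex.normSq (χ u))) =
        (∑ u : P, Complex.normSq (f u)) - (d : ℝ) ^ 2 := by
      rw [← Finset.add_sum_erase Finset.univ (fun u : P => Complex.normSq (f u))
        (Finset.mem_univ 1), show f 1 = (d : ℂ) from hd, Complex.normSq_natCast,
        ← Finset.add_sum_erase Finset.univ
          (fun u : P => if u = 1 then (0 : ℝ) else Complex.normSq (χ u)) (Finset.mem_univ 1),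
        if_pos rfl]
      rw [Finset.sum_congr rfl fun u hu => if_neg (Finset.ne_of_mem_erase hu)]
      ring
    rw [this, hnorm]
    push_cast
    ring
  have hrr : ((r * (p - r) : ℕ) : ℤ) = (r : ℤ) * ((p : ℤ) - r) := by
    rw [Nat.cast_mul, Nat.cast_sub hr.le]
  refine ⟨?_, fun he1 hle => ?_⟩
  · rw [hS]
    have h6 : (((e ^ 2 * (r * (p - r)) : ℕ)) : ℤ) ≤
        (e : ℤ) ^ 2 * ((p : ℤ) * (∑ ψ, l ψ ^ 2) - L ^ 2) := by
      rw [Nat.cast_mul, hrr, Nat.cast_pow]
      exact mul_le_mul_of_nonneg_left hb (sq_nonneg _)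
    calc ((e ^ 2 * (r * (p - r)) : ℕ) : ℝ) = ((((e ^ 2 * (r * (p - r)) : ℕ)) : ℤ) : ℝ) :=
          (Int.cast_natCast _).symm
      _ ≤ _ := Int.cast_le.2 h6
  · subst he1
    rw [hS] at hle
    have hle' : (p : ℤ) * (∑ ψ, l ψ ^ 2) - L ^ 2 ≤ (r : ℤ) * ((p : ℤ) - r) := by
      rw [← hrr]
      have : (((1 : ℕ) : ℤ) ^ 2 * ((p : ℤ) * (∑ ψ, l ψ ^ 2) - L ^ 2)) ≤
          (((r * (p - r) : ℕ) : ℤ)) := by exact_mod_cast hle
      simpa using this
    have hT : ∑ u : P, (if u = 1 then 0 else χ u) = (p : ℂ) * m ψ₀ - d → True := fun _ => trivial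
    clear hT
    let τ : IrrCharacter P := ⟨fun _ => 1, isIrrCharacter_one⟩
    have hτ : ∑ u : P, (if u = 1 then 0 else χ u) = (p : ℂ) * m τ - d := by
      have h1 : (p : ℂ) * m τ = ∑ u : P, f u := by
        rw [← hm, classInner, ← mul_assoc, hP, mul_inv_cancel₀ (Nat.cast_ne_zero.2 hp.ne_zero),
          one_mul]
        exact Finset.sum_congr rfl fun u _ => by simp [τ]
      rw [h1, ← Finset.add_sum_erase Finset.univ f (Finset.mem_univ 1),
        show f 1 = (d : ℂ) from hd, add_sub_cancel_left,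
        ← Finset.add_sum_erase Finset.univ (fun u : P => if u = 1 then (0 : ℂ) else χ u)
          (Finset.mem_univ 1), if_pos rfl, zero_add]
      exact Finset.sum_congr rfl fun u hu => if_neg (Finset.ne_of_mem_erase hu)
    have hLdiv : (p : ℤ) * (L / p) = L - r := by
      have := Int.mul_ediv_add_emod L (p : ℤ); omega
    have hmτ : (m τ : ℤ) = m ψ₀ + l τ := by
      have := hl τ; push_cast at this; omega
    rw [hτ]
    push_cast at hdL
    rcases heq hle' τ with h | h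
    · left
      have : (p : ℤ) * m τ - d = -(r : ℤ) := by rw [hdL, hmτ, h, mul_add, hLdiv]; ring
      have := congrArg (fun z : ℤ => (z : ℂ)) this
      push_cast at this
      exact this
    · right
      have : (p : ℤ) * m τ - d = ((p - r : ℕ) : ℤ) := by
        rw [hdL, hmτ, h, mul_add, mul_add, hLdiv, Nat.cast_sub hr.le]; ring
      have := congrArg (fun z : ℤ => (z : ℂ)) this
      push_cast at this
      exact this

open Classical in
/-- The non-identity elements conjugate into a subgroup. -/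
noncomputable def conjSet (P : Subgroup G) : Finset G :=
  Finset.univ.filter fun x => x ≠ 1 ∧ ∃ g : G, g⁻¹ * x * g ∈ P

theorem mem_conjSet {P : Subgroup G} {x : G} :
    x ∈ conjSet P ↔ x ≠ 1 ∧ ∃ g : G, g⁻¹ * x * g ∈ P := by simp [conjSet]

theorem zpowers_eq_of_mem {P : Subgroup G} (hP : Nat.card P = p) {u : G} (hu : u ∈ P)
    (hu1 : u ≠ 1) : Subgroup.zpowers u = P := by
  refine Subgroup.eq_of_le_of_card_ge ((Subgroup.zpowers_le).2 hu) ?_
  rw [Nat.card_zpowers, hP]
  have h := orderOf_dvd_natCard (⟨u, hu⟩ : P)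
  rw [hP, ← Subgroup.orderOf_coe] at h
  rcases (Nat.dvd_prime Fact.out).1 h with h1 | h1
  · exact absurd (orderOf_eq_one_iff.1 h1) hu1
  · exact h1.ge

/-- Summing a class function over the elements conjugate into a subgroup of prime order. -/
theorem sum_conjSet {A : Type*} [AddCommGroup A] [Module ℚ A] (P : Subgroup G) [Fintype P]
    (hP : Nat.card P = p) (f : G → A) (hf : ∀ x g : G, f (g * x * g⁻¹) = f x) :
    ∑ x ∈ conjSet P, f x =
      (Subgroup.normalizer (P : Set G)).index • ∑ u : P, (if u = 1 then 0 else f u) := by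
  classical
  set N := Subgroup.normalizer (P : Set G) with hN
  have hfib : ∀ x ∈ conjSet P, (Finset.univ.filter fun gu : G × P =>
      gu.2 ≠ 1 ∧ gu.1 * (gu.2 : G) * gu.1⁻¹ = x).card = Nat.card N := by
    intro x hx
    obtain ⟨hx1, g, hg⟩ := mem_conjSet.1 hx
    have hu1 : g⁻¹ * x * g ≠ 1 := fun h => hx1 (by
      calc x = g * (g⁻¹ * x * g) * g⁻¹ := by group
        _ = 1 := by rw [h]; group)
    rw [Nat.card_eq_fintype_card, ← Finset.card_univ]
    symm
    refine Finset.card_nbij (fun n : N => ((g * (n : G), ⟨(n : G)⁻¹ * (g⁻¹ * x * g) * n,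
      (Subgroup.mem_normalizer_iff''.1 n.2 _).1 hg⟩) : G × P)) ?_ ?_ ?_
    · intro n _
      refine Finset.mem_filter.2 ⟨Finset.mem_univ _, fun h => hu1 ?_, by simp [mul_assoc]⟩
      have h' : (n : G)⁻¹ * (g⁻¹ * x * g) * n = 1 := congrArg Subtype.val h
      calc g⁻¹ * x * g = (n : G) * ((n : G)⁻¹ * (g⁻¹ * x * g) * n) * (n : G)⁻¹ := by group
        _ = 1 := by rw [h']; group
    · intro a _ b _ h
      exact Subtype.ext (mul_left_cancel (congrArg Prod.fst h))
    · rintro ⟨g', u⟩ hgu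
      obtain ⟨hu, he⟩ := (Finset.mem_filter.1 hgu).2
      simp only at hu he
      have huG : (u : G) ≠ 1 := fun h => hu (Subtype.ext h)
      have hn : g⁻¹ * g' ∈ N := by
        rw [hN]
        refine FusionSys.mem_normalizer_of_conj_mem (g⁻¹ * g') (fun y hy => ?_) fun y hy => ?_
        · rw [← zpowers_eq_of_mem hP u.2 huG] at hy
          obtain ⟨i, rfl⟩ := hy
          have : g⁻¹ * g' * (u : G) ^ i * (g⁻¹ * g')⁻¹ = (g⁻¹ * x * g) ^ i := by
            rw [← conj_zpow, ← he]; group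
          rw [show (fun x => (u : G) ^ x) i = (u : G) ^ i from rfl, this]
          exact P.zpow_mem hg i
        · rw [← zpowers_eq_of_mem hP hg hu1] at hy
          obtain ⟨i, rfl⟩ := hy
          have : (g⁻¹ * g')⁻¹ * (g⁻¹ * x * g) ^ i * (g⁻¹ * g') = (u : G) ^ i := by
            rw [← he]
            rw [show (g⁻¹ * g')⁻¹ * (g⁻¹ * (g' * (u : G) * g'⁻¹) * g) ^ i * (g⁻¹ * g') =
              (g⁻¹ * g')⁻¹ * (g⁻¹ * (g' * (u : G) * g'⁻¹) * g) ^ i * (g⁻¹ * g')⁻¹⁻¹ by
              rw [inv_inv], ← conj_zpow]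
            congr 1
            group
          rw [show (fun x_1 => (g⁻¹ * x * g) ^ x_1) i = (g⁻¹ * x * g) ^ i from rfl, this]
          exact P.zpow_mem u.2 i
      refine ⟨⟨g⁻¹ * g', hn⟩, Finset.mem_coe.2 (Finset.mem_univ _), Prod.ext (by simp)
        (Subtype.ext ?_)⟩
      simp only
      rw [← he]; group
  have hT : ∑ gu ∈ Finset.univ.filter (fun gu : G × P => gu.2 ≠ 1),
      f (gu.1 * (gu.2 : G) * gu.1⁻¹) =
        Nat.card G • ∑ u : P, (if u = 1 then 0 else f u) := by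
    rw [Finset.sum_filter, ← Finset.univ_product_univ, Finset.sum_product, Nat.card_eq_fintype_card,
      ← Finset.card_univ (α := G), ← Finset.sum_const]
    refine Finset.sum_congr rfl fun g _ => Finset.sum_congr rfl fun u _ => ?_
    by_cases hu : u = 1 <;> simp [hu, hf]
  have hT2 : ∑ gu ∈ Finset.univ.filter (fun gu : G × P => gu.2 ≠ 1),
      f (gu.1 * (gu.2 : G) * gu.1⁻¹) = Nat.card N • ∑ x ∈ conjSet P, f x := by
    rw [← Finset.sum_fiberwise_of_maps_to (g := fun gu : G × P => gu.1 * (gu.2 : G) * gu.1⁻¹)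
      (t := conjSet P) (fun gu hgu => ?_), Finset.smul_sum]
    · refine Finset.sum_congr rfl fun x hx => ?_
      rw [Finset.filter_filter, Finset.sum_congr rfl fun gu hgu => by
        rw [(Finset.mem_filter.1 hgu).2.2], Finset.sum_const, hfib x hx]
    · refine mem_conjSet.2 ⟨fun h => (Finset.mem_filter.1 hgu).2 (Subtype.ext ?_),
        gu.1, by simp [mul_assoc]⟩
      calc (gu.2 : G) = gu.1⁻¹ * (gu.1 * (gu.2 : G) * gu.1⁻¹) * gu.1 := by group
        _ = 1 := by rw [h]; group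
  rw [hT, ← N.card_mul_index, mul_smul] at hT2
  have hN0 : ((Nat.card N : ℕ) : ℚ) ≠ 0 := Nat.cast_ne_zero.2 Nat.card_pos.ne'
  rw [← Nat.cast_smul_eq_nsmul ℚ (Nat.card N), ← Nat.cast_smul_eq_nsmul ℚ (Nat.card N)] at hT2
  exact (smul_right_injective A hN0 hT2).symm

/-- A character of defect zero: divisibility of its values by the `q`-part of centralisers. -/
theorem isIntegral_div_of_centralizer (χ : IrrCharacter G) {g : G} {e : ℕ} (he : e ≠ 0)
    (hC : e ∣ Nat.card (Subgroup.centralizer ({g} : Set G)))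
    (hco : Nat.Coprime e (Nat.card G / charDegree (χ : G → ℂ))) :
    IsIntegral ℤ ((χ : G → ℂ) g / e) := by
  obtain ⟨c, hc⟩ := hC
  set a := Nat.card G / charDegree (χ : G → ℂ) with ha
  have hG : Nat.card G = charDegree (χ : G → ℂ) * a :=
    (Nat.mul_div_cancel' (irr_deg_dvd_card χ)).symm
  have hd : ((charDegree (χ : G → ℂ) : ℕ) : ℂ) ≠ 0 := Nat.cast_ne_zero.2 (irr_deg_pos χ).ne'
  have h1 : IsIntegral ℤ ((χ : G → ℂ) g * (a : ℂ) / e) := by
    have h : IsIntegral ℤ (centralChar (χ : G → ℂ) g * (c : ℂ)) :=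
      (Cfsg.Agent.Blocks.centralChar_isIntegral χ g).mul
        (by simpa using (isIntegral_algebraMap (R := ℤ) (A := ℂ) (x := (c : ℤ))))
    have e1 : ((Subgroup.centralizer ({g} : Set G)).index : ℂ) * ((e : ℂ) * c) =
        (charDegree (χ : G → ℂ) : ℂ) * (a : ℂ) := by
      have := (Subgroup.centralizer ({g} : Set G)).card_mul_index
      rw [hc, hG] at this
      have := congrArg (fun n : ℕ => (n : ℂ)) this
      push_cast at this
      linear_combination this
    have he' : (e : ℂ) ≠ 0 := Nat.cast_ne_zero.2 he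
    have : (χ : G → ℂ) g * (a : ℂ) / e = centralChar (χ : G → ℂ) g * (c : ℂ) := by
      show _ = ((Subgroup.centralizer ({g} : Set G)).index : ℂ) * (χ : G → ℂ) g /
        (χ : G → ℂ) 1 * (c : ℂ)
      rw [irr_deg χ]
      field_simp
      linear_combination (-((χ : G → ℂ) g)) * e1
    rw [this]
    exact h
  have h2 : IsIntegral ℤ ((χ : G → ℂ) g) :=
    IsCharacter.isIntegral (IsIrrCharacter.isCharacter χ.2) g
  have hb := Nat.gcd_eq_gcd_ab e a
  rw [hco.gcd_eq_one] at hb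
  have hb' : (1 : ℂ) = (e : ℂ) * (Nat.gcdA e a : ℤ) + (a : ℂ) * (Nat.gcdB e a : ℤ) := by
    have := congrArg (fun z : ℤ => (z : ℂ)) hb
    push_cast at this
    exact this
  have : (χ : G → ℂ) g / e = (χ : G → ℂ) g * ((Nat.gcdA e a : ℤ) : ℂ) +
      ((χ : G → ℂ) g * (a : ℂ) / e) * ((Nat.gcdB e a : ℤ) : ℂ) := by
    have he' : (e : ℂ) ≠ 0 := Nat.cast_ne_zero.2 he
    field_simp
    linear_combination ((χ : G → ℂ) g) * hb'
  rw [this]
  exact (h2.mul (isIntegral_algebraMap (R := ℤ))).add (h1.mul (isIntegral_algebraMap (R := ℤ)))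

end Cfsg.Agent.DefectZero
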