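/-
Minimal non-abelian quotients of solvable groups and the resulting degrees (Isaacs 12.3 and 12.4).
-/
import Cfsg.Agent.Lib.Char.Gallagher
import Cfsg.Agent.Lib.Char.Multiplicity
import Cfsg.Agent.Lib.Char.ChiefRestrict
import Cfsg.Agent.Lib.Blocks.Degree
import Cfsg.Agent.Lib.Char.ThompsonComplement
import Mathlib.GroupTheory.FiniteAbelian.Duality
import Mathlib.GroupTheory.Sylow
import Mathlib.GroupTheory.Abelianization.Defs

set_option linter.unusedSectionVars false
set_option linter.style.haveILetI false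

namespace Cfsg.Agent.MinQuot

open Cfsg Cfsg.Agent.Char Cfsg.Agent.Blocks

open scoped ComplexConjugate commutatorElement

universe u

/-- The shape of a solvable group all of whose non-trivial normal subgroups contain the derived
subgroup. -/
theorem structure_min {Q : Type u} [Group Q] [Finite Q] [Group.IsSolvable Q]
    (hne : commutator Q ≠ ⊥)
    (hmin : ∀ W : Subgroup Q, W.Normal → W ≠ ⊥ → commutator Q ≤ W) :
    (∃ p : ℕ, p.Prime ∧ IsPGroup p Q) ∨
      (∃ q a : ℕ, q.Prime ∧ Nat.card (commutator Q) = q ^ a ∧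
        (∀ x ∈ commutator Q, ∀ y ∈ commutator Q, x * y = y * x) ∧
        (commutator Q).index ≠ 1 ∧ (commutator Q).index < q ^ a ∧
        ∀ g : Q, g ∉ commutator Q → ∀ x ∈ commutator Q, g * x = x * g → x = 1) := by
  classical
  set M := commutator Q with hMdef
  haveI hMn : M.Normal := inferInstance
  haveI hMnt : Nontrivial M := (Subgroup.nontrivial_iff_ne_bot _).2 hne
  haveI : Nontrivial Q := M.subtype_injective.nontrivial
  have hMtop : M ≠ ⊤ := (Group.IsSolvable.commutator_lt_top_of_nontrivial Q).ne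
  have habel : ∀ x ∈ M, ∀ y ∈ M, x * y = y * x := by
    have hbot : ⁅M, M⁆ = ⊥ := by
      by_contra h
      have hle := hmin _ inferInstance h
      refine (Group.IsSolvable.commutator_lt_top_of_nontrivial M).ne ?_
      refine Subgroup.map_injective M.subtype_injective ?_
      rw [commutator_def, Subgroup.map_commutator, ← MonoidHom.range_eq_map, Subgroup.range_subtype]
      exact le_antisymm (Subgroup.commutator_le_left M M) hle
    intro x hx y hy
    exact commutatorElement_eq_one_iff_mul_comm.1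
      (Subgroup.mem_bot.1 (hbot ▸ Subgroup.commutator_mem_commutator hx hy))
  letI hMc : CommGroup M :=
    { (inferInstance : Group M) with mul_comm := fun a b => Subtype.ext (habel a a.2 b b.2) }
  obtain ⟨q, hq, hqd⟩ := Nat.exists_prime_and_dvd (n := Nat.card M) Finite.one_lt_card.ne'
  haveI := Fact.mk hq
  obtain ⟨S⟩ : Nonempty (Sylow q M) := inferInstance
  have hMq : IsPGroup q M := by
    haveI hSn : (S : Subgroup M).Normal := inferInstance
    haveI := S.characteristic_of_normal hSn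
    have hSne : (S : Subgroup M).map M.subtype ≠ ⊥ := by
      rw [Ne, Subgroup.map_eq_bot_iff_of_injective _ M.subtype_injective]
      intro h
      exact S.not_dvd_index (by rw [h, Subgroup.index_bot]; exact hqd)
    have hle := hmin _ inferInstance hSne
    intro x
    obtain ⟨y, hy, hyx⟩ := hle x.2
    obtain ⟨k, hk⟩ := S.2 ⟨y, hy⟩
    refine ⟨k, Subtype.ext ?_⟩
    rw [SubgroupClass.coe_pow, ← hyx, OneMemClass.coe_one]
    exact congrArg (fun w : (S : Subgroup M) => ((w : M) : Q)) hk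
  obtain ⟨a, ha⟩ := hMq.exists_card_eq
  set Z := Subgroup.center Q
  by_cases hMZ : M ≤ Z
  · -- the nilpotent case
    refine Or.inl ⟨q, hq, ?_⟩
    obtain ⟨w, hw⟩ := exists_prime_orderOf_dvd_card' (G := M) q hqd
    have hw1 : (w : Q) ≠ 1 := fun h => hq.ne_one (by
      rw [← hw, show w = 1 from Subtype.ext h, orderOf_one])
    have hcn : ∀ z : Q, z ∈ Z → (Subgroup.zpowers z).Normal := fun z hz => ⟨fun x hx g => by
      rw [Subgroup.mem_center_iff.1 (Subgroup.zpowers_le.2 hz hx) g, mul_inv_cancel_right]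
      exact hx⟩
    have hMw : M = Subgroup.zpowers (w : Q) := le_antisymm
      (hmin _ (hcn _ (hMZ w.2)) fun h => hw1 (Subgroup.zpowers_eq_bot.1 h))
      (Subgroup.zpowers_le.2 w.2)
    have hMcard : Nat.card M = q := by
      rw [hMw, Nat.card_zpowers, Subgroup.orderOf_coe, hw]
    have hZq : IsPGroup q Z := by
      rw [IsPGroup.iff_orderOf]
      intro z
      have hz0 : orderOf z ≠ 0 := (orderOf_pos z).ne'
      by_contra hcon
      push Not at hcon
      obtain ⟨r, hr, hrd, hrq⟩ : ∃ r : ℕ, r.Prime ∧ r ∣ orderOf z ∧ r ≠ q := by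
        by_contra hall
        push Not at hall
        exact hcon _ (Nat.eq_prime_pow_of_unique_prime_dvd hz0 fun {d} hd hdd => hall d hd hdd)
      set y : Q := (z : Q) ^ (orderOf z / r)
      have hy : orderOf y = r := by
        show orderOf ((z : Q) ^ (orderOf z / r)) = r
        rw [← Subgroup.orderOf_coe] at hrd hz0 ⊢
        exact orderOf_pow_orderOf_div hz0 hrd
      have hle := hmin _ (hcn y (pow_mem z.2 _)) fun h => hr.ne_one (by
        rw [← hy, Subgroup.zpowers_eq_bot.1 h, orderOf_one])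
      have hd := Subgroup.card_dvd_of_le hle
      rw [Nat.card_zpowers, hy, hMcard] at hd
      exact hrq ((Nat.prime_dvd_prime_iff_eq hq hr).1 hd).symm
    intro x
    have hxq : x ^ q ∈ Z := by
      rw [Subgroup.mem_center_iff]
      intro y
      have hc : ⁅x, y⁆ ∈ M :=
        Subgroup.commutator_mem_commutator (Subgroup.mem_top x) (Subgroup.mem_top y)
      have hcz := Subgroup.mem_center_iff.1 (hMZ hc)
      have hxy : x * y * x⁻¹ = ⁅x, y⁆ * y := by rw [commutatorElement_def]; group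
      have hiter : ∀ i : ℕ, x ^ i * y * (x ^ i)⁻¹ = ⁅x, y⁆ ^ i * y := by
        intro i
        induction i with
        | zero => simp
        | succ i ih =>
          rw [pow_succ', pow_succ ⁅x, y⁆,
            show x * x ^ i * y * (x * x ^ i)⁻¹ = x * (x ^ i * y * (x ^ i)⁻¹) * x⁻¹ by group, ih,
            show x * (⁅x, y⁆ ^ i * y) * x⁻¹ = (x * ⁅x, y⁆ ^ i * x⁻¹) * (x * y * x⁻¹) by group,
            ((Commute.pow_right (hcz x : Commute x ⁅x, y⁆)) i).eq, mul_inv_cancel_right, hxy]
          group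
      have h1 : ⁅x, y⁆ ^ q = 1 := by
        have h := congrArg Subtype.val (pow_card_eq_one' (x := (⟨_, hc⟩ : M)))
        rwa [hMcard] at h
      have h2 := hiter q
      rw [h1, one_mul, mul_inv_eq_iff_eq_mul] at h2
      exact h2.symm
    obtain ⟨k, hk⟩ := hZq ⟨_, hxq⟩
    refine ⟨k + 1, ?_⟩
    rw [pow_succ', pow_mul]
    exact congrArg Subtype.val hk
  · -- the Frobenius case
    refine Or.inr ⟨q, a, hq, ha, habel, fun h => hMtop (Subgroup.index_eq_one.1 h), ?_⟩
    have hMZbot : M ⊓ Z = ⊥ := by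
      by_contra h
      haveI : (M ⊓ Z).Normal := inferInstance
      exact hMZ ((hmin _ inferInstance h).trans inf_le_right)
    have hZbot : Z = ⊥ := by
      by_contra h
      exact hMZ (hmin Z inferInstance h)
    have hfixall : ∀ g : Q, (∀ x ∈ M, g * x = x * g) ∨ ∀ x ∈ M, g * x = x * g → x = 1 := by
      intro g
      set D := M ⊓ Subgroup.centralizer ({g} : Set Q)
      haveI : D.Normal := ⟨fun x hx y => by
        obtain ⟨hxM, hxg⟩ := Subgroup.mem_inf.1 hx
        rw [Subgroup.mem_centralizer_singleton_iff] at hxg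
        have hc : g⁻¹ * (y⁻¹ * g * y) ∈ M := by
          have := Subgroup.commutator_mem_commutator (H₁ := (⊤ : Subgroup Q)) (H₂ := ⊤)
            (Subgroup.mem_top g⁻¹) (Subgroup.mem_top y⁻¹)
          rw [commutatorElement_def, inv_inv, inv_inv] at this
          rw [hMdef, commutator_def]
          convert this using 1
          group
        have hxc := habel x hxM _ hc
        have h1 : x * (y⁻¹ * g * y) = (y⁻¹ * g * y) * x := by
          calc x * (y⁻¹ * g * y) = x * g * (g⁻¹ * (y⁻¹ * g * y)) := by group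
            _ = g * (x * (g⁻¹ * (y⁻¹ * g * y))) := by rw [hxg]; group
            _ = g * (g⁻¹ * (y⁻¹ * g * y) * x) := by rw [hxc]
            _ = _ := by group
        refine Subgroup.mem_inf.2 ⟨hMn.conj_mem x hxM y, ?_⟩
        rw [Subgroup.mem_centralizer_singleton_iff]
        calc y * x * y⁻¹ * g = y * (x * (y⁻¹ * g * y)) * y⁻¹ := by group
          _ = y * ((y⁻¹ * g * y) * x) * y⁻¹ := by rw [h1]
          _ = _ := by group⟩
      by_cases hD : D = ⊥
      · refine Or.inr fun x hx hgx => Subgroup.mem_bot.1 (hD ▸ Subgroup.mem_inf.2 ⟨hx, ?_⟩)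
        exact Subgroup.mem_centralizer_singleton_iff.2 hgx.symm
      · refine Or.inl fun x hx => ?_
        exact (Subgroup.mem_centralizer_singleton_iff.1 (Subgroup.mem_inf.1 (hmin D inferInstance hD hx)).2).symm
    obtain ⟨g, hg⟩ : ∃ g : Q, ¬ ∀ x ∈ M, g * x = x * g := by
      by_contra hcon
      push Not at hcon
      exact hMZ fun x hx => Subgroup.mem_center_iff.2 fun y => hcon y x hx
    have hgfix := (hfixall g).resolve_left hg
    set H := Subgroup.centralizer ({g} : Set Q) with hH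
    have hmem : ∀ x : Q, x ∈ H ↔ x * g = g * x := fun x => Subgroup.mem_centralizer_singleton_iff
    have hHM : ∀ x ∈ H, x ∈ M → x = 1 := fun x hx hxM => hgfix x hxM ((hmem x).1 hx).symm
    -- every coset of the derived subgroup meets the centralizer
    have hcoset : ∀ y : Q, ∃ x ∈ M, x⁻¹ * y ∈ H := by
      intro y
      let f : M → M := fun x => ⟨⁅g, (x : Q)⁆,
        Subgroup.commutator_mem_commutator (Subgroup.mem_top g) (Subgroup.mem_top (x : Q))⟩
      have hinj : Function.Injective f := by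
        intro x z hxz
        have h1 : g * (x : Q) * g⁻¹ * (x : Q)⁻¹ = g * (z : Q) * g⁻¹ * (z : Q)⁻¹ :=
          congrArg Subtype.val hxz
        have h2 : g * ((z : Q)⁻¹ * x) * g⁻¹ = (z : Q)⁻¹ * x := by
          calc g * ((z : Q)⁻¹ * x) * g⁻¹
              = (g * (z : Q) * g⁻¹)⁻¹ * (g * (x : Q) * g⁻¹ * (x : Q)⁻¹) * x := by group
            _ = (g * (z : Q) * g⁻¹)⁻¹ * (g * (z : Q) * g⁻¹ * (z : Q)⁻¹) * x := by rw [h1]
            _ = _ := by group
        refine Subtype.ext (inv_mul_eq_one.1 ?_).symm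
        exact hgfix _ (mul_mem (inv_mem z.2) x.2) (mul_inv_eq_iff_eq_mul.1 h2)
      obtain ⟨x, hx⟩ := (Finite.injective_iff_surjective.1 hinj) ⟨⁅g, y⁆,
        Subgroup.commutator_mem_commutator (Subgroup.mem_top g) (Subgroup.mem_top y)⟩
      refine ⟨x, x.2, (hmem _).2 ?_⟩
      have h1 : g * (x : Q) * g⁻¹ * (x : Q)⁻¹ = g * y * g⁻¹ * y⁻¹ := congrArg Subtype.val hx
      calc (x : Q)⁻¹ * y * g
          = (x : Q)⁻¹ * (g * y * g⁻¹ * y⁻¹)⁻¹ * g * y := by group
        _ = (x : Q)⁻¹ * (g * (x : Q) * g⁻¹ * (x : Q)⁻¹)⁻¹ * g * y := by rw [h1]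
        _ = _ := by group
    have hHcomm : ∀ h₁ ∈ H, ∀ h₂ ∈ H, h₁ * h₂ = h₂ * h₁ := fun h₁ hh₁ h₂ hh₂ =>
      commutatorElement_eq_one_iff_mul_comm.1 (hHM _
        (mul_mem (mul_mem (mul_mem hh₁ hh₂) (inv_mem hh₁)) (inv_mem hh₂))
        (Subgroup.commutator_mem_commutator (Subgroup.mem_top h₁) (Subgroup.mem_top h₂)))
    have hCM : ∀ c : Q, (∀ x ∈ M, c * x = x * c) → c ∈ M := by
      intro c hc
      obtain ⟨x, hx, hxc⟩ := hcoset c
      have hz : x⁻¹ * c ∈ Z := by
        rw [Subgroup.mem_center_iff]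
        intro y
        obtain ⟨m, hm, hmy⟩ := hcoset y
        have h1 : x⁻¹ * c * m = m * (x⁻¹ * c) := by
          rw [mul_assoc, hc m hm, ← mul_assoc, habel _ (inv_mem hx) m hm, mul_assoc]
        have h2 := hHcomm _ hxc _ hmy
        calc y * (x⁻¹ * c) = m * ((m⁻¹ * y) * (x⁻¹ * c)) := by group
          _ = m * (x⁻¹ * c * (m⁻¹ * y)) := by rw [h2]
          _ = (m * (x⁻¹ * c)) * (m⁻¹ * y) := by group
          _ = (x⁻¹ * c * m) * (m⁻¹ * y) := by rw [h1]
          _ = _ := by group
      rw [hZbot, Subgroup.mem_bot, inv_mul_eq_one] at hz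
      exact hz ▸ hx
    have hfpf : ∀ y : Q, y ∉ M → ∀ x ∈ M, y * x = x * y → x = 1 := fun y hy =>
      (hfixall y).resolve_left fun h => hy (hCM y h)
    refine ⟨?_, hfpf⟩
    rw [← ha]
    obtain ⟨⟨x0, hx0M⟩, hx0'⟩ := exists_ne (1 : M)
    have hx0 : x0 ≠ 1 := fun h => hx0' (Subtype.ext h)
    -- the centralizer is a transversal
    have hidx : M.index = Nat.card H := by
      rw [Subgroup.index_eq_card]
      refine (Nat.card_eq_of_bijective (fun h : H => ((h : Q) : Q ⧸ M)) ⟨?_, ?_⟩).symm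
      · intro h₁ h₂ h
        refine Subtype.ext (inv_mul_eq_one.1 (hHM _ (mul_mem (inv_mem h₁.2) h₂.2) ?_))
        exact QuotientGroup.eq.1 h
      · intro y
        obtain ⟨y, rfl⟩ := QuotientGroup.mk_surjective y
        obtain ⟨x, hx, hxy⟩ := hcoset y
        refine ⟨⟨_, hxy⟩, QuotientGroup.eq.2 ?_⟩
        simp only [mul_inv_rev, inv_inv]
        have := hMn.conj_mem x hx y⁻¹
        rwa [inv_inv] at this
    rw [hidx]
    let f : H → M := fun h => ⟨(h : Q) * x0 * (h : Q)⁻¹, hMn.conj_mem x0 hx0M h⟩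
    haveI : Fintype H := Fintype.ofFinite H
    haveI : Fintype M := Fintype.ofFinite M
    rw [Nat.card_eq_fintype_card, Nat.card_eq_fintype_card]
    refine Fintype.card_lt_of_injective_not_surjective f ?_ fun hs => ?_
    · intro h₁ h₂ h
      have h' : (h₁ : Q) * x0 * (h₁ : Q)⁻¹ = (h₂ : Q) * x0 * (h₂ : Q)⁻¹ := congrArg Subtype.val h
      refine Subtype.ext ?_
      by_contra hne
      refine hx0 (hfpf ((h₂ : Q)⁻¹ * h₁) (fun hm => hne ?_) x0 hx0M ?_)
      · exact (inv_mul_eq_one.1 (hHM _ (mul_mem (inv_mem h₂.2) h₁.2) hm)).symm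
      · calc (h₂ : Q)⁻¹ * h₁ * x0 = (h₂ : Q)⁻¹ * ((h₁ : Q) * x0 * (h₁ : Q)⁻¹) * h₁ := by group
          _ = (h₂ : Q)⁻¹ * ((h₂ : Q) * x0 * (h₂ : Q)⁻¹) * h₁ := by rw [h']
          _ = _ := by group
    · obtain ⟨h, hh⟩ := hs 1
      have hh' : (h : Q) * x0 * (h : Q)⁻¹ = 1 := congrArg Subtype.val hh
      exact hx0 (conj_eq_one_iff.1 hh')

section Lift

variable {G : Type u} [Group G] [Fintype G]

/-- The data of a Frobenius quotient. -/
structure FrobData (K N : Subgroup G) (q : ℕ) : Prop where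
  le : K ≤ N
  prime : q.Prime
  pow : ∃ a : ℕ, K.relIndex N = q ^ a
  comm : ∀ a ∈ N, ∀ b ∈ N, ⁅a, b⁆ ∈ K
  comm_le : commutator G ≤ N
  index_ne : N.index ≠ 1
  index_lt : N.index < K.relIndex N
  fpf : ∀ g : G, g ∉ N → ∀ x ∈ N, ⁅g, x⁆ ∈ K → x ∈ K

/-- A solvable non-abelian group has a `p`-quotient with a non-linear character or a Frobenius
quotient. -/
theorem dichotomy [Group.IsSolvable G] (hna : ∃ a b : G, a * b ≠ b * a) :
    (∃ (K : Subgroup G) (_ : K.Normal) (p : ℕ), p.Prime ∧ IsPGroup p (G ⧸ K) ∧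
        ∃ β : IrrCharacter G, (∀ k ∈ K, (β : G → ℂ) k = (β : G → ℂ) 1) ∧
          charDegree (β : G → ℂ) ≠ 1) ∨
      ∃ (K N : Subgroup G) (_ : K.Normal) (_ : N.Normal) (q : ℕ), FrobData K N q := by
  classical
  haveI : Fintype (Subgroup G) := Fintype.ofFinite _
  have hcne : commutator G ≠ ⊥ := fun h => by
    obtain ⟨a, b, hab⟩ := hna
    refine hab (commutatorElement_eq_one_iff_mul_comm.1 (Subgroup.mem_bot.1 (h ▸ ?_)))
    exact Subgroup.commutator_mem_commutator (Subgroup.mem_top a) (Subgroup.mem_top b)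
  obtain ⟨K, hKmem, hKmax⟩ := Finset.exists_max_image
    (Finset.univ.filter fun K : Subgroup G => K.Normal ∧ ¬ commutator G ≤ K) (fun K => Nat.card K)
    ⟨⊥, Finset.mem_filter.2 ⟨Finset.mem_univ _, inferInstance, fun h => hcne (le_bot_iff.1 h)⟩⟩
  obtain ⟨-, hKn, hKc⟩ := Finset.mem_filter.1 hKmem
  haveI := hKn
  set π := QuotientGroup.mk' K
  have hπ : Function.Surjective π := QuotientGroup.mk'_surjective K
  have hmapc : (commutator G).map π = commutator (G ⧸ K) := by
    rw [commutator_def, Subgroup.map_commutator, Subgroup.map_top_of_surjective _ hπ, commutator_def]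
  have hne : commutator (G ⧸ K) ≠ ⊥ := fun h => hKc (by
    rw [← hmapc, Subgroup.map_eq_bot_iff, QuotientGroup.ker_mk'] at h
    exact h)
  have hmin : ∀ W : Subgroup (G ⧸ K), W.Normal → W ≠ ⊥ → commutator (G ⧸ K) ≤ W := by
    intro W hW hW0
    by_contra hcon
    have hKW : K ≤ W.comap π := fun x hx => by
      rw [Subgroup.mem_comap, show π x = 1 from (QuotientGroup.eq_one_iff x).2 hx]
      exact one_mem _
    have hnot : ¬ commutator G ≤ W.comap π := fun h => hcon (by
      rw [← hmapc, Subgroup.map_le_iff_le_comap]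
      exact h)
    have hle := hKmax _ (Finset.mem_filter.2 ⟨Finset.mem_univ _, hW.comap π, hnot⟩)
    refine hW0 ?_
    rw [← Subgroup.map_comap_eq_self_of_surjective hπ W, ← Subgroup.eq_of_le_of_card_ge hKW hle,
      QuotientGroup.map_mk'_self]
  haveI : Fintype (G ⧸ K) := Fintype.ofFinite _
  rcases structure_min hne hmin with ⟨p, hp, hpg⟩ | ⟨q, a, hq, hcard, habel, hidx, hlt, hfpf⟩
  · refine Or.inl ⟨K, hKn, p, hp, hpg, ?_⟩
    obtain ⟨x, hx, hxK⟩ := SetLike.not_le_iff_exists.1 hKc
    by_contra hcon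
    push Not at hcon
    have hall : ∀ θ : IrrCharacter (G ⧸ K), (θ : G ⧸ K → ℂ) 1 = 1 := by
      intro θ
      have h := hcon (Cfsg.Agent.CharX.infl K θ) fun k hk => by
        simp [Cfsg.Agent.CharX.infl, (QuotientGroup.eq_one_iff k).2 hk]
      rw [irr_one_eq_charDegree θ]
      have h2 : charDegree (θ : G ⧸ K → ℂ) = 1 := by
        simpa [charDegree, Cfsg.Agent.CharX.infl] using h
      rw [h2, Nat.cast_one]
    refine hne ?_
    rw [commutator_def, eq_bot_iff, Subgroup.commutator_le]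
    intro u _ v _
    rw [Subgroup.mem_bot, commutatorElement_eq_one_iff_mul_comm]
    exact commute_of_all_linear hall u v
  · refine Or.inr ⟨K, (commutator (G ⧸ K)).comap π, hKn, inferInstance, q, ?_⟩
    have hKN : K ≤ (commutator (G ⧸ K)).comap π := fun x hx => by
      rw [Subgroup.mem_comap, show π x = 1 from (QuotientGroup.eq_one_iff x).2 hx]
      exact one_mem _
    have hrel : K.relIndex ((commutator (G ⧸ K)).comap π) = q ^ a := by
      have h := Subgroup.relIndex_comap (H := (⊥ : Subgroup (G ⧸ K))) π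
        ((commutator (G ⧸ K)).comap π)
      rw [MonoidHom.comap_bot, QuotientGroup.ker_mk', Subgroup.map_comap_eq_self_of_surjective hπ,
        Subgroup.relIndex_bot_left, hcard] at h
      exact h
    refine ⟨hKN, hq, ⟨a, hrel⟩, fun x hx y hy => ?_, ?_, ?_, ?_, fun g hg x hx hgx => ?_⟩
    · refine (QuotientGroup.eq_one_iff _).1 ?_
      show ⁅π x, π y⁆ = 1
      exact commutatorElement_eq_one_iff_mul_comm.2 (habel _ hx _ hy)
    · rw [← Subgroup.map_le_iff_le_comap, hmapc]
    · rw [Subgroup.index_comap_of_surjective _ hπ]; exact hidx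
    · rw [Subgroup.index_comap_of_surjective _ hπ, hrel]; exact hlt
    · refine (QuotientGroup.eq_one_iff x).1 (hfpf (π g) hg (π x) hx ?_)
      refine commutatorElement_eq_one_iff_mul_comm.1 ?_
      exact (QuotientGroup.eq_one_iff ⁅g, x⁆).2 hgx

/-- A degree from a Frobenius quotient. -/
theorem FrobData.exists_mul_degree {K N : Subgroup G} [K.Normal] [N.Normal] [Fintype N] {q : ℕ}
    (D : FrobData K N q) (ψ : IrrCharacter N) (hψ : ¬ q ∣ charDegree (ψ : N → ℂ)) :
    ∃ χ : IrrCharacter G, charDegree (χ : G → ℂ) = N.index * charDegree (ψ : N → ℂ) := by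
  classical
  set K' := K.subgroupOf N
  haveI : Fintype K' := Fintype.ofFinite _
  haveI : K'.Normal := inferInstance
  -- the restriction to the kernel is irreducible
  have hφ : IsIrrCharacter K' (fun k : K' => (ψ : N → ℂ) k) := by
    obtain ⟨θ, hθ⟩ := exists_restrict_constituent ψ.2 K'
    obtain ⟨e, he, hed⟩ := exists_ratio_dvd_index K' ψ.2 θ.2 hθ
    have hres := IsCharacter.restrict (irr_isCharacter ψ) K'
    obtain ⟨a, ha⟩ := D.pow
    have hidx : K'.index = q ^ a := ha
    rw [hidx] at hed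
    obtain ⟨j, -, rfl⟩ := (Nat.dvd_prime_pow D.prime).1 hed
    rw [irr_one_eq_charDegree, irr_one_eq_charDegree, ← Nat.cast_mul, Nat.cast_inj] at he
    rcases Nat.eq_zero_or_pos j with rfl | hj
    · rw [pow_zero, one_mul] at he
      rw [eq_of_constituent_degree hres θ.2 hθ (by
        rw [OneMemClass.coe_one, irr_one_eq_charDegree, irr_one_eq_charDegree, he])]
      exact θ.2
    · exact absurd (he ▸ (dvd_pow_self q hj.ne').mul_right _) hψ
  -- the linear characters of the abelian factor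
  have hcomm : ∀ a b : N ⧸ K', a * b = b * a := by
    intro a b
    obtain ⟨a, rfl⟩ := QuotientGroup.mk_surjective a
    obtain ⟨b, rfl⟩ := QuotientGroup.mk_surjective b
    rw [← commutatorElement_eq_one_iff_mul_comm]
    exact (QuotientGroup.eq_one_iff ⁅a, b⁆).2 (Subgroup.mem_subgroupOf.2 (D.comm a a.2 b b.2))
  letI : CommGroup (N ⧸ K') := { (inferInstance : Group (N ⧸ K')) with mul_comm := hcomm }
  haveI hfin : Finite (N ⧸ K' →* ℂˣ) := TC.finite_hom (N ⧸ K')
  let tw : (N ⧸ K' →* ℂˣ) → N → ℂ := fun l n => (l n : ℂ) * (ψ : N → ℂ) n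
  have htw : ∀ l, IsIrrCharacter N (tw l) := fun l =>
    ChiefRestrict.isIrr_mul_linear ψ.2 (l.comp (QuotientGroup.mk' K'))
  have htw1 : ∀ l, tw l 1 = (charDegree (ψ : N → ℂ) : ℂ) := fun l => by
    simp [tw, irr_one_eq_charDegree]
  by_cases hex : ∃ l, ∀ g : G, conjChar N g (tw l) = tw l → g ∈ N
  · obtain ⟨l, hl⟩ := hex
    have hind : IsIrrCharacter G (indFun N (tw l)) := by
      refine IsCharacter.isIrr_of_norm_one
        (isCharacter_indFun N (IsIrrCharacter.isCharacter (htw l))) ?_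
      rw [classInner_indFun_normal N (htw l) (htw l),
        show Nat.card {g : G // conjChar N g (tw l) = tw l} = Nat.card N from
          Nat.card_congr (Equiv.subtypeEquivRight fun g =>
            ⟨hl g, fun hg => conjChar_of_mem N
              (IsCharacter.isClassFunction (IsIrrCharacter.isCharacter (htw l))) hg⟩),
        inv_mul_cancel₀ (Nat.cast_ne_zero.2 Nat.card_pos.ne')]
    refine ⟨⟨_, hind⟩, ?_⟩
    refine Nat.cast_injective (R := ℂ) ?_
    rw [← irr_one_eq_charDegree]
    show indFun N (tw l) 1 = _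
    rw [indFun_one_apply, htw1, Nat.cast_mul]
  exfalso
  push Not at hex
  choose g hg hgN using hex
  haveI : Finite (G ⧸ N) := inferInstance
  -- two twists fixed by elements of the same coset
  obtain ⟨l, l', hne, hcoset⟩ : ∃ l l', l ≠ l' ∧ ((g l : G) : G ⧸ N) = g l' := by
    by_contra hcon
    push Not at hcon
    have hinj : Function.Injective fun l => ((g l : G) : G ⧸ N) := fun l l' h => by
      by_contra hne
      exact hcon l l' hne h
    have h1 := Nat.card_le_card_of_injective _ hinj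
    rw [CommGroup.card_monoidHom_of_hasEnoughRootsOfUnity (N ⧸ K') ℂ] at h1
    rw [← Subgroup.index_eq_card, ← Subgroup.index_eq_card] at h1
    exact absurd (show K.relIndex N ≤ N.index from h1) (not_le.2 D.index_lt)
  set x := g l with hx
  have hxl' : conjChar N x (tw l') = tw l' := by
    have hm : x⁻¹ * g l' ∈ N := QuotientGroup.eq.1 hcoset
    have h1 : g l' ∈ inertia N (tw l') := hg l'
    have h2 : x⁻¹ * g l' ∈ inertia N (tw l') :=
      le_inertia N (IsCharacter.isClassFunction (IsIrrCharacter.isCharacter (htw l'))) hm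
    have h3 := mul_mem h1 (inv_mem h2)
    rwa [show g l' * (x⁻¹ * g l')⁻¹ = x by group, mem_inertia] at h3
  -- the quotient is fixed
  set μ := l⁻¹ * l' with hμ
  have hmul : ∀ n : N, (μ (Cfsg.Agent.Char.conjHom N x n : N) : ℂ) * tw l n = (μ n : ℂ) * tw l n := by
    intro n
    have h1 : tw l' n = (μ n : ℂ) * tw l n := by
      simp only [tw, hμ, MonoidHom.mul_apply, MonoidHom.inv_apply, Units.val_mul]
      rw [← mul_assoc, mul_comm ((l (n : N ⧸ K'))⁻¹ : ℂˣ).val, mul_assoc ((l' _ : ℂˣ) : ℂ),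
        Units.inv_mul, mul_one]
    rw [← h1]
    have h2 : tw l (Cfsg.Agent.Char.conjHom N x n) = tw l n := congrFun (hg l) n
    have h3 : tw l' (Cfsg.Agent.Char.conjHom N x n) = tw l' n := congrFun hxl' n
    rw [← h2]
    rw [← h3]
    simp only [tw, hμ, MonoidHom.mul_apply, MonoidHom.inv_apply, Units.val_mul]
    rw [← mul_assoc, mul_comm ((l (Cfsg.Agent.Char.conjHom N x n : N ⧸ K'))⁻¹ : ℂˣ).val,
      mul_assoc ((l' _ : ℂˣ) : ℂ), Units.inv_mul, mul_one]
  -- uniqueness in Gallagher's theorem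
  have hres : IsIrrCharacter K' (fun k : K' => tw l k) := by
    rw [show (fun k : K' => tw l k) = fun k : K' => (ψ : N → ℂ) k from funext fun k => by
      simp [tw, (QuotientGroup.eq_one_iff (k : N)).2 k.2]]
    exact hφ
  let μx : N →* ℂˣ := (μ.comp (QuotientGroup.mk' K')).comp (Cfsg.Agent.Char.conjHom N x)
  let μ1 : N →* ℂˣ := μ.comp (QuotientGroup.mk' K')
  have hker : ∀ k : K', (Cfsg.Agent.Char.conjHom N x (k : N) : N) ∈ K' := fun k =>
    Subgroup.mem_subgroupOf.2 ((inferInstance : K.Normal).conj_mem _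
      (Subgroup.mem_subgroupOf.1 k.2) x)
  have heq := (gallagher_one K' (IsIrrCharacter.isCharacter (htw l)) hres).2.1
    ⟨fun n => (μx n : ℂ), isIrrCharacter_linear μx⟩ ⟨fun n => (μ1 n : ℂ), isIrrCharacter_linear μ1⟩
    (fun k => by simp [μx, (QuotientGroup.eq_one_iff _).2 (hker k)])
    (fun k => by simp [μ1, (QuotientGroup.eq_one_iff (k : N)).2 k.2])
    (funext fun n => hmul n)
  have hfix : ∀ n : N, μ (Cfsg.Agent.Char.conjHom N x n : N) = μ (n : N ⧸ K') := fun n =>
    Units.ext (congrFun (congrArg Subtype.val heq) n)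
  -- the fixed linear character is trivial
  have hxN : x ∉ N := hgN l
  let T : N ⧸ K' → N ⧸ K' := fun w => (Cfsg.Agent.Char.conjHom N x w.out : N) * (w.out⁻¹ : N)
  have hT : Function.Injective T := by
    intro u v huv
    have h2 : ((Cfsg.Agent.Char.conjHom N x (u.out⁻¹ * v.out) * (u.out⁻¹ * v.out)⁻¹ : N) : N ⧸ K') = 1 := by
      have h3 : ((Cfsg.Agent.Char.conjHom N x u.out : N) : N ⧸ K') * ((u.out : N) : N ⧸ K')⁻¹ =
          ((Cfsg.Agent.Char.conjHom N x v.out : N) : N ⧸ K') * ((v.out : N) : N ⧸ K')⁻¹ := by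
        simpa [T, QuotientGroup.mk_mul, QuotientGroup.mk_inv] using huv
      simp only [map_mul, map_inv, QuotientGroup.mk_mul, QuotientGroup.mk_inv, mul_inv_rev, inv_inv]
      rw [mul_inv_eq_iff_eq_mul] at h3
      rw [h3]
      simp [mul_comm, mul_left_comm]
    rw [QuotientGroup.eq_one_iff] at h2
    rw [← QuotientGroup.out_eq' u, ← QuotientGroup.out_eq' v]
    refine QuotientGroup.eq.2 (Subgroup.mem_subgroupOf.2 ?_)
    refine D.fpf x hxN _ (u.out⁻¹ * v.out : N).2 ?_
    have h4 := Subgroup.mem_subgroupOf.1 h2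
    rw [commutatorElement_def]
    simp only [Subgroup.coe_mul, Subgroup.coe_inv, Cfsg.Agent.Char.conjHom_coe] at h4 ⊢
    convert h4 using 1
    all_goals group
  refine hne (MonoidHom.ext fun w => ?_)
  obtain ⟨u, rfl⟩ := (Finite.injective_iff_surjective.1 hT) w
  have h0 : μ (T u) = 1 := by
    show μ (_ * _) = 1
    rw [map_mul, hfix, ← map_mul, ← QuotientGroup.mk_mul, mul_inv_cancel, QuotientGroup.mk_one,
      map_one]
  rw [hμ, MonoidHom.mul_apply, MonoidHom.inv_apply, inv_mul_eq_one] at h0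
  exact h0

end Lift

end Cfsg.Agent.MinQuot
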