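/-
The degree graph of a solvable group has at most two components.
-/
import Cfsg.Agent.Lib.Blocks.MinNonAbelianQuot
import Cfsg.Prelude.Def_DegreeGraph
import Mathlib.Combinatorics.SimpleGraph.Connectivity.Connected

set_option linter.unusedSectionVars false
set_option linter.style.haveILetI false

namespace Cfsg.Agent.GraphTwo

open Cfsg Cfsg.Agent.Char Cfsg.Agent.Blocks Cfsg.Agent.MinQuot

universe u

variable {G : Type u} [Group G]

theorem mem_primes {d : ℕ} (hd : d ∈ charDegrees G) {r : ℕ} (hr : r.Prime) (hrd : r ∣ d) :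
    r ∈ degreePrimes G := ⟨hr, d, hd, hrd⟩

/-- The primes of one degree lie in one component. -/
theorem comp_eq {d : ℕ} (hd : d ∈ charDegrees G) {r s : ℕ} (hr : r.Prime) (hs : s.Prime)
    (hrd : r ∣ d) (hsd : s ∣ d) :
    ((degreeGraph G).induce (degreePrimes G)).connectedComponentMk ⟨r, mem_primes hd hr hrd⟩ =
      ((degreeGraph G).induce (degreePrimes G)).connectedComponentMk ⟨s, mem_primes hd hs hsd⟩ := by
  by_cases h : r = s
  · subst h; rfl
  refine SimpleGraph.ConnectedComponent.eq.2 (SimpleGraph.Adj.reachable ?_)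
  exact ⟨h, hr, hs, d, hd, ((Nat.coprime_primes hr hs).2 h).mul_dvd_of_dvd_of_dvd hrd hsd⟩

/-- A bound from two representative vertices. -/
theorem card_le_two (a b : degreePrimes G)
    (h : ∀ r : degreePrimes G,
      ((degreeGraph G).induce (degreePrimes G)).connectedComponentMk r =
        ((degreeGraph G).induce (degreePrimes G)).connectedComponentMk a ∨
      ((degreeGraph G).induce (degreePrimes G)).connectedComponentMk r =
        ((degreeGraph G).induce (degreePrimes G)).connectedComponentMk b) :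
    Nat.card ((degreeGraph G).induce (degreePrimes G)).ConnectedComponent ≤ 2 := by
  have hsurj : Function.Surjective fun i : Bool =>
      ((degreeGraph G).induce (degreePrimes G)).connectedComponentMk (if i then a else b) := by
    intro c
    induction c using SimpleGraph.ConnectedComponent.ind with
    | h v =>
      rcases h v with e | e
      · exact ⟨true, e.symm⟩
      · exact ⟨false, e.symm⟩
  exact (Nat.card_le_card_of_surjective _ hsurj).trans (by simp)

theorem card_components_le [Fintype G] [Group.IsSolvable G] :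
    Nat.card ((degreeGraph G).induce (degreePrimes G)).ConnectedComponent ≤ 2 := by
  classical
  by_cases hna : ∃ a b : G, a * b ≠ b * a
  swap
  · push Not at hna
    haveI : IsEmpty (degreePrimes G) := ⟨fun ⟨r, hr, d, ⟨χ, hχ⟩, hrd⟩ => hr.ne_one (by
      have h1 := degree_one_of_comm hna χ.2
      rw [irr_one_eq_charDegree, hχ] at h1
      have h2 : d = 1 := by exact_mod_cast h1
      exact Nat.dvd_one.1 (h2 ▸ hrd))⟩
    rw [Nat.card_eq_zero.2 (Or.inl ⟨fun c =>
      c.ind fun v => IsEmpty.false v⟩)]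
    omega
  rcases dichotomy hna with ⟨K, hK, p, hp, hpg, β, hβK, hβ1⟩ | ⟨K, N, hK, hN, q, D⟩
  · haveI := Fact.mk hp
    haveI : Fintype K := Fintype.ofFinite K
    obtain ⟨β', -, he', hirr'⟩ := IsCharacter.deflate (irr_isCharacter β) K hβK
    obtain ⟨k, hk⟩ := hpg.exists_card_eq
    have hd : charDegree (β : G → ℂ) ∣ Nat.card (G ⧸ K) :=
      degree_dvd_card (hirr' β.2) (by rw [← QuotientGroup.mk_one, he', irr_one_eq_charDegree])
    rw [hk] at hd
    obtain ⟨j, -, hj⟩ := (Nat.dvd_prime_pow hp).1 hd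
    have hj0 : j ≠ 0 := fun h => hβ1 (by rw [hj, h, pow_zero])
    have hpβ : p ∣ charDegree (β : G → ℂ) := hj ▸ dvd_pow_self p hj0
    have hpP : p ∈ degreePrimes G := mem_primes ⟨β, rfl⟩ hp hpβ
    refine card_le_two ⟨p, hpP⟩ ⟨p, hpP⟩ fun ⟨r, hr, d, hdm, hrd⟩ => Or.inl ?_
    obtain ⟨χ, rfl⟩ := id hdm
    by_cases hpd : p ∣ charDegree (χ : G → ℂ)
    · exact comp_eq hdm hr hp hrd hpd
    obtain ⟨θ, hθ⟩ := exists_restrict_constituent χ.2 K
    obtain ⟨e, he, hed⟩ := exists_ratio_dvd_index K χ.2 θ.2 hθ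
    rw [irr_one_eq_charDegree, irr_one_eq_charDegree, ← Nat.cast_mul, Nat.cast_inj] at he
    rw [Subgroup.index_eq_card, hk] at hed
    have he1 : e = 1 := Nat.eq_one_of_dvd_coprimes
      ((hp.coprime_iff_not_dvd.2 hpd).pow_left k) hed ⟨_, he⟩
    have hirr : IsIrrCharacter K (fun n : K => (χ : G → ℂ) n) := by
      rw [eq_of_constituent_degree (IsCharacter.restrict (irr_isCharacter χ) K) θ.2 hθ (by
        rw [OneMemClass.coe_one, irr_one_eq_charDegree, irr_one_eq_charDegree, he, he1, one_mul])]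
      exact θ.2
    have hprod := (gallagher_one K (irr_isCharacter χ) hirr).1 β fun n => hβK n n.2
    have hdeg : charDegree ((⟨_, hprod⟩ : IrrCharacter G) : G → ℂ) =
        charDegree (β : G → ℂ) * charDegree (χ : G → ℂ) := Nat.cast_injective (R := ℂ) (by
      rw [← irr_one_eq_charDegree, Nat.cast_mul]
      show (β : G → ℂ) 1 * (χ : G → ℂ) 1 = _
      rw [irr_one_eq_charDegree, irr_one_eq_charDegree])
    exact comp_eq (d := charDegree ((⟨_, hprod⟩ : IrrCharacter G) : G → ℂ)) ⟨_, rfl⟩ hr hp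
      (hdeg ▸ hrd.mul_left _) (hdeg ▸ hpβ.mul_right _)
  · haveI : Fintype N := Fintype.ofFinite N
    have hprin : charDegree (principal N : N → ℂ) = 1 := Cfsg.Agent.CharX.charDegree_one
    obtain ⟨χ₀, hχ₀⟩ := D.exists_mul_degree (principal N)
      (by rw [hprin]; exact fun hd => D.prime.ne_one (Nat.dvd_one.1 hd))
    rw [hprin, mul_one] at hχ₀
    obtain ⟨p, hp, hpf⟩ := Nat.exists_prime_and_dvd D.index_ne
    have hpP : p ∈ degreePrimes G := mem_primes ⟨χ₀, hχ₀⟩ hp hpf
    by_cases hqP : q ∈ degreePrimes G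
    · refine card_le_two ⟨p, hpP⟩ ⟨q, hqP⟩ ?_
      rintro ⟨r, hr, d, hdm, hrd⟩
      obtain ⟨χ, rfl⟩ := id hdm
      obtain ⟨θ, hθ⟩ := exists_restrict_constituent χ.2 N
      obtain ⟨e, he, hed⟩ := exists_ratio_dvd_index N χ.2 θ.2 hθ
      rw [irr_one_eq_charDegree, irr_one_eq_charDegree, ← Nat.cast_mul, Nat.cast_inj] at he
      by_cases he1 : e = 1
      · rw [he1, one_mul] at he
        by_cases hqd : q ∣ charDegree (θ : N → ℂ)
        · exact Or.inr (comp_eq hdm hr D.prime hrd (he ▸ hqd))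
        · obtain ⟨χ', hχ'⟩ := D.exists_mul_degree θ hqd
          exact Or.inl (comp_eq (d := N.index * charDegree (θ : N → ℂ)) ⟨χ', hχ'⟩ hr hp
            ((he ▸ hrd).mul_left _) (hpf.mul_right _))
      · obtain ⟨s, hs, hse⟩ := Nat.exists_prime_and_dvd he1
        exact Or.inl ((comp_eq hdm hr hs hrd (he ▸ hse.mul_right _)).trans
          (comp_eq (d := N.index) ⟨χ₀, hχ₀⟩ hs hp (hse.trans hed) hpf))
    · refine card_le_two ⟨p, hpP⟩ ⟨p, hpP⟩ ?_
      rintro ⟨r, hr, d, hdm, hrd⟩
      refine Or.inl ?_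
      obtain ⟨χ, rfl⟩ := id hdm
      obtain ⟨θ, hθ⟩ := exists_restrict_constituent χ.2 N
      obtain ⟨e, he, hed⟩ := exists_ratio_dvd_index N χ.2 θ.2 hθ
      rw [irr_one_eq_charDegree, irr_one_eq_charDegree, ← Nat.cast_mul, Nat.cast_inj] at he
      by_cases he1 : e = 1
      · rw [he1, one_mul] at he
        have hqd : ¬ q ∣ charDegree (θ : N → ℂ) := fun h =>
          hqP (mem_primes hdm D.prime (he ▸ h))
        obtain ⟨χ', hχ'⟩ := D.exists_mul_degree θ hqd
        exact comp_eq (d := N.index * charDegree (θ : N → ℂ)) ⟨χ', hχ'⟩ hr hp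
          ((he ▸ hrd).mul_left _) (hpf.mul_right _)
      · obtain ⟨s, hs, hse⟩ := Nat.exists_prime_and_dvd he1
        exact (comp_eq hdm hr hs hrd (he ▸ hse.mul_right _)).trans
          (comp_eq (d := N.index) ⟨χ₀, hχ₀⟩ hs hp (hse.trans hed) hpf)

end Cfsg.Agent.GraphTwo
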