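import Mathlib.Algebra.BigOperators.Ring.Finset
import Mathlib.Algebra.Order.BigOperators.Ring.Finset
import Mathlib.Tactic

/-!
Integer vectors with the Gram matrix of the dihedral principal block.
-/

set_option linter.style.haveILetI false

namespace Cfsg.Agent.DihBlock

theorem shape_gram {ι : Type*} [DecidableEq ι] (T : Finset ι) (v : ℕ → ι → ℤ) (D : ι → ℤ)
    (hD : ∀ χ ∈ T, 0 < D χ) {h : ℕ} (h2 : 2 ≤ h) (h3 : h ≠ 3)
    (gram : ∀ j k, 1 ≤ j → j ≤ h → 1 ≤ k → k ≤ h → ∑ χ ∈ T, v j χ * v k χ =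
      1 + (if j = k then 1 else 0) + if j = h ∧ k = h then 1 else 0)
    (deg : ∀ j, 1 ≤ j → j ≤ h → 1 + ∑ χ ∈ T, v j χ * D χ = 0) :
    ∃ (p a b : ι) (q : ℕ → ι) (e ea eb : ℤ), p ∈ T ∧ a ∈ T ∧ b ∈ T ∧ p ≠ a ∧ p ≠ b ∧ a ≠ b ∧
      (e = 1 ∨ e = -1) ∧ (ea = 1 ∨ ea = -1) ∧ (eb = 1 ∨ eb = -1) ∧
      (∀ j, 1 ≤ j → j < h → q j ∈ T ∧ q j ≠ p ∧ q j ≠ a ∧ q j ≠ b ∧
        v j p = e ∧ v j (q j) = -e ∧ ∀ χ ∈ T, χ ≠ p → χ ≠ q j → v j χ = 0) ∧
      (∀ j k, 1 ≤ j → j < h → 1 ≤ k → k < h → q j = q k → j = k) ∧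
      v h p = e ∧ v h a = ea ∧ v h b = eb ∧ ∀ χ ∈ T, χ ≠ p → χ ≠ a → χ ≠ b → v h χ = 0 := by
  classical
  set S : ℕ → Finset ι := fun j => T.filter fun χ => v j χ ≠ 0 with hS
  have hmemS : ∀ {j χ}, χ ∈ S j ↔ χ ∈ T ∧ v j χ ≠ 0 := fun {j χ} => Finset.mem_filter
  have hpm : ∀ j, 1 ≤ j → j ≤ h → ∀ χ ∈ S j, v j χ = 1 ∨ v j χ = -1 := by
    intro j hj hjh χ hχ
    have hle : v j χ * v j χ ≤ ∑ y ∈ T, v j y * v j y :=
      Finset.single_le_sum (fun y _ => mul_self_nonneg (v j y)) (hmemS.1 hχ).1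
    rw [gram j j hj hjh hj hjh, if_pos rfl] at hle
    have hne := (hmemS.1 hχ).2
    have h4 : v j χ * v j χ ≤ 3 := hle.trans (by split_ifs <;> norm_num)
    have h5 : -2 < v j χ ∧ v j χ < 2 := ⟨by nlinarith, by nlinarith⟩
    omega
  have hsize : ∀ j, 1 ≤ j → j ≤ h → ((S j).card : ℤ) = 2 + if j = h then 1 else 0 := by
    intro j hj hjh
    have h1 := gram j j hj hjh hj hjh
    rw [if_pos rfl] at h1
    have h4 : ∑ χ ∈ S j, v j χ * v j χ = ∑ χ ∈ T, v j χ * v j χ :=
      Finset.sum_filter_of_ne fun χ _ hne => left_ne_zero_of_mul hne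
    rw [Finset.sum_congr rfl (fun χ hχ => by rcases hpm j hj hjh χ hχ with e | e <;> rw [e] <;> norm_num :
      ∀ χ ∈ S j, v j χ * v j χ = 1), Finset.sum_const, nsmul_eq_mul, mul_one, h1] at h4
    rw [h4]
    simp only [and_self]
    split_ifs <;> norm_num
  have hsize2 : ∀ j, 1 ≤ j → j < h → (S j).card = 2 := fun j hj hjh => by
    have := hsize j hj hjh.le
    rw [if_neg hjh.ne, add_zero] at this
    exact_mod_cast this
  have hsize3 : (S h).card = 3 := by
    have := hsize h (by omega) le_rfl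
    rw [if_pos rfl] at this
    omega
  have hmeet : ∀ j k, 1 ≤ j → j < h → 1 ≤ k → k ≤ h → j ≠ k →
      ∃ x, S j ∩ S k = {x} ∧ v j x = v k x := by
    intro j k hj hjh hk hkh hjk
    have h1 := gram j k hj hjh.le hk hkh
    rw [if_neg hjk, if_neg (fun e => absurd e.1 hjh.ne), add_zero, add_zero] at h1
    have h4 : ∑ χ ∈ S j ∩ S k, v j χ * v k χ = 1 := by
      rw [← h1]
      refine Finset.sum_subset (fun χ hχ => (hmemS.1 (Finset.mem_inter.1 hχ).1).1) fun χ hχ hn => ?_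
      by_contra hne
      exact hn (Finset.mem_inter.2 ⟨hmemS.2 ⟨hχ, left_ne_zero_of_mul hne⟩,
        hmemS.2 ⟨hχ, right_ne_zero_of_mul hne⟩⟩)
    have hpm' : ∀ χ ∈ S j ∩ S k, v j χ * v k χ = 1 ∨ v j χ * v k χ = -1 := fun χ hχ => by
      rcases hpm j hj hjh.le χ (Finset.mem_inter.1 hχ).1 with e | e <;>
        rcases hpm k hk hkh χ (Finset.mem_inter.1 hχ).2 with e' | e' <;> rw [e, e'] <;> norm_num
    have hle : (S j ∩ S k).card ≤ 2 :=
      (hsize2 j hj hjh) ▸ Finset.card_le_card Finset.inter_subset_left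
    rcases (show (S j ∩ S k).card = 0 ∨ (S j ∩ S k).card = 1 ∨ (S j ∩ S k).card = 2 by omega)
      with hc | hc | hc
    · rw [Finset.card_eq_zero.1 hc, Finset.sum_empty] at h4
      exact absurd h4 zero_ne_one
    · obtain ⟨x, hx⟩ := Finset.card_eq_one.1 hc
      refine ⟨x, hx, ?_⟩
      have hxm : x ∈ S j ∩ S k := by rw [hx]; simp
      rw [hx, Finset.sum_singleton] at h4
      rcases hpm j hj hjh.le x (Finset.mem_inter.1 hxm).1 with e | e <;> rw [e] at h4 ⊢ <;> omega
    · obtain ⟨x, y, hxy, hx⟩ := Finset.card_eq_two.1 hc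
      have := hpm' x (by rw [hx]; simp)
      have := hpm' y (by rw [hx]; simp)
      rw [hx, Finset.sum_pair hxy] at h4
      omega
  have hdeg : ∀ j, 1 ≤ j → j ≤ h → 1 + ∑ χ ∈ S j, v j χ * D χ = 0 := fun j hj hjh => by
    rw [show S j = T.filter (fun χ => v j χ ≠ 0) from rfl,
      Finset.sum_filter_of_ne fun χ _ hne => left_ne_zero_of_mul hne]
    exact deg j hj hjh
  -- the common member
  obtain ⟨p, hp⟩ : ∃ p, ∀ j, 1 ≤ j → j ≤ h → p ∈ S j := by
    obtain ⟨x, hx, hxv⟩ := hmeet 1 h le_rfl (by omega) (by omega) le_rfl (by omega)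
    rcases (show h = 2 ∨ 4 ≤ h by omega) with rfl | h4
    · refine ⟨x, fun j hj hj2 => ?_⟩
      have hm : x ∈ S 1 ∩ S 2 := by rw [hx]; simp
      rcases (show j = 1 ∨ j = 2 by omega) with rfl | rfl
      · exact (Finset.mem_inter.1 hm).1
      · exact (Finset.mem_inter.1 hm).2
    obtain ⟨p, hpx, hpv⟩ := hmeet 1 2 le_rfl (by omega) (by omega) (by omega) (by omega)
    have hp1 : p ∈ S 1 ∧ p ∈ S 2 := Finset.mem_inter.1 (by rw [hpx]; simp)
    have hall : ∀ j, 1 ≤ j → j < h → p ∈ S j := by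
      intro j hj hjh
      by_contra hpj
      have hj1 : j ≠ 1 := fun e => hpj (e ▸ hp1.1)
      have hj2 : j ≠ 2 := fun e => hpj (e ▸ hp1.2)
      obtain ⟨r, hr, hrv⟩ := hmeet 1 j le_rfl (by omega) hj hjh.le (Ne.symm hj1)
      obtain ⟨s, hs, hsv⟩ := hmeet 2 j (by omega) (by omega) hj hjh.le (Ne.symm hj2)
      have hr1 : r ∈ S 1 ∧ r ∈ S j := Finset.mem_inter.1 (by rw [hr]; simp)
      have hs1 : s ∈ S 2 ∧ s ∈ S j := Finset.mem_inter.1 (by rw [hs]; simp)
      have hrp : r ≠ p := fun e => hpj (e ▸ hr1.2)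
      have hsp : s ≠ p := fun e => hpj (e ▸ hs1.2)
      have hrs : r ≠ s := fun e => hrp (Finset.mem_singleton.1 (hpx ▸
        Finset.mem_inter.2 ⟨hr1.1, e ▸ hs1.1⟩))
      have e1 : S 1 = {p, r} := (Finset.eq_of_subset_of_card_le (by
        simp [Finset.insert_subset_iff, hp1.1, hr1.1]) (by
        rw [hsize2 1 le_rfl (by omega), Finset.card_pair hrp.symm])).symm
      have e2 : S 2 = {p, s} := (Finset.eq_of_subset_of_card_le (by
        simp [Finset.insert_subset_iff, hp1.2, hs1.1]) (by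
        rw [hsize2 2 (by omega) (by omega), Finset.card_pair hsp.symm])).symm
      have e3 : S j = {r, s} := (Finset.eq_of_subset_of_card_le (by
        simp [Finset.insert_subset_iff, hr1.2, hs1.2]) (by
        rw [hsize2 j hj hjh, Finset.card_pair hrs])).symm
      have d1 := hdeg 1 le_rfl (by omega)
      have d2 := hdeg 2 (by omega) (by omega)
      have d3 := hdeg j hj hjh.le
      rw [e1, Finset.sum_pair hrp.symm] at d1
      rw [e2, Finset.sum_pair hsp.symm, ← hpv] at d2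
      rw [e3, Finset.sum_pair hrs, ← hrv, ← hsv] at d3
      omega
    refine ⟨p, fun j hj hjh => ?_⟩
    rcases lt_or_eq_of_le hjh with hlt | rfl
    · exact hall j hj hlt
    by_contra hph
    have hq : ∀ k, 1 ≤ k → k < j → ∃ q, q ≠ p ∧ S k = {p, q} ∧ q ∈ S j ∧ v k q = v j q := by
      intro k hk hkj
      obtain ⟨q, hq, hqv⟩ := hmeet k j hk hkj hj le_rfl hkj.ne
      have hq1 : q ∈ S k ∧ q ∈ S j := Finset.mem_inter.1 (by rw [hq]; simp)
      have hqp : q ≠ p := fun e => hph (e ▸ hq1.2)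
      exact ⟨q, hqp, (Finset.eq_of_subset_of_card_le (by
        simp [Finset.insert_subset_iff, hall k hk hkj, hq1.1]) (by
        rw [hsize2 k hk hkj, Finset.card_pair hqp.symm])).symm, hq1.2, hqv⟩
    haveI : Nonempty ι := ⟨p⟩
    choose! q hqp hqS hqj hqv using hq
    have hinj : ∀ k l, 1 ≤ k → k < j → 1 ≤ l → l < j → q k = q l → k = l := by
      intro k l hk hkj hl hlj e
      by_contra hne
      obtain ⟨x, hx, -⟩ := hmeet k l hk hkj hl hlj.le hne
      have : S k ∩ S l = S k := by rw [hqS k hk hkj, hqS l hl hlj, e, Finset.inter_self]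
      rw [this] at hx
      have := hsize2 k hk hkj
      rw [hx, Finset.card_singleton] at this
      omega
    have hsub : (Finset.Ico 1 j).image q ⊆ S j := fun y hy => by
      obtain ⟨k, hk, rfl⟩ := Finset.mem_image.1 hy
      exact hqj k (Finset.mem_Ico.1 hk).1 (Finset.mem_Ico.1 hk).2
    have hcard : ((Finset.Ico 1 j).image q).card = j - 1 := by
      rw [Finset.card_image_of_injOn fun k hk l hl e => hinj k l (Finset.mem_Ico.1 hk).1
        (Finset.mem_Ico.1 hk).2 (Finset.mem_Ico.1 hl).1 (Finset.mem_Ico.1 hl).2 e, Nat.card_Ico]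
    have hle := Finset.card_le_card hsub
    rw [hcard, hsize3] at hle
    have hj4 : j = 4 := by omega
    subst hj4
    have heq : S 4 = {q 1, q 2, q 3} := (Finset.eq_of_subset_of_card_le (fun y hy => by
      simp only [Finset.mem_insert, Finset.mem_singleton] at hy
      rcases hy with rfl | rfl | rfl <;> exact hqj _ (by omega) (by omega)) (by
      rw [hsize3, Finset.card_insert_of_notMem, Finset.card_pair]
      · exact fun e => absurd (hinj 2 3 (by omega) (by omega) (by omega) (by omega) e) (by omega)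
      · simp only [Finset.mem_insert, Finset.mem_singleton]
        rintro (e | e)
        · exact absurd (hinj 1 2 (by omega) (by omega) (by omega) (by omega) e) (by omega)
        · exact absurd (hinj 1 3 (by omega) (by omega) (by omega) (by omega) e) (by omega))).symm
    have n12 : q 1 ≠ q 2 := fun e => absurd (hinj 1 2 le_rfl (by omega) (by omega) (by omega) e) (by omega)
    have n13 : q 1 ≠ q 3 := fun e => absurd (hinj 1 3 le_rfl (by omega) (by omega) (by omega) e) (by omega)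
    have n23 : q 2 ≠ q 3 := fun e =>
      absurd (hinj 2 3 (by omega) (by omega) (by omega) (by omega) e) (by omega)
    obtain ⟨y, hy, hyv⟩ := hmeet 1 3 le_rfl (by omega) (by omega) (by omega) (by omega)
    have hyp : y = p := by
      have : p ∈ S 1 ∩ S 3 := Finset.mem_inter.2 ⟨hp1.1, hall 3 (by omega) (by omega)⟩
      rw [hy] at this
      exact (Finset.mem_singleton.1 this).symm
    rw [hyp] at hyv
    have d1 := hdeg 1 le_rfl (by omega)
    have d2 := hdeg 2 (by omega) (by omega)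
    have d3 := hdeg 3 (by omega) (by omega)
    have d4 := hdeg 4 (by omega) le_rfl
    rw [hqS 1 le_rfl (by omega), Finset.sum_pair (hqp 1 le_rfl (by omega)).symm] at d1
    rw [hqS 2 (by omega) (by omega), Finset.sum_pair (hqp 2 (by omega) (by omega)).symm, ← hpv] at d2
    rw [hqS 3 (by omega) (by omega), Finset.sum_pair (hqp 3 (by omega) (by omega)).symm, ← hyv] at d3
    rw [heq, Finset.sum_insert (by simp [n12, n13]), Finset.sum_pair n23,
      ← hqv 1 le_rfl (by omega), ← hqv 2 (by omega) (by omega), ← hqv 3 (by omega) (by omega)] at d4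
    omega
  -- labels
  have hq : ∀ j, 1 ≤ j → j < h → ∃ q, q ≠ p ∧ S j = {p, q} := by
    intro j hj hjh
    have hc : ((S j).erase p).card = 1 := by
      rw [Finset.card_erase_of_mem (hp j hj hjh.le), hsize2 j hj hjh]
    obtain ⟨q, hq⟩ := Finset.card_eq_one.1 hc
    have hq' : q ∈ (S j).erase p := by rw [hq]; simp
    exact ⟨q, (Finset.mem_erase.1 hq').1, by rw [← Finset.insert_erase (hp j hj hjh.le), hq]⟩
  haveI : Nonempty ι := ⟨p⟩
  choose! q hqp hqS using hq
  have hmeetp : ∀ j k, 1 ≤ j → j < h → 1 ≤ k → k ≤ h → j ≠ k → S j ∩ S k = {p} ∧ v j p = v k p := by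
    intro j k hj hjh hk hkh hjk
    obtain ⟨x, hx, hxv⟩ := hmeet j k hj hjh hk hkh hjk
    have : p ∈ S j ∩ S k := Finset.mem_inter.2 ⟨hp j hj hjh.le, hp k hk hkh⟩
    rw [hx] at this
    rw [Finset.mem_singleton.1 this]
    exact ⟨hx, hxv⟩
  obtain ⟨a, b, hab, hb3⟩ : ∃ a b, a ≠ b ∧ (S h).erase p = {a, b} := by
    obtain ⟨a, b, hab, e⟩ := Finset.card_eq_two.1 (show ((S h).erase p).card = 2 by
      rw [Finset.card_erase_of_mem (hp h (by omega) le_rfl), hsize3])
    exact ⟨a, b, hab, e⟩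
  have ha : a ∈ (S h).erase p := by rw [hb3]; simp
  have hb : b ∈ (S h).erase p := by rw [hb3]; simp
  refine ⟨p, a, b, q, v h p, v h a, v h b, (hmemS.1 (hp h (by omega) le_rfl)).1,
    (hmemS.1 (Finset.mem_of_mem_erase ha)).1, (hmemS.1 (Finset.mem_of_mem_erase hb)).1,
    (Finset.ne_of_mem_erase ha).symm, (Finset.ne_of_mem_erase hb).symm, hab,
    hpm h (by omega) le_rfl p (hp h (by omega) le_rfl),
    hpm h (by omega) le_rfl a (Finset.mem_of_mem_erase ha),
    hpm h (by omega) le_rfl b (Finset.mem_of_mem_erase hb), fun j hj hjh => ?_, ?_, rfl, rfl, rfl, ?_⟩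
  · have hqm : q j ∈ S j := by rw [hqS j hj hjh]; simp
    obtain ⟨hi, hv⟩ := hmeetp j h hj hjh (by omega) le_rfl hjh.ne
    have hqh : q j ∉ S h := fun hm =>
      hqp j hj hjh (Finset.mem_singleton.1 (hi ▸ Finset.mem_inter.2 ⟨hqm, hm⟩))
    refine ⟨(hmemS.1 hqm).1, hqp j hj hjh, fun e => hqh (e ▸ Finset.mem_of_mem_erase ha),
      fun e => hqh (e ▸ Finset.mem_of_mem_erase hb), hv, ?_, fun χ hχ h1 h2' => ?_⟩
    · have hd := hdeg j hj hjh.le
      rw [hqS j hj hjh, Finset.sum_pair (hqp j hj hjh).symm] at hd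
      have hDp := hD p (hmemS.1 (hp j hj hjh.le)).1
      have hDq := hD (q j) (hmemS.1 hqm).1
      rw [← hv]
      rcases hpm j hj hjh.le p (hp j hj hjh.le) with e | e <;>
        rcases hpm j hj hjh.le (q j) hqm with e' | e' <;> rw [e, e'] at hd ⊢ <;> omega
    · by_contra hne
      have : χ ∈ S j := hmemS.2 ⟨hχ, hne⟩
      rw [hqS j hj hjh] at this
      simp [h1, h2'] at this
  · intro j k hj hjh hk hkh e
    by_contra hne
    have hqj : q j ∈ S j ∩ S k := by
      rw [hqS j hj hjh, hqS k hk hkh, e]; simp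
    rw [(hmeetp j k hj hjh hk hkh.le hne).1, Finset.mem_singleton] at hqj
    exact hqp j hj hjh hqj
  · intro χ hχ h1 h2' h3'
    by_contra hne
    have : χ ∈ (S h).erase p := Finset.mem_erase.2 ⟨h1, hmemS.2 ⟨hχ, hne⟩⟩
    rw [hb3] at this
    simp [h2', h3'] at this

end Cfsg.Agent.DihBlock
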