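import Cfsg.Agent.Lib.Blocks.DihedralLocal
import Cfsg.Agent.Lib.Blocks.DihedralShape
import Cfsg.Agent.Lib.Blocks.SecondMain
import Cfsg.Agent.Lib.Blocks.Misc
import Cfsg.Agent.Lib.Blocks.RegularSum
import Cfsg.Agent.Lib.Char.Complete
import Mathlib.RingTheory.RootsOfUnity.Complex

/-!
The principal 2-block of a group with dihedral Sylow 2-subgroups.
-/

set_option linter.style.haveILetI false
set_option linter.unusedSectionVars false

namespace Cfsg.Agent.DihBlock

open Cfsg Cfsg.Agent.TwoFus Cfsg.Agent.Char Cfsg.Agent.Blocks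
open scoped ComplexConjugate

universe u

variable {G : Type u} [Group G] [Fintype G] {M : Ideal AlgInt} [M.IsPrime] {P : Sylow 2 G}
  (d : Dih (P : Subgroup G)) {ζ : ℂ} (hζ : IsPrimitiveRoot ζ d.m)

include hζ

theorem geom_sum (j : ℕ) :
    ∑ l ∈ Finset.range d.m, ζ ^ (j * l) = if d.m ∣ j then (d.m : ℂ) else 0 := by
  split_ifs with h
  · obtain ⟨c, rfl⟩ := h
    simp only [mul_assoc, pow_mul, hζ.pow_eq_one, one_pow, Finset.sum_const, Finset.card_range,
      nsmul_eq_mul, mul_one]
  · have hne : ζ ^ j ≠ 1 := fun e => h ((hζ.pow_eq_one_iff_dvd j).1 e)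
    simp only [pow_mul]
    rw [geom_sum_eq hne, ← pow_mul, mul_comm j, pow_mul, hζ.pow_eq_one, one_pow, sub_self, zero_div]

theorem conj_zeta {j : ℕ} (hj : j ≤ d.m) (l : ℕ) :
    conj (ζ ^ (j * l)) = ζ ^ ((d.m - j) * l) := by
  have hm : d.m ≠ 0 := by have := d.two_le; omega
  have h1 : ζ ^ ((d.m - j) * l) * ζ ^ (j * l) = 1 := by
    rw [← pow_add, ← add_mul, Nat.sub_add_cancel hj, pow_mul, hζ.pow_eq_one, one_pow]
  rw [← inv_eq_of_mul_eq_one_left h1, map_pow, ← Complex.inv_eq_conj (hζ.norm'_eq_one hm), inv_pow]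

omit hζ in
theorem real_value (χ : IrrCharacter G) (l : ℕ) :
    conj ((χ : G → ℂ) (d.x ^ l)) = (χ : G → ℂ) (d.x ^ l) := by
  rw [← irr_inv, ← zpow_natCast]
  exact (irr_isConj χ (isConj_inv d (l : ℤ))).symm ▸ rfl

theorem exists_coeff (χ : IrrCharacter G) (j : ℕ) :
    ∃ n : ℕ, ∑ l ∈ Finset.range d.m, (χ : G → ℂ) (d.x ^ l) * ζ ^ (j * l) = (d.m : ℂ) * n := by
  classical
  have hm : d.m ≠ 0 := by have := d.two_le; omega
  set A := Subgroup.zpowers d.x with hA
  haveI : Fintype A := Fintype.ofFinite A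
  set gen : A := ⟨d.x, Subgroup.mem_zpowers d.x⟩ with hgen
  have hgenmem : ∀ a : A, a ∈ Subgroup.zpowers gen := by
    rintro ⟨_, i, rfl⟩
    exact ⟨i, Subtype.ext (by simp [hgen])⟩
  have hu : (Units.mk0 (ζ ^ j) (pow_ne_zero _ (hζ.ne_zero hm))) ^ orderOf gen = 1 := by
    rw [hgen, Subgroup.orderOf_mk, d.hm]
    refine Units.ext ?_
    simp only [Units.val_pow_eq_pow_val, Units.val_mk0, Units.val_one]
    rw [← pow_mul, mul_comm, pow_mul, hζ.pow_eq_one, one_pow]
  set f := monoidHomOfForallMemZpowers hgenmem (orderOf_dvd_of_pow_eq_one hu) with hf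
  obtain ⟨n, hn⟩ := IsCharacter.exists_classInner_nat
    (IsIrrCharacter.isCharacter (isIrrCharacter_linear f))
    (IsCharacter.restrict (irr_isCharacter χ) A)
  refine ⟨n, ?_⟩
  have hcard : Nat.card A = d.m := by rw [hA, Nat.card_zpowers, d.hm]
  simp only [classInner] at hn
  rw [inv_mul_eq_iff_eq_mul₀ (Nat.cast_ne_zero.2 Nat.card_pos.ne')] at hn
  rw [← hcard, ← hn, hcard]
  refine Finset.sum_bij (fun l _ => gen ^ l) (fun _ _ => Finset.mem_univ _) ?_ ?_ ?_
  · intro a ha b hb e
    rw [Finset.mem_range] at ha hb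
    exact pow_injOn_Iio_orderOf (x := gen) (by rw [hgen, Subgroup.orderOf_mk, d.hm]; exact ha)
      (by rw [hgen, Subgroup.orderOf_mk, d.hm]; exact hb) e
  · intro a _
    obtain ⟨k, hk⟩ := mem_powers_iff_mem_zpowers.2 (hgenmem a)
    refine ⟨k % d.m, Finset.mem_range.2 (Nat.mod_lt _ (Nat.pos_of_ne_zero hm)), ?_⟩
    have ho : orderOf gen = d.m := by rw [hgen, Subgroup.orderOf_mk, d.hm]
    rw [← ho, pow_mod_orderOf]
    exact hk
  · intro l _
    rw [map_pow, Units.val_pow_eq_pow_val, hf, monoidHomOfForallMemZpowers_apply_gen, Units.val_mk0,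
      Subgroup.coe_pow, show ((gen : A) : G) = d.x from rfl, real_value d, ← pow_mul]
    ring

omit hζ in
theorem isPPart_self {a : G} (ha : ∃ k, orderOf a = 2 ^ k) : IsPPart 2 a a :=
  ⟨1, mul_one _, Commute.one_right _, ha, by simp⟩

omit hζ in
theorem order_x_pow (l : ℕ) : ∃ k, orderOf (d.x ^ l) = 2 ^ k := by
  haveI : Fact (Nat.Prime 2) := ⟨Nat.prime_two⟩
  obtain ⟨k, hk⟩ := IsPGroup.iff_orderOf.1 P.2 ⟨d.x ^ l, pow_mem d.hx l⟩
  exact ⟨k, by rwa [Subgroup.orderOf_mk] at hk⟩

omit hζ in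
theorem x_pow_eq_one_iff (l : ℕ) : d.x ^ l = 1 ↔ d.m ∣ l := by
  rw [← orderOf_dvd_iff_pow_eq_one, d.hm]

omit hζ in
theorem pair_self (hM : IsPModular 2 M) {a : G} (ha : ∃ k, orderOf a = 2 ^ k)
    (hC : Cfsg.HasNormalPComplement 2 ↥(Subgroup.centralizer ({a} : Set G))) :
    blockPair (principalBlock M G) a a =
      ((2 ^ (Nat.card ↥(Subgroup.centralizer ({a} : Set G))).factorization 2 : ℕ) : ℂ) := by
  classical
  haveI : Fact (Nat.Prime 2) := ⟨Nat.prime_two⟩
  set C := Subgroup.centralizer ({a} : Set G) with hCdef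
  haveI : Fintype C := Fintype.ofFinite C
  obtain ⟨N, hN, hcop, hidx⟩ := PBasic.hasNormalPComplement_iff.1 hC
  have hy : ¬ 2 ∣ orderOf (1 : C) := by rw [orderOf_one]; norm_num
  have h := sum_normSq_section_principal hM (x := a) ha hCdef (y := (1 : C)) hy
  rw [OneMemClass.coe_one, mul_one, blockPair_principal_of_pComplement hM N
    ((Nat.prime_two.coprime_iff_not_dvd).1 hcop.symm) hidx hy] at h
  exact h

omit hζ in
/-- A character of the principal block is constant on sections. -/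
theorem section_const (hM : IsPModular 2 M) {χ : IrrCharacter G} (hχ : χ ∈ principalBlock M G)
    {g a b : G} (hab : a * b = g) (hc : Commute a b) (ha : ∃ k, orderOf a = 2 ^ k)
    (hb : ¬ 2 ∣ orderOf b) (hC : Cfsg.HasNormalPComplement 2 ↥(Subgroup.centralizer ({a} : Set G))) :
    (χ : G → ℂ) g = (χ : G → ℂ) a := by
  classical
  haveI : Fact (Nat.Prime 2) := ⟨Nat.prime_two⟩
  set C := Subgroup.centralizer ({a} : Set G) with hCdef
  haveI : Fintype C := Fintype.ofFinite C
  obtain ⟨N, hN, hcop, k, hk⟩ := PBasic.hasNormalPComplement_iff.1 hC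
  set v : C := ⟨b, Subgroup.mem_centralizer_singleton_iff.2 hc.symm.eq⟩ with hv
  have hvN : v ∈ N := by
    rw [← QuotientGroup.eq_one_iff, ← orderOf_eq_one_iff]
    refine Nat.eq_one_of_dvd_coprimes (a := 2 ^ k) (b := orderOf b)
      ((Nat.prime_two.coprime_iff_not_dvd.2 hb).pow_left k) (hk ▸ orderOf_dvd_natCard _) ?_
    have h1 := orderOf_map_dvd (QuotientGroup.mk' N) v
    rwa [hv, Subgroup.orderOf_mk] at h1
  rw [← hab]
  exact irr_section_of_kernel hM ha hCdef hχ N ((Nat.prime_two.coprime_iff_not_dvd).1 hcop.symm) hvN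

omit hζ in
theorem z_eq {h : ℕ} (hh : d.m = 2 * h) : d.z = d.x ^ h := by
  rw [Dih.z, ← zpow_natCast, hh]
  congr 1
  push_cast
  omega

include d in
omit hζ in
theorem exists_contradiction (hM : IsPModular 2 M) {χ : IrrCharacter G}
    (hχ : χ ∈ principalBlock M G) (hz : ∀ g : G, 2 ∣ orderOf g → (χ : G → ℂ) g = 0) : False := by
  classical
  have hne : (χ : G → ℂ) ≠ (principal G : G → ℂ) := fun e => by
    have hx : 2 ∣ orderOf d.x := d.hm.symm ▸ d.even
    have := congrFun e d.x
    rw [hz _ hx] at this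
    exact zero_ne_one this
  have hsum : ∑ x ∈ Finset.univ.filter (fun x : G => ¬ 2 ∣ orderOf x), (χ : G → ℂ) x = 0 := by
    rw [Finset.sum_filter]
    have h := classInner_irr_of_ne χ.2 (principal G).2 hne
    simp only [classInner] at h
    rcases mul_eq_zero.1 h with h' | h'
    · exact absurd h' (inv_ne_zero (Nat.cast_ne_zero.2 Nat.card_pos.ne'))
    · refine Eq.trans (Finset.sum_congr rfl fun x _ => ?_) h'
      show _ = (χ : G → ℂ) x * conj ((1 : ℂ))
      rw [map_one, mul_one]
      split_ifs with hx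
      all_goals first
        | rfl
        | rw [hz x hx]
  refine sum_regular_not_mem hM (ψ := principal G) principal_mem_principalBlock
    (by show ¬ 2 ∣ charDegree (fun _ : G => (1 : ℂ)); simp [charDegree]) ?_
  let E : MonoidAlgebra (locRing M) G := gaOfFun fun x => if ¬ 2 ∣ orderOf x then 1 else 0
  have hE : IsClassElt E := isClassElt_gaOfFun fun g k => by
    rw [← MulAut.conj_apply, MulEquiv.orderOf_eq]
  have h := omegaR_congr (χ := principal G) (ψ := χ) hχ hE
  have hval : ∀ φ : IrrCharacter G, omegaR φ E =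
      (∑ x ∈ Finset.univ.filter (fun x : G => ¬ 2 ∣ orderOf x), (φ : G → ℂ) x) / (φ : G → ℂ) 1 := by
    intro φ
    rw [omega_eq_sum_div, Finset.sum_filter]
    congr 1
    refine Finset.sum_congr rfl fun x _ => ?_
    simp only [E, coeff_gaOfFun]
    split_ifs <;> simp
  rw [hval, hval, hsum, zero_div, sub_zero] at h
  rw [show ((principal G : G → ℂ) 1) = 1 from rfl, div_one] at h
  exact h

set_option maxHeartbeats 2000000 in
/-- The principal block. -/
theorem block_structure (hM : IsPModular 2 M) {h : ℕ} (hh : d.m = 2 * h) (h2 : 2 ≤ h) (heven : 2 ∣ h) :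
    ∃ (χ₁ χ₂ χ₃ : IrrCharacter G) (q : ℕ → IrrCharacter G) (e ea eb : ℤ),
      (e = 1 ∨ e = -1) ∧ (ea = 1 ∨ ea = -1) ∧ (eb = 1 ∨ eb = -1) ∧
      χ₁ ≠ principal G ∧ χ₂ ≠ principal G ∧ χ₃ ≠ principal G ∧ χ₁ ≠ χ₂ ∧ χ₁ ≠ χ₃ ∧ χ₂ ≠ χ₃ ∧
      (∀ j, 1 ≤ j → j < h → q j ≠ χ₁ ∧ q j ≠ χ₂ ∧ q j ≠ χ₃ ∧ q j ≠ principal G) ∧
      (∀ j k, 1 ≤ j → j < h → 1 ≤ k → k < h → q j = q k → j = k) ∧
      (∀ χ, χ ∈ principalBlock M G ↔ χ = principal G ∨ χ = χ₁ ∨ χ = χ₂ ∨ χ = χ₃ ∨
        ∃ j, (1 ≤ j ∧ j < h) ∧ χ = q j) ∧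
      (∀ l : ℕ, ¬ d.m ∣ l → (χ₁ : G → ℂ) (d.x ^ l) = e ∧
        (χ₂ : G → ℂ) (d.x ^ l) = ea * (-1) ^ (l + 1) ∧ (χ₃ : G → ℂ) (d.x ^ l) = eb * (-1) ^ (l + 1) ∧
        ∀ j, 1 ≤ j → j < h →
          (q j : G → ℂ) (d.x ^ l) = e * (ζ ^ (j * l) + ζ ^ ((d.m - j) * l))) ∧
      ∀ ρ : G, ¬ 2 ∣ orderOf ρ →
        1 + (e : ℂ) * (χ₁ : G → ℂ) ρ + ea * (χ₂ : G → ℂ) ρ + eb * (χ₃ : G → ℂ) ρ = 0 ∧
        ∀ j, 1 ≤ j → j < h → 1 + (e : ℂ) * (χ₁ : G → ℂ) ρ - e * (q j : G → ℂ) ρ = 0 := by
  classical
  haveI : Fact (Nat.Prime 2) := ⟨Nat.prime_two⟩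
  set m := d.m with hm
  have hm0 : (m : ℂ) ≠ 0 := Nat.cast_ne_zero.2 (by omega)
  set Bf := Finset.univ.filter (· ∈ principalBlock M G) with hBf
  have hpr : principal G ∈ Bf := Finset.mem_filter.2 ⟨Finset.mem_univ _, principal_mem_principalBlock⟩
  have hgeom : ∀ j, ∑ l ∈ Finset.range m, ζ ^ (j * l) = if m ∣ j then (m : ℂ) else 0 := geom_sum d hζ
  have hxpow : ∀ l, d.x ^ l = 1 ↔ m ∣ l := x_pow_eq_one_iff d
  choose n hn using (show ∀ (χ : IrrCharacter G) (j : ℕ), ∃ k : ℕ,
    ∑ l ∈ Finset.range m, (χ : G → ℂ) (d.x ^ l) * ζ ^ (j * l) = (m : ℂ) * k from exists_coeff d hζ)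
  have hsym : ∀ χ j, j ≤ m → n χ (m - j) = n χ j := by
    intro χ j hj
    have h1 := congrArg conj (hn χ j)
    simp only [map_sum, map_mul, real_value d, conj_zeta d hζ hj, map_natCast] at h1
    rw [hn] at h1
    exact_mod_cast mul_left_cancel₀ hm0 h1
  set f : ℕ → ℕ → ℂ := fun j l => 2 - ζ ^ (j * l) - ζ ^ ((m - j) * l) with hf
  set v : ℕ → IrrCharacter G → ℤ := fun j χ => (n χ 0 : ℤ) - n χ j with hv
  have hc : ∀ (j : ℕ) (χ : IrrCharacter G), j ≤ m → ∑ l ∈ Finset.range m, f j l * (χ : G → ℂ) (d.x ^ l) =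
      2 * (m : ℂ) * (v j χ : ℂ) := by
    intro j χ hj
    have h0 := hn χ 0
    simp only [zero_mul, pow_zero, mul_one] at h0
    rw [Finset.sum_congr rfl (g := fun l => (χ : G → ℂ) (d.x ^ l) * 2 - (χ : G → ℂ) (d.x ^ l) *
      ζ ^ (j * l) - (χ : G → ℂ) (d.x ^ l) * ζ ^ ((m - j) * l)) (fun l _ => by simp only [hf]; ring)]
    simp only [Finset.sum_sub_distrib, ← Finset.sum_mul, h0, hn, hsym χ j hj, hv]
    push_cast
    ring
  have hpairsum : ∀ j g, j ≤ m → 2 * (m : ℂ) * ∑ χ ∈ Bf, (v j χ : ℂ) * (χ : G → ℂ) g =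
      ∑ l ∈ Finset.range m, f j l * blockPair (principalBlock M G) g (d.x ^ l) := by
    intro j g hj
    rw [Finset.mul_sum, Finset.sum_congr rfl fun χ _ => by rw [← mul_assoc, ← hc j χ hj, Finset.sum_mul],
      Finset.sum_comm]
    refine Finset.sum_congr rfl fun l _ => ?_
    unfold blockPair
    rw [Finset.mul_sum]
    refine Finset.sum_congr (by ext; simp [hBf]) fun χ _ => ?_
    rw [real_value d]
    ring
  -- pairings on the cyclic part
  have hzsq : ∀ l, d.x ^ l * d.x ^ l = 1 ↔ h ∣ l := by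
    intro l
    rw [← pow_add, x_pow_eq_one_iff, ← hm, hh, ← two_mul]
    exact Nat.mul_dvd_mul_iff_left two_pos
  have hval : ∀ b, 0 < b → b < m → blockPair (principalBlock M G) (d.x ^ b) (d.x ^ b) =
      if b = h then 2 * (m : ℂ) else (m : ℂ) := by
    intro b hb hbm
    split_ifs with e
    · rw [e, ← z_eq d hh]
      obtain ⟨h1, h2'⟩ := data_z d
      rw [pair_self hM (z_eq d hh ▸ order_x_pow d h) h1, h2']
      push_cast
      ring
    · have hne : d.x ^ (b : ℤ) * d.x ^ (b : ℤ) ≠ 1 := by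
        rw [zpow_natCast, Ne, hzsq]
        intro hd
        obtain ⟨c, rfl⟩ := hd
        have : c < 2 := Nat.lt_of_mul_lt_mul_left (show h * c < h * 2 by omega)
        interval_cases c <;> simp_all
      obtain ⟨h1, h2'⟩ := data_x d hne
      rw [zpow_natCast] at h1 h2'
      rw [pair_self hM (order_x_pow d b) h1, h2']
  have horbit : ∀ j b, j ≤ m → 0 < b → b < m →
      ∑ a ∈ Finset.range m, f j a * blockPair (principalBlock M G) (d.x ^ a) (d.x ^ b) =
        2 * (m : ℂ) * f j b := by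
    intro j b hj hb hbm
    have hinv : d.x ^ (m - b) = (d.x ^ b)⁻¹ :=
      eq_inv_of_mul_eq_one_left (by rw [← pow_add, Nat.sub_add_cancel hbm.le, hxpow])
    have hfsym : f j (m - b) = f j b := by
      have e : ∀ s t : ℕ, s + t = m → ζ ^ (s * (m - b)) = ζ ^ (t * b) := fun s t hst => by
        have h1 : ζ ^ (s * (m - b)) * ζ ^ (s * b) = 1 := by
          rw [← pow_add, ← mul_add, Nat.sub_add_cancel hbm.le, mul_comm, pow_mul, hζ.pow_eq_one, one_pow]
        have h2' : ζ ^ (t * b) * ζ ^ (s * b) = 1 := by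
          rw [← pow_add, ← add_mul, add_comm t, hst, pow_mul, hζ.pow_eq_one, one_pow]
        exact mul_right_cancel₀ (pow_ne_zero _ (hζ.ne_zero (by omega))) (h1.trans h2'.symm)
      simp only [hf, e j (m - j) (by omega), e (m - j) j (by omega)]
      ring
    have hzero : ∀ a ∈ Finset.range m, a ≠ b → a ≠ m - b →
        f j a * blockPair (principalBlock M G) (d.x ^ a) (d.x ^ b) = 0 := by
      intro a ha h1 h2'
      rw [Finset.mem_range] at ha
      refine mul_eq_zero_of_right _ (blockPair_eq_zero_of_pPart hM (isPBlock_principalBlock M G)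
        (isPPart_self (order_x_pow d a)) (isPPart_self (order_x_pow d b)) fun hc' => ?_)
      have inj : ∀ {s t}, s < m → t < m → d.x ^ s = d.x ^ t → s = t := fun hs ht e =>
        pow_injOn_Iio_orderOf (by rw [d.hm]; exact hs) (by rw [d.hm]; exact ht) e
      by_cases hsq : d.x ^ b * d.x ^ b = 1
      · -- only the involution
        have hsa : d.x ^ a * d.x ^ a = 1 := by
          obtain ⟨g, hg⟩ := isConj_iff.1 hc'.symm
          rw [← hg]
          calc g * d.x ^ b * g⁻¹ * (g * d.x ^ b * g⁻¹) = g * (d.x ^ b * d.x ^ b) * g⁻¹ := by group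
            _ = 1 := by rw [hsq, mul_one, mul_inv_cancel]
        obtain ⟨s, rfl⟩ := (hzsq a).1 hsa
        obtain ⟨t, rfl⟩ := (hzsq b).1 hsq
        have hs : s < 2 := Nat.lt_of_mul_lt_mul_left (show h * s < h * 2 by omega)
        have ht : t < 2 := Nat.lt_of_mul_lt_mul_left (show h * t < h * 2 by omega)
        interval_cases s <;> interval_cases t
        · omega
        · rw [mul_zero, pow_zero] at hc'
          exact absurd (inj (show h * 1 < m by omega) (show 0 < m by omega)
            ((isConj_one_right.1 hc').trans (pow_zero _).symm)) (by omega)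
        · omega
        · omega
      · have hi : d.x ^ (b : ℤ) * d.x ^ (b : ℤ) ≠ 1 := by rwa [zpow_natCast]
        rcases fusion d hi (pow_mem d.hx a) (by rw [zpow_natCast]; exact hc'.symm) with e | e <;>
          rw [zpow_natCast] at e
        · exact h1 (inj ha hbm e)
        · exact h2' (inj ha (by omega) (e.trans hinv.symm))
    by_cases e : b = h
    · rw [Finset.sum_eq_single_of_mem b (Finset.mem_range.2 hbm) (fun a ha hne =>
        hzero a ha hne (by omega)), hval b hb hbm, if_pos e]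
      ring
    · rw [← Finset.sum_subset (s₁ := {b, m - b}) (by
          intro y hy
          simp only [Finset.mem_insert, Finset.mem_singleton] at hy
          rw [Finset.mem_range]; omega) (fun a ha hne => by
          simp only [Finset.mem_insert, Finset.mem_singleton, not_or] at hne
          exact hzero a ha hne.1 hne.2), Finset.sum_pair (by omega)]
      have hsame : blockPair (principalBlock M G) (d.x ^ (m - b)) (d.x ^ b) =
          blockPair (principalBlock M G) (d.x ^ b) (d.x ^ b) := by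
        rw [hinv]
        unfold blockPair
        refine Finset.sum_congr rfl fun χ _ => ?_
        rw [← zpow_natCast, irr_isConj χ (isConj_inv d (b : ℤ))]
      rw [hfsym, hsame, hval b hb hbm, if_neg e]
      ring
  -- inner products
  have hgram : ∀ j k, 1 ≤ j → j ≤ h → 1 ≤ k → k ≤ h → ∑ χ ∈ Bf, v j χ * v k χ =
      2 + (if j = k then 1 else 0) + if j = h ∧ k = h then 1 else 0 := by
    intro j k hj hjh hk hkh
    have hf0 : f k 0 = 0 := by simp [hf]; ring
    have step : (2 * (m : ℂ)) * (2 * (m : ℂ)) * ∑ χ ∈ Bf, (v j χ : ℂ) * (v k χ : ℂ) =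
        (2 * (m : ℂ)) * ∑ b ∈ Finset.range m, f k b * f j b := by
      calc (2 * (m : ℂ)) * (2 * (m : ℂ)) * ∑ χ ∈ Bf, (v j χ : ℂ) * (v k χ : ℂ)
          = ∑ χ ∈ Bf, (2 * (m : ℂ) * (v j χ : ℂ)) * ∑ b ∈ Finset.range m, f k b * (χ : G → ℂ) (d.x ^ b) := by
            rw [Finset.mul_sum]
            refine Finset.sum_congr rfl fun χ _ => ?_
            rw [hc k χ (by omega)]
            ring
        _ = ∑ b ∈ Finset.range m, f k b *
              (2 * (m : ℂ) * ∑ χ ∈ Bf, (v j χ : ℂ) * (χ : G → ℂ) (d.x ^ b)) := by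
            simp only [Finset.mul_sum]
            rw [Finset.sum_comm]
            exact Finset.sum_congr rfl fun b _ => Finset.sum_congr rfl fun χ _ => by ring
        _ = (2 * (m : ℂ)) * ∑ b ∈ Finset.range m, f k b * f j b := by
            rw [Finset.mul_sum]
            refine Finset.sum_congr rfl fun b hb => ?_
            rcases Nat.eq_zero_or_pos b with rfl | hb0
            · rw [hf0]; ring
            · rw [hpairsum j _ (by omega)]
              have hcm : ∑ a ∈ Finset.range m, f j a * blockPair (principalBlock M G) (d.x ^ b) (d.x ^ a) =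
                  ∑ a ∈ Finset.range m, f j a * blockPair (principalBlock M G) (d.x ^ a) (d.x ^ b) := by
                refine Finset.sum_congr rfl fun a _ => ?_
                congr 1
                unfold blockPair
                exact Finset.sum_congr rfl fun χ _ => by rw [real_value d, real_value d, mul_comm]
              rw [hcm, horbit j b (by omega) hb0 (Finset.mem_range.1 hb)]
              ring
    have hexp : ∀ b, f k b * f j b = 4 * ζ ^ (0 * b) - 2 * ζ ^ (j * b) - 2 * ζ ^ ((m - j) * b)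
        - 2 * ζ ^ (k * b) - 2 * ζ ^ ((m - k) * b) + ζ ^ ((k + j) * b) + ζ ^ ((k + (m - j)) * b)
        + ζ ^ ((m - k + j) * b) + ζ ^ ((m - k + (m - j)) * b) := by
      intro b
      simp only [hf, zero_mul, pow_zero, add_mul, pow_add]
      ring
    have hdv : ∀ s, 0 < s → s < 2 * m → (m ∣ s ↔ s = m) := fun s hs hs2 => by
      refine ⟨fun ⟨c, hc'⟩ => ?_, fun e => e ▸ dvd_rfl⟩
      have : c < 2 := Nat.lt_of_mul_lt_mul_left (show m * c < m * 2 by omega)
      interval_cases c <;> omega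
    have hsum : ∑ b ∈ Finset.range m, f k b * f j b =
        2 * (m : ℂ) * (2 + (if j = k then 1 else 0) + if j = h ∧ k = h then 1 else 0) := by
      simp only [hexp, Finset.sum_add_distrib, Finset.sum_sub_distrib, ← Finset.mul_sum,
        hgeom, dvd_zero, if_true, hdv j (by omega) (by omega),
        hdv (m - j) (by omega) (by omega), hdv k (by omega) (by omega),
        hdv (m - k) (by omega) (by omega), hdv (k + j) (by omega) (by omega),
        hdv (k + (m - j)) (by omega) (by omega), hdv (m - k + j) (by omega) (by omega),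
        hdv (m - k + (m - j)) (by omega) (by omega)]
      rw [if_neg (show ¬ j = m by omega), if_neg (show ¬ m - j = m by omega),
        if_neg (show ¬ k = m by omega), if_neg (show ¬ m - k = m by omega)]
      have i1 : (k + j = m) ↔ (j = h ∧ k = h) := by omega
      have i2 : (m - k + (m - j) = m) ↔ (j = h ∧ k = h) := by omega
      have i3 : (k + (m - j) = m) ↔ j = k := by omega
      have i4 : (m - k + j = m) ↔ j = k := by omega
      simp only [i1, i2, i3, i4]
      split_ifs <;> ring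
    rw [hsum] at step
    have h2m : (2 : ℂ) * (m : ℂ) ≠ 0 := mul_ne_zero two_ne_zero hm0
    rw [mul_assoc] at step
    have h3 := mul_left_cancel₀ h2m (mul_left_cancel₀ h2m step)
    have h4 : ((∑ χ ∈ Bf, v j χ * v k χ : ℤ) : ℂ) =
        ((2 + (if j = k then 1 else 0) + if j = h ∧ k = h then 1 else 0 : ℤ) : ℂ) := by
      push_cast
      rw [h3]
    exact_mod_cast h4
  have hv1 : ∀ j, 1 ≤ j → j ≤ h → v j (principal G) = 1 := by
    intro j hj hjh
    have e : ∀ g : G, (principal G : G → ℂ) g = 1 := fun g => rfl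
    have h0 := hn (principal G) 0
    have h1 := hn (principal G) j
    simp only [e, one_mul, hgeom] at h0 h1
    rw [if_pos (dvd_zero _)] at h0
    rw [if_neg (fun hd => by have := Nat.le_of_dvd (by omega) hd; omega)] at h1
    have n0 : n (principal G) 0 = 1 := by
      have h0' : (m : ℂ) * 1 = (m : ℂ) * (n (principal G) 0 : ℂ) := by rw [mul_one]; exact h0
      exact_mod_cast (mul_left_cancel₀ hm0 h0').symm
    have n1 : n (principal G) j = 0 := by
      exact_mod_cast (mul_eq_zero.1 h1.symm).resolve_left hm0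
    simp [hv, n0, n1]
  set T := Bf.erase (principal G) with hT
  have hgramT : ∀ j k, 1 ≤ j → j ≤ h → 1 ≤ k → k ≤ h → ∑ χ ∈ T, v j χ * v k χ =
      1 + (if j = k then 1 else 0) + if j = h ∧ k = h then 1 else 0 := by
    intro j k hj hjh hk hkh
    have h1 := hgram j k hj hjh hk hkh
    rw [← Finset.add_sum_erase Bf _ hpr, hv1 j hj hjh, hv1 k hk hkh, ← hT] at h1
    linarith
  have hreg : ∀ j ρ, j ≤ m → ¬ 2 ∣ orderOf ρ → ∑ χ ∈ Bf, (v j χ : ℂ) * (χ : G → ℂ) ρ = 0 := by
    intro j ρ hj hρ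
    have h1 := hpairsum j ρ hj
    rw [Finset.sum_eq_zero (s := Finset.range m) (fun l hl => ?_)] at h1
    · exact (mul_eq_zero.1 h1).resolve_left (mul_ne_zero two_ne_zero hm0)
    rcases Nat.eq_zero_or_pos l with rfl | hl0
    · simp [hf]; left; ring
    · refine mul_eq_zero_of_right _ (blockPair_regular_singular hM (isPBlock_principalBlock M G) hρ ?_)
      obtain ⟨k, hk⟩ := order_x_pow d l
      rw [hk]
      rcases Nat.eq_zero_or_pos k with rfl | hk0
      · exfalso
        rw [pow_zero, orderOf_eq_one_iff, hxpow] at hk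
        have := Nat.le_of_dvd hl0 hk
        rw [Finset.mem_range] at hl
        omega
      · exact dvd_pow_self 2 hk0.ne'
  have hregT : ∀ j ρ, 1 ≤ j → j ≤ h → ¬ 2 ∣ orderOf ρ →
      1 + ∑ χ ∈ T, (v j χ : ℂ) * (χ : G → ℂ) ρ = 0 := by
    intro j ρ hj hjh hρ
    have h1 := hreg j ρ (by omega) hρ
    rw [← Finset.add_sum_erase Bf _ hpr, hv1 j hj hjh, ← hT, Int.cast_one, one_mul] at h1
    exact h1
  obtain ⟨p, a, b, q, e, ea, eb, hpT, haT, hbT, hpa, hpb, hab, he, hea, heb, hqall, hqinj, hvp,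
      hva, hvb, hvother⟩ :=
    shape_gram T v (fun χ => (charDegree (χ : G → ℂ) : ℤ))
      (fun χ _ => by
        obtain ⟨k, hk0, hk⟩ := exists_deg χ
        have h1 := irr_one_eq_charDegree χ
        rw [hk, Nat.cast_inj] at h1
        omega)
      h2 (by omega) hgramT
      (fun j hj hjh => by
        have h1 := hregT j 1 hj hjh (by simp)
        simp only [irr_one_eq_charDegree] at h1
        exact_mod_cast h1)
  -- values
  have hexp : ∀ (χ : IrrCharacter G) (l : ℕ), ¬ m ∣ l → (χ : G → ℂ) (d.x ^ l) =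
      -∑ j ∈ Finset.range m, (v j χ : ℂ) * ζ ^ (j * l) := by
    intro χ l hl
    have h1 : ∑ j ∈ Finset.range m, (m : ℂ) * (n χ j : ℂ) * ζ ^ (j * l) =
        (m : ℂ) * (χ : G → ℂ) (d.x ^ l) := by
      have hl' : l % m < m := Nat.mod_lt _ (by omega)
      simp only [← hn, Finset.sum_mul, mul_assoc, ← pow_add]
      rw [Finset.sum_comm]
      have e1 : ∀ a ∈ Finset.range m, ∑ j ∈ Finset.range m, (χ : G → ℂ) (d.x ^ a) * ζ ^ (j * a + j * l)
          = (χ : G → ℂ) (d.x ^ a) * if m ∣ a + l then (m : ℂ) else 0 := by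
        intro a _
        rw [← Finset.mul_sum]
        congr 1
        rw [← hgeom]
        exact Finset.sum_congr rfl fun j _ => by rw [← mul_add, mul_comm]
      have hmne : l % m ≠ 0 := fun h0 => hl (Nat.dvd_of_mod_eq_zero h0)
      rw [Finset.sum_congr rfl e1, Finset.sum_eq_single_of_mem (m - l % m)
        (Finset.mem_range.2 (by omega))]
      · have hdv : m ∣ m - l % m + l := by
          refine Nat.dvd_of_mod_eq_zero ?_
          rw [Nat.add_mod, Nat.mod_eq_of_lt (show m - l % m < m by omega),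
            Nat.sub_add_cancel hl'.le, Nat.mod_self]
        rw [if_pos hdv, mul_comm]
        congr 1
        have e2 : d.x ^ (m - l % m) = (d.x ^ l)⁻¹ := eq_inv_of_mul_eq_one_left (by
          rw [← pow_add, hxpow]; exact hdv)
        rw [e2, ← zpow_natCast, irr_isConj χ (isConj_inv d (l : ℤ))]
      · intro a ha hne
        rw [if_neg, mul_zero]
        intro hd
        apply hne
        rw [Finset.mem_range] at ha
        have h3 : (a + l % m) % m = 0 := by rw [Nat.add_mod_mod]; exact Nat.mod_eq_zero_of_dvd hd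
        obtain ⟨c, hc'⟩ := Nat.dvd_of_mod_eq_zero h3
        have : c < 2 := Nat.lt_of_mul_lt_mul_left (show m * c < m * 2 by omega)
        interval_cases c <;> omega
    refine mul_left_cancel₀ hm0 (h1.symm.trans ?_)
    have h0 : ∑ j ∈ Finset.range m, ζ ^ (j * l) = 0 := by
      rw [Finset.sum_congr rfl fun j _ => by rw [mul_comm]]
      rw [hgeom, if_neg hl]
    rw [mul_neg, Finset.mul_sum, ← Finset.sum_neg_distrib]
    simp only [hv]
    push_cast
    simp only [sub_mul, mul_sub, neg_sub, Finset.sum_sub_distrib, ← Finset.mul_sum, h0, mul_zero,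
      sub_zero, mul_assoc]
  have hvsym : ∀ χ j, j ≤ m → v (m - j) χ = v j χ := fun χ j hj => by simp [hv, hsym χ j hj]
  have hv0 : ∀ χ, v 0 χ = 0 := fun χ => sub_self _
  have hqval : ∀ (χ : IrrCharacter G) j0, 1 ≤ j0 → j0 ≤ h → (∀ j, 1 ≤ j → j ≤ h → j ≠ j0 → v j χ = 0) →
      ∀ l, ¬ m ∣ l → (χ : G → ℂ) (d.x ^ l) =
        if j0 = h then -(v j0 χ : ℂ) * ζ ^ (h * l)
        else -(v j0 χ : ℂ) * (ζ ^ (j0 * l) + ζ ^ ((m - j0) * l)) := by
    intro χ j0 hj0 hj0h hz l hl
    have hzz : ∀ j, j < m → j ≠ j0 → j ≠ m - j0 → v j χ = 0 := by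
      intro j hjm h1 h2'
      rcases Nat.eq_zero_or_pos j with rfl | hj0'
      · exact hv0 χ
      by_cases hjh : j ≤ h
      · exact hz j hj0' hjh h1
      · rw [← hvsym χ j hjm.le]
        exact hz _ (by omega) (by omega) (by omega)
    rw [hexp χ l hl]
    split_ifs with e'
    · subst e'
      rw [Finset.sum_eq_single_of_mem j0 (Finset.mem_range.2 (by omega)) (fun j hj hne => by
        rw [hzz j (Finset.mem_range.1 hj) hne (by omega), Int.cast_zero, zero_mul]), neg_mul]
    · rw [← Finset.sum_subset (s₁ := {j0, m - j0}) (by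
          intro y hy
          simp only [Finset.mem_insert, Finset.mem_singleton] at hy
          rw [Finset.mem_range]; omega) (fun j hj hne => by
          simp only [Finset.mem_insert, Finset.mem_singleton, not_or] at hne
          rw [hzz j (Finset.mem_range.1 hj) hne.1 hne.2, Int.cast_zero, zero_mul]),
        Finset.sum_pair (by omega), hvsym χ j0 (by omega)]
      ring
  have hζh : ∀ l, ζ ^ (h * l) = (-1) ^ l := by
    intro l
    have h1 : (ζ ^ h) * (ζ ^ h) = 1 := by rw [← pow_add, ← two_mul, ← hh, hζ.pow_eq_one]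
    have h2' : ζ ^ h ≠ 1 := fun e' => by
      have := Nat.le_of_dvd (by omega) ((hζ.pow_eq_one_iff_dvd h).1 e')
      omega
    rw [pow_mul, (mul_self_eq_one_iff.1 h1).resolve_left h2']
  have hp_other : ∀ j, 1 ≤ j → j ≤ h → v j p = e := by
    intro j hj hjh
    rcases lt_or_eq_of_le hjh with hlt | rfl
    · exact (hqall j hj hlt).2.2.2.2.1
    · exact hvp
  have hvalp : ∀ l, ¬ m ∣ l → (p : G → ℂ) (d.x ^ l) = e := by
    intro l hl
    rw [hexp p l hl]
    have hvj : ∀ j ∈ Finset.range m, (v j p : ℂ) * ζ ^ (j * l) =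
        (e : ℂ) * ζ ^ (j * l) - if j = 0 then (e : ℂ) else 0 := by
      intro j hj
      rw [Finset.mem_range] at hj
      rcases Nat.eq_zero_or_pos j with rfl | hj0
      · rw [hv0, if_pos rfl]; simp
      · rw [if_neg (by omega), sub_zero]
        by_cases hjh : j ≤ h
        · rw [hp_other j hj0 hjh]
        · rw [← hvsym p j hj.le, hp_other (m - j) (by omega) (by omega)]
    rw [Finset.sum_congr rfl hvj, Finset.sum_sub_distrib, ← Finset.mul_sum,
      Finset.sum_congr rfl (g := fun j => ζ ^ (l * j)) (fun j _ => by rw [mul_comm]),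
      hgeom, if_neg hl, Finset.sum_ite_eq', if_pos (Finset.mem_range.2 (by omega))]
    ring
  have hvala : ∀ (χ : IrrCharacter G), χ ∈ T → (χ = a ∨ χ = b) → ∀ l, ¬ m ∣ l →
      (χ : G → ℂ) (d.x ^ l) = (v h χ : ℂ) * (-1) ^ (l + 1) := by
    intro χ hχ hab' l hl
    rw [hqval χ h (by omega) le_rfl (fun j hj hjh hne => ?_) l hl, if_pos rfl, hζh, pow_succ]
    · ring
    · obtain ⟨-, hq1, hq2, hq3, -, -, hq0⟩ := hqall j hj (lt_of_le_of_ne hjh hne)
      rcases hab' with rfl | rfl
      · exact hq0 _ hχ hpa.symm hq2.symm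
      · exact hq0 _ hχ hpb.symm hq3.symm
  have hvalq : ∀ j, 1 ≤ j → j < h → ∀ l, ¬ m ∣ l →
      (q j : G → ℂ) (d.x ^ l) = e * (ζ ^ (j * l) + ζ ^ ((m - j) * l)) := by
    intro j hj hjh l hl
    obtain ⟨hqT, hq1, hq2, hq3, -, hqv, -⟩ := hqall j hj hjh
    rw [hqval (q j) j hj hjh.le (fun k hk hkh hne => ?_) l hl, if_neg hjh.ne, hqv]
    · push_cast; ring
    · rcases lt_or_eq_of_le hkh with hlt | rfl
      · exact (hqall k hk hlt).2.2.2.2.2.2 _ hqT hq1 fun e' => hne (hqinj j k hj hjh hk hlt e').symm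
      · exact hvother _ hqT hq1 hq2 hq3
  have hnotdvd : ¬ m ∣ h := fun hd => by have := Nat.le_of_dvd (by omega) hd; omega
  have hcomplete : ∀ χ ∈ T, χ = p ∨ χ = a ∨ χ = b ∨ ∃ j, (1 ≤ j ∧ j < h) ∧ χ = q j := by
    intro χ hχ
    by_contra hno
    push Not at hno
    obtain ⟨h1, h2', h3, h4⟩ := hno
    have hvzero : ∀ j, 1 ≤ j → j ≤ h → v j χ = 0 := by
      intro j hj hjh
      rcases lt_or_eq_of_le hjh with hlt | rfl
      · exact (hqall j hj hlt).2.2.2.2.2.2 _ hχ h1 (h4 j ⟨hj, hlt⟩)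
      · exact hvother _ hχ h1 h2' h3
    have hχB : χ ∈ principalBlock M G := (Finset.mem_filter.1 (Finset.mem_erase.1 hχ).2).2
    have hzero : ∀ l, ¬ m ∣ l → (χ : G → ℂ) (d.x ^ l) = 0 := by
      intro l hl
      rw [hqval χ h (by omega) le_rfl (fun j hj hjh _ => hvzero j hj hjh) l hl, if_pos rfl,
        hvzero h (by omega) le_rfl]
      simp
    have hz2 : orderOf d.z = 2 := orderOf_eq_prime (by rw [pow_two, d.zz]) d.z_ne
    have hparity : ∀ (φ : IrrCharacter G) (k : ℤ), (φ : G → ℂ) (d.x ^ h) = k →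
        (2 : ℤ) ∣ (charDegree (φ : G → ℂ) : ℤ) - k := fun φ k hk => by
      obtain ⟨k', hk', hd⟩ := char_involution φ hz2
      rw [z_eq d hh, hk] at hk'
      rwa [show k = k' by exact_mod_cast hk']
    refine exists_contradiction d hM hχB fun g hg => ?_
    obtain ⟨x, y, hxy, hcomm, hxk, hy⟩ := exists_isPPart Nat.prime_two g
    have hx1 : x ≠ 1 := fun e' => hy (by rw [e', one_mul] at hxy; rwa [hxy])
    rw [section_const hM hχB hxy hcomm hxk hy (complement_all d hxk hx1)]
    rcases classify d hxk hx1 with hc' | ⟨i, hi, hc'⟩ | ⟨i, hi, hc'⟩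
    · rw [irr_isConj χ hc'.symm, z_eq d hh]
      exact hzero h hnotdvd
    · rw [irr_isConj χ hc'.symm]
      obtain ⟨l, hl, hl'⟩ : ∃ l : ℕ, ¬ m ∣ l ∧ d.x ^ i = d.x ^ l := by
        obtain ⟨l, hl⟩ := mem_powers_iff_mem_zpowers.2 (Subgroup.zpow_mem_zpowers d.x i)
        refine ⟨l, fun hd => hi ?_, hl.symm⟩
        rw [← hl]
        simp only [(x_pow_eq_one_iff d l).2 hd, mul_one]
      rw [hl']
      exact hzero l hl
    · rw [irr_isConj χ hc'.symm]
      set u := d.x ^ i * d.y with hu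
      obtain ⟨hC, hfac⟩ := data_form d hi
      have hu2 : orderOf u = 2 := orderOf_eq_prime (by rw [pow_two, d.form_sq i])
        (fun e' => d.form_not_mem i (by rw [← hu, e']; exact one_mem _))
      choose w hw hwd using fun φ : IrrCharacter G => char_involution φ hu2
      have hsum : ∑ φ ∈ Bf, w φ * w φ = 4 := by
        have h5 := pair_self hM ⟨1, by rw [hu2, pow_one]⟩ hC
        rw [hfac] at h5
        have h6 : ((∑ φ ∈ Bf, w φ * w φ : ℤ) : ℂ) = ((4 : ℤ) : ℂ) := by
          push_cast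
          refine Eq.trans ?_ (h5.trans (by norm_num))
          unfold blockPair
          refine Finset.sum_congr (by ext; simp [hBf]) fun φ _ => ?_
          rw [hw φ, map_intCast]
        exact_mod_cast h6
      have hwpr : w (principal G) = 1 := by
        have h5 := hw (principal G)
        have h6 : ((1 : ℤ) : ℂ) = (w (principal G) : ℂ) := by rw [← h5]; simp [principal]
        exact_mod_cast h6.symm
      have hodd : ∀ φ : IrrCharacter G, ∀ k : ℤ, (k = 1 ∨ k = -1) → (φ : G → ℂ) (d.x ^ h) = k →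
          1 ≤ w φ * w φ := by
        intro φ k hk hφ
        have h5 := hparity φ k hφ
        have h6 := hwd φ
        have h7 : w φ ≠ 0 := by rintro h0; rw [h0] at h6; omega
        nlinarith [mul_self_pos.2 h7]
      have hsgn : ((-1 : ℂ)) ^ (h + 1) = -1 := by
        obtain ⟨c, rfl⟩ := heven
        rw [pow_succ, pow_mul, neg_one_sq, one_pow, one_mul]
      have k1 := hodd p e he (hvalp h hnotdvd)
      have k2 := hodd a (-ea) (by omega) (by
        rw [hvala a haT (Or.inl rfl) h hnotdvd, hva, hsgn]; push_cast; ring)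
      have k3 := hodd b (-eb) (by omega) (by
        rw [hvala b hbT (Or.inr rfl) h hnotdvd, hvb, hsgn]; push_cast; ring)
      have hsub : ({principal G, p, a, b, χ} : Finset (IrrCharacter G)) ⊆ Bf := fun y hy => by
        simp only [Finset.mem_insert, Finset.mem_singleton] at hy
        rcases hy with rfl | rfl | rfl | rfl | rfl
        · exact hpr
        all_goals exact Finset.mem_of_mem_erase (by assumption)
      have hle := Finset.sum_le_sum_of_subset_of_nonneg hsub
        (fun y _ _ => mul_self_nonneg (w y))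
      have n1 : principal G ≠ p := (Finset.mem_erase.1 hpT).1.symm
      have n2 : principal G ≠ a := (Finset.mem_erase.1 haT).1.symm
      have n3 : principal G ≠ b := (Finset.mem_erase.1 hbT).1.symm
      have n4 : principal G ≠ χ := (Finset.mem_erase.1 hχ).1.symm
      rw [hsum, Finset.sum_insert (by simp [n1, n2, n3, n4]),
        Finset.sum_insert (by simp [hpa, hpb, Ne.symm h1]),
        Finset.sum_insert (by simp [hab, Ne.symm h2']), Finset.sum_pair (Ne.symm h3), hwpr] at hle
      have hw0 : w χ * w χ = 0 := le_antisymm (by linarith) (mul_self_nonneg _)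
      rw [hw χ, mul_self_eq_zero.1 hw0, Int.cast_zero]
  refine ⟨p, a, b, q, e, ea, eb, he, hea, heb, (Finset.mem_erase.1 hpT).1,
    (Finset.mem_erase.1 haT).1, (Finset.mem_erase.1 hbT).1, hpa, hpb, hab, fun j hj hjh => ?_,
    hqinj, fun χ => ?_, fun l hl => ?_, fun ρ hρ => ?_⟩
  · obtain ⟨hqT, hq1, hq2, hq3, -⟩ := hqall j hj hjh
    exact ⟨hq1, hq2, hq3, (Finset.mem_erase.1 hqT).1⟩
  · constructor
    · intro hχ
      by_cases h0 : χ = principal G
      · exact Or.inl h0
      · exact Or.inr (hcomplete χ (Finset.mem_erase.2 ⟨h0, Finset.mem_filter.2 ⟨Finset.mem_univ _, hχ⟩⟩))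
    · have hin : ∀ φ ∈ T, φ ∈ principalBlock M G := fun φ hφ =>
        (Finset.mem_filter.1 (Finset.mem_erase.1 hφ).2).2
      rintro (rfl | rfl | rfl | rfl | ⟨j, ⟨hj, hjh⟩, rfl⟩)
      · exact principal_mem_principalBlock
      · exact hin _ hpT
      · exact hin _ haT
      · exact hin _ hbT
      · exact hin _ (hqall j hj hjh).1
  · exact ⟨hvalp l hl, by rw [hvala a haT (Or.inl rfl) l hl, hva],
      by rw [hvala b hbT (Or.inr rfl) l hl, hvb], fun j hj hjh => hvalq j hj hjh l hl⟩
  · refine ⟨?_, fun j hj hjh => ?_⟩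
    · have h1 := hregT h ρ (by omega) le_rfl hρ
      rw [← Finset.sum_subset (s₁ := {p, a, b}) (by
          intro y hy
          simp only [Finset.mem_insert, Finset.mem_singleton] at hy
          rcases hy with rfl | rfl | rfl <;> assumption) (fun y hy hne => by
          simp only [Finset.mem_insert, Finset.mem_singleton, not_or] at hne
          rw [hvother y hy hne.1 hne.2.1 hne.2.2, Int.cast_zero, zero_mul]),
        Finset.sum_insert (by simp [hpa, hpb]), Finset.sum_pair hab, hvp, hva, hvb] at h1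
      linear_combination h1
    · obtain ⟨hqT, hq1, -, -, hqp, hqv, hq0⟩ := hqall j hj hjh
      have h1 := hregT j ρ hj hjh.le hρ
      rw [← Finset.sum_subset (s₁ := {p, q j}) (by
          intro y hy
          simp only [Finset.mem_insert, Finset.mem_singleton] at hy
          rcases hy with rfl | rfl <;> assumption) (fun y hy hne => by
          simp only [Finset.mem_insert, Finset.mem_singleton, not_or] at hne
          rw [hq0 y hy hne.1 hne.2, Int.cast_zero, zero_mul]),
        Finset.sum_pair hq1.symm, hqp, hqv] at h1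
      push_cast at h1
      linear_combination h1

end Cfsg.Agent.DihBlock

namespace Cfsg.Agent.DihBlock

open Cfsg Cfsg.Agent.TwoFus

universe u

variable {G : Type u} [Group G] [Fintype G] {P : Sylow 2 G}

/-- Dihedral data with a given generator of the cyclic part. -/
theorem exists_dih_gen {m : ℕ} (e : Nonempty ((P : Subgroup G) ≃* DihedralGroup m)) (hm : 3 ≤ m) {σ : G}
    (hσ : σ ∈ (P : Subgroup G)) (hσo : orderOf σ = m) :
    ∃ d : Dih (P : Subgroup G), d.m = m ∧ d.x = σ := by
  obtain ⟨e⟩ := e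
  obtain ⟨d, hd⟩ := exists_dih P (by omega) e
  have hmem : σ ∈ Subgroup.zpowers d.x := by
    by_contra hno
    have h2 := orderOf_dvd_of_pow_eq_one (x := σ) (n := 2) (by rw [pow_two, d.out_sq σ hσ hno])
    rw [hσo] at h2
    have := Nat.le_of_dvd two_pos h2
    omega
  have heq : Subgroup.zpowers σ = Subgroup.zpowers d.x :=
    Subgroup.eq_of_le_of_card_ge (Subgroup.zpowers_le.2 hmem)
      (by rw [Nat.card_zpowers, Nat.card_zpowers, d.hm, hσo, hd])
  obtain ⟨i, hi⟩ := hmem
  have hi' : d.x ^ i = σ := hi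
  exact ⟨{ d with
    x := σ
    hm := by rw [hσo, hd]
    hx := hσ
    inv := by rw [← hi']; exact conj_x_zpow d i
    ynot := by rw [heq]; exact d.ynot
    cases := fun a ha => by
      rcases d.cases a ha with ⟨k, rfl⟩ | ⟨k, rfl⟩
      · obtain ⟨k', hk'⟩ := (heq.symm ▸ Subgroup.zpow_mem_zpowers d.x k :
          d.x ^ k ∈ Subgroup.zpowers σ)
        exact Or.inl ⟨k', hk'.symm⟩
      · obtain ⟨k', hk'⟩ := (heq.symm ▸ Subgroup.zpow_mem_zpowers d.x k :
          d.x ^ k ∈ Subgroup.zpowers σ)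
        exact Or.inr ⟨k', by rw [← show σ ^ k' = d.x ^ k from hk']⟩ }, hd, rfl⟩

end Cfsg.Agent.DihBlock
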