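/-
Garrison's lemma: kernels of characters of large degree lie in the Fitting subgroup.
-/
import Cfsg.Agent.Lib.Char.Clifford
import Cfsg.Agent.Lib.Char.Integral
import Cfsg.Agent.Lib.Char.Degree
import Cfsg.Agent.Lib.Blocks.Degree
import Cfsg.Agent.Lib.Solvable.Fitting
import Cfsg.Agent.Lib.LocalEven.Wielandt

set_option linter.unusedSectionVars false
set_option linter.style.haveILetI false

namespace Cfsg.Agent.Garrison

open Cfsg Cfsg.Agent.Char Cfsg.Agent.Blocks

open scoped ComplexConjugate Pointwise commutatorElement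

universe u

variable {G : Type u} [Group G] [Fintype G]

/-- The kernel of a character lies in the kernel of each of its constituents. -/
theorem constituent_eq_one {α : G → ℂ} (hα : IsCharacter G α) {θ : G → ℂ}
    (hθ : IsIrrCharacter G θ) (hne : classInner α θ ≠ 0) {x : G} (hx : α x = α 1) :
    θ x = θ 1 := by
  classical
  obtain ⟨N, hN, hmem, hconst⟩ := IsCharacter.exists_kernel hα
  haveI := hN
  haveI : Fintype N := Fintype.ofFinite N
  by_contra hθx
  refine hne ?_
  have h0 := Cfsg.Agent.CharX.sum_coset_eq_zero hθ N ⟨x, (hmem x).2 hx, hθx⟩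
  have hc : ∀ (g : G) (m : N), α (g * m) = α g := fun g m => by
    rw [show g * (m : G) = (g * (m : G) * g⁻¹) * g by group]
    exact hconst _ (hN.conj_mem _ m.2 g) g
  have hsum : ∑ g : G, α g * conj (θ g) = 0 := by
    have h1 : ∀ m : N, ∑ g : G, α g * conj (θ g) = ∑ g : G, α g * conj (θ (g * m)) := fun m =>
      Eq.symm (Fintype.sum_equiv (Equiv.mulRight (m : G)) _ _ fun g => by
        simp only [Equiv.coe_mulRight, hc])
    have h2 : (Nat.card N : ℂ) * ∑ g : G, α g * conj (θ g) = 0 := by
      rw [Nat.card_eq_fintype_card, ← Finset.card_univ, ← nsmul_eq_mul, ← Finset.sum_const,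
        Finset.sum_congr rfl fun m _ => h1 m, Finset.sum_comm]
      refine Finset.sum_eq_zero fun g _ => ?_
      rw [← Finset.mul_sum, ← map_sum, h0 g, map_zero, mul_zero]
    exact (mul_eq_zero.1 h2).resolve_left (Nat.cast_ne_zero.2 Nat.card_pos.ne')
  simp only [classInner, hsum, mul_zero]

/-- A character is irreducible on a supplement of a subgroup of its kernel. -/
theorem isIrr_supplement {χ : G → ℂ} (hχ : IsIrrCharacter G χ) (K H : Subgroup G) [K.Normal]
    (hK : ∀ g ∈ K, χ g = χ 1) (hKH : K ⊔ H = ⊤) :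
    IsIrrCharacter H (fun h : H => χ h) := by
  obtain ⟨χ', -, he, hirr⟩ := IsCharacter.deflate (IsIrrCharacter.isCharacter hχ) K hK
  have hsurj : Function.Surjective ((QuotientGroup.mk' K).comp H.subtype) := by
    intro x
    obtain ⟨g, rfl⟩ := QuotientGroup.mk_surjective x
    obtain ⟨k, hk, h, hh, rfl⟩ := Set.mem_mul.1 (show g ∈ (K : Set G) * (H : Set G) by
      rw [← Subgroup.normal_mul, hKH]; exact Subgroup.mem_top g)
    refine ⟨⟨h, hh⟩, ?_⟩
    show (h : G ⧸ K) = ((k * h : G) : G ⧸ K)
    rw [QuotientGroup.mk_mul, (QuotientGroup.eq_one_iff k).2 hk, one_mul]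
  have := IsIrrCharacter.comp (hirr hχ) _ hsurj
  rwa [show (fun h : H => χ' (((QuotientGroup.mk' K).comp H.subtype) h)) = fun h : H => χ h from
    funext fun h => he h] at this

/-- Garrison's argument. -/
theorem exists_bigger {χ : G → ℂ} (hχ : IsIrrCharacter G χ) (K : Subgroup G) [K.Normal]
    (hK : ∀ g, g ∈ K ↔ χ g = χ 1) (M : Subgroup G) [M.Normal] (hKM : K ≤ M) {p : ℕ}
    [Fact p.Prime] (P : Sylow p M) (hMP : M ≤ K ⊔ (P : Subgroup M).map M.subtype)
    (hPn : ¬ ((P : Subgroup M).map M.subtype).Normal)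
    (hchief : ∀ W : Subgroup G, W.Normal → K ≤ W → W ≤ M → W = K ∨ W = M) :
    ∃ ψ : IrrCharacter G, charDegree χ < charDegree (ψ : G → ℂ) ∧
      ∃ L : Subgroup G, (∀ g, g ∈ L ↔ (ψ : G → ℂ) g = (ψ : G → ℂ) 1) ∧ L < K := by
  classical
  set Pg := (P : Subgroup M).map M.subtype with hPg
  have hNne : Subgroup.normalizer (Pg : Set G) ≠ ⊤ := fun h =>
    hPn (Subgroup.normalizer_eq_top_iff.1 h)
  obtain ⟨H, hH, hNH⟩ := (eq_top_or_exists_le_coatom _).resolve_left hNne
  have hPH : Pg ≤ H := Subgroup.le_normalizer.trans hNH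
  have hKH : K ⊔ H = ⊤ := by
    rw [eq_top_iff, ← Sylow.normalizer_sup_eq_top P]
    exact sup_le (hNH.trans le_sup_right) (hMP.trans (sup_le le_sup_left (hPH.trans le_sup_right)))
  haveI : Fintype H := Fintype.ofFinite H
  have hχc := IsIrrCharacter.isCharacter hχ
  have hχH : IsIrrCharacter H (fun h : H => χ h) :=
    isIrr_supplement hχ K H (fun g hg => (hK g).1 hg) hKH
  have hd : χ 1 = (charDegree χ : ℂ) := Cfsg.Agent.CharX.deg_spec hχc
  by_cases hex : ∃ ψ : IrrCharacter G,
      classInner (fun h : H => (ψ : G → ℂ) h) (fun h : H => χ h) ≠ 0 ∧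
        charDegree χ < charDegree (ψ : G → ℂ)
  · obtain ⟨ψ, hψ, hlt⟩ := hex
    obtain ⟨L, hL, hLmem, -⟩ := IsCharacter.exists_kernel (irr_isCharacter ψ)
    haveI := hL
    refine ⟨ψ, hlt, L, hLmem, ?_⟩
    have hLH : L ≤ H := by
      by_contra hcon
      have htop : L ⊔ H = ⊤ := hH.2 _ (right_lt_sup.2 hcon)
      have hψH := isIrr_supplement ψ.2 L H (fun g hg => (hLmem g).1 hg) htop
      have heq : (fun h : H => (ψ : G → ℂ) h) = fun h : H => χ h := by
        by_contra hne
        exact hψ (classInner_irr_of_ne hψH hχH hne)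
      have h1 := congrFun heq 1
      simp only [OneMemClass.coe_one, hd, irr_one_eq_charDegree, Nat.cast_inj] at h1
      omega
    refine lt_of_le_of_ne (fun x hx => (hK x).2 ?_) fun h => ?_
    · have h1 := constituent_eq_one (IsCharacter.restrict (irr_isCharacter ψ) H) hχH hψ
        (x := (⟨x, hLH hx⟩ : H)) ((hLmem x).1 hx)
      simpa using h1
    · exact hH.1 (by rw [← hKH, ← h]; exact (sup_eq_right.2 hLH).symm)
  exfalso
  push Not at hex
  -- every character over the restriction extends it
  have hext : ∀ ψ : IrrCharacter G,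
      classInner (fun h : H => (ψ : G → ℂ) h) (fun h : H => χ h) ≠ 0 →
        (fun h : H => (ψ : G → ℂ) h) = fun h : H => χ h := by
    intro ψ hψ
    have hres := IsCharacter.restrict (irr_isCharacter ψ) H
    refine eq_of_constituent_degree hres hχH hψ ?_
    have hle : charDegree χ ≤ charDegree (ψ : G → ℂ) :=
      degree_le_of_constituent hres hχH hψ
        (by rw [OneMemClass.coe_one, irr_one_eq_charDegree]) (by rw [OneMemClass.coe_one]; exact hd)
    rw [OneMemClass.coe_one, irr_one_eq_charDegree, hd, le_antisymm hle (hex ψ hψ)]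
  set I : G → ℂ := indFun H (fun h : H => χ h) with hIdef
  set c : ℂ := ∑ ψ : IrrCharacter G, classInner I ψ with hc
  have hI : ∀ h : H, I (h : G) = c * χ h := by
    intro h
    have hIc : IsCharacter G I := isCharacter_indFun H (IsIrrCharacter.isCharacter hχH)
    rw [congrFun (IsCharacter.eq_sum hIc) (h : G), Finset.sum_apply, hc, Finset.sum_mul]
    refine Finset.sum_congr rfl fun ψ _ => ?_
    simp only [Pi.smul_apply, smul_eq_mul]
    by_cases h0 : classInner I ψ = 0
    · rw [h0, zero_mul, zero_mul]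
    congr 1
    refine congrFun (hext ψ ?_) h
    intro h1
    refine h0 ?_
    rw [← classInner_conj_symm, hIdef,
      classInner_indFun_right H _ (IsCharacter.isClassFunction (irr_isCharacter ψ)), h1, map_zero]
  have hd0 : χ 1 ≠ 0 := IsIrrCharacter.one_ne_zero hχ
  have hcidx : c = (H.index : ℂ) := by
    have h1 := hI 1
    rw [OneMemClass.coe_one, hIdef, indFun_one_apply, OneMemClass.coe_one] at h1
    exact (mul_right_cancel₀ hd0 h1).symm
  have hcore : ∀ h : H, χ (h : G) ≠ 0 → (h : G) ∈ H.normalCore := by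
    intro h hh
    have h1 := hI h
    rw [hcidx, hIdef, indFun_apply] at h1
    have h2 : ∀ x : G, Cfsg.extendByZero H (fun h : H => χ h) (x⁻¹ * (h : G) * x) =
        if x⁻¹ * (h : G) * x ∈ H then χ h else 0 := by
      intro x
      split_ifs with hm
      · rw [extendByZero_mem _ _ hm]
        show χ (x⁻¹ * (h : G) * x) = χ h
        have h3 := IsCharacter.isClassFunction hχc (h : G) x⁻¹
        rwa [inv_inv] at h3
      · rw [extendByZero_not_mem _ _ hm]
    rw [Finset.sum_congr rfl fun x _ => h2 x, ← Finset.sum_filter, Finset.sum_const, nsmul_eq_mul,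
      ← mul_assoc] at h1
    have h4 := mul_right_cancel₀ hh h1
    rw [inv_mul_eq_iff_eq_mul₀ (Nat.cast_ne_zero.2 Nat.card_pos.ne'), ← Nat.cast_mul,
      H.card_mul_index, Nat.cast_inj, Nat.card_eq_fintype_card, Finset.card_eq_iff_eq_univ,
      Finset.eq_univ_iff_forall] at h4
    intro b
    have h5 := (Finset.mem_filter.1 (h4 b⁻¹)).2
    rwa [inv_inv] at h5
  set W := M ⊓ H.normalCore with hW
  have hWH : W ≤ H := inf_le_right.trans H.normalCore_le
  have hHK : ∀ x ∈ H, x ∈ K → x ∈ W := fun x hxH hxK =>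
    ⟨hKM hxK, hcore ⟨x, hxH⟩ (by
      show χ x ≠ 0
      rw [(hK x).1 hxK]; exact hd0)⟩
  have hWtop : Pg ≤ W → False := fun hPW => by
    have hPW' : (P : Subgroup M) ≤ W.subgroupOf M := fun x hx => hPW ⟨x, hx, rfl⟩
    have htop := Sylow.normalizer_sup_eq_top' P hPW'
    have hMH : M ≤ H := by
      intro m hm
      have hle : Subgroup.normalizer ((P : Subgroup M) : Set M) ⊔ W.subgroupOf M ≤ H.subgroupOf M :=
        sup_le (fun x hx => hNH (Subgroup.le_normalizer_map M.subtype ⟨x, hx, rfl⟩))
          (fun x hx => hWH hx)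
      refine hle (?_ : (⟨m, hm⟩ : M) ∈ _)
      rw [show Subgroup.normalizer ((P : Subgroup M) : Set M) ⊔ W.subgroupOf M = ⊤ from htop]
      exact Subgroup.mem_top _
    exact hH.1 (by rw [← hKH]; exact (sup_eq_right.2 (hKM.trans hMH)).symm)
  rcases hchief (W ⊔ K) inferInstance le_sup_right (sup_le inf_le_left hKM) with h | h
  · -- the character vanishes off `K`
    have hvan : ∀ m ∈ M, m ∉ K → χ m = 0 := by
      intro m hm hmK
      obtain ⟨k, hk, x, hx, rfl⟩ := Set.mem_mul.1 (show m ∈ (K : Set G) * (H : Set G) by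
        rw [← Subgroup.normal_mul, hKH]; exact Subgroup.mem_top m)
      have hxM : x ∈ M := by
        have := mul_mem (inv_mem (hKM hk)) hm
        rwa [inv_mul_cancel_left] at this
      obtain ⟨Kn, -, hKn, hKconst⟩ := IsCharacter.exists_kernel hχc
      rw [hKconst k ((hKn k).2 ((hK k).1 hk))]
      by_contra hne
      exact hmK (mul_mem hk (h.le (Subgroup.mem_sup_left ⟨hxM, hcore ⟨x, hx⟩ hne⟩)))
    haveI : Fintype M := Fintype.ofFinite M
    have hmres := IsCharacter.restrict hχc M
    have hne : classInner (fun m : M => χ m) (fun _ : M => (1 : ℂ)) ≠ 0 := by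
      simp only [classInner, map_one, mul_one]
      refine mul_ne_zero (inv_ne_zero (Nat.cast_ne_zero.2 Nat.card_pos.ne')) ?_
      rw [← Finset.sum_filter_add_sum_filter_not Finset.univ (fun m : M => (m : G) ∈ K),
        Finset.sum_eq_zero (s := Finset.univ.filter fun m : M => ¬ (m : G) ∈ K) (fun m hm =>
          hvan m m.2 (Finset.mem_filter.1 hm).2), add_zero,
        Finset.sum_congr (s₁ := Finset.univ.filter fun m : M => (m : G) ∈ K) rfl
          (g := fun _ => χ 1) fun m hm => (hK (m : G)).1 (Finset.mem_filter.1 hm).2,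
        Finset.sum_const, nsmul_eq_mul]
      refine mul_ne_zero (Nat.cast_ne_zero.2 (Finset.card_ne_zero.2 ⟨1, ?_⟩)) hd0
      simpa using one_mem K
    have hcl := clifford M hχ isIrrCharacter_one hne
    have hconst : ∀ m : M, χ (m : G) = χ 1 := by
      intro m
      have h1 := congrFun hcl m
      have h2 := congrFun hcl 1
      simp only [OneMemClass.coe_one, Pi.smul_apply, Finset.sum_apply] at h1 h2
      rw [h1, h2]
      congr 1
      refine Finset.sum_congr rfl fun φ hφ => ?_
      obtain ⟨g, rfl⟩ := (mem_conjOrbit M).1 hφ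
      rfl
    have hPK : Pg ≤ K := (Subgroup.map_subtype_le _).trans fun m hm => (hK m).2 (hconst ⟨m, hm⟩)
    -- then `M = K`, so that `P` lies in the core
    have hPW : Pg ≤ W := fun x hx => hHK x (hPH hx) (hPK hx)
    exact hWtop hPW
  · -- the Sylow subgroup lies in the normal subgroup `W`
    have hPW : Pg ≤ W := by
      intro x hx
      have hxM : x ∈ M := Subgroup.map_subtype_le _ hx
      rw [← h, ← SetLike.mem_coe, Subgroup.mul_normal] at hxM
      obtain ⟨w, hw, k, hk, rfl⟩ := Set.mem_mul.1 hxM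
      refine mul_mem hw (hHK k ?_ hk)
      have := mul_mem (inv_mem (hWH hw)) (hPH hx)
      rwa [inv_mul_cancel_left] at this
    exact hWtop hPW

/-- Garrison's lemma. -/
theorem garrison {χ : G → ℂ} (hχ : IsIrrCharacter G χ) (K : Subgroup G) [K.Normal]
    (hK : ∀ g, g ∈ K ↔ χ g = χ 1)
    (h : ¬ K ≤ fittingSubgroup G ∨ (K = fittingSubgroup G ∧ Group.IsSolvable (G ⧸ K) ∧ K ≠ ⊤)) :
    ∃ ψ : IrrCharacter G, charDegree χ < charDegree (ψ : G → ℂ) ∧
      ∃ L : Subgroup G, (∀ g, g ∈ L ↔ (ψ : G → ℂ) g = (ψ : G → ℂ) 1) ∧ L < K := by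
  classical
  have hnotnorm : ∀ (M : Subgroup G) [M.Normal], ¬ M ≤ fittingSubgroup G →
      ∃ p : ℕ, ∃ _ : Fact p.Prime, ∃ P : Sylow p M, ¬ (P : Subgroup M).Normal := by
    intro M _ hMF
    by_contra hcon
    push Not at hcon
    exact hMF (FittingCores.le_fitting inferInstance
      ((Group.isNilpotent_of_finite_tfae.out 0 3).2 fun p hp P => hcon p hp P))
  rcases h with hKF | ⟨hKF, hsolv, hKtop⟩
  · obtain ⟨p, hp, P, hP⟩ := hnotnorm K hKF
    refine exists_bigger hχ K hK K le_rfl P le_sup_left (fun hn => hP ?_)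
      fun W _ hW hW' => Or.inl (le_antisymm hW' hW)
    have h2 := hn.comap K.subtype
    rwa [Subgroup.comap_map_eq_self_of_injective K.subtype_injective] at h2
  · haveI := hsolv
    haveI : Nontrivial (G ⧸ K) := QuotientGroup.nontrivial_iff.2 hKtop
    obtain ⟨Mb, hMbn, hMb, -, hmin⟩ := LEWielandt.exists_minimal_normal
      (N := (⊤ : Subgroup (G ⧸ K))) inferInstance top_ne_bot
    haveI := hMbn
    haveI : Nontrivial Mb := (Subgroup.nontrivial_iff_ne_bot _).2 hMb
    have habel : ⁅Mb, Mb⁆ = ⊥ := by
      refine (hmin _ inferInstance (Subgroup.commutator_le_left Mb Mb)).resolve_right fun h => ?_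
      refine (Group.IsSolvable.commutator_lt_top_of_nontrivial Mb).ne ?_
      refine Subgroup.map_injective Mb.subtype_injective ?_
      rw [commutator_def, Subgroup.map_commutator, ← MonoidHom.range_eq_map, Subgroup.range_subtype]
      exact h
    haveI : Group.IsNilpotent Mb := by
      have hc : ∀ a b : Mb, a * b = b * a := fun a b => Subtype.ext
        (commutatorElement_eq_one_iff_mul_comm.1 (Subgroup.mem_bot.1
          (habel ▸ Subgroup.commutator_mem_commutator a.2 b.2)))
      letI : CommGroup Mb := { (inferInstance : Group Mb) with mul_comm := hc }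
      infer_instance
    obtain ⟨p, hp, hpd⟩ := Nat.exists_prime_and_dvd (n := Nat.card Mb) Finite.one_lt_card.ne'
    haveI := Fact.mk hp
    obtain ⟨S⟩ : Nonempty (Sylow p Mb) := inferInstance
    have hMbp : IsPGroup p Mb := by
      haveI := S.characteristic_of_normal (inferInstance : (S : Subgroup Mb).Normal)
      have hS : (S : Subgroup Mb).map Mb.subtype = Mb := by
        refine (hmin _ inferInstance (Subgroup.map_subtype_le _)).resolve_left fun h => ?_
        rw [Subgroup.map_eq_bot_iff_of_injective _ Mb.subtype_injective] at h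
        exact S.not_dvd_index (by rw [h, Subgroup.index_bot]; exact hpd)
      rw [← hS]
      exact S.2.map _
    set M := Mb.comap (QuotientGroup.mk' K) with hM
    have hKM : K ≤ M := fun x hx => by
      rw [hM, Subgroup.mem_comap, show QuotientGroup.mk' K x = 1 from
        (QuotientGroup.eq_one_iff x).2 hx]
      exact one_mem _
    have hmapM : M.map (QuotientGroup.mk' K) = Mb :=
      Subgroup.map_comap_eq_self_of_surjective (QuotientGroup.mk'_surjective K) Mb
    have hMF : ¬ M ≤ fittingSubgroup G := fun h => hMb (by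
      rw [← hKF] at h
      rw [← hmapM, Subgroup.map_eq_bot_iff, QuotientGroup.ker_mk']
      exact h)
    obtain ⟨q, hq, P, hP⟩ := hnotnorm M hMF
    set Pg := (P : Subgroup M).map M.subtype with hPg
    have hPgn : ¬ Pg.Normal := fun hn => hP (by
      have h2 := hn.comap M.subtype
      rwa [hPg, Subgroup.comap_map_eq_self_of_injective M.subtype_injective] at h2)
    have hqp : q = p := by
      by_contra hne
      have hPK : Pg ≤ K := by
        have h1 : Pg.map (QuotientGroup.mk' K) ≤ Mb := hmapM ▸ Subgroup.map_mono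
          (Subgroup.map_subtype_le _)
        have h2 : Pg.map (QuotientGroup.mk' K) = ⊥ := by
          have h3 := IsPGroup.disjoint_of_ne q p hne _ _ ((P.2.map M.subtype).map (QuotientGroup.mk' K)) hMbp
          exact h3.eq_bot_of_le h1
        rwa [Subgroup.map_eq_bot_iff, QuotientGroup.ker_mk'] at h2
      haveI : Group.IsNilpotent K := hKF ▸ FittingCores.fitting_nilpotent
      obtain ⟨R, hR⟩ := ((P.2.map M.subtype).comap_of_injective K.subtype
        K.subtype_injective).exists_le_sylow
      haveI := R.characteristic_of_normal (inferInstance : (R : Subgroup K).Normal)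
      refine hPgn ?_
      rw [show Pg = (R : Subgroup K).map K.subtype from ?_]
      · infer_instance
      refine le_antisymm (fun x hx => ⟨⟨x, hPK hx⟩, hR hx, rfl⟩) ?_
      rintro _ ⟨r, hr, rfl⟩
      have h4 := P.is_maximal' ((R.2.map K.subtype).comap_of_injective M.subtype M.subtype_injective)
        (fun z hz => (⟨⟨z, hPK ⟨z, hz, rfl⟩⟩, hR ⟨z, hz, rfl⟩, rfl⟩ :
          (z : G) ∈ (R : Subgroup K).map K.subtype))
      have h5 : (⟨(r : G), hKM r.2⟩ : M) ∈ (P : Subgroup M) := h4 ▸ ⟨r, hr, rfl⟩
      exact ⟨_, h5, rfl⟩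
    subst hqp
    refine exists_bigger hχ K hK M hKM P ?_ hPgn fun W hW hKW hWM => ?_
    · intro m hm
      let f : M →* Mb := (QuotientGroup.mk' K).subgroupComap Mb
      have hf : Function.Surjective f :=
        MonoidHom.subgroupComap_surjective_of_surjective _ _ (QuotientGroup.mk'_surjective K)
      have hsyl : ((P.mapSurjective hf : Sylow q Mb) : Subgroup Mb) = ⊤ :=
        ((P.mapSurjective hf).is_maximal' (hMbp.to_subgroup ⊤) le_top).symm
      obtain ⟨x, hx, hxe⟩ : f ⟨m, hm⟩ ∈ (P : Subgroup M).map f := by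
        rw [show (P : Subgroup M).map f = ⊤ from hsyl]
        exact Subgroup.mem_top _
      have h6 : (QuotientGroup.mk' K) (x : G) = QuotientGroup.mk' K m := congrArg Subtype.val hxe
      have h7 : m * (x : G)⁻¹ ∈ K := by
        refine (QuotientGroup.eq_one_iff _).1 ?_
        rw [QuotientGroup.mk_mul, QuotientGroup.mk_inv]
        exact mul_inv_eq_one.2 h6.symm
      have h8 := mul_mem (Subgroup.mem_sup_left (T := Pg) h7)
        (Subgroup.mem_sup_right (S := K) (⟨x, hx, rfl⟩ : (x : G) ∈ Pg))
      rwa [inv_mul_cancel_right] at h8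
    · haveI := hW
      rcases hmin (W.map (QuotientGroup.mk' K))
        (Subgroup.Normal.map hW _ (QuotientGroup.mk'_surjective K))
        (hmapM ▸ Subgroup.map_mono hWM) with h | h
      · rw [Subgroup.map_eq_bot_iff, QuotientGroup.ker_mk'] at h
        exact Or.inl (le_antisymm h hKW)
      · refine Or.inr ?_
        rw [hM, ← h, Subgroup.comap_map_eq, QuotientGroup.ker_mk', sup_eq_left.2 hKW]

/-- The set of degrees. -/
def degs (G : Type u) [Group G] : Set ℕ :=
  {d : ℕ | ∃ χ : IrrCharacter G, charDegree (χ : G → ℂ) = d}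

theorem degs_finite (G : Type u) [Group G] [Finite G] : (degs G).Finite := by
  haveI : Fintype G := Fintype.ofFinite G
  exact (Set.finite_range fun χ : IrrCharacter G => charDegree (χ : G → ℂ)).subset
    fun _ ⟨χ, h⟩ => ⟨χ, h⟩

/-- The Fitting quotient has fewer degrees. -/
theorem card_degs_quot [Group.IsSolvable G] (hF : fittingSubgroup G ≠ ⊤) :
    haveI := FittingCores.fitting_normal (G := G)
    (degs (G ⧸ fittingSubgroup G)).ncard < (degs G).ncard := by
  classical
  haveI := FittingCores.fitting_normal (G := G)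
  haveI : Fintype (G ⧸ fittingSubgroup G) := Fintype.ofFinite _
  have hfin := degs_finite G
  obtain ⟨b, ⟨χb, hb⟩, hbmax⟩ := Set.exists_max_image (degs G) id hfin
    ⟨1, ⟨principal G, Cfsg.Agent.CharX.charDegree_one⟩⟩
  refine Set.ncard_lt_ncard ?_ hfin
  refine (Set.ssubset_iff_of_subset ?_).2 ⟨b, ⟨χb, hb⟩, ?_⟩
  · rintro d ⟨χ, rfl⟩
    refine ⟨Cfsg.Agent.CharX.infl _ χ, ?_⟩
    simp [charDegree, Cfsg.Agent.CharX.infl]
  rintro ⟨θ, hθ⟩
  set χ := Cfsg.Agent.CharX.infl (fittingSubgroup G) θ with hχdef
  have hdeg : charDegree (χ : G → ℂ) = b := by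
    rw [← hθ]
    simp [charDegree, χ, Cfsg.Agent.CharX.infl]
  obtain ⟨K, hKn, hK, -⟩ := IsCharacter.exists_kernel (irr_isCharacter χ)
  haveI := hKn
  have hFK : fittingSubgroup G ≤ K := fun x hx => (hK x).2 (by
    simp [χ, Cfsg.Agent.CharX.infl, (QuotientGroup.eq_one_iff x).2 hx])
  have hcond : ¬ K ≤ fittingSubgroup G ∨
      (K = fittingSubgroup G ∧ Group.IsSolvable (G ⧸ K) ∧ K ≠ ⊤) := by
    by_cases hle : K ≤ fittingSubgroup G
    · exact Or.inr ⟨le_antisymm hle hFK, inferInstance,
        fun h => hF (top_le_iff.1 (h ▸ hle))⟩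
    · exact Or.inl hle
  obtain ⟨ψ, hψ, -⟩ := garrison χ.2 K hK hcond
  exact absurd (hbmax _ ⟨ψ, rfl⟩) (by simpa [hdeg] using hψ)

/-- The Fitting height is at most the number of degrees. -/
theorem nilpotent_chain : ∀ (n : ℕ) (G : Type u) [Group G] [Finite G], Group.IsSolvable G →
    (degs G).ncard ≤ n → ∃ f : ℕ → Subgroup G, f 0 = ⊥ ∧ f n = ⊤ ∧ Monotone f ∧
      (∀ i, (f i).Normal) ∧ ∀ i < n, ∀ _ : ((f i).subgroupOf (f (i + 1))).Normal,
        Group.IsNilpotent (↥(f (i + 1)) ⧸ (f i).subgroupOf (f (i + 1))) := by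
  intro n
  induction n with
  | zero =>
    intro G _ _ _ h
    rw [Nat.le_zero, Set.ncard_eq_zero (degs_finite G)] at h
    exact absurd h (Set.Nonempty.ne_empty ⟨1, ⟨principal G, Cfsg.Agent.CharX.charDegree_one⟩⟩)
  | succ n ih =>
    intro G _ _ hsolv hcard
    classical
    haveI := hsolv
    haveI : Fintype G := Fintype.ofFinite G
    haveI hFn : (fittingSubgroup G).Normal := FittingCores.fitting_normal
    haveI := FittingCores.fitting_nilpotent (G := G)
    by_cases hF : fittingSubgroup G = ⊤
    · haveI : Group.IsNilpotent G :=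
        Group.nilpotent_of_mulEquiv ((MulEquiv.subgroupCongr hF).trans Subgroup.topEquiv)
      refine ⟨fun i => if i = 0 then ⊥ else ⊤, if_pos rfl, if_neg n.succ_ne_zero,
        fun a b hab => ?_, fun i => ?_, fun i _ _ => inferInstance⟩
      · dsimp only
        split_ifs with h1 h2 <;> first | exact le_rfl | exact bot_le | exact le_top | omega
      · dsimp only
        split_ifs <;> infer_instance
    obtain ⟨g, hg0, hgn, hgm, hgN, hgnil⟩ := ih (G ⧸ fittingSubgroup G) inferInstance (by
      have := card_degs_quot (G := G) hF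
      omega)
    let π := QuotientGroup.mk' (fittingSubgroup G)
    refine ⟨fun i => if i = 0 then ⊥ else (g (i - 1)).comap π, if_pos rfl, ?_, fun a b hab => ?_,
      fun i => ?_, fun i hi hn => ?_⟩
    · simp [hgn]
    · dsimp only
      split_ifs with h1 h2 <;>
        first | exact le_rfl | exact bot_le | omega | exact Subgroup.comap_mono (hgm (by omega))
    · dsimp only
      split_ifs
      · infer_instance
      · exact (hgN _).comap _
    rcases i with _ | i
    · have key : Group.IsNilpotent ((g 0).comap π) :=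
        Group.nilpotent_of_mulEquiv (MulEquiv.subgroupCongr (show fittingSubgroup G = (g 0).comap π by
          rw [hg0]; exact (QuotientGroup.ker_mk' _).symm))
      revert hn
      show ∀ hn : ((⊥ : Subgroup G).subgroupOf ((g 0).comap π)).Normal,
        Group.IsNilpotent (↥((g 0).comap π) ⧸ (⊥ : Subgroup G).subgroupOf ((g 0).comap π))
      intro _
      haveI := key
      infer_instance
    · revert hn
      show ∀ hn : (((g i).comap π).subgroupOf ((g (i + 1)).comap π)).Normal,
        Group.IsNilpotent (↥((g (i + 1)).comap π) ⧸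
          ((g i).comap π).subgroupOf ((g (i + 1)).comap π))
      intro _
      haveI := hgN i
      haveI hn' : ((g i).subgroupOf (g (i + 1))).Normal := inferInstance
      haveI := hgnil i (by omega) hn'
      let u : ↥((g (i + 1)).comap π) →* ↥(g (i + 1)) := π.subgroupComap (g (i + 1))
      have hker : ((g i).comap π).subgroupOf ((g (i + 1)).comap π) =
          ((g i).subgroupOf (g (i + 1))).comap u := rfl
      refine Subgroup.isNilpotent_of_ker_le_center
        (QuotientGroup.map _ _ u hker.le) ?_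
      intro x hx
      obtain ⟨x, rfl⟩ := QuotientGroup.mk_surjective x
      rw [MonoidHom.mem_ker, QuotientGroup.map_mk, QuotientGroup.eq_one_iff] at hx
      rw [(QuotientGroup.eq_one_iff x).2 (by exact hx)]
      exact one_mem _

end Cfsg.Agent.Garrison
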