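/-
Defect groups are intersections of two Sylow subgroups.
-/
import Cfsg.Agent.Lib.Blocks.FirstMain
import Cfsg.Agent.Lib.Blocks.Misc

set_option linter.unusedSectionVars false
set_option linter.style.haveILetI false

namespace Cfsg.Agent.Blocks

open Cfsg MonoidAlgebra Cfsg.Agent.Char
open scoped ComplexConjugate

universe u

variable {G : Type u} [Group G] [Fintype G] {p : ℕ} {M : Ideal AlgInt} [M.IsPrime]

/-- Modulo the local ideal, an invariant sum only sees the fixed points of a `p`-group. -/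
theorem sum_fixedPoints_congr (hM : IsPModular p M) {P X : Type*} [Group P] [Finite P] [Fintype X]
    [MulAction P X] (hP : IsPGroup p P) (f : X → ℂ) (hinv : ∀ (v : P) (x : X), f (v • x) = f x)
    (hR : ∀ x, MemLocalRing M (f x)) [DecidablePred fun x : X => ∀ v : P, v • x = x] :
    MemLocalIdeal M ((∑ x, f x) -
      ∑ x ∈ Finset.univ.filter (fun x : X => ∀ v : P, v • x = x), f x) := by
  classical
  haveI := Fact.mk hM.1
  rw [← Finset.sum_filter_add_sum_filter_not Finset.univ (fun x : X => ∀ v : P, v • x = x),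
    add_sub_cancel_left,
    ← Finset.sum_fiberwise _ (fun x : X => Quotient.mk (MulAction.orbitRel P X) x)]
  refine memLocalIdeal_sum _ _ fun q _ => ?_
  set s := (Finset.univ.filter fun x : X => ¬ ∀ v : P, v • x = x).filter
    (fun x => Quotient.mk (MulAction.orbitRel P X) x = q) with hs
  rcases s.eq_empty_or_nonempty with he | ⟨x₀, hx₀⟩
  · rw [he, Finset.sum_empty]; exact memLocalIdeal_zero
  · obtain ⟨hx₀', hq⟩ := Finset.mem_filter.1 hx₀
    have hnf := (Finset.mem_filter.1 hx₀').2
    have hset : (s : Set X) = MulAction.orbit P x₀ := by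
      ext y
      simp only [hs, Finset.coe_filter, Finset.mem_filter, Finset.mem_univ, true_and,
        Set.mem_setOf_eq, ← hq, Quotient.eq, MulAction.orbitRel_apply]
      refine ⟨fun h => h.2, fun h => ⟨fun hall => hnf fun v => ?_, h⟩⟩
      obtain ⟨w, rfl⟩ := h
      have h1 : x₀ = w • x₀ := by
        have := hall w⁻¹
        rwa [inv_smul_smul] at this
      rw [h1]
      exact hall v
    have hconst : ∀ y ∈ s, f y = f x₀ := by
      intro y hy
      obtain ⟨w, rfl⟩ : y ∈ MulAction.orbit P x₀ := hset ▸ Finset.mem_coe.2 hy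
      exact hinv w x₀
    have hcard : p ∣ s.card := by
      have e : Nat.card (MulAction.orbit P x₀) = s.card := by
        rw [← hset, Nat.card_coe_set_eq, Set.ncard_coe_finset]
      obtain ⟨n, hn⟩ := hP.card_orbit x₀
      rw [e] at hn
      rcases Nat.eq_zero_or_pos n with rfl | hn0
      · exfalso
        rw [pow_zero] at hn
        obtain ⟨y, hy⟩ := Finset.card_eq_one.1 hn
        refine hnf fun v => ?_
        have h1 : v • x₀ ∈ (s : Set X) := hset ▸ MulAction.mem_orbit _ v
        rw [hy, Finset.coe_singleton, Set.mem_singleton_iff] at h1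
        have h2 : x₀ ∈ (s : Set X) := hset ▸ MulAction.mem_orbit_self _
        rw [hy, Finset.coe_singleton, Set.mem_singleton_iff] at h2
        rw [h1, h2]
      · rw [hn]; exact dvd_pow_self p hn0.ne'
    rw [Finset.sum_congr rfl hconst, Finset.sum_const, nsmul_eq_mul]
    exact MemLocalIdeal.mul_right ((natCast_memLocalIdeal_iff hM _).2 hcard) (hR _)

/-- Over a class, a translated character sum is the central character times the value. -/
theorem sum_classFinset_mul (χ : IrrCharacter G) (g u : G) :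
    ∑ z ∈ classFinset g, (χ : G → ℂ) (u * z) = centralChar (χ : G → ℂ) g * (χ : G → ℂ) u := by
  classical
  obtain ⟨n, ρ, hρ, hρe⟩ := χ.2
  have h := congrArg (fun f => LinearMap.trace ℂ (Fin n → ℂ) (ρ u * f)) (classSum_scalar ρ g)
  simp only [Finset.mul_sum, map_sum, ← Module.End.one_eq_id, mul_smul_comm, mul_one,
    map_smul, smul_eq_mul, ← map_mul] at h
  have hdeg : (χ : G → ℂ) 1 = (Module.finrank ℂ (Fin n → ℂ) : ℂ) := by
    rw [← hρe, Representation.char_one]
  rw [centralChar, hdeg, ← hρe]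
  exact h

/-- A p-subgroup over `D` meeting the normaliser of `D` only in `D` is `D`. -/
theorem eq_of_normalizer_inter_le [Fact p.Prime] {D E : Subgroup G} (hE : IsPGroup p E)
    (hDE : D ≤ E) (h : ∀ y ∈ E, y ∈ Subgroup.normalizer (D : Set G) → y ∈ D) : D = E := by
  refine le_antisymm hDE ?_
  haveI : Group.IsNilpotent E := hE.isNilpotent
  by_contra hne
  have hlt : D.subgroupOf E < ⊤ := by
    rw [lt_top_iff_ne_top, Ne, Subgroup.subgroupOf_eq_top]
    exact hne
  have h2 := normalizerCondition_of_isNilpotent (D.subgroupOf E) hlt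
  obtain ⟨w, hw, hwD⟩ := SetLike.exists_of_lt h2
  refine hwD (Subgroup.mem_subgroupOf.2 (h w w.2 ?_))
  refine Subgroup.mem_normalizer_iff.2 fun d => ?_
  have hn := Subgroup.mem_normalizer_iff.1 hw
  constructor
  · intro hd
    exact Subgroup.mem_subgroupOf.1 ((hn ⟨d, hDE hd⟩).1 (Subgroup.mem_subgroupOf.2 hd))
  · intro hd
    have hdE : d ∈ E := by
      have := E.mul_mem (E.mul_mem (E.inv_mem w.2) (hDE hd)) w.2
      rwa [show (w : G)⁻¹ * ((w : G) * d * (w : G)⁻¹) * (w : G) = d by group] at this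
    exact Subgroup.mem_subgroupOf.1 ((hn ⟨d, hdE⟩).2 (Subgroup.mem_subgroupOf.2 hd))

/-- Green's theorem up to conjugation. -/
theorem exists_sylow_inter (hM : IsPModular p M) [Fact p.Prime] {B : Set (IrrCharacter G)}
    (hB : IsPBlock M B) {D : Subgroup G} (hD : IsDefectGroup p M B D) (P : Sylow p G) :
    ∃ z c : G, ¬ p ∣ orderOf z ∧ classExp p z = blockDefect p B ∧
      (P : Subgroup G) ⊓ (P : Subgroup G).map (MulAut.conj z⁻¹).toMonoidHom =
        D.map (MulAut.conj c).toMonoidHom ∧
      (∀ d ∈ D, Commute z (c * d * c⁻¹)) := by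
  classical
  haveI : Fintype (P : Subgroup G) := Fintype.ofFinite _
  obtain ⟨g, hg, S, rfl⟩ := hD
  have hgr := IsDefectClass.not_dvd_orderOf hM hB hg
  choose m hm using exists_sum_subgroup_eq (P : Subgroup G)
  let s : G → ℂ := fun z => ∑ u : (P : Subgroup G), blockCoeff B ((u : G) * z)
  have hsR : ∀ z, MemLocalRing M (s z) := fun z =>
    memLocalRing_sum _ _ fun u _ => blockCoeff_memLocalRing hB _
  have hsinv : ∀ v ∈ (P : Subgroup G), ∀ z, s (v⁻¹ * z * v) = s z := by
    intro v hv z
    refine Fintype.sum_equiv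
      ((MulAut.conj (⟨v, hv⟩ : (P : Subgroup G))).toEquiv) _ _ fun u => ?_
    refine blockCoeff_isConj B (isConj_iff.2 ⟨v, ?_⟩)
    simp only [MulEquiv.toEquiv_eq_coe, EquivLike.coe_coe, MulAut.conj_apply, Subgroup.coe_mul,
      Subgroup.coe_inv]
    group
  have hG : (Nat.card G : ℂ) ≠ 0 := Nat.cast_ne_zero.2 Nat.card_pos.ne'
  have hPn : (Nat.card (P : Subgroup G) : ℂ) ≠ 0 := Nat.cast_ne_zero.2 Nat.card_pos.ne'
  -- the sum over the class
  have hN : ∑ z ∈ classFinset g, s z =
      ((Subgroup.centralizer ({g} : Set G)).index : ℂ) * blockCoeff B g := by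
    rw [blockCoeff_eq_regular hM hB P.isPGroup' hgr m hm, Finset.mul_sum, Finset.mul_sum]
    simp only [s, blockCoeff_eq_sum]
    rw [Finset.sum_comm]
    simp only [Finset.mul_sum]
    refine (Finset.sum_congr rfl fun x _ => Finset.sum_comm).trans ?_
    rw [Finset.sum_comm]
    refine Finset.sum_congr rfl fun χ _ => ?_
    have h1 : ∑ x : (P : Subgroup G), ∑ z ∈ classFinset g,
        (Nat.card G : ℂ)⁻¹ * ((χ : G → ℂ) 1 * conj ((χ : G → ℂ) ((x : G) * z))) =
        (Nat.card G : ℂ)⁻¹ * ((χ : G → ℂ) 1 *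
          conj (centralChar (χ : G → ℂ) g * ∑ x : (P : Subgroup G), (χ : G → ℂ) x)) := by
      simp only [Finset.mul_sum, ← sum_classFinset_mul, map_sum]
    rw [h1, hm χ, centralChar, irr_one_eq_charDegree χ]
    simp only [map_mul, map_div₀, map_natCast]
    have hd : (charDegree (χ : G → ℂ) : ℂ) ≠ 0 := Nat.cast_ne_zero.2 (charDegree_pos χ).ne'
    field_simp
  -- pass to the cosets of `P`
  let F : G ⧸ (P : Subgroup G) → ℂ := fun q => s (q.out⁻¹ * g * q.out)
  have hF : ∀ c : G, F (QuotientGroup.mk c) = s (c⁻¹ * g * c) := by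
    intro c
    obtain ⟨v, hv⟩ := QuotientGroup.mk_out_eq_mul (P : Subgroup G) c
    simp only [F, hv]
    rw [← hsinv (v : G) v.2 (c⁻¹ * g * c)]
    congr 1
    group
  have hsum : ∑ q, F q = ((Nat.card G : ℂ) / Nat.card (P : Subgroup G)) * blockCoeff B g := by
    have h1 : ∑ c : G, s (c⁻¹ * g * c) = (Nat.card G : ℂ) * blockCoeff B g := by
      rw [sum_conj_eq, hN, ← mul_assoc, ← Nat.cast_mul, Subgroup.card_mul_index]
    have h2 : ∑ c : G, s (c⁻¹ * g * c) =
        (Nat.card (P : Subgroup G) : ℂ) * ∑ q, F q := by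
      rw [← Finset.sum_fiberwise Finset.univ (QuotientGroup.mk : G → G ⧸ (P : Subgroup G)),
        Finset.mul_sum]
      refine Finset.sum_congr rfl fun q _ => ?_
      rw [Finset.sum_congr rfl (g := fun _ => F q) fun c hc => by
        rw [← hF c, (Finset.mem_filter.1 hc).2], Finset.sum_const, nsmul_eq_mul]
      congr 2
      rw [Nat.card_eq_fintype_card, ← Finset.card_univ]
      obtain ⟨c₀, rfl⟩ := QuotientGroup.mk_surjective q
      refine Finset.card_bij' (fun c hc => (⟨c₀⁻¹ * c,
          QuotientGroup.eq.1 (Finset.mem_filter.1 hc).2.symm⟩ : (P : Subgroup G)))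
        (fun v _ => c₀ * (v : G)) (fun _ _ => Finset.mem_univ _)
        (fun v _ => Finset.mem_filter.2 ⟨Finset.mem_univ _, ?_⟩) (fun c _ => by simp)
        (fun v _ => Subtype.ext (by simp))
      exact QuotientGroup.eq.2 (by simp)
    rw [h1] at h2
    rw [div_mul_eq_mul_div, h2, mul_div_cancel_left₀ _ hPn]
  have hunit : ¬ MemLocalIdeal M (∑ q, F q) := by
    rw [hsum]
    intro h
    rw [← P.1.index_mul_card, Nat.cast_mul, mul_div_cancel_right₀ _ hPn] at h
    refine hg.2.1 ?_
    have h' := MemLocalIdeal.mul_left (inv_natCast_memLocalRing hM P.not_dvd_index) h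
    rwa [inv_mul_cancel_left₀ (Nat.cast_ne_zero.2 Subgroup.index_ne_zero_of_finite)] at h'
  set D := sylowImage S with hDdef
  have hcongr := sum_fixedPoints_congr hM (X := G ⧸ (P : Subgroup G)) (P := D)
    (isPGroup_sylowImage S) F (fun v q => by
      obtain ⟨c, rfl⟩ := QuotientGroup.mk_surjective q
      show F (QuotientGroup.mk ((v : G) * c)) = F (QuotientGroup.mk c)
      rw [hF, hF]
      congr 1
      have hv : g * (v : G) = (v : G) * g :=
        Subgroup.mem_centralizer_iff.1 (sylowImage_le S v.2) g rfl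
      calc ((v : G) * c)⁻¹ * g * ((v : G) * c) = c⁻¹ * ((v : G)⁻¹ * (g * v)) * c := by group
        _ = c⁻¹ * g * c := by rw [hv, inv_mul_cancel_left])
    (fun q => hsR _)
  obtain ⟨q, hq, hqu⟩ : ∃ q, (∀ v : D, v • q = q) ∧ ¬ MemLocalIdeal M (F q) := by
    by_contra hcon
    push Not at hcon
    refine hunit ?_
    have h2 : MemLocalIdeal M (∑ q ∈ Finset.univ.filter (fun q => ∀ v : D, v • q = q), F q) :=
      memLocalIdeal_sum _ _ fun q hq => hcon q (Finset.mem_filter.1 hq).2
    have := MemLocalIdeal.add hcongr h2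
    rwa [sub_add_cancel] at this
  obtain ⟨c, rfl⟩ := QuotientGroup.mk_surjective q
  set z := c⁻¹ * g * c with hz
  have hDP : ∀ d ∈ D, c⁻¹ * d * c ∈ (P : Subgroup G) := fun d hd => by
    have h1 : (QuotientGroup.mk (d * c) : G ⧸ (P : Subgroup G)) = QuotientGroup.mk c := hq ⟨d, hd⟩
    have h2 := QuotientGroup.eq.1 h1.symm
    rwa [← mul_assoc] at h2
  have hDz : ∀ d ∈ D, Commute z (c⁻¹ * d * c) := fun d hd => by
    have hgd : g * d = d * g := Subgroup.mem_centralizer_iff.1 (sylowImage_le S hd) g rfl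
    show c⁻¹ * g * c * (c⁻¹ * d * c) = c⁻¹ * d * c * (c⁻¹ * g * c)
    calc c⁻¹ * g * c * (c⁻¹ * d * c) = c⁻¹ * (g * d) * c := by group
      _ = c⁻¹ * (d * g) * c := by rw [hgd]
      _ = _ := by group
  set E := (P : Subgroup G) ⊓ (P : Subgroup G).map (MulAut.conj z⁻¹).toMonoidHom with hE
  have hmemE : ∀ w : G, w ∈ E ↔ w ∈ (P : Subgroup G) ∧ z * w * z⁻¹ ∈ (P : Subgroup G) := fun w => by
    simp only [hE, Subgroup.mem_inf, Subgroup.mem_map, MulEquiv.coe_toMonoidHom, MulAut.conj_apply,
      inv_inv]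
    refine and_congr_right fun _ => ⟨?_, fun h => ⟨_, h, by group⟩⟩
    rintro ⟨v, hv, rfl⟩
    rwa [show z * (z⁻¹ * v * z) * z⁻¹ = v by group]
  have hEp : IsPGroup p E := P.isPGroup'.to_le inf_le_left
  -- the size of the intersection
  have hEle : Nat.card E ≤ p ^ blockDefect p B := by
    letI : MulAction E (P : Subgroup G) :=
      { smul := fun w u => ⟨(w : G) * u * (z * (w : G)⁻¹ * z⁻¹), by
          refine mul_mem (mul_mem ((hmemE _).1 w.2).1 u.2) ?_
          rw [show z * (w : G)⁻¹ * z⁻¹ = (z * (w : G) * z⁻¹)⁻¹ by group]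
          exact inv_mem ((hmemE _).1 w.2).2⟩
        one_smul := fun u => Subtype.ext (by
          show ((1 : E) : G) * u * (z * ((1 : E) : G)⁻¹ * z⁻¹) = u
          simp)
        mul_smul := fun v w u => Subtype.ext (by
          show ((v * w : E) : G) * u * (z * ((v * w : E) : G)⁻¹ * z⁻¹) =
            (v : G) * ((w : G) * u * (z * (w : G)⁻¹ * z⁻¹)) * (z * (v : G)⁻¹ * z⁻¹)
          simp only [Subgroup.coe_mul]
          group) }
    have hsmul : ∀ (w : E) (u : (P : Subgroup G)),
        ((w • u : (P : Subgroup G)) : G) * z = (w : G) * ((u : G) * z) * (w : G)⁻¹ := fun w u => by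
      show (w : G) * u * (z * (w : G)⁻¹ * z⁻¹) * z = _
      group
    have hc := sum_fixedPoints_congr hM (X := (P : Subgroup G)) (P := E) hEp
      (fun u => blockCoeff B ((u : G) * z))
      (fun w u => by rw [hsmul]; exact (blockCoeff_isConj B (isConj_iff.2 ⟨(w : G), rfl⟩)).symm)
      (fun u => blockCoeff_memLocalRing hB _)
    obtain ⟨u, hu, huu⟩ : ∃ u : (P : Subgroup G), (∀ w : E, w • u = u) ∧
        ¬ MemLocalIdeal M (blockCoeff B ((u : G) * z)) := by
      by_contra hcon
      push Not at hcon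
      refine hqu ?_
      rw [hF c, ← hz]
      have h2 : MemLocalIdeal M (∑ u ∈ Finset.univ.filter (fun u : (P : Subgroup G) =>
          ∀ w : E, w • u = u), blockCoeff B ((u : G) * z)) :=
        memLocalIdeal_sum _ _ fun u hu => hcon u (Finset.mem_filter.1 hu).2
      have := MemLocalIdeal.add hc h2
      rwa [sub_add_cancel] at this
    obtain ⟨y, hy⟩ := exists_conj_le_of_coeff hM hB hg huu S hEp
      (Subgroup.mem_centralizer_iff.2 fun w hw => by
        have h1 := hsmul ⟨w, hw⟩ u
        rw [hu ⟨w, hw⟩] at h1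
        show w * ((u : G) * z) = (u : G) * z * w
        have h2 : (u : G) * z * w = w * ((u : G) * z) * w⁻¹ * w := congrArg (· * w) h1
        rw [inv_mul_cancel_right] at h2
        exact h2.symm)
    refine le_trans (Nat.le_of_dvd Nat.card_pos (Subgroup.card_dvd_of_le hy)) ?_
    rw [Subgroup.card_map_of_injective (f := (MulAut.conj y).toMonoidHom) (MulAut.conj y).injective]
    exact le_of_eq (card_defectGroup hM hB ⟨g, hg, S, rfl⟩)
  refine ⟨z, c⁻¹, ?_, ?_, ?_, fun d hd => by simpa using hDz d hd⟩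
  · rw [hz, show c⁻¹ * g * c = MulAut.conj c⁻¹ g by simp, MulEquiv.orderOf_eq]
    exact hgr
  · rw [blockDefect_eq_classExp hM hB hg, classExp, classExp,
      card_centralizer_conj g c⁻¹ |>.symm.trans ?_] <;> simp [hz]
  · refine (Subgroup.eq_of_le_of_card_ge ?_ ?_).symm
    · rintro _ ⟨d, hd, rfl⟩
      rw [← hE, hmemE]
      simp only [MulEquiv.coe_toMonoidHom, MulAut.conj_apply, inv_inv]
      refine ⟨hDP d hd, ?_⟩
      rw [(hDz d hd).eq, mul_inv_cancel_right]
      exact hDP d hd
    · rw [Subgroup.card_map_of_injective (f := (MulAut.conj c⁻¹).toMonoidHom)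
        (MulAut.conj c⁻¹).injective]
      exact hEle.trans (le_of_eq (card_defectGroup hM hB ⟨g, hg, S, rfl⟩).symm)

/-- Green's theorem. -/
theorem green_intersection (hM : IsPModular p M) [Fact p.Prime] {B : Set (IrrCharacter G)}
    (hB : IsPBlock M B) {D : Subgroup G} (hD : IsDefectGroup p M B D) (P : Sylow p G)
    (hDP : D ≤ P) : ∃ x : G, ¬ p ∣ orderOf x ∧
      (∃ S : Sylow p (Subgroup.centralizer ({x} : Set G)), sylowImage S = D) ∧
      (P : Subgroup G) ⊓ (P : Subgroup G).map (MulAut.conj x).toMonoidHom = D := by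
  classical
  set H := Subgroup.normalizer (D : Set G) with hH
  haveI : Fintype H := Fintype.ofFinite _
  have hDp := isPGroup_defectGroup hD
  obtain ⟨b, ⟨hb, hbD, -⟩, -⟩ := (first_main hM hDp).2 B hB hD
  have hDH : D ≤ H := Subgroup.le_normalizer
  obtain ⟨R, hR⟩ := IsPGroup.exists_le_sylow
    (P.isPGroup'.comap_of_injective H.subtype Subtype.val_injective)
  haveI : (D.subgroupOf H).Normal := Subgroup.normal_in_normalizer
  obtain ⟨z, c, hzr, hzexp, hzE, hzc⟩ := exists_sylow_inter hM hb hbD R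
  have hmap : (D.subgroupOf H).map (MulAut.conj c).toMonoidHom = D.subgroupOf H := by
    refine Subgroup.eq_of_le_of_card_ge ?_ ?_
    · rintro _ ⟨d, hd, rfl⟩
      exact Subgroup.Normal.conj_mem inferInstance d hd c
    · rw [Subgroup.card_map_of_injective (f := (MulAut.conj c).toMonoidHom)
        (MulAut.conj c).injective]
  rw [hmap] at hzE
  have hzD : ∀ d ∈ D, Commute (z : G) d := by
    intro d hd
    obtain ⟨d', hd', he⟩ : ∃ d' ∈ D.subgroupOf H, c * d' * c⁻¹ = ⟨d, hDH hd⟩ := by
      have : (⟨d, hDH hd⟩ : H) ∈ (D.subgroupOf H).map (MulAut.conj c).toMonoidHom := by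
        rw [hmap]; exact Subgroup.mem_subgroupOf.2 hd
      exact this
    have := hzc d' hd'
    rw [he] at this
    exact congrArg Subtype.val this.eq
  have hcardD : Nat.card (D.subgroupOf H) = p ^ classExp p z := by
    rw [hzexp, card_defectGroup hM hb hbD]
  set x := (z : G)⁻¹ with hx
  have hcent : Subgroup.centralizer ({x} : Set G) = Subgroup.centralizer ({(z : G)} : Set G) := by
    rw [hx, centralizer_singleton_inv]
  refine ⟨x, by rwa [hx, orderOf_inv, Subgroup.orderOf_coe], ?_, ?_⟩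
  · have hle : D ≤ Subgroup.centralizer ({x} : Set G) := fun d hd => by
      rw [hcent]; exact Subgroup.mem_centralizer_singleton_iff.2 (hzD d hd).eq.symm
    obtain ⟨S, hS⟩ := exists_sylowImage_ge hDp hle
    refine ⟨S, (eq_of_normalizer_inter_le (isPGroup_sylowImage S) hS fun y hy hyN => ?_).symm⟩
    set T : Subgroup H := (sylowImage S).subgroupOf H with hT
    have hTC : T ≤ Subgroup.centralizer ({z} : Set H) := fun w hw => by
      refine Subgroup.mem_centralizer_singleton_iff.2 (Subtype.ext ?_)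
      have h1 : (w : G) ∈ Subgroup.centralizer ({(z : G)} : Set G) :=
        hcent ▸ sylowImage_le S (Subgroup.mem_subgroupOf.1 hw)
      exact Subgroup.mem_centralizer_singleton_iff.1 h1
    have hTp : IsPGroup p T := (isPGroup_sylowImage S).comap_of_injective _ Subtype.val_injective
    have hDT : D.subgroupOf H ≤ T := fun w hw => hS (Subgroup.mem_subgroupOf.1 hw)
    have hcard : Nat.card T ≤ Nat.card (D.subgroupOf H) := by
      rw [hcardD]
      obtain ⟨k, hk⟩ := IsPGroup.iff_card.1 hTp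
      rw [hk]
      refine Nat.pow_le_pow_right hM.1.pos ?_
      exact (hM.1.pow_dvd_iff_le_factorization Nat.card_pos.ne').1
        (hk ▸ Subgroup.card_dvd_of_le hTC)
    have hy' : (⟨y, hyN⟩ : H) ∈ T := Subgroup.mem_subgroupOf.2 hy
    rw [← Subgroup.eq_of_le_of_card_ge hDT hcard] at hy'
    exact Subgroup.mem_subgroupOf.1 hy'
  · set E := (P : Subgroup G) ⊓ (P : Subgroup G).map (MulAut.conj x).toMonoidHom with hE
    have hconj : ∀ w : G, w ∈ E → (z : G) * w * (z : G)⁻¹ ∈ (P : Subgroup G) := by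
      intro w hw
      obtain ⟨v, hv, rfl⟩ := (Subgroup.mem_inf.1 hw).2
      simp only [MulEquiv.coe_toMonoidHom, MulAut.conj_apply, hx, inv_inv]
      rwa [show (z : G) * ((z : G)⁻¹ * v * (z : G)) * (z : G)⁻¹ = v by group]
    refine (eq_of_normalizer_inter_le (P.isPGroup'.to_le inf_le_left) ?_ fun y hy hyN => ?_).symm
    · intro d hd
      refine Subgroup.mem_inf.2 ⟨hDP hd, d, hDP hd, ?_⟩
      simp only [MulEquiv.coe_toMonoidHom, MulAut.conj_apply, hx, inv_inv]
      rw [mul_assoc, ← (hzD d hd).eq, inv_mul_cancel_left]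
    · have h1 : (⟨y, hyN⟩ : H) ∈ (R : Subgroup H) :=
        hR (show ((⟨y, hyN⟩ : H) : G) ∈ (P : Subgroup G) from (Subgroup.mem_inf.1 hy).1)
      have h2 : z * ⟨y, hyN⟩ * z⁻¹ ∈ (R : Subgroup H) :=
        hR (show ((z * ⟨y, hyN⟩ * z⁻¹ : H) : G) ∈ (P : Subgroup G) from hconj y hy)
      have h3 : (⟨y, hyN⟩ : H) ∈ D.subgroupOf H := by
        rw [← hzE]
        refine Subgroup.mem_inf.2 ⟨h1, _, h2, ?_⟩
        simp only [MulEquiv.coe_toMonoidHom, MulAut.conj_apply, inv_inv]
        group
      exact Subgroup.mem_subgroupOf.1 h3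

end Cfsg.Agent.Blocks
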