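import Cfsg.Agent.Lib.Blocks.Section
import Cfsg.Agent.Lib.Char.Degree

/-!
# Characters of height zero at a defect class
-/

set_option linter.unusedSectionVars false
set_option linter.style.haveILetI false

namespace Cfsg.Agent.Blocks

open Cfsg Cfsg.Agent.Char Cfsg.Agent.CharX
open scoped ComplexConjugate

universe u

variable {G : Type u} [Group G] [Fintype G] {p : ℕ} {M : Ideal AlgInt} [M.IsPrime]

theorem blockCoeff_eq_blockPair (B : Set (IrrCharacter G)) (g : G) :
    blockCoeff B g = (Nat.card G : ℂ)⁻¹ * blockPair B 1 g := by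
  classical
  rw [blockPair_eq_finsum, blockCoeff]

/-- The elements of the defect classes are `p`-regular. -/
theorem not_dvd_orderOf_of_unit_coeff (hM : IsPModular p M) {B : Set (IrrCharacter G)}
    (hB : IsPBlock M B) {g : G} (hg : ¬ MemLocalIdeal M (blockCoeff B g)) : ¬ p ∣ orderOf g := by
  intro hd
  obtain ⟨a, ha⟩ := exists_isPPart hM.1 g
  refine hg ?_
  rw [blockCoeff_eq_blockPair, blockPair_eq_zero_of_pPart hM hB
    ((isPPart_one_iff hM.1).2 (by simpa using hM.1.ne_one)) ha ?_, mul_zero]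
  · exact memLocalIdeal_zero
  · intro h
    rw [isConj_one_right.1 h] at ha
    exact (isPPart_one_iff hM.1).1 ha hd

/-- At an element with a unit idempotent coefficient some member of the block has a value whose
conjugate is a unit. -/
theorem exists_conj_value_not_mem (hM : IsPModular p M) {B : Set (IrrCharacter G)}
    (hB : IsPBlock M B) {g : G} (hg : ¬ MemLocalIdeal M (blockCoeff B g)) :
    ∃ ψ ∈ B, ¬ MemLocalIdeal M (conj ((ψ : G → ℂ) g)) := by
  classical
  by_contra hc
  push Not at hc
  haveI := Fact.mk hM.1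
  obtain ⟨P⟩ : Nonempty (Sylow p G) := inferInstance
  haveI := Fintype.ofFinite (P : Subgroup G)
  have hreg := not_dvd_orderOf_of_unit_coeff hM hB hg
  have hvan : ∀ u : (P : Subgroup G), u ≠ 1 → blockPair B (u : G) g = 0 := by
    intro u hu
    obtain ⟨a, ha⟩ := exists_isPPart hM.1 (u : G)
    refine blockPair_eq_zero_of_pPart hM hB ha ((isPPart_one_iff hM.1).2 hreg) fun h => hu ?_
    obtain ⟨k, hk⟩ := P.isPGroup' u
    rw [isConj_one_left.1 h] at ha
    have h1 := (isPPart_one_iff hM.1).1 ha
    rw [Subgroup.orderOf_coe] at h1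
    obtain ⟨j, -, hj⟩ := (Nat.dvd_prime_pow hM.1).1 (orderOf_dvd_of_pow_eq_one hk)
    rcases j with _ | j
    · exact orderOf_eq_one_iff.1 (by simpa using hj)
    · exact absurd (hj ▸ dvd_pow_self p (Nat.succ_ne_zero j)) h1
  have h1 : ∀ ψ : IrrCharacter G, ∃ m : ℕ,
      ∑ u : (P : Subgroup G), (ψ : G → ℂ) u = (Nat.card (P : Subgroup G) : ℂ) * m := by
    intro ψ
    obtain ⟨m, hm⟩ := IsCharacter.exists_classInner_nat
      (IsCharacter.restrict (IsIrrCharacter.isCharacter ψ.2) (P : Subgroup G)) isCharacter_one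
    refine ⟨m, ?_⟩
    rw [← hm]
    simp [Cfsg.classInner, ← mul_assoc, Nat.card_pos.ne']
  choose m hm using h1
  have h2 : blockPair B 1 g =
      ∑ ψ ∈ Finset.univ.filter (· ∈ B), (Nat.card (P : Subgroup G) : ℂ) * m ψ * conj ((ψ : G → ℂ) g) := by
    have h3 : ∑ u : (P : Subgroup G), blockPair B (u : G) g = blockPair B 1 g := by
      rw [Finset.sum_eq_single (1 : (P : Subgroup G)) (fun u _ hu => hvan u hu)
        (fun h => absurd (Finset.mem_univ _) h)]
      rfl
    rw [← h3]
    unfold blockPair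
    rw [Finset.sum_comm]
    exact Finset.sum_congr rfl fun ψ _ => by rw [← Finset.sum_mul, hm]
  refine hg ?_
  rw [blockCoeff_eq_blockPair, h2, Finset.mul_sum]
  refine memLocalIdeal_sum _ _ fun ψ hψ => ?_
  rw [← mul_assoc, ← mul_assoc, inv_mul_eq_div]
  refine MemLocalIdeal.mul_left ((locRing M).mul_mem (memLocalRing_natDiv hM ?_)
    (natCast_mem (locRing M) _)) (hc ψ (Finset.mem_filter.1 hψ).2)
  rw [P.card_eq_multiplicity, Nat.factorization_pow]
  simp [hM.1.factorization_self]

/-- At a defect class the index of the centraliser carries at least the `p`-part of the degree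
of some member of the block. -/
theorem exists_degree_le_index (hM : IsPModular p M) {B : Set (IrrCharacter G)}
    (hB : IsPBlock M B) {g : G} (hg : ¬ MemLocalIdeal M (blockCoeff B g)) :
    ∃ ψ ∈ B, (charDegree (ψ : G → ℂ)).factorization p ≤
      ((Subgroup.centralizer ({g} : Set G)).index).factorization p := by
  obtain ⟨ψ, hψB, hψ⟩ := exists_conj_value_not_mem hM hB hg
  refine ⟨ψ, hψB, (memLocalRing_natDiv_iff hM (irr_deg_pos ψ).ne'
    Subgroup.index_ne_zero_of_finite).1 ?_⟩
  have hint : IsIntegral ℤ (conj (centralChar (ψ : G → ℂ) g)) :=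
    map_isIntegral_int (starRingEnd ℂ) (centralChar_isIntegral ψ g)
  have hval : MemLocalRing M (conj ((ψ : G → ℂ) g)) :=
    mem_locRing_of_isIntegral (map_isIntegral_int (starRingEnd ℂ) (irr_isIntegral ψ g))
  have key : ((Subgroup.centralizer ({g} : Set G)).index : ℂ) / (charDegree (ψ : G → ℂ) : ℂ) =
      conj (centralChar (ψ : G → ℂ) g) * (conj ((ψ : G → ℂ) g))⁻¹ := by
    have hne : conj ((ψ : G → ℂ) g) ≠ 0 := fun h => hψ (h ▸ memLocalIdeal_zero)
    have hd : (charDegree (ψ : G → ℂ) : ℂ) ≠ 0 := Nat.cast_ne_zero.2 (irr_deg_pos ψ).ne'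
    unfold centralChar
    rw [irr_deg ψ]
    simp only [map_div₀, map_mul, map_natCast]
    field_simp
  rw [key]
  exact (locRing M).mul_mem (mem_locRing_of_isIntegral hint) (memLocalRing_inv hval hψ)

/-- A height zero character takes a unit value on the defect classes of its block. -/
theorem value_not_mem_of_height_zero (hM : IsPModular p M) {B : Set (IrrCharacter G)}
    (hB : IsPBlock M B) {g : G} (hg : IsDefectClass M B g) {χ : IrrCharacter G} (hχ : χ ∈ B)
    (h0 : blockHeight p B (χ : G → ℂ) = 0) : ¬ MemLocalIdeal M ((χ : G → ℂ) g) := by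
  obtain ⟨-, hu, hω⟩ := hg
  obtain ⟨ψ, hψB, hψ⟩ := exists_degree_le_index hM hB hu
  have hle : (charDegree (χ : G → ℂ)).factorization p ≤
      ((Subgroup.centralizer ({g} : Set G)).index).factorization p := by
    refine le_trans (Nat.sub_eq_zero_iff_le.1 h0) (le_trans (Nat.sInf_le ?_) hψ)
    exact ⟨ψ, hψB, rfl⟩
  intro h
  refine hω χ hχ ?_
  unfold centralChar
  rw [mul_comm, mul_div_assoc, irr_deg χ]
  exact MemLocalIdeal.mul_right h (memLocalRing_natDiv hM hle)

end Cfsg.Agent.Blocks
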