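/-
2-blocks with homocyclic defect groups of rank two.
-/
import Cfsg.Agent.Lib.Blocks.HomocyclicTwo
import Cfsg.Agent.Lib.Star.Abelian.Count

set_option linter.unusedSectionVars false
set_option linter.style.haveILetI false

namespace Cfsg.Agent.HomocyclicBlock

open Cfsg Cfsg.Agent.Blocks Cfsg.Agent.BrauerPairs

universe u

variable {G : Type u} [Group G] [Fintype G]

/-- An element of odd order normalising an abelian 2-group with three involutions fixes all of it
or only the identity. -/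
theorem centralizes_odd {P : Subgroup G} (hP : IsPGroup 2 P) (hS : Homocyclic.Shape P) {v : G}
    (hv : v ∈ Subgroup.normalizer (P : Set G)) (hodd : ¬ 2 ∣ orderOf v)
    {x : G} (hx : x ∈ P) (hx1 : x ≠ 1) (hfix : v * x * v⁻¹ = x) :
    ∀ y ∈ P, v * y * v⁻¹ = y := by
  haveI : Fact (Nat.Prime 2) := ⟨Nat.prime_two⟩
  have hmem : ∀ {y}, y ∈ P → v * y * v⁻¹ ∈ P := fun {y} hy =>
    (Subgroup.mem_normalizer_iff.1 hv y).1 hy
  -- an involution is fixed
  obtain ⟨z, hzP, hz2, hz1, hzf⟩ : ∃ z ∈ P, z * z = 1 ∧ z ≠ 1 ∧ v * z * v⁻¹ = z := by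
    obtain ⟨k, hk⟩ := IsPGroup.iff_orderOf.1 hP ⟨x, hx⟩
    rw [Subgroup.orderOf_mk] at hk
    have hpow : x ^ 2 ^ k = 1 := by rw [← hk]; exact pow_orderOf_eq_one x
    clear hk
    induction k generalizing x with
    | zero => simp at hpow; exact absurd hpow hx1
    | succ k ih =>
      by_cases h : x * x = 1
      · exact ⟨x, hx, h, hx1, hfix⟩
      · refine ih (mul_mem hx hx) h ?_ ?_
        · calc v * (x * x) * v⁻¹ = v * x * v⁻¹ * (v * x * v⁻¹) := by group
            _ = x * x := by rw [hfix]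
        · rw [← pow_two, ← pow_mul, ← pow_succ']; exact hpow
  have hconjpow : ∀ (n : ℕ) (y : G), v * y * v⁻¹ = y → v ^ n * y * (v ^ n)⁻¹ = y := by
    intro n y hy
    induction n with
    | zero => simp
    | succ n ih =>
      rw [pow_succ, show v ^ n * v * y * (v ^ n * v)⁻¹ = v ^ n * (v * y * v⁻¹) * (v ^ n)⁻¹ by group,
        hy, ih]
  -- every involution is fixed
  have hinv : ∀ j ∈ P, j * j = 1 → j ≠ 1 → v * j * v⁻¹ = j := by
    intro j hj hj2 hj1
    by_contra hne
    set k := v * j * v⁻¹ with hk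
    have hjz : j ≠ z := fun e => hne (by rw [hk, e, hzf])
    have hk2 : k * k = 1 := by
      rw [hk, show v * j * v⁻¹ * (v * j * v⁻¹) = v * (j * j) * v⁻¹ by group, hj2, mul_one,
        mul_inv_cancel]
    have hk1 : k ≠ 1 := fun e => hj1 (conj_eq_one_iff.1 (hk ▸ e))
    have hkz : k ≠ z := fun e => hjz (by
      have h1 : v * j * v⁻¹ = v * z * v⁻¹ := by rw [← hk, e, hzf]
      simpa using h1)
    set l := v * k * v⁻¹ with hl
    have hl2 : l * l = 1 := by
      rw [hl, show v * k * v⁻¹ * (v * k * v⁻¹) = v * (k * k) * v⁻¹ by group, hk2, mul_one,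
        mul_inv_cancel]
    have hl1 : l ≠ 1 := fun e => hk1 (conj_eq_one_iff.1 (hl ▸ e))
    rcases hS.three z hzP j hj k (hmem hj) l (hmem (hmem hj)) hz2 hj2 hk2 hl2 hz1 hj1 hk1 hl1
      hjz.symm hkz.symm (Ne.symm hne) with e | e | e
    · refine hkz ?_
      have h1 : v * k * v⁻¹ = v * z * v⁻¹ := by rw [← hl, e, hzf]
      simpa using h1
    · have h2 : v ^ 2 * j * (v ^ 2)⁻¹ = j := by
        rw [Homocyclic.conj_two, ← hk, ← hl, e]
      obtain ⟨q, hq⟩ : Odd (orderOf v) := Nat.odd_iff.2 (by omega)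
      have h3 : ∀ n : ℕ, (v ^ 2) ^ n * j * ((v ^ 2) ^ n)⁻¹ = j := by
        intro n
        induction n with
        | zero => simp
        | succ n ih =>
          rw [pow_succ, show (v ^ 2) ^ n * v ^ 2 * j * ((v ^ 2) ^ n * v ^ 2)⁻¹ =
            (v ^ 2) ^ n * (v ^ 2 * j * (v ^ 2)⁻¹) * ((v ^ 2) ^ n)⁻¹ by group, h2, ih]
      have h4 := h3 (q + 1)
      rw [← pow_mul, show 2 * (q + 1) = orderOf v + 1 by omega, pow_succ, pow_orderOf_eq_one,
        one_mul] at h4
      exact hne h4
    · refine hne ?_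
      have h1 : v * k * v⁻¹ = v * j * v⁻¹ := by rw [← hl, e, hk]
      simpa using h1
  -- hence everything
  intro y hy
  obtain ⟨k, hk⟩ := IsPGroup.iff_orderOf.1 hP ⟨y, hy⟩
  rw [Subgroup.orderOf_mk] at hk
  have hpow : y ^ 2 ^ k = 1 := by rw [← hk]; exact pow_orderOf_eq_one y
  clear hk
  induction k generalizing y with
  | zero => simp at hpow; simp [hpow]
  | succ k ih =>
    have h1 := ih (y * y) (mul_mem hy hy) (by rw [← pow_two, ← pow_mul, ← pow_succ']; exact hpow)
    set i := y⁻¹ * (v * y * v⁻¹) with hi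
    have hiP : i ∈ P := mul_mem (inv_mem hy) (hmem hy)
    have hyi : v * y * v⁻¹ = y * i := by rw [hi, mul_inv_cancel_left]
    have hi2 : i * i = 1 := by
      have e1 : v * (y * y) * v⁻¹ = y * y * (i * i) := by
        calc v * (y * y) * v⁻¹ = v * y * v⁻¹ * (v * y * v⁻¹) := by group
          _ = y * (i * y) * i := by rw [hyi]; group
          _ = y * (y * i) * i := by rw [hS.comm i hiP y hy]
          _ = y * y * (i * i) := by group
      rw [h1] at e1
      exact mul_left_cancel (a := y * y) (by rw [mul_one]; exact e1.symm)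
    have hif : v * i * v⁻¹ = i := by
      by_cases hi1 : i = 1
      · simp [hi1]
      · exact hinv i hiP hi2 hi1
    have hn : ∀ n : ℕ, v ^ n * y * (v ^ n)⁻¹ = y * i ^ n := by
      intro n
      induction n with
      | zero => simp
      | succ n ihn =>
        rw [pow_succ, show v ^ n * v * y * (v ^ n * v)⁻¹ = v ^ n * (v * y * v⁻¹) * (v ^ n)⁻¹ by group,
          hyi, show v ^ n * (y * i) * (v ^ n)⁻¹ =
            v ^ n * y * (v ^ n)⁻¹ * (v ^ n * i * (v ^ n)⁻¹) by group, ihn, hconjpow n i hif,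
          mul_assoc, ← pow_succ]
    obtain ⟨q, hq⟩ : Odd (orderOf v) := Nat.odd_iff.2 (by omega)
    have h5 := hn (orderOf v)
    rw [pow_orderOf_eq_one, one_mul, inv_one, mul_one, hq, pow_succ, pow_mul, pow_two, hi2, one_pow,
      one_mul] at h5
    rw [hyi]
    exact h5.symm

/-- The counts of a 2-block with homocyclic defect group of rank two. -/
theorem counts {M : Ideal AlgInt} [M.IsPrime] (hM : IsPModular 2 M) {B : Set (IrrCharacter G)}
    {D : Subgroup G} (hB : IsPBlock M B) (hD : IsDefectGroup 2 M B D) {m : ℕ} (hm : 2 ≤ m)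
    (e : D ≃* Multiplicative (ZMod (2 ^ m) × ZMod (2 ^ m))) :
    (blockRank 2 B = 1 ∧ Nat.card B = 4 ^ m) ∨ (blockRank 2 B = 3 ∧ 3 * Nat.card B = 4 ^ m + 8) := by
  classical
  haveI : Fact (Nat.Prime 2) := ⟨Nat.prime_two⟩
  haveI : CharP (resField M) 2 := resField_charP hM
  have hS := Homocyclic.shape_of_equiv hm e
  have hcard : Nat.card D = 4 ^ m := by
    rw [Nat.card_congr e.toEquiv, Nat.card_congr Multiplicative.toAdd, Nat.card_prod, Nat.card_zmod,
      ← mul_pow]
    norm_num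
  have hP := isPGroup_defectGroup hD
  have hPC : D ≤ Subgroup.centralizer (D : Set G) := fun x hx =>
    Subgroup.mem_centralizer_iff.2 fun y hy => hS.comm y hy x hx
  have hex := exists_inducing_block hM hB hD
  rw [sup_eq_right.2 hPC] at hex
  obtain ⟨c, -, hc⟩ := hex
  obtain ⟨T, hT⟩ : ∃ T, T = stabP (D, zB M (Subgroup.centralizer (D : Set G)) c) := ⟨_, rfl⟩
  have hTN : T ≤ Subgroup.normalizer (D : Set G) := hT ▸ stabP_le_normalizer _
  obtain ⟨C, hC⟩ : ∃ C, C = Subgroup.centralizer (D : Set G) := ⟨_, rfl⟩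
  haveI : (C.subgroupOf T).Normal := Subgroup.normal_subgroupOf_of_le_normalizer (fun u hu =>
    mem_normalizer_of_cjS_eq (by rw [hC, cjS_centralizer, cjS_eq_of_mem_normalizer (hTN hu)]))
  have hodd : ¬ 2 ∣ C.relIndex T := by rw [hT, hC]; exact not_dvd_inertia hM hD hPC hc
  have hfree : FreeInertia D (zB M (Subgroup.centralizer (D : Set G)) c) := by
    intro g hg x hx hx1 hfix
    rw [← hT] at hg
    rw [← hC]
    obtain ⟨a, q, hq, hgq⟩ := Nat.exists_eq_two_pow_mul_odd (orderOf_pos g).ne'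
    have hfixp : ∀ k : ℕ, g ^ k * x * (g ^ k)⁻¹ = x := by
      intro k
      induction k with
      | zero => simp
      | succ k ih =>
        rw [pow_succ, show g ^ k * g * x * (g ^ k * g)⁻¹ = g ^ k * (g * x * g⁻¹) * (g ^ k)⁻¹ by group,
          hfix, ih]
    have hvodd : ¬ 2 ∣ orderOf (g ^ 2 ^ a) := by
      rw [orderOf_pow' g (by positivity), hgq, Nat.gcd_eq_right (dvd_mul_right _ _),
        Nat.mul_div_cancel_left _ (by positivity)]
      exact hq.not_two_dvd_nat
    have hv : g ^ 2 ^ a ∈ C := hC ▸ Subgroup.mem_centralizer_iff.2 fun y hy =>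
      (mul_inv_eq_iff_eq_mul.1 (centralizes_odd hP hS (pow_mem (hTN hg) _) hvodd hx hx1
        (hfixp _) y hy)).symm
    have hgm : g ^ C.relIndex T ∈ C :=
      Subgroup.mem_subgroupOf.1 (Subgroup.pow_index_mem (C.subgroupOf T) ⟨g, hg⟩)
    have hco : Nat.gcd (2 ^ a) (C.relIndex T) = 1 :=
      (Nat.prime_two.coprime_iff_not_dvd.2 hodd).pow_left a
    have h := Nat.gcd_eq_gcd_ab (2 ^ a) (C.relIndex T)
    rw [hco, Nat.cast_one] at h
    rw [← zpow_one g, h, zpow_add, zpow_mul, zpow_mul, zpow_natCast, zpow_natCast]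
    exact mul_mem (zpow_mem hv _) (zpow_mem hgm _)
  have hD1 : D ≠ ⊥ := by
    rw [← Subgroup.one_lt_card_iff_ne_bot, hcard]
    exact Nat.one_lt_pow (by omega) (by norm_num)
  obtain ⟨n, hn, he1, hk, -, he3⟩ :=
    Abelian.abelian_free_counts hM hD hD1 hPC hc hfree (e := C.relIndex T) (by rw [hT, hC])
  have he : C.relIndex T ≤ 3 := by
    obtain ⟨z, hz, hz2, hz1⟩ := hS.invol
    let F : Finset G := Finset.univ.filter fun w => w ∈ D ∧ w * w = 1 ∧ w ≠ 1
    have hF : F.card ≤ 3 := by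
      by_contra hcon
      obtain ⟨s, hs, hs4⟩ := Finset.exists_subset_card_eq (s := F) (n := 4) (by omega)
      obtain ⟨x, y, u, w, hxy, hxu, hxw, hyu, hyw, huw, rfl⟩ := Finset.card_eq_four.1 hs4
      have hx := hs (by simp : x ∈ _)
      have hy := hs (by simp : y ∈ _)
      have hu := hs (by simp : u ∈ _)
      have hw := hs (by simp : w ∈ _)
      simp only [F, Finset.mem_filter, Finset.mem_univ, true_and] at hx hy hu hw
      rcases hS.three x hx.1 y hy.1 u hu.1 w hw.1 hx.2.1 hy.2.1 hu.2.1 hw.2.1 hx.2.2 hy.2.2 hu.2.2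
        hw.2.2 hxy hxu hyu with h | h | h
      · exact hxw h.symm
      · exact hyw h.symm
      · exact huw h.symm
    haveI : Fintype (T ⧸ C.subgroupOf T) := Fintype.ofFinite _
    rw [Subgroup.relIndex, Subgroup.index, Nat.card_eq_fintype_card, ← Finset.card_univ]
    refine le_trans (Finset.card_le_card_of_injOn
      (fun q : T ⧸ C.subgroupOf T => (q.out : G) * z * (q.out : G)⁻¹) ?_ ?_) hF
    · intro q _
      refine Finset.mem_filter.2 ⟨Finset.mem_univ _,
        (Subgroup.mem_normalizer_iff.1 (hTN q.out.2) z).1 hz, ?_, by simpa using hz1⟩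
      rw [show (q.out : G) * z * (q.out : G)⁻¹ * ((q.out : G) * z * (q.out : G)⁻¹) =
        (q.out : G) * (z * z) * (q.out : G)⁻¹ by group, hz2, mul_one, mul_inv_cancel]
    · intro q _ q' _ h
      simp only at h
      have hfix : ((q'.out : G)⁻¹ * q.out) * z * ((q'.out : G)⁻¹ * q.out)⁻¹ = z := by
        calc ((q'.out : G)⁻¹ * q.out) * z * ((q'.out : G)⁻¹ * q.out)⁻¹
            = (q'.out : G)⁻¹ * ((q.out : G) * z * (q.out : G)⁻¹) * q'.out := by group
          _ = z := by rw [h]; group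
      have hmem := hfree _ (hT ▸ mul_mem (inv_mem q'.out.2) q.out.2) z hz hz1 hfix
      rw [← hC] at hmem
      have hq : (QuotientGroup.mk q'.out : T ⧸ C.subgroupOf T) = QuotientGroup.mk q.out :=
        QuotientGroup.eq.2 (Subgroup.mem_subgroupOf.2 (by simpa using hmem))
      rw [QuotientGroup.out_eq', QuotientGroup.out_eq'] at hq
      exact hq.symm
  have hl := he3 he
  rw [hcard] at hn
  have hcases : C.relIndex T = 1 ∨ C.relIndex T = 3 := by omega
  rcases hcases with h | h <;> rw [h] at hn hl <;> omega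

end Cfsg.Agent.HomocyclicBlock
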