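import Cfsg.Agent.Lib.Blocks.SecondMain
import Cfsg.Agent.Lib.Blocks.Misc
import Cfsg.Agent.Lib.Blocks.Reynolds
import Cfsg.Agent.Lib.Char.Complete

/-!
A linear character from an abelian Sylow 2-subgroup with a fixed-point-free fusion of order three.
-/

set_option linter.style.haveILetI false
set_option linter.unusedSectionVars false

namespace Cfsg.Agent.Homocyclic

open Cfsg Cfsg.Agent.Char Cfsg.Agent.Blocks
open scoped ComplexConjugate

universe u

variable {G : Type u} [Group G] [Fintype G] {M : Ideal AlgInt} [M.IsPrime]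

/-- An abelian Sylow 2-subgroup whose fusion is given by an automorphism of order three without
fixed points. -/
structure Fused (P : Sylow 2 G) (σ : ↥(P : Subgroup G) ≃* ↥(P : Subgroup G)) : Prop where
  comm : ∀ x y : ↥(P : Subgroup G), x * y = y * x
  cube : ∀ x, σ (σ (σ x)) = x
  fpf : ∀ x, σ x = x → x = 1
  isConj_apply : ∀ x : ↥(P : Subgroup G), IsConj (x : G) ((σ x : ↥(P : Subgroup G)) : G)
  fusion : ∀ x y : ↥(P : Subgroup G), IsConj (x : G) (y : G) → y = x ∨ y = σ x ∨ y = σ (σ x)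
  large : 16 ∣ Nat.card (P : Subgroup G)
  not_elementary : ∃ x : ↥(P : Subgroup G), x * x ≠ 1
  invol : ∃ x : ↥(P : Subgroup G), x * x = 1 ∧ x ≠ 1
  complement : ∀ x : ↥(P : Subgroup G), x ≠ 1 →
    ∃ N : Subgroup ↥(Subgroup.centralizer ({(x : G)} : Set G)), N.Normal ∧ ¬ 2 ∣ Nat.card N ∧
      ∃ k, N.index = 2 ^ k
  centralizer_two : ∀ x : ↥(P : Subgroup G), x ≠ 1 →
    2 ^ (Nat.card ↥(Subgroup.centralizer ({(x : G)} : Set G))).factorization 2 =
      Nat.card (P : Subgroup G)

theorem int_cases {a b c : ℤ} (ha : (16 : ℤ) ∣ a - 1) (hb : (16 : ℤ) ∣ b - 1)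
    (hc : (16 : ℤ) ∣ c - 3) (h1 : 1 + a + b = c) (h2 : 1 + 1 / (a : ℚ) + 1 / (b : ℚ) = 9 / (c : ℚ)) :
    a = 1 ∨ b = 1 := by
  by_contra hne
  push Not at hne
  obtain ⟨u, hu⟩ := ha
  obtain ⟨v, hv⟩ := hb
  obtain ⟨w, hw⟩ := hc
  have bound : ∀ (x : ℤ), x ≥ 17 ∨ x ≤ -15 →
      -(1 / 15 : ℚ) ≤ 1 / (x : ℚ) ∧ 1 / (x : ℚ) ≤ 1 / 15 := by
    intro x hx
    rcases hx with hx | hx
    · have h : (17 : ℚ) ≤ x := by exact_mod_cast hx
      refine ⟨le_trans (by norm_num) (le_of_lt (one_div_pos.2 (by linarith))), ?_⟩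
      rw [div_le_div_iff₀ (by linarith) (by norm_num)]
      linarith
    · have h : (x : ℚ) ≤ -15 := by exact_mod_cast hx
      refine ⟨?_, le_trans (le_of_lt (one_div_neg.2 (by linarith))) (by norm_num)⟩
      have h' : 1 / (-(x : ℚ)) ≤ 1 / 15 := by
        rw [div_le_div_iff₀ (by linarith) (by norm_num)]
        linarith
      rw [one_div_neg_eq_neg_one_div] at h'
      linarith
  obtain ⟨r1, r2⟩ := bound a (by omega)
  obtain ⟨s1, s2⟩ := bound b (by omega)
  have hc0 : c ≠ 0 := by omega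
  have hcq : (c : ℚ) ≠ 0 := Int.cast_ne_zero.2 hc0
  have h3 : (c : ℚ) * (1 + 1 / (a : ℚ) + 1 / (b : ℚ)) = 9 := by rw [h2]; field_simp
  rcases (show c ≤ 3 ∨ 19 ≤ c by omega) with h | h
  · have h' : (c : ℚ) ≤ 3 := by exact_mod_cast h
    nlinarith
  · have h' : (19 : ℚ) ≤ c := by exact_mod_cast h
    nlinarith

variable {P : Sylow 2 G} {σ : ↥(P : Subgroup G) ≃* ↥(P : Subgroup G)}

/-- The characters of the Sylow subgroup moved by the automorphism. -/
def twist (σ : ↥(P : Subgroup G) ≃* ↥(P : Subgroup G)) (μ : IrrCharacter ↥(P : Subgroup G)) :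
    IrrCharacter ↥(P : Subgroup G) :=
  ⟨fun x => (μ : ↥(P : Subgroup G) → ℂ) (σ x),
    IsIrrCharacter.comp μ.2 σ.toMonoidHom σ.surjective⟩

theorem twist_apply (μ : IrrCharacter ↥(P : Subgroup G)) (x : ↥(P : Subgroup G)) :
    (twist σ μ : ↥(P : Subgroup G) → ℂ) x = (μ : ↥(P : Subgroup G) → ℂ) (σ x) := rfl

/-- The class function of the Sylow subgroup attached to an orbit. -/
noncomputable def orbFun (σ : ↥(P : Subgroup G) ≃* ↥(P : Subgroup G)) (μ : IrrCharacter ↥(P : Subgroup G))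
    (x : ↥(P : Subgroup G)) : ℂ :=
  3 - ((μ : ↥(P : Subgroup G) → ℂ) x + (twist σ μ : ↥(P : Subgroup G) → ℂ) x +
    (twist σ (twist σ μ) : ↥(P : Subgroup G) → ℂ) x)

variable (hP : Fused P σ)
include hP

theorem twist_cube (μ : IrrCharacter ↥(P : Subgroup G)) : twist σ (twist σ (twist σ μ)) = μ :=
  Subtype.ext (funext fun x => congrArg (μ : ↥(P : Subgroup G) → ℂ) (hP.cube x))

theorem lin_one (μ : IrrCharacter ↥(P : Subgroup G)) : (μ : ↥(P : Subgroup G) → ℂ) 1 = 1 := by
  haveI : Fintype ↥(P : Subgroup G) := Fintype.ofFinite _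
  rw [irr_one_eq_charDegree, charDegree_eq_one_of_comm hP.comm μ, Nat.cast_one]

theorem lin_mul (μ : IrrCharacter ↥(P : Subgroup G)) (x y : ↥(P : Subgroup G)) :
    (μ : ↥(P : Subgroup G) → ℂ) (x * y) =
      (μ : ↥(P : Subgroup G) → ℂ) x * (μ : ↥(P : Subgroup G) → ℂ) y := by
  haveI : Fintype ↥(P : Subgroup G) := Fintype.ofFinite _
  have hconj : ∀ {a b : ↥(P : Subgroup G)}, IsConj a b → b = a := by
    intro a b h
    obtain ⟨c, rfl⟩ := isConj_iff.1 h
    rw [hP.comm c a, mul_inv_cancel_right]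
  have h := irr_mul_of_const μ x y fun a b ha hb => by rw [hconj ha, hconj hb]
  rw [lin_one hP μ, one_mul] at h
  exact h.symm

theorem twist_ne {μ : IrrCharacter ↥(P : Subgroup G)} (hμ : μ ≠ principal _) :
    twist σ μ ≠ μ ∧ twist σ (twist σ μ) ≠ μ ∧ twist σ (twist σ μ) ≠ twist σ μ := by
  classical
  have h1 : twist σ μ ≠ μ := by
    intro h
    refine hμ (Subtype.ext (funext fun y => ?_))
    have hinj : Function.Injective fun x : ↥(P : Subgroup G) => σ x * x⁻¹ := by
      intro a b hab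
      have h2 : σ (a * b⁻¹) = a * b⁻¹ := by
        rw [map_mul, map_inv]
        simp only at hab
        calc σ a * (σ b)⁻¹ = σ a * a⁻¹ * (a * (σ b)⁻¹) := by group
          _ = σ b * b⁻¹ * (a * (σ b)⁻¹) := by rw [hab]
          _ = σ b * (b⁻¹ * a) * (σ b)⁻¹ := by group
          _ = b⁻¹ * a := by rw [hP.comm (σ b), mul_inv_cancel_right]
          _ = a * b⁻¹ := hP.comm _ _
      exact mul_inv_eq_one.1 (hP.fpf _ h2)
    obtain ⟨x, rfl⟩ := Finite.surjective_of_injective hinj y
    show (μ : ↥(P : Subgroup G) → ℂ) (σ x * x⁻¹) = 1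
    rw [lin_mul hP, ← twist_apply, h, ← lin_mul hP, mul_inv_cancel, lin_one hP]
  refine ⟨h1, fun h => h1 ?_, fun h => h1 ?_⟩
  · have h' := congrArg (twist σ) h
    rw [twist_cube hP] at h'
    exact h'.symm
  · have h' := congrArg (fun μ => twist σ (twist σ μ)) h
    simp only [twist_cube hP] at h'
    exact h'

theorem twist_eq_principal {μ : IrrCharacter ↥(P : Subgroup G)}
    (h : twist σ μ = principal ↥(P : Subgroup G)) : μ = principal ↥(P : Subgroup G) := by
  refine Subtype.ext (funext fun y => ?_)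
  have := congrArg (fun μ : IrrCharacter ↥(P : Subgroup G) => (μ : ↥(P : Subgroup G) → ℂ) (σ.symm y)) h
  simpa [twist_apply, principal] using this

theorem orth [Fintype ↥(P : Subgroup G)] [DecidableEq (IrrCharacter ↥(P : Subgroup G))]
    (μ ν : IrrCharacter ↥(P : Subgroup G)) :
    ∑ x, (μ : ↥(P : Subgroup G) → ℂ) x * conj ((ν : ↥(P : Subgroup G) → ℂ) x) =
      if μ = ν then (Nat.card (P : Subgroup G) : ℂ) else 0 := by
  classical
  have h := classInner_irr μ.2 ν.2
  simp only [classInner] at h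
  rw [inv_mul_eq_iff_eq_mul₀ (Nat.cast_ne_zero.2 Nat.card_pos.ne')] at h
  rw [h]
  by_cases e : μ = ν
  · rw [if_pos e, if_pos (congrArg Subtype.val e), mul_one]
  · rw [if_neg e, if_neg (fun h => e (Subtype.ext h)), mul_zero]

theorem sum_orbFun_mul [Fintype ↥(P : Subgroup G)] [DecidableEq (IrrCharacter ↥(P : Subgroup G))]
    {μ ν : IrrCharacter ↥(P : Subgroup G)} (hμ : μ ≠ principal _) (hν : ν ≠ principal _) :
    ∑ x, orbFun σ μ x * conj (orbFun σ ν x) = (Nat.card (P : Subgroup G) : ℂ) *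
      (9 + if ν = μ ∨ ν = twist σ μ ∨ ν = twist σ (twist σ μ) then 3 else 0) := by
  classical
  obtain ⟨d1, d2, d3⟩ := twist_ne hP hμ
  obtain ⟨e1, e2, e3⟩ := twist_ne hP hν
  have hμ1 : twist σ μ ≠ principal _ := fun h => hμ (twist_eq_principal hP h)
  have hμ2 : twist σ (twist σ μ) ≠ principal _ := fun h => hμ1 (twist_eq_principal hP h)
  have hν1 : twist σ ν ≠ principal _ := fun h => hν (twist_eq_principal hP h)
  have hν2 : twist σ (twist σ ν) ≠ principal _ := fun h => hν1 (twist_eq_principal hP h)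
  have hone : ∀ x : ↥(P : Subgroup G), (3 : ℂ) = 3 * (principal ↥(P : Subgroup G) : ↥(P : Subgroup G) → ℂ) x :=
    fun x => (mul_one _).symm
  simp only [orbFun]
  conv_lhs => arg 2; ext x; rw [hone x]
  simp only [map_sub, map_add, map_mul, map_ofNat, sub_mul, mul_sub, add_mul, mul_add,
    Finset.sum_sub_distrib, Finset.sum_add_distrib, mul_assoc, mul_left_comm _ (3 : ℂ),
    ← Finset.mul_sum, orth hP, if_true, hμ, hμ1, hμ2, hν.symm, hν1.symm, hν2.symm, if_false]
  by_cases hor : ν = μ ∨ ν = twist σ μ ∨ ν = twist σ (twist σ μ)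
  · rw [if_pos hor]
    rcases hor with rfl | rfl | rfl <;>
      simp [twist_cube hP, d1, d2, d3, d1.symm, d2.symm, d3.symm] <;> ring
  · rw [if_neg hor]
    have hno : ∀ {α β}, (α = μ ∨ α = twist σ μ ∨ α = twist σ (twist σ μ)) →
        (β = ν ∨ β = twist σ ν ∨ β = twist σ (twist σ ν)) → α ≠ β := by
      intro α β ha hb e
      refine hor ?_
      rcases ha with rfl | rfl | rfl <;> rcases hb with hb | hb | hb <;> rw [hb] at e
      all_goals
        first
          | exact Or.inl e.symm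
          | exact Or.inr (Or.inl e.symm)
          | exact Or.inr (Or.inr e.symm)
          | (have h' := congrArg (twist σ) e; simp only [twist_cube hP] at h'
             first
               | exact Or.inl h'.symm
               | exact Or.inr (Or.inl h'.symm)
               | exact Or.inr (Or.inr h'.symm))
          | (have h' := congrArg (fun μ => twist σ (twist σ μ)) e; simp only [twist_cube hP] at h'
             first
               | exact Or.inl h'.symm
               | exact Or.inr (Or.inl h'.symm)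
               | exact Or.inr (Or.inr h'.symm))
    simp only [hno (Or.inl rfl) (Or.inl rfl), hno (Or.inl rfl) (Or.inr (Or.inl rfl)),
      hno (Or.inl rfl) (Or.inr (Or.inr rfl)), hno (Or.inr (Or.inl rfl)) (Or.inl rfl),
      hno (Or.inr (Or.inl rfl)) (Or.inr (Or.inl rfl)),
      hno (Or.inr (Or.inl rfl)) (Or.inr (Or.inr rfl)), hno (Or.inr (Or.inr rfl)) (Or.inl rfl),
      hno (Or.inr (Or.inr rfl)) (Or.inr (Or.inl rfl)),
      hno (Or.inr (Or.inr rfl)) (Or.inr (Or.inr rfl)), if_false]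
    ring

theorem orbFun_twist_invariant (μ : IrrCharacter ↥(P : Subgroup G)) (x : ↥(P : Subgroup G)) :
    orbFun σ μ (σ x) = orbFun σ μ x ∧ orbFun σ μ (σ (σ x)) = orbFun σ μ x := by
  simp only [orbFun, twist_apply, hP.cube]
  constructor <;> ring

theorem orbFun_one (μ : IrrCharacter ↥(P : Subgroup G)) : orbFun σ μ 1 = 0 := by
  simp only [orbFun, twist_apply, map_one, lin_one hP]
  ring

/-- On a non-trivial element the block pairing is the order of the Sylow subgroup. -/
theorem pair_self (hM : IsPModular 2 M) {x : ↥(P : Subgroup G)} (hx : x ≠ 1) :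
    blockPair (principalBlock M G) (x : G) (x : G) = (Nat.card (P : Subgroup G) : ℂ) := by
  classical
  haveI : Fact (Nat.Prime 2) := ⟨Nat.prime_two⟩
  set C := Subgroup.centralizer ({(x : G)} : Set G) with hC
  haveI : Fintype C := Fintype.ofFinite C
  obtain ⟨N, hN, hN2, hNi⟩ := hP.complement x hx
  obtain ⟨k, hk⟩ := IsPGroup.iff_orderOf.1 P.2 x
  rw [← Subgroup.orderOf_coe] at hk
  have hy : ¬ 2 ∣ orderOf (1 : C) := by rw [orderOf_one]; norm_num
  have h := sum_normSq_section_principal hM (x := (x : G)) ⟨k, hk⟩ hC (y := (1 : C)) hy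
  rw [OneMemClass.coe_one, mul_one, blockPair_principal_of_pComplement hM N hN2 hNi hy,
    hP.centralizer_two x hx] at h
  exact h

theorem pair_ne (hM : IsPModular 2 M) {x y : ↥(P : Subgroup G)}
    (h : y ≠ x ∧ y ≠ σ x ∧ y ≠ σ (σ x)) :
    blockPair (principalBlock M G) (y : G) (x : G) = 0 := by
  haveI : Fact (Nat.Prime 2) := ⟨Nat.prime_two⟩
  have hp : ∀ z : ↥(P : Subgroup G), IsPPart 2 (z : G) (z : G) := fun z => by
    obtain ⟨k, hk⟩ := IsPGroup.iff_orderOf.1 P.2 z
    exact ⟨1, mul_one _, Commute.one_right _, ⟨k, by rw [Subgroup.orderOf_coe]; exact hk⟩, by simp⟩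
  refine blockPair_eq_zero_of_pPart hM (isPBlock_principalBlock M G) (hp y) (hp x) fun hc => ?_
  rcases hP.fusion x y hc.symm with e | e | e
  · exact h.1 e
  · exact h.2.1 e
  · exact h.2.2 e

theorem pair_orbit (hM : IsPModular 2 M) [Fintype ↥(P : Subgroup G)]
    {x : ↥(P : Subgroup G)} (hx : x ≠ 1) (h : ↥(P : Subgroup G) → ℂ)
    (hh : h (σ x) = h x ∧ h (σ (σ x)) = h x) :
    ∑ y : ↥(P : Subgroup G), h y * blockPair (principalBlock M G) (y : G) (x : G) =
      3 * (Nat.card (P : Subgroup G) : ℂ) * h x := by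
  classical
  have d1 : σ x ≠ x := fun e => hx (hP.fpf x e)
  have d2 : σ (σ x) ≠ x := fun e => d1 (by
    have := congrArg σ e; rw [hP.cube] at this; exact this.symm)
  have d3 : σ (σ x) ≠ σ x := fun e => d1 (σ.injective e)
  rw [← Finset.sum_subset (Finset.subset_univ ({x, σ x, σ (σ x)} : Finset ↥(P : Subgroup G)))
    (fun y _ hy => by
      simp only [Finset.mem_insert, Finset.mem_singleton, not_or] at hy
      rw [pair_ne hP hM hy, mul_zero]),
    Finset.sum_insert (by simp [d1.symm, d2.symm]), Finset.sum_pair d3.symm, hh.1, hh.2]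
  have hval : ∀ y : ↥(P : Subgroup G), IsConj (x : G) (y : G) →
      blockPair (principalBlock M G) (y : G) (x : G) = (Nat.card (P : Subgroup G) : ℂ) := by
    intro y hy
    rw [← pair_self hP hM hx]
    unfold blockPair
    exact Finset.sum_congr rfl fun χ _ => by rw [irr_isConj χ hy]
  rw [hval x (IsConj.refl _), hval (σ x) (hP.isConj_apply x),
    hval (σ (σ x)) ((hP.isConj_apply x).trans (hP.isConj_apply (σ x)))]
  ring

set_option maxHeartbeats 2000000 in
/-- The linear character. -/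
theorem exists_linear (hM : IsPModular 2 M) :
    ∃ χ : IrrCharacter G, χ ≠ principal G ∧ (χ : G → ℂ) 1 = 1 ∧
      ∀ x ∈ (P : Subgroup G), (χ : G → ℂ) x = 1 := by
  classical
  haveI : Fact (Nat.Prime 2) := ⟨Nat.prime_two⟩
  haveI : Fintype ↥(P : Subgroup G) := Fintype.ofFinite _
  set A := Nat.card (P : Subgroup G) with hA
  have hA0 : (A : ℂ) ≠ 0 := Nat.cast_ne_zero.2 Nat.card_pos.ne'
  set one := principal ↥(P : Subgroup G) with hone
  set Bf := Finset.univ.filter (· ∈ principalBlock M G) with hBf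
  have hpr : principal G ∈ Bf := Finset.mem_filter.2 ⟨Finset.mem_univ _, principal_mem_principalBlock⟩
  -- coefficients
  have hn : ∀ (χ : IrrCharacter G) (μ : IrrCharacter ↥(P : Subgroup G)),
      ∃ n : ℕ, classInner (μ : ↥(P : Subgroup G) → ℂ) (fun x => (χ : G → ℂ) x) = n := fun χ μ =>
    IsCharacter.exists_classInner_nat (irr_isCharacter μ) (IsCharacter.restrict (irr_isCharacter χ) _)
  choose n hn using hn
  have hsum : ∀ (χ : IrrCharacter G) (μ : IrrCharacter ↥(P : Subgroup G)),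
      ∑ x, (μ : ↥(P : Subgroup G) → ℂ) x * conj ((χ : G → ℂ) x) = (A : ℂ) * n χ μ := by
    intro χ μ
    have h := hn χ μ
    simp only [classInner] at h
    rwa [inv_mul_eq_iff_eq_mul₀ hA0] at h
  have hinv : ∀ (χ : IrrCharacter G) (x : ↥(P : Subgroup G)),
      (χ : G → ℂ) ((σ x : ↥(P : Subgroup G)) : G) = (χ : G → ℂ) x := fun χ x =>
    irr_isConj χ (hP.isConj_apply x)
  have hntw : ∀ χ μ, n χ (twist σ μ) = n χ μ := by
    intro χ μ
    have h : (A : ℂ) * n χ (twist σ μ) = (A : ℂ) * n χ μ := by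
      rw [← hsum, ← hsum]
      refine Eq.trans (Finset.sum_congr rfl fun x _ => ?_) (Equiv.sum_comp σ.toEquiv
        fun x => (μ : ↥(P : Subgroup G) → ℂ) x * conj ((χ : G → ℂ) x))
      simp only [MulEquiv.toEquiv_eq_coe, MulEquiv.coe_toEquiv, twist_apply, hinv]
    exact_mod_cast mul_left_cancel₀ hA0 h
  have hsumone : ∀ χ : IrrCharacter G, ∑ x : ↥(P : Subgroup G), conj ((χ : G → ℂ) x) =
      (A : ℂ) * n χ one := fun χ => by
    rw [← hsum]
    exact Finset.sum_congr rfl fun x _ => (one_mul _).symm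
  set v : IrrCharacter ↥(P : Subgroup G) → IrrCharacter G → ℤ :=
    fun μ χ => (n χ one : ℤ) - n χ μ with hv
  have hc : ∀ (μ : IrrCharacter ↥(P : Subgroup G)) (χ : IrrCharacter G), ∑ x, orbFun σ μ x * conj ((χ : G → ℂ) x) = 3 * (A : ℂ) * (v μ χ : ℂ) := by
    intro μ χ
    simp only [orbFun, sub_mul, add_mul, Finset.sum_sub_distrib, Finset.sum_add_distrib, hsum,
      hntw, ← Finset.mul_sum, hsumone, hv]
    push_cast
    ring
  have hvtw : ∀ μ χ, v (twist σ μ) χ = v μ χ := fun μ χ => by simp [hv, hntw]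
  -- inner products
  have hpairsum : ∀ (μ : IrrCharacter ↥(P : Subgroup G)) (g : G),
      3 * (A : ℂ) * ∑ χ ∈ Bf, (v μ χ : ℂ) * (χ : G → ℂ) g =
        ∑ x, orbFun σ μ x * blockPair (principalBlock M G) g (x : G) := by
    intro μ g
    rw [Finset.mul_sum]
    simp only [← mul_assoc, ← hc, Finset.sum_mul]
    rw [Finset.sum_comm]
    refine Finset.sum_congr rfl fun x _ => ?_
    unfold blockPair
    rw [Finset.mul_sum]
    refine Finset.sum_congr (by ext; simp [hBf]) fun χ _ => ?_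
    ring
  have hgram : ∀ μ ν : IrrCharacter ↥(P : Subgroup G), μ ≠ one → ν ≠ one →
      ∑ χ ∈ Bf, v μ χ * v ν χ =
        3 + if ν = μ ∨ ν = twist σ μ ∨ ν = twist σ (twist σ μ) then 1 else 0 := by
    intro μ ν hμ hν
    have h : (3 * (A : ℂ)) * (3 * (A : ℂ)) * ∑ χ ∈ Bf, (v μ χ : ℂ) * (v ν χ : ℂ) =
        (3 * (A : ℂ)) * (∑ x, orbFun σ μ x * conj (orbFun σ ν x)) := by
      calc (3 * (A : ℂ)) * (3 * (A : ℂ)) * ∑ χ ∈ Bf, (v μ χ : ℂ) * (v ν χ : ℂ)
          = ∑ χ ∈ Bf, (∑ x, orbFun σ μ x * conj ((χ : G → ℂ) x)) *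
              conj (∑ y, orbFun σ ν y * conj ((χ : G → ℂ) y)) := by
            rw [Finset.mul_sum]
            refine Finset.sum_congr rfl fun χ _ => ?_
            simp only [hc, map_mul, map_ofNat, map_natCast, map_intCast]
            ring
        _ = ∑ x, orbFun σ μ x * (∑ y, conj (orbFun σ ν y) *
              blockPair (principalBlock M G) (y : G) (x : G)) := by
            simp only [map_sum, map_mul, Complex.conj_conj, Finset.sum_mul_sum]
            rw [Finset.sum_comm]
            refine Finset.sum_congr rfl fun x _ => ?_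
            rw [Finset.sum_comm, Finset.mul_sum]
            refine Finset.sum_congr rfl fun y _ => ?_
            unfold blockPair
            rw [Finset.mul_sum, Finset.mul_sum]
            refine Finset.sum_congr (by ext; simp [hBf]) fun χ _ => ?_
            ring
        _ = (3 * (A : ℂ)) * (∑ x, orbFun σ μ x * conj (orbFun σ ν x)) := by
            rw [Finset.mul_sum]
            refine Finset.sum_congr rfl fun x _ => ?_
            by_cases hx : x = 1
            · rw [hx, orbFun_one hP]; ring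
            · rw [pair_orbit hP hM hx (fun y => conj (orbFun σ ν y))
                ⟨congrArg conj (orbFun_twist_invariant hP ν x).1,
                  congrArg conj (orbFun_twist_invariant hP ν x).2⟩]
              ring
    rw [mul_assoc, sum_orbFun_mul hP hμ hν] at h
    have h3A : (3 : ℂ) * (A : ℂ) ≠ 0 := mul_ne_zero (by norm_num) hA0
    have h' := mul_left_cancel₀ h3A h
    have h'' : ((∑ χ ∈ Bf, v μ χ * v ν χ : ℤ) : ℂ) =
        ((3 + if ν = μ ∨ ν = twist σ μ ∨ ν = twist σ (twist σ μ) then 1 else 0 : ℤ) : ℂ) := by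
      refine mul_left_cancel₀ h3A ?_
      push_cast
      refine h'.trans ?_
      split_ifs <;> push_cast <;> ring
    exact_mod_cast h''
  have hv1 : ∀ μ, μ ≠ one → v μ (principal G) = 1 := by
    intro μ hμ
    have h1 := hsumone (principal G)
    have h2 := hsum (principal G) μ
    have e1 : ∀ x : ↥(P : Subgroup G), conj ((principal G : G → ℂ) x) = 1 := fun x => map_one _
    simp only [e1, Finset.sum_const, Finset.card_univ, nsmul_eq_mul, mul_one,
      ← Nat.card_eq_fintype_card] at h1 h2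
    have h3 := orth hP μ one
    rw [if_neg hμ] at h3
    have e2 : ∀ x : ↥(P : Subgroup G), conj ((one : ↥(P : Subgroup G) → ℂ) x) = 1 :=
      fun x => map_one _
    simp only [e2, mul_one] at h3
    rw [h3] at h2
    have hn1 : n (principal G) one = 1 := by
      have : (A : ℂ) * 1 = (A : ℂ) * (n (principal G) one : ℂ) := by rw [mul_one]; exact h1
      exact_mod_cast (mul_left_cancel₀ hA0 this).symm
    have hn0 : n (principal G) μ = 0 := by
      have := (mul_eq_zero.1 h2.symm).resolve_left hA0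
      exact_mod_cast this
    simp [hv, hn1, hn0]
  set B' := Bf.erase (principal G) with hB'
  have hgram' : ∀ μ ν : IrrCharacter ↥(P : Subgroup G), μ ≠ one → ν ≠ one →
      ∑ χ ∈ B', v μ χ * v ν χ =
        2 + if ν = μ ∨ ν = twist σ μ ∨ ν = twist σ (twist σ μ) then 1 else 0 := by
    intro μ ν hμ hν
    have h := hgram μ ν hμ hν
    rw [← Finset.add_sum_erase Bf _ hpr, hv1 μ hμ, hv1 ν hν] at h
    linarith
  -- supports
  set S : IrrCharacter ↥(P : Subgroup G) → Finset (IrrCharacter G) :=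
    fun μ => B'.filter fun χ => v μ χ ≠ 0 with hS
  have hS3 : ∀ μ, μ ≠ one → (S μ).card = 3 ∧ ∀ χ ∈ S μ, v μ χ = 1 ∨ v μ χ = -1 := by
    intro μ hμ
    have h := hgram' μ μ hμ hμ
    rw [if_pos (Or.inl rfl)] at h
    have hle : ∀ χ ∈ S μ, v μ χ * v μ χ ≤ 3 := fun χ hχ =>
      le_trans (Finset.single_le_sum (fun y _ => mul_self_nonneg (v μ y)) (Finset.mem_filter.1 hχ).1)
        h.le
    have hpm : ∀ χ ∈ S μ, v μ χ = 1 ∨ v μ χ = -1 := by
      intro χ hχ
      have h1 := hle χ hχ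
      have h2 := (Finset.mem_filter.1 hχ).2
      have h3 : -2 < v μ χ ∧ v μ χ < 2 := ⟨by nlinarith, by nlinarith⟩
      omega
    refine ⟨?_, hpm⟩
    have h' : ∑ χ ∈ S μ, v μ χ * v μ χ = 3 := by
      rw [show (S μ) = B'.filter fun χ => v μ χ ≠ 0 from rfl,
        Finset.sum_filter_of_ne fun χ _ hne => left_ne_zero_of_mul hne, h]
      norm_num
    rw [Finset.sum_congr rfl (fun χ hχ => by rcases hpm χ hχ with e | e <;> rw [e] <;> norm_num :
      ∀ χ ∈ S μ, v μ χ * v μ χ = 1), Finset.sum_const, nsmul_eq_mul, mul_one] at h'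
    exact_mod_cast h'
  have hmeet : ∀ μ ν, μ ≠ one → ν ≠ one →
      ¬ (ν = μ ∨ ν = twist σ μ ∨ ν = twist σ (twist σ μ)) →
      (S μ ∩ S ν).card = 2 ∧ ∀ χ ∈ S μ ∩ S ν, v μ χ = v ν χ := by
    intro μ ν hμ hν hor
    have h := hgram' μ ν hμ hν
    rw [if_neg hor] at h
    have h' : ∑ χ ∈ S μ ∩ S ν, v μ χ * v ν χ = 2 := by
      rw [← add_zero (2 : ℤ), ← h]
      refine Finset.sum_subset (fun χ hχ => (Finset.mem_filter.1 (Finset.mem_inter.1 hχ).1).1)
        fun χ hχ hn => ?_
      by_contra hne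
      exact hn (Finset.mem_inter.2 ⟨Finset.mem_filter.2 ⟨hχ, left_ne_zero_of_mul hne⟩,
        Finset.mem_filter.2 ⟨hχ, right_ne_zero_of_mul hne⟩⟩)
    set U := S μ ∩ S ν with hU
    have hpm : ∀ χ ∈ U, v μ χ * v ν χ =
        1 - 2 * (if v μ χ = v ν χ then (0 : ℤ) else 1) := by
      intro χ hχ
      rcases (hS3 μ hμ).2 χ (Finset.mem_inter.1 hχ).1 with e | e <;>
        rcases (hS3 ν hν).2 χ (Finset.mem_inter.1 hχ).2 with e' | e' <;> rw [e, e'] <;> norm_num
    rw [Finset.sum_congr rfl hpm, Finset.sum_sub_distrib, Finset.sum_const, nsmul_eq_mul, mul_one,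
      ← Finset.mul_sum] at h'
    have hUle : U.card ≤ 3 := (hS3 μ hμ).1 ▸ Finset.card_le_card Finset.inter_subset_left
    have hle : (0 : ℤ) ≤ ∑ χ ∈ U, (if v μ χ = v ν χ then (0 : ℤ) else 1) :=
      Finset.sum_nonneg fun χ _ => by split_ifs <;> norm_num
    refine ⟨by omega, fun χ hχ => ?_⟩
    by_contra hne
    have := Finset.single_le_sum (f := fun χ => if v μ χ = v ν χ then (0 : ℤ) else 1)
      (fun y _ => by split_ifs <;> norm_num) hχ
    simp only [if_neg hne] at this
    omega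
  -- the count of orbits
  set L := (Finset.univ : Finset (IrrCharacter ↥(P : Subgroup G))).erase one with hL
  have hLcard : 15 ≤ L.card := by
    have h := sum_sq_degree (G := ↥(P : Subgroup G))
    simp only [lin_one hP, one_pow, Finset.sum_const, nsmul_eq_mul, mul_one, Finset.card_univ] at h
    have h' : Fintype.card (IrrCharacter ↥(P : Subgroup G)) = A := by exact_mod_cast h
    have h16 : 16 ≤ A := Nat.le_of_dvd Nat.card_pos hP.large
    rw [hL, Finset.card_erase_of_mem (Finset.mem_univ _), Finset.card_univ, h']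
    omega
  have himg : 5 ≤ (L.image S).card := by
    have := Finset.card_le_mul_card_image (f := S) L 3 fun s hs => by
      obtain ⟨μ, hμ, rfl⟩ := Finset.mem_image.1 hs
      refine le_trans (Finset.card_le_card (t := {μ, twist σ μ, twist σ (twist σ μ)}) fun ν hν => ?_)
        Finset.card_le_three
      obtain ⟨hν, hSe⟩ := Finset.mem_filter.1 hν
      by_contra hor
      simp only [Finset.mem_insert, Finset.mem_singleton] at hor
      have h1 := (hmeet μ ν (Finset.mem_erase.1 hμ).1 (Finset.mem_erase.1 hν).1 hor).1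
      rw [hSe, Finset.inter_self, (hS3 μ (Finset.mem_erase.1 hμ).1).1] at h1
      omega
    omega
  -- a character trivial on the involutions
  obtain ⟨y₀, hy₀⟩ := hP.not_elementary
  obtain ⟨μ₁, hμ₁⟩ : ∃ μ : IrrCharacter ↥(P : Subgroup G),
      (μ : ↥(P : Subgroup G) → ℂ) (y₀ * y₀) ≠ 1 := by
    by_contra hno
    push Not at hno
    have h := column_orth_of_not_isConj (g := y₀ * y₀) (h := (1 : ↥(P : Subgroup G)))
      fun hc => hy₀ (isConj_one_left.1 hc)
    simp only [hno, lin_one hP, map_one, mul_one, Finset.sum_const, nsmul_eq_mul,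
      Nat.cast_eq_zero] at h
    exact (Finset.card_pos.2 ⟨one, Finset.mem_univ one⟩).ne' h
  set μ₀ : IrrCharacter ↥(P : Subgroup G) :=
    ⟨_, isIrrCharacter_linear (MonoidHom.toHomUnits
      ({ toFun := fun x => (μ₁ : ↥(P : Subgroup G) → ℂ) (x * x)
         map_one' := by rw [mul_one, lin_one hP]
         map_mul' := fun x y => by
          rw [← lin_mul hP]
          congr 1
          rw [mul_assoc, ← mul_assoc y x y, hP.comm y x]
          simp only [mul_assoc] } : ↥(P : Subgroup G) →* ℂ))⟩ with hμ₀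
  have hμ₀v : ∀ x, (μ₀ : ↥(P : Subgroup G) → ℂ) x = (μ₁ : ↥(P : Subgroup G) → ℂ) (x * x) :=
    fun x => rfl
  have hμ₀ne : μ₀ ≠ one := fun e => hμ₁ (by
    rw [← hμ₀v, e]
    rfl)
  -- the two common constituents
  have hSmem : ∀ μ, μ ∈ L ↔ μ ≠ one := fun μ => by simp [hL]
  obtain ⟨μa, hμa, hor_a⟩ : ∃ μ, μ ≠ one ∧
      ¬ (μ = μ₀ ∨ μ = twist σ μ₀ ∨ μ = twist σ (twist σ μ₀)) := by
    by_contra hno
    push Not at hno
    have : L ⊆ {μ₀, twist σ μ₀, twist σ (twist σ μ₀)} := fun μ hμ => by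
      simp only [Finset.mem_insert, Finset.mem_singleton]
      have := hno μ ((hSmem μ).1 hμ)
      tauto
    have := (Finset.card_le_card this).trans Finset.card_le_three
    omega
  obtain ⟨hK2, hKsign⟩ := hmeet μ₀ μa hμ₀ne hμa hor_a
  set K := S μ₀ ∩ S μa with hK
  set U := S μ₀ ∪ S μa with hU
  have hU4 : U.card = 4 := by
    have := Finset.card_union_add_card_inter (S μ₀) (S μa)
    rw [← hU, ← hK, hK2, (hS3 μ₀ hμ₀ne).1, (hS3 μa hμa).1] at this
    omega
  have hdich : ∀ μ, μ ≠ one → K ⊆ S μ ∨ ∃ k ∈ K, S μ = U.erase k := by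
    intro μ hμ
    by_cases hsub : K ⊆ S μ
    · exact Or.inl hsub
    obtain ⟨k, hkK, hk⟩ := Finset.not_subset.1 hsub
    have hk1 := (Finset.mem_inter.1 hkK).1
    have hk2 := (Finset.mem_inter.1 hkK).2
    have a1 : ∀ {ν}, ν ≠ one → k ∈ S ν → (S ν).erase k ⊆ S μ := by
      intro ν hν hkν
      by_cases hor : μ = ν ∨ μ = twist σ ν ∨ μ = twist σ (twist σ ν)
      · exfalso
        refine hk ?_
        have : S μ = S ν := by
          rcases hor with rfl | rfl | rfl <;>
            simp only [hS, hvtw]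
        rwa [this]
      · have h1 := (hmeet ν μ hν hμ hor).1
        have h2 : S ν ∩ S μ = (S ν).erase k := by
          refine Finset.eq_of_subset_of_card_le (fun x hx => Finset.mem_erase.2
            ⟨fun e => hk (e ▸ (Finset.mem_inter.1 hx).2), (Finset.mem_inter.1 hx).1⟩) ?_
          rw [h1, Finset.card_erase_of_mem hkν, (hS3 ν hν).1]
        rw [← h2]
        exact Finset.inter_subset_right
    refine Or.inr ⟨k, hkK, (Finset.eq_of_subset_of_card_le (fun x hx => ?_) ?_).symm⟩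
    · obtain ⟨hxk, hxU⟩ := Finset.mem_erase.1 hx
      rcases Finset.mem_union.1 hxU with h | h
      · exact a1 hμ₀ne hk1 (Finset.mem_erase.2 ⟨hxk, h⟩)
      · exact a1 hμa hk2 (Finset.mem_erase.2 ⟨hxk, h⟩)
    · rw [(hS3 μ hμ).1, Finset.card_erase_of_mem (Finset.mem_union_left _ hk1), hU4]
  obtain ⟨μw, hμw, w, hwS, hwU⟩ : ∃ μ, μ ≠ one ∧ ∃ w ∈ S μ, w ∉ U := by
    by_contra hno
    push Not at hno
    have hsub : L.image S ⊆ U.powersetCard 3 := fun s hs => by
      obtain ⟨μ, hμ, rfl⟩ := Finset.mem_image.1 hs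
      exact Finset.mem_powersetCard.2 ⟨hno μ ((hSmem μ).1 hμ), (hS3 μ ((hSmem μ).1 hμ)).1⟩
    have := Finset.card_le_card hsub
    rw [Finset.card_powersetCard, hU4] at this
    have e : Nat.choose 4 3 = 4 := rfl
    omega
  have hKw : K ⊆ S μw := by
    rcases hdich μw hμw with h | ⟨k, -, h⟩
    · exact h
    · exact absurd (Finset.mem_erase.1 (h ▸ hwS)).2 hwU
  have hKall : ∀ μ, μ ≠ one → K ⊆ S μ := by
    intro μ hμ
    rcases hdich μ hμ with h | ⟨k, hkK, h⟩
    · exact h
    exfalso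
    have hne : ¬ (μ = μw ∨ μ = twist σ μw ∨ μ = twist σ (twist σ μw)) := by
      intro hor
      have : S μ = S μw := by
        rcases hor with rfl | rfl | rfl <;> simp only [hS, hvtw]
      exact hwU (Finset.mem_erase.1 (h ▸ this ▸ hwS)).2
    have h1 := (hmeet μw μ hμw hμ hne).1
    have h2 : S μw ∩ S μ ⊆ K.erase k := by
      intro x hx
      obtain ⟨hxw, hxμ⟩ := Finset.mem_inter.1 hx
      rw [h] at hxμ
      obtain ⟨hxk, hxU⟩ := Finset.mem_erase.1 hxμ
      refine Finset.mem_erase.2 ⟨hxk, ?_⟩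
      by_contra hxK
      have : insert x K ⊆ (S μw).erase w := by
        intro y hy
        rcases Finset.mem_insert.1 hy with rfl | hy
        · exact Finset.mem_erase.2 ⟨fun e => hwU (e ▸ hxU), hxw⟩
        · exact Finset.mem_erase.2 ⟨fun e => hwU (e ▸ Finset.mem_union_left _
            (Finset.mem_inter.1 hy).1), hKw hy⟩
      have := Finset.card_le_card this
      rw [Finset.card_insert_of_notMem hxK, hK2, Finset.card_erase_of_mem hwS, (hS3 μw hμw).1]
        at this
      omega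
    have := Finset.card_le_card h2
    rw [h1, Finset.card_erase_of_mem hkK, hK2] at this
    omega
  obtain ⟨χa, χb, hab, hKeq⟩ := Finset.card_eq_two.1 hK2
  have haK : χa ∈ K := by rw [hKeq]; simp
  have hbK : χb ∈ K := by rw [hKeq]; simp
  obtain ⟨χd, hd⟩ : ∃ χd, χd ∈ S μ₀ \ K := Finset.card_pos.1 (by
    rw [Finset.card_sdiff_of_subset Finset.inter_subset_left, (hS3 μ₀ hμ₀ne).1, hK2]
    norm_num)
  obtain ⟨hdS, hdK⟩ := Finset.mem_sdiff.1 hd
  have hconst : ∀ χ ∈ K, ∀ μ, μ ≠ one → v μ χ = v μ₀ χ := by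
    intro χ hχ μ hμ
    by_cases hor : μ = μ₀ ∨ μ = twist σ μ₀ ∨ μ = twist σ (twist σ μ₀)
    · rcases hor with rfl | rfl | rfl <;> simp only [hvtw]
    · exact ((hmeet μ₀ μ hμ₀ne hμ hor).2 χ
        (Finset.mem_inter.2 ⟨(Finset.mem_inter.1 hχ).1, hKall μ hμ hχ⟩)).symm
  have hindiv : ∀ μ, μ ≠ one → ¬ (μ = μ₀ ∨ μ = twist σ μ₀ ∨ μ = twist σ (twist σ μ₀)) →
      v μ χd = 0 := by
    intro μ hμ hor
    by_contra hne
    have hdμ : χd ∈ S μ := Finset.mem_filter.2 ⟨(Finset.mem_filter.1 hdS).1, hne⟩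
    have : insert χd K ⊆ S μ₀ ∩ S μ := fun y hy => by
      rcases Finset.mem_insert.1 hy with rfl | hy
      · exact Finset.mem_inter.2 ⟨hdS, hdμ⟩
      · exact Finset.mem_inter.2 ⟨(Finset.mem_inter.1 hy).1, hKall μ hμ hy⟩
    have := Finset.card_le_card this
    rw [Finset.card_insert_of_notMem hdK, hK2, (hmeet μ₀ μ hμ₀ne hμ hor).1] at this
    omega
  -- values
  have hvone : ∀ χ, v one χ = 0 := fun χ => sub_self _
  have hexp : ∀ (χ : IrrCharacter G) (x : ↥(P : Subgroup G)), (χ : G → ℂ) x =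
      (n χ one : ℂ) * (if x = 1 then (A : ℂ) else 0) -
        ∑ μ : IrrCharacter ↥(P : Subgroup G), (v μ χ : ℂ) * (μ : ↥(P : Subgroup G) → ℂ) x := by
    intro χ x
    have hres := IsCharacter.restrict (irr_isCharacter χ) (P : Subgroup G)
    have h := congrFun (classFunction_eq_sum (IsCharacter.isClassFunction hres)) x
    simp only [Finset.sum_apply, Pi.smul_apply, smul_eq_mul] at h
    rw [h]
    have hcol : ∑ μ : IrrCharacter ↥(P : Subgroup G), (μ : ↥(P : Subgroup G) → ℂ) x =
        if x = 1 then (A : ℂ) else 0 := by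
      by_cases hx : x = 1
      · rw [if_pos hx, hx]
        have h' := sum_sq_degree (G := ↥(P : Subgroup G))
        simp only [lin_one hP, one_pow] at h' ⊢
        exact h'
      · rw [if_neg hx]
        have h' := column_orth_of_not_isConj (g := x) (h := (1 : ↥(P : Subgroup G)))
          fun hc => hx (isConj_one_left.1 hc)
        simpa [lin_one hP] using h'
    rw [← hcol, Finset.mul_sum, ← Finset.sum_sub_distrib]
    refine Finset.sum_congr rfl fun μ _ => ?_
    rw [classInner_comm_of_isCharacter hres (irr_isCharacter μ), hn, hv]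
    push_cast
    ring
  obtain ⟨t, ht2, ht1⟩ := hP.invol
  have hA16 : (16 : ℤ) ∣ (A : ℤ) := by exact_mod_cast hP.large
  have hcore : ∀ χ ∈ K, (∀ x : ↥(P : Subgroup G), x ≠ 1 → (χ : G → ℂ) x = (v μ₀ χ : ℂ)) ∧
      (16 : ℤ) ∣ (charDegree (χ : G → ℂ) : ℤ) - v μ₀ χ := by
    intro χ hχ
    have hs : ∀ x : ↥(P : Subgroup G),
        ∑ μ : IrrCharacter ↥(P : Subgroup G), (v μ χ : ℂ) * (μ : ↥(P : Subgroup G) → ℂ) x =
          (v μ₀ χ : ℂ) * ((if x = 1 then (A : ℂ) else 0) - 1) := by
      intro x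
      rw [← Finset.add_sum_erase _ _ (Finset.mem_univ one), hvone, Int.cast_zero, zero_mul,
        zero_add, Finset.sum_congr rfl (fun μ hμ => by rw [hconst χ hχ μ (Finset.mem_erase.1 hμ).1]),
        ← Finset.mul_sum]
      congr 1
      rw [Finset.sum_erase_eq_sub (Finset.mem_univ one)]
      congr 1
      by_cases hx : x = 1
      · rw [if_pos hx, hx]
        have h' := sum_sq_degree (G := ↥(P : Subgroup G))
        simp only [lin_one hP, one_pow] at h' ⊢
        exact h'
      · rw [if_neg hx]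
        have h' := column_orth_of_not_isConj (g := x) (h := (1 : ↥(P : Subgroup G)))
          fun hc => hx (isConj_one_left.1 hc)
        simpa [lin_one hP] using h'
    refine ⟨fun x hx => by rw [hexp, hs, if_neg hx]; ring, ?_⟩
    have h := hexp χ 1
    rw [hs, if_pos rfl, OneMemClass.coe_one, irr_one_eq_charDegree] at h
    have h' : (charDegree (χ : G → ℂ) : ℤ) = (n χ one : ℤ) * A - v μ₀ χ * ((A : ℤ) - 1) := by
      exact_mod_cast h
    rw [h', show (n χ one : ℤ) * A - v μ₀ χ * ((A : ℤ) - 1) - v μ₀ χ =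
      (A : ℤ) * ((n χ one : ℤ) - v μ₀ χ) by ring]
    exact hA16.mul_right _
  set ev := v μ₀ χd with hev
  have hdval : (χd : G → ℂ) t = -3 * (ev : ℂ) ∧
      (16 : ℤ) ∣ (charDegree (χd : G → ℂ) : ℤ) + 3 * ev := by
    obtain ⟨d1, d2, d3⟩ := twist_ne hP hμ₀ne
    have hs : ∀ x : ↥(P : Subgroup G),
        ∑ μ : IrrCharacter ↥(P : Subgroup G), (v μ χd : ℂ) * (μ : ↥(P : Subgroup G) → ℂ) x =
          (ev : ℂ) * (3 - orbFun σ μ₀ x) := by
      intro x
      rw [← Finset.sum_subset (Finset.subset_univ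
        ({μ₀, twist σ μ₀, twist σ (twist σ μ₀)} : Finset (IrrCharacter ↥(P : Subgroup G))))
        (fun μ _ hμ => by
          simp only [Finset.mem_insert, Finset.mem_singleton] at hμ
          by_cases h : μ = one
          · rw [h, hvone]; simp
          · rw [hindiv μ h hμ]; simp),
        Finset.sum_insert (by simp [d1.symm, d2.symm]), Finset.sum_pair d3.symm]
      simp only [hvtw, orbFun]
      ring
    refine ⟨?_, ?_⟩
    · rw [hexp, hs, if_neg ht1]
      have e : ∀ x : ↥(P : Subgroup G), x * x = 1 → (μ₀ : ↥(P : Subgroup G) → ℂ) x = 1 := fun x hx => by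
        rw [hμ₀v, hx, lin_one hP]
      simp only [orbFun, twist_apply, e t ht2, e (σ t) (by rw [← map_mul, ht2, map_one]),
        e (σ (σ t)) (by rw [← map_mul, ← map_mul, ht2, map_one, map_one])]
      ring
    · have h := hexp χd 1
      rw [hs, orbFun_one hP, if_pos rfl, OneMemClass.coe_one, irr_one_eq_charDegree] at h
      have h' : (charDegree (χd : G → ℂ) : ℤ) = (n χd one : ℤ) * A - ev * 3 := by
        rw [sub_zero] at h
        exact_mod_cast h
      rw [h', show (n χd one : ℤ) * A - ev * 3 + 3 * ev = (A : ℤ) * n χd one by ring]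
      exact hA16.mul_right _
  -- the two relations
  have hS0 : S μ₀ = {χa, χb, χd} := by
    refine (Finset.eq_of_subset_of_card_le ?_ ?_).symm
    · intro y hy
      simp only [Finset.mem_insert, Finset.mem_singleton] at hy
      rcases hy with rfl | rfl | rfl
      · exact (Finset.mem_inter.1 haK).1
      · exact (Finset.mem_inter.1 hbK).1
      · exact hdS
    · have h1 : χd ≠ χa := fun e => hdK (e ▸ haK)
      have h2 : χd ≠ χb := fun e => hdK (e ▸ hbK)
      rw [(hS3 μ₀ hμ₀ne).1, Finset.card_insert_of_notMem (by simp [hab, h1.symm]),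
        Finset.card_pair h2.symm]
  have hfour : ∀ F : IrrCharacter G → ℂ, ∑ χ ∈ Bf, (v μ₀ χ : ℂ) * F χ =
      F (principal G) + (v μ₀ χa : ℂ) * F χa + (v μ₀ χb : ℂ) * F χb + (ev : ℂ) * F χd := by
    intro F
    have h1 : χd ≠ χa := fun e => hdK (e ▸ haK)
    have h2 : χd ≠ χb := fun e => hdK (e ▸ hbK)
    rw [← Finset.add_sum_erase Bf _ hpr, hv1 μ₀ hμ₀ne, ← hB',
      ← Finset.sum_filter_of_ne (s := B') (p := fun χ => v μ₀ χ ≠ 0)
        (fun χ _ hne => fun h0 => hne (by rw [h0, Int.cast_zero, zero_mul])),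
      show B'.filter (fun χ => v μ₀ χ ≠ 0) = {χa, χb, χd} from hS0,
      Finset.sum_insert (by simp [hab, h1.symm]), Finset.sum_pair h2.symm]
    simp only [Int.cast_one, one_mul, hev]
    ring
  have hdeg : ∑ χ ∈ Bf, (v μ₀ χ : ℂ) * (χ : G → ℂ) 1 = 0 := by
    have h := hpairsum μ₀ 1
    rw [Finset.sum_eq_zero (s := (Finset.univ : Finset ↥(P : Subgroup G))) (fun x _ => ?_)] at h
    · exact (mul_eq_zero.1 h).resolve_left (mul_ne_zero (by norm_num) hA0)
    · by_cases hx : x = 1
      · rw [hx, orbFun_one hP, zero_mul]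
      · rw [blockPair_regular_singular hM (isPBlock_principalBlock M G) (by simp) ?_, mul_zero]
        obtain ⟨k, hk⟩ := IsPGroup.iff_orderOf.1 P.2 x
        rw [Subgroup.orderOf_coe, hk]
        rcases Nat.eq_zero_or_pos k with rfl | hk0
        · exact absurd (orderOf_eq_one_iff.1 (by simpa using hk)) hx
        · exact dvd_pow_self 2 hk0.ne'
  set I := classFinset (t : G) with hI
  have hvanish : ∀ a ∈ I, ∀ b ∈ I, ∑ χ ∈ Bf, (v μ₀ χ : ℂ) * (χ : G → ℂ) (a * b) = 0 := by
    intro a ha b hb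
    have h := hpairsum μ₀ (a * b)
    rw [Finset.sum_eq_zero (s := (Finset.univ : Finset ↥(P : Subgroup G))) (fun x _ => ?_)] at h
    · exact (mul_eq_zero.1 h).resolve_left (mul_ne_zero (by norm_num) hA0)
    by_cases hx2 : x * x = 1
    · have e : ∀ x : ↥(P : Subgroup G), x * x = 1 → (μ₀ : ↥(P : Subgroup G) → ℂ) x = 1 := fun x hx => by
        rw [hμ₀v, hx, lin_one hP]
      have h0 : orbFun σ μ₀ x = 0 := by
        simp only [orbFun, twist_apply, e x hx2, e (σ x) (by rw [← map_mul, hx2, map_one]),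
          e (σ (σ x)) (by rw [← map_mul, ← map_mul, hx2, map_one, map_one])]
        ring
      rw [h0, zero_mul]
    · refine mul_eq_zero_of_right _ ?_
      obtain ⟨y, hy⟩ := exists_isPPart Nat.prime_two (a * b)
      obtain ⟨k, hk⟩ := IsPGroup.iff_orderOf.1 P.2 x
      refine blockPair_eq_zero_of_pPart hM (isPBlock_principalBlock M G) hy
        (y := (x : G)) ⟨1, mul_one _, Commute.one_right _,
          ⟨k, by rw [Subgroup.orderOf_coe]; exact hk⟩, by simp⟩ fun hc => ?_
      have hsq : ∀ c ∈ I, c * c = 1 := by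
        intro c hc'
        obtain ⟨d, rfl⟩ := isConj_iff.1 (mem_classFinset.1 hc')
        have htt : (t : G) * (t : G) = 1 := by rw [← Subgroup.coe_mul, ht2, OneMemClass.coe_one]
        calc d * (t : G) * d⁻¹ * (d * (t : G) * d⁻¹) = d * ((t : G) * t) * d⁻¹ := by group
          _ = 1 := by rw [htt, mul_one, mul_inv_cancel]
      have hainv : a⁻¹ = a := inv_eq_of_mul_eq_one_right (hsq a ha)
      have hbinv : b⁻¹ = b := inv_eq_of_mul_eq_one_right (hsq b hb)
      have e1 : a * (a * b) * a⁻¹ = (a * b)⁻¹ := by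
        rw [← mul_assoc, hsq a ha, one_mul, mul_inv_rev, hbinv, hainv]
      have h1 := IsPPart.conj hy a
      rw [e1] at h1
      have h2 := isPPart_unique Nat.prime_two h1 (IsPPart.inv hy)
      have hreal : IsConj (x : G) ((x⁻¹ : ↥(P : Subgroup G)) : G) := by
        rw [Subgroup.coe_inv]
        refine (hc.symm.trans (isConj_iff.2 ⟨a, h2⟩)).trans ?_
        obtain ⟨c, hc'⟩ := isConj_iff.1 hc
        exact isConj_iff.2 ⟨c, by rw [← hc']; group⟩
      have key : σ x ≠ x⁻¹ := fun e => by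
        have e2 : σ (σ x) = x := by rw [e, map_inv, e, inv_inv]
        have e3 : σ x = x := by
          have := congrArg σ e2
          rw [hP.cube] at this
          exact this.symm
        exact hx2 (by rw [hP.fpf x e3, one_mul])
      rcases hP.fusion x x⁻¹ hreal with e | e | e
      · exact hx2 (mul_eq_one_iff_inv_eq.2 e)
      · exact key e.symm
      · refine key ?_
        have := congrArg σ e
        rw [hP.cube, map_inv, inv_eq_iff_eq_inv] at this
        exact this
  have hscal : ∀ χ : IrrCharacter G, ∑ a ∈ I, ∑ b ∈ I, (χ : G → ℂ) (a * b) =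
      (I.card : ℂ) ^ 2 * ((χ : G → ℂ) t ^ 2 / (χ : G → ℂ) 1) := by
    intro χ
    have hx : IsClassElt (classSum ℂ (t : G)) := isClassElt_classSum _
    have hsum' : classSum ℂ (t : G) = ∑ a ∈ I, MonoidAlgebra.single a (1 : ℂ) := by
      refine gaExt fun y => ?_
      rw [coeff_classSum, MonoidAlgebra.coeff_sum, Finset.sum_apply']
      simp only [MonoidAlgebra.coeff_single, Finsupp.single_apply, Finset.sum_ite_eq', hI,
        mem_classFinset]
    have hom : ∀ g : G, omega χ (MonoidAlgebra.single g (1 : ℂ)) = (χ : G → ℂ) g / (χ : G → ℂ) 1 := by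
      intro g
      simp [omega, Finsupp.single_apply]
    have h2 := omega_mul χ hx hx
    rw [omega_classSum, centralChar, ← card_classFinset, ← hI] at h2
    rw [hsum', Finset.sum_mul, omega_sum] at h2
    simp only [Finset.mul_sum, omega_sum, MonoidAlgebra.single_mul_single, mul_one, hom,
      ← Finset.sum_div] at h2
    rw [div_eq_iff (irr_one_ne_zero χ)] at h2
    rw [h2]
    field_simp [irr_one_ne_zero χ]
  have hclass : ∑ χ ∈ Bf, (v μ₀ χ : ℂ) * ((χ : G → ℂ) t ^ 2 / (χ : G → ℂ) 1) = 0 := by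
    have h0 : ∑ a ∈ I, ∑ b ∈ I, ∑ χ ∈ Bf, (v μ₀ χ : ℂ) * (χ : G → ℂ) (a * b) = 0 :=
      Finset.sum_eq_zero fun a ha => Finset.sum_eq_zero fun b hb => hvanish a ha b hb
    rw [Finset.sum_congr rfl (fun a _ => Finset.sum_comm), Finset.sum_comm] at h0
    simp only [← Finset.mul_sum, hscal, mul_left_comm _ ((I.card : ℂ) ^ 2), ← Finset.mul_sum] at h0
    refine (mul_eq_zero.1 h0).resolve_left (pow_ne_zero 2 (Nat.cast_ne_zero.2 ?_))
    exact Finset.card_ne_zero.2 ⟨_, mem_classFinset.2 (IsConj.refl _)⟩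
  rw [hfour] at hdeg hclass
  obtain ⟨hva, hmoda⟩ := hcore χa haK
  obtain ⟨hvb, hmodb⟩ := hcore χb hbK
  obtain ⟨hvd, hmodd⟩ := hdval
  have hp1 : ∀ g : G, (principal G : G → ℂ) g = 1 := fun g => rfl
  rw [hp1, irr_one_eq_charDegree, irr_one_eq_charDegree, irr_one_eq_charDegree] at hdeg
  rw [hp1, hp1, hva t ht1, hvb t ht1, hvd, irr_one_eq_charDegree, irr_one_eq_charDegree,
    irr_one_eq_charDegree] at hclass
  set ea := v μ₀ χa with hea
  set eb := v μ₀ χb with heb
  have ka : ea = 1 ∨ ea = -1 := (hS3 μ₀ hμ₀ne).2 χa (Finset.mem_inter.1 haK).1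
  have kb : eb = 1 ∨ eb = -1 := (hS3 μ₀ hμ₀ne).2 χb (Finset.mem_inter.1 hbK).1
  have kd : ev = 1 ∨ ev = -1 := (hS3 μ₀ hμ₀ne).2 χd hdS
  set da := charDegree (χa : G → ℂ) with hda
  set db := charDegree (χb : G → ℂ) with hdb
  set dd := charDegree (χd : G → ℂ) with hdd
  have hfinal : ea * da = 1 ∨ eb * db = 1 := by
    refine int_cases (c := -(ev * dd)) ?_ ?_ ?_ ?_ ?_
    · rcases ka with e | e <;> rw [e] at hmoda ⊢ <;> omega
    · rcases kb with e | e <;> rw [e] at hmodb ⊢ <;> omega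
    · rcases kd with e | e <;> rw [e] at hmodd ⊢ <;> omega
    · have h' : (1 + ea * da + eb * db + ev * dd : ℤ) = 0 := by exact_mod_cast hdeg
      linarith
    · have h' : (1 + (ea : ℚ) * ((ea : ℚ) ^ 2 / da) + (eb : ℚ) * ((eb : ℚ) ^ 2 / db) +
          (ev : ℚ) * ((-3 * (ev : ℚ)) ^ 2 / dd)) = 0 := by
        have h'' : ((1 + (ea : ℚ) * ((ea : ℚ) ^ 2 / da) + (eb : ℚ) * ((eb : ℚ) ^ 2 / db) +
            (ev : ℚ) * ((-3 * (ev : ℚ)) ^ 2 / dd) : ℚ) : ℂ) = ((0 : ℚ) : ℂ) := by
          push_cast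
          rw [← hclass]
          ring
        exact_mod_cast h''
      rcases ka with e | e <;> rcases kb with e' | e' <;> rcases kd with e'' | e'' <;>
        rw [e, e', e''] at h' ⊢ <;> push_cast at h' ⊢ <;> field_simp at h' ⊢ <;> linarith
  have fin : ∀ χ ∈ K, v μ₀ χ * (charDegree (χ : G → ℂ) : ℤ) = 1 →
      ∃ χ : IrrCharacter G, χ ≠ principal G ∧ (χ : G → ℂ) 1 = 1 ∧
        ∀ x ∈ (P : Subgroup G), (χ : G → ℂ) x = 1 := by
    intro χ hχ h
    have hS' := (Finset.mem_inter.1 hχ).1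
    have he : v μ₀ χ = 1 ∧ charDegree (χ : G → ℂ) = 1 := by
      rcases (hS3 μ₀ hμ₀ne).2 χ hS' with e | e <;> rw [e] at h ⊢ <;> omega
    have h1 : (χ : G → ℂ) 1 = 1 := by rw [irr_one_eq_charDegree, he.2, Nat.cast_one]
    refine ⟨χ, (Finset.mem_erase.1 (Finset.mem_filter.1 hS').1).1, h1, fun x hx => ?_⟩
    by_cases hx1 : (⟨x, hx⟩ : ↥(P : Subgroup G)) = 1
    · rw [show x = 1 from congrArg Subtype.val hx1, h1]
    · exact ((hcore χ hχ).1 ⟨x, hx⟩ hx1).trans (by rw [he.1, Int.cast_one])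
  rcases hfinal with h | h
  · exact fin χa haK h
  · exact fin χb hbK h

end Cfsg.Agent.Homocyclic
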