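import Cfsg.Agent.Lib.Transfer.Basic
import Cfsg.Agent.Lib.Transfer.Fusion
import Cfsg.Agent.Lib.Involutions.Dihedral
import Cfsg.Agent.Lib.Blocks.Section
import Mathlib.GroupTheory.SpecificGroups.KleinFour

/-!
Finite groups with a Klein four Sylow 2-subgroup and one class of involutions: centralizers of
involutions and the number of pairs of involutions with product of even order.
-/

set_option linter.style.haveILetI false

namespace Cfsg.Agent.KleinBlock

open Cfsg

/-- Sylow 2-subgroups are four-groups and all involutions are conjugate. -/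
structure Setup (G : Type*) [Group G] : Prop where
  card_sylow : ∀ P : Sylow 2 G, Nat.card (P : Subgroup G) = 4
  sq_eq_one : ∀ g : G, (∃ k : ℕ, orderOf g = 2 ^ k) → g * g = 1
  conj : ∀ s t : G, orderOf s = 2 → orderOf t = 2 → IsConj s t

/-- The odd part of a centralizer. -/
abbrev oddCore {G : Type*} [Group G] (w : G) :
    Subgroup ↥(Subgroup.centralizer ({w} : Set G)) :=
  Cfsg.pPrimeCore 2 ↥(Subgroup.centralizer ({w} : Set G))

/-- The conjugates of `t` under the centralizer of `w`. -/
def centOrbit {G : Type*} [Group G] (w t : G) : Set G :=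
  {b | ∃ y : G, Commute y w ∧ y * t * y⁻¹ = b}

variable {G : Type*} [Group G] [Finite G]

/-- Every element of two-power order lies in some Sylow subgroup. -/
theorem exists_sylow_mem {g : G} (hg : ∃ k : ℕ, orderOf g = 2 ^ k) :
    ∃ S : Sylow 2 G, g ∈ (S : Subgroup G) := by
  obtain ⟨k, hk⟩ := hg
  obtain ⟨S, hS⟩ := (IsPGroup.of_card (n := k) (by rw [Nat.card_zpowers, hk]) :
    IsPGroup 2 (Subgroup.zpowers g)).exists_le_sylow
  exact ⟨S, hS (Subgroup.mem_zpowers g)⟩

omit [Finite G] in
/-- A group of order four and exponent two gives the hypotheses on Sylow subgroups. -/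
theorem Setup.of_sylow [Finite G] (P : Sylow 2 G) (hc : Nat.card (P : Subgroup G) = 4)
    (he : ∀ x : (P : Subgroup G), x * x = 1)
    (hone : ∀ s t : G, orderOf s = 2 → orderOf t = 2 → IsConj s t) : Setup G := by
  haveI : Fact (Nat.Prime 2) := ⟨Nat.prime_two⟩
  refine ⟨fun Q => ?_, fun g hg => ?_, hone⟩
  · rw [← hc]
    exact Nat.card_congr (Q.equiv P).toEquiv
  · obtain ⟨Q, hQ⟩ := exists_sylow_mem hg
    have h := he (Q.equiv P ⟨g, hQ⟩)
    rw [← map_mul, EmbeddingLike.map_eq_one_iff] at h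
    exact congrArg Subtype.val h

/-- The hypotheses from a Klein four Sylow subgroup. -/
theorem Setup.of_klein (P : Sylow 2 G) (hP : IsKleinFour (P : Subgroup G))
    (hone : ∀ s t : G, orderOf s = 2 → orderOf t = 2 → IsConj s t) : Setup G :=
  Setup.of_sylow P hP.card_four (fun x => IsKleinFour.mul_self x) hone

variable (hS : Setup G)
include hS

theorem two_dvd_card : 2 ∣ Nat.card G := by
  obtain ⟨S⟩ : Nonempty (Sylow 2 G) := inferInstance
  exact (by norm_num : 2 ∣ 4).trans (hS.card_sylow S ▸ Subgroup.card_subgroup_dvd_card _)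

theorem exists_invol : ∃ z : G, orderOf z = 2 := by
  haveI : Fact (Nat.Prime 2) := ⟨Nat.prime_two⟩
  exact exists_prime_orderOf_dvd_card' 2 (two_dvd_card hS)

theorem factorization_two : (Nat.card G).factorization 2 = 2 := by
  haveI : Fact (Nat.Prime 2) := ⟨Nat.prime_two⟩
  obtain ⟨S⟩ : Nonempty (Sylow 2 G) := inferInstance
  have h := S.card_eq_multiplicity
  rw [hS.card_sylow S] at h
  exact (Nat.pow_right_injective le_rfl (h : 2 ^ 2 = _)).symm

theorem sylow_comm (S : Sylow 2 G) {a b : G} (ha : a ∈ (S : Subgroup G)) (hb : b ∈ (S : Subgroup G)) :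
    Commute a b := by
  haveI : Fact (Nat.Prime 2) := ⟨Nat.prime_two⟩
  have hsq : ∀ c ∈ (S : Subgroup G), c * c = 1 := fun c hc => hS.sq_eq_one c (by
    obtain ⟨k, hk⟩ := IsPGroup.iff_orderOf.1 S.isPGroup' ⟨c, hc⟩
    exact ⟨k, by rwa [← Subgroup.orderOf_coe] at hk⟩)
  calc a * b = a * (a * b * (a * b)) * b := by rw [hsq _ (mul_mem ha hb), mul_one]
    _ = (a * a) * (b * a) * (b * b) := by group
    _ = b * a := by rw [hsq a ha, hsq b hb, one_mul, mul_one]

theorem sylow_sq (S : Sylow 2 G) {c : G} (hc : c ∈ (S : Subgroup G)) : c * c = 1 := by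
  haveI : Fact (Nat.Prime 2) := ⟨Nat.prime_two⟩
  refine hS.sq_eq_one c ?_
  obtain ⟨k, hk⟩ := IsPGroup.iff_orderOf.1 S.isPGroup' ⟨c, hc⟩
  exact ⟨k, by rwa [← Subgroup.orderOf_coe] at hk⟩

/-- A Sylow subgroup lies in the centralizer of each of its elements. -/
theorem sylow_le_centralizer (S : Sylow 2 G) {w : G} (hw : w ∈ (S : Subgroup G)) :
    (S : Subgroup G) ≤ Subgroup.centralizer ({w} : Set G) := fun _ ha =>
  Subgroup.mem_centralizer_singleton_iff.2 (sylow_comm hS S ha hw).eq

/-- The decomposition of an element of even order. -/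
theorem singular_decomp {g : G} (hg : 2 ∣ orderOf g) :
    ∃ z v : G, orderOf z = 2 ∧ Commute z v ∧ ¬ 2 ∣ orderOf v ∧ z * v = g := by
  haveI := Fintype.ofFinite G
  obtain ⟨z, v, rfl, hc, hz, hv⟩ := Blocks.exists_isPPart Nat.prime_two g
  refine ⟨z, v, Invol.order_two_of_sq (hS.sq_eq_one z hz) ?_, hc, hv, rfl⟩
  rintro rfl
  rw [one_mul] at hg
  exact hv hg

theorem odd_half {g : G} (hg : 2 ∣ orderOf g) : Odd (orderOf g / 2) := by
  rw [← Nat.not_even_iff_odd]
  rintro ⟨k, hk⟩
  have hn : orderOf g = 4 * k := by omega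
  have hk0 : 0 < k := by
    rcases Nat.eq_zero_or_pos k with h | h
    · exact absurd hn (by rw [h]; simpa using (orderOf_pos g).ne')
    · exact h
  have h4 : orderOf (g ^ k) = 4 := by
    rw [orderOf_pow_of_dvd hk0.ne' ⟨4, by rw [hn, mul_comm]⟩, hn, Nat.mul_div_cancel _ hk0]
  have := orderOf_dvd_of_pow_eq_one (show (g ^ k) ^ 2 = 1 by
    rw [pow_two]; exact hS.sq_eq_one _ ⟨2, by rw [h4]; norm_num⟩)
  rw [h4] at this
  norm_num at this

/-- Two commuting involutions lie in a Sylow subgroup. -/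
theorem exists_sylow_pair {a b : G} (ha : orderOf a = 2) (hb : orderOf b = 2) (hc : Commute a b) :
    ∃ S : Sylow 2 G, a ∈ (S : Subgroup G) ∧ b ∈ (S : Subgroup G) := by
  haveI : IsMulCommutative (Subgroup.closure ({a, b} : Set G)) := by
    refine Subgroup.isMulCommutative_closure ?_
    rintro u (rfl | rfl) v (rfl | rfl)
    exacts [rfl, hc.eq, hc.symm.eq, rfl]
  have hcl : ∀ u ∈ Subgroup.closure ({a, b} : Set G), u ^ 2 = 1 := by
    intro u hu
    induction hu using Subgroup.closure_induction with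
    | mem u hu =>
      rcases hu with rfl | rfl <;>
        rw [pow_two, Invol.mul_self (by first | exact ha | exact hb)]
    | one => exact one_pow 2
    | mul u v hu hv ihu ihv =>
      rw [(show Commute u v from setLike_mul_comm (s := Subgroup.closure ({a, b} : Set G)) hu hv).mul_pow,
        ihu, ihv, one_mul]
    | inv u _ ihu => rw [inv_pow, ihu, inv_one]
  have hp : IsPGroup 2 (Subgroup.closure ({a, b} : Set G)) :=
    fun u => ⟨1, Subtype.ext (by simpa using hcl u u.2)⟩
  obtain ⟨S, hSle⟩ := hp.exists_le_sylow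
  exact ⟨S, hSle (Subgroup.subset_closure (by simp)), hSle (Subgroup.subset_closure (by simp))⟩

/-- A Sylow subgroup is `{1, a, b, a b}`. -/
theorem sylow_elements (S : Sylow 2 G) {a b : G} (ha : a ∈ (S : Subgroup G))
    (hb : b ∈ (S : Subgroup G)) (hao : orderOf a = 2) (hbo : orderOf b = 2) (hne : a ≠ b) {c : G}
    (hc : c ∈ (S : Subgroup G)) : c = 1 ∨ c = a ∨ c = b ∨ c = a * b := by
  classical
  haveI := Fintype.ofFinite G
  have hab1 : a * b ≠ 1 := fun h => hne (by
    rwa [mul_eq_one_iff_eq_inv, Invol.inv_self hbo] at h)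
  let T : Finset G := {1, a, b, a * b}
  have hT : T.card = 4 := by
    simp [T, Finset.card_insert_of_notMem, (Invol.ne_one hao).symm, (Invol.ne_one hbo).symm,
      hab1.symm, hne, Invol.ne_one hao, Invol.ne_one hbo]
  have hsub : T ⊆ ((S : Subgroup G) : Set G).toFinset := by
    intro t ht
    simp only [T, Finset.mem_insert, Finset.mem_singleton] at ht
    rw [Set.mem_toFinset, SetLike.mem_coe]
    rcases ht with rfl | rfl | rfl | rfl
    exacts [one_mem _, ha, hb, mul_mem ha hb]
  have heq := Finset.eq_of_subset_of_card_le hsub (by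
    rw [hT, Set.toFinset_card, Fintype.card_eq_nat_card]; exact (hS.card_sylow S).le)
  have : c ∈ T := by rw [heq, Set.mem_toFinset]; exact hc
  simpa [T] using this

theorem exists_commuting {z : G} (hz : orderOf z = 2) :
    ∃ t : G, orderOf t = 2 ∧ Commute t z ∧ t ≠ z := by
  obtain ⟨S, hzS⟩ := exists_sylow_mem (g := z) ⟨1, by rw [hz, pow_one]⟩
  by_contra hno
  push Not at hno
  classical
  haveI := Fintype.ofFinite G
  have hsub : ((S : Subgroup G) : Set G).toFinset ⊆ {1, z} := by
    intro t ht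
    rw [Set.mem_toFinset, SetLike.mem_coe] at ht
    simp only [Finset.mem_insert, Finset.mem_singleton]
    by_cases h1 : t = 1
    · exact Or.inl h1
    · exact Or.inr (hno t (Invol.order_two_of_sq (sylow_sq hS S ht) h1) (sylow_comm hS S ht hzS))
  have h := (Finset.card_le_card hsub).trans Finset.card_le_two
  rw [Set.toFinset_card, Fintype.card_eq_nat_card] at h
  have h4 : Nat.card ((S : Subgroup G) : Set G) = 4 := hS.card_sylow S
  omega

/-- The centralizer of an involution has a normal 2-complement. -/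
theorem complement {w : G} (hw : orderOf w = 2) :
    Cfsg.HasNormalPComplement 2 ↥(Subgroup.centralizer ({w} : Set G)) := by
  haveI : Fact (Nat.Prime 2) := ⟨Nat.prime_two⟩
  set C := Subgroup.centralizer ({w} : Set G) with hC
  obtain ⟨S, hwS⟩ := exists_sylow_mem (g := w) ⟨1, by rw [hw, pow_one]⟩
  have hSC := sylow_le_centralizer hS S hwS
  set Q : Sylow 2 ↥C := S.subtype hSC with hQ
  have hQmem : ∀ a : C, a ∈ (Q : Subgroup ↥C) ↔ (a : G) ∈ (S : Subgroup G) := fun a => Iff.rfl
  refine Fusion.hasNormalPComplement_of_normalizer_le_centralizer Q fun n hn => ?_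
  rw [Subgroup.mem_centralizer_iff]
  intro a ha
  apply Subtype.ext
  show (a : G) * (n : G) = (n : G) * (a : G)
  have hnw : Commute (n : G) w := Subgroup.mem_centralizer_singleton_iff.1 n.2
  obtain ⟨t, hto, htw, htne⟩ : ∃ t ∈ (S : Subgroup G), orderOf t = 2 ∧ t ≠ w := by
    by_contra hno
    push Not at hno
    classical
    haveI := Fintype.ofFinite G
    have hsub : ((S : Subgroup G) : Set G).toFinset ⊆ {1, w} := by
      intro u hu
      rw [Set.mem_toFinset, SetLike.mem_coe] at hu
      simp only [Finset.mem_insert, Finset.mem_singleton]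
      by_cases h1 : u = 1
      · exact Or.inl h1
      · exact Or.inr (hno u hu (Invol.order_two_of_sq (sylow_sq hS S hu) h1))
    have h := (Finset.card_le_card hsub).trans Finset.card_le_two
    rw [Set.toFinset_card, Fintype.card_eq_nat_card] at h
    have h4 : Nat.card ((S : Subgroup G) : Set G) = 4 := hS.card_sylow S
    omega
  have hconjmem : ∀ (m : C), m ∈ Subgroup.normalizer ((Q : Subgroup ↥C) : Set ↥C) → ∀ u : G,
      u ∈ (S : Subgroup G) → (m : G) * u * (m : G)⁻¹ ∈ (S : Subgroup G) := fun m hm u hu =>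
    (hQmem _).1 ((Subgroup.mem_normalizer_iff.1 hm ⟨u, hSC hu⟩).1 ((hQmem ⟨u, hSC hu⟩).2 hu))
  -- `n` fixes `t`
  have key : (n : G) * t * (n : G)⁻¹ = t := by
    have h1 := hconjmem n hn t hto
    rcases sylow_elements hS S hwS hto hw htw (Ne.symm htne) h1 with h | h | h | h
    · exact absurd (conj_eq_one_iff.1 h) (Invol.ne_one htw)
    · exfalso
      apply htne
      calc t = (n : G)⁻¹ * ((n : G) * t * (n : G)⁻¹) * n := by group
        _ = (n : G)⁻¹ * (w * n) := by rw [h]; group
        _ = w := by rw [← hnw.eq, inv_mul_cancel_left]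
    · exact h
    · exfalso
      have hsq : (n : G) * n * t * ((n : G) * n)⁻¹ = t := by
        calc (n : G) * n * t * ((n : G) * n)⁻¹ = n * ((n : G) * t * (n : G)⁻¹) * (n : G)⁻¹ := by group
          _ = (n : G) * (w * t) * (n : G)⁻¹ := by rw [h]
          _ = ((n : G) * w * (n : G)⁻¹) * ((n : G) * t * (n : G)⁻¹) := by group
          _ = w * (w * t) := by rw [h, hnw.eq, mul_inv_cancel_right]
          _ = t := by rw [← mul_assoc, Invol.mul_self hw, one_mul]
      obtain ⟨k, b, hb, hkb⟩ := Nat.exists_eq_two_pow_mul_odd (orderOf_pos n).ne'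
      obtain ⟨j, rfl⟩ := hb
      have hp : IsPGroup 2 (Subgroup.zpowers (n ^ (2 * j + 1))) := by
        have h1 : orderOf (n ^ (2 * j + 1)) ∣ 2 ^ k := orderOf_dvd_of_pow_eq_one (by
          rw [← pow_mul, mul_comm, ← hkb, pow_orderOf_eq_one])
        obtain ⟨i, -, hi⟩ := (Nat.dvd_prime_pow Nat.prime_two).1 h1
        exact IsPGroup.of_card (n := i) (by rw [Nat.card_zpowers, hi])
      have hmem : n ^ (2 * j + 1) ∈ (Q : Subgroup ↥C) :=
        ((le_inf le_rfl (Subgroup.zpowers_le.mpr (pow_mem hn _))).trans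
          ((hp.inf_normalizer_sylow Q).le.trans inf_le_right)) (Subgroup.mem_zpowers _)
      have h1 : Commute ((n : G) ^ (2 * j + 1)) t := by
        have := sylow_comm hS S ((hQmem _).1 hmem) hto
        simpa using this
      have h2 : Commute ((n : G) * n) t := mul_inv_eq_iff_eq_mul.1 hsq
      have h4 : (n : G) = (((n : G) * n) ^ j)⁻¹ * (n : G) ^ (2 * j + 1) := by
        rw [← pow_two, ← pow_mul, pow_succ, inv_mul_cancel_left]
      have h5 : Commute (n : G) t := by
        rw [h4]
        exact (h2.pow_left j).inv_left.mul_left h1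
      rw [h5.eq, mul_inv_cancel_right] at h
      exact Invol.ne_one hw (mul_eq_right.1 h.symm)
  have hnt : Commute (n : G) t := mul_inv_eq_iff_eq_mul.1 key
  rcases sylow_elements hS S hwS hto hw htw (Ne.symm htne) ((hQmem a).1 ha) with h | h | h | h <;>
    rw [h]
  · rw [one_mul, mul_one]
  · exact hnw.symm.eq
  · exact hnt.symm.eq
  · exact (hnw.mul_right hnt).symm.eq

theorem oddCore_coprime (w : G) : ¬ 2 ∣ Nat.card (oddCore w) := by
  haveI : Fact (Nat.Prime 2) := ⟨Nat.prime_two⟩
  exact Nat.prime_two.coprime_iff_not_dvd.1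
    (PBasic.pPrimeCore_coprime 2 ↥(Subgroup.centralizer ({w} : Set G))).symm

theorem oddCore_index_pow {w : G} (hw : orderOf w = 2) : ∃ k : ℕ, (oddCore w).index = 2 ^ k := by
  haveI : Fact (Nat.Prime 2) := ⟨Nat.prime_two⟩
  exact IsPGroup.iff_card.1 (PBasic.quotient_pPrimeCore_isPGroup (complement hS hw))

theorem factorization_centralizer {w : G} (hw : orderOf w = 2) :
    (Nat.card ↥(Subgroup.centralizer ({w} : Set G))).factorization 2 = 2 := by
  haveI : Fact (Nat.Prime 2) := ⟨Nat.prime_two⟩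
  obtain ⟨S, hwS⟩ := exists_sylow_mem (g := w) ⟨1, by rw [hw, pow_one]⟩
  have hSC := sylow_le_centralizer hS S hwS
  refine le_antisymm ?_ ?_
  · refine le_trans ?_ (factorization_two hS).le
    exact (Nat.factorization_le_iff_dvd
      (Nat.card_pos (α := ↥(Subgroup.centralizer ({w} : Set G)))).ne'
      (Nat.card_pos (α := G)).ne').2 (Subgroup.card_subgroup_dvd_card _) 2
  · have h4 : 2 ^ 2 ∣ Nat.card ↥(Subgroup.centralizer ({w} : Set G)) := by
      have := Subgroup.card_dvd_of_le hSC
      rwa [hS.card_sylow S] at this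
    exact (Nat.prime_two.pow_dvd_iff_le_factorization Nat.card_pos.ne').1 h4

theorem oddCore_index {w : G} (hw : orderOf w = 2) : (oddCore w).index = 4 := by
  obtain ⟨k, hk⟩ := oddCore_index_pow hS hw
  have h := congrArg (fun n => n.factorization 2) (oddCore w).index_mul_card
  simp only [factorization_centralizer hS hw] at h
  rw [hk, Nat.factorization_mul (pow_ne_zero _ two_ne_zero) Nat.card_pos.ne', Finsupp.add_apply,
    Nat.prime_two.factorization_pow, Finsupp.single_eq_same,
    Nat.factorization_eq_zero_of_not_dvd (oddCore_coprime hS w), add_zero] at h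
  rw [hk, h]; norm_num

theorem mem_oddCore {w : G} (hw : orderOf w = 2) {v : ↥(Subgroup.centralizer ({w} : Set G))}
    (hv : ¬ 2 ∣ orderOf v) : v ∈ oddCore w := by
  haveI : Fact (Nat.Prime 2) := ⟨Nat.prime_two⟩
  rw [oddCore, PBasic.pPrimeCore_eq_pResidual (complement hS hw),
    PBasic.mem_pResidual_iff (complement hS hw)]
  exact (Nat.prime_two.coprime_iff_not_dvd.2 hv).symm

/-! ## The quotient by the odd part -/

theorem comm_quot {w : G} (hw : orderOf w = 2) (a b : ↥(Subgroup.centralizer ({w} : Set G))) :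
    a * b * (b * a)⁻¹ ∈ pPrimeCore 2 ↥(Subgroup.centralizer ({w} : Set G)) := by
  haveI : Fact (Nat.Prime 2) := ⟨Nat.prime_two⟩
  have hc : Nat.card (↥(Subgroup.centralizer ({w} : Set G)) ⧸
      pPrimeCore 2 ↥(Subgroup.centralizer ({w} : Set G))) = 2 ^ 2 := by
    norm_num; exact oddCore_index hS hw
  rw [← QuotientGroup.eq_one_iff]
  simp only [QuotientGroup.mk_mul, QuotientGroup.mk_inv]
  rw [IsPGroup.commutative_of_card_eq_prime_sq hc (QuotientGroup.mk a) (QuotientGroup.mk b),
    mul_inv_cancel]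

/-- An element of a Sylow subgroup lying in the odd part is trivial. -/
theorem eq_one_of_sylow {w : G} (S : Sylow 2 G) (a : ↥(Subgroup.centralizer ({w} : Set G)))
    (haS : (a : G) ∈ (S : Subgroup G)) (ha : a ∈ oddCore w) : a = 1 := by
  have h1 : orderOf a ∣ 2 := orderOf_dvd_of_pow_eq_one (Subtype.ext (by
    rw [pow_two]; exact sylow_sq hS S haS))
  rcases (Nat.dvd_prime Nat.prime_two).1 h1 with h | h
  · exact orderOf_eq_one_iff.1 h
  · exact absurd (h ▸ Subgroup.orderOf_dvd_natCard _ ha) (oddCore_coprime hS w)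

/-- Commuting involutions congruent modulo the odd part are equal. -/
theorem eq_of_mod {w : G} {a b : ↥(Subgroup.centralizer ({w} : Set G))}
    (ha : orderOf (a : G) = 2) (hb : orderOf (b : G) = 2) (hc : Commute (a : G) b)
    (h : a * b⁻¹ ∈ oddCore w) : a = b := by
  obtain ⟨S, haS, hbS⟩ := exists_sylow_pair hS ha hb hc
  exact mul_inv_eq_one.1 (eq_one_of_sylow hS S _ (by
    push_cast; exact mul_mem haS (inv_mem hbS)) h)

/-- The conjugates of `t` under `C(w)` are the involutions of `C(w)` congruent to it. -/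
theorem mem_centOrbit_iff {w t b : G} (hw : orderOf w = 2) (ht : orderOf t = 2)
    (htw : Commute t w) (htne : t ≠ w) :
    b ∈ centOrbit w t ↔ ∃ hb : Commute b w, orderOf b = 2 ∧
      (⟨b, Subgroup.mem_centralizer_singleton_iff.2 hb.eq⟩ : ↥(Subgroup.centralizer ({w} : Set G))) *
        (⟨t, Subgroup.mem_centralizer_singleton_iff.2 htw.eq⟩)⁻¹ ∈ oddCore w := by
  haveI : Fact (Nat.Prime 2) := ⟨Nat.prime_two⟩
  constructor
  · rintro ⟨y, hy, rfl⟩
    refine ⟨(hy.mul_left htw).mul_left hy.inv_left, by rw [Invol.order_conj, ht], ?_⟩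
    have e : (⟨y * t * y⁻¹, Subgroup.mem_centralizer_singleton_iff.2
        ((hy.mul_left htw).mul_left hy.inv_left).eq⟩ : ↥(Subgroup.centralizer ({w} : Set G))) *
        (⟨t, Subgroup.mem_centralizer_singleton_iff.2 htw.eq⟩)⁻¹ =
        (⟨y, Subgroup.mem_centralizer_singleton_iff.2 hy.eq⟩ : ↥(Subgroup.centralizer ({w} : Set G))) *
          ⟨t, Subgroup.mem_centralizer_singleton_iff.2 htw.eq⟩ *
        ((⟨t, Subgroup.mem_centralizer_singleton_iff.2 htw.eq⟩) *
          ⟨y, Subgroup.mem_centralizer_singleton_iff.2 hy.eq⟩)⁻¹ := by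
      apply Subtype.ext
      simp only [Subgroup.coe_mul, Subgroup.coe_inv]
      group
    rw [e]
    exact comm_quot hS hw _ _
  · rintro ⟨hb, hbo, hmod⟩
    have hbne : b ≠ w := by
      rintro rfl
      exact htne (congrArg Subtype.val (eq_of_mod hS (a := ⟨b, _⟩) (b := ⟨t, _⟩) hw ht htw.symm hmod)).symm
    obtain ⟨S1, hbS, hwS⟩ := exists_sylow_pair hS hbo hw hb
    obtain ⟨S2, htS, hwS2⟩ := exists_sylow_pair hS ht hw htw
    obtain ⟨y, hy⟩ := MulAction.exists_smul_eq ↥(Subgroup.centralizer ({w} : Set G))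
      (S2.subtype (sylow_le_centralizer hS S2 hwS2)) (S1.subtype (sylow_le_centralizer hS S1 hwS))
    have hyw : Commute (y : G) w := Subgroup.mem_centralizer_singleton_iff.1 y.2
    have hmem : (y : G) * t * (y : G)⁻¹ ∈ (S1 : Subgroup G) := by
      have h1 : y * (⟨t, Subgroup.mem_centralizer_singleton_iff.2 htw.eq⟩ :
          ↥(Subgroup.centralizer ({w} : Set G))) * y⁻¹ ∈
          ((S1.subtype (sylow_le_centralizer hS S1 hwS) : Sylow 2 _) : Subgroup _) := by
        rw [← hy, Sylow.coe_subgroup_smul]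
        exact Subgroup.smul_mem_pointwise_smul _ (MulAut.conj y) _ htS
      exact h1
    have hc2 := comm_quot hS hw y ⟨t, Subgroup.mem_centralizer_singleton_iff.2 htw.eq⟩
    have h := eq_one_of_sylow hS S1
      (y * ⟨t, Subgroup.mem_centralizer_singleton_iff.2 htw.eq⟩ * y⁻¹ *
        (⟨b, Subgroup.mem_centralizer_singleton_iff.2 hb.eq⟩)⁻¹)
      (by push_cast; exact mul_mem hmem (inv_mem hbS))
      (by
        have h1 : y * ⟨t, Subgroup.mem_centralizer_singleton_iff.2 htw.eq⟩ * y⁻¹ *
            (⟨t, Subgroup.mem_centralizer_singleton_iff.2 htw.eq⟩)⁻¹ ∈ oddCore w := by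
          rw [mul_inv_rev, ← mul_assoc] at hc2
          exact hc2
        have := mul_mem h1 (inv_mem hmod)
        rwa [mul_inv_rev, inv_inv, mul_assoc, inv_mul_cancel_left] at this)
    rw [mul_inv_eq_one] at h
    exact ⟨y, hyw, congrArg Subtype.val h⟩

theorem card_centralizer {z w : G} (hz : orderOf z = 2) (hw : orderOf w = 2) :
    Nat.card ↥(Subgroup.centralizer ({w} : Set G)) = Nat.card ↥(Subgroup.centralizer ({z} : Set G)) := by
  haveI := Fintype.ofFinite G
  obtain ⟨g, rfl⟩ := isConj_iff.1 (hS.conj z w hz hw)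
  exact Blocks.card_centralizer_conj z g

/-- Orbit times stabilizer. -/
theorem card_centOrbit {w t : G} (hw : orderOf w = 2) (ht : orderOf t = 2) (htw : Commute t w)
    (htne : t ≠ w) (P : Sylow 2 G) :
    Nat.card (centOrbit w t) * Nat.card ↥(Subgroup.centralizer ((P : Subgroup G) : Set G)) =
      Nat.card ↥(Subgroup.centralizer ({w} : Set G)) := by
  haveI : Fact (Nat.Prime 2) := ⟨Nat.prime_two⟩
  set C := Subgroup.centralizer ({w} : Set G) with hC
  letI : MulAction ↥C G := MulAction.compHom G ((MulAut.conj (G := G)).comp C.subtype)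
  have hsmul : ∀ (y : C) (g : G), y • g = (y : G) * g * (y : G)⁻¹ := fun _ _ => rfl
  have horb : MulAction.orbit ↥C t = centOrbit w t := by
    ext b
    rw [MulAction.mem_orbit_iff]
    constructor
    · rintro ⟨y, rfl⟩
      exact ⟨y, Subgroup.mem_centralizer_singleton_iff.1 y.2, (hsmul y t).symm⟩
    · rintro ⟨y, hy, rfl⟩
      exact ⟨⟨y, Subgroup.mem_centralizer_singleton_iff.2 hy.eq⟩, hsmul _ t⟩
  have h1 := (MulAction.stabilizer ↥C t).card_eq_card_quotient_mul_card_subgroup
  rw [← Nat.card_congr (MulAction.orbitEquivQuotientStabilizer ↥C t), horb] at h1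
  rw [h1]
  congr 1
  obtain ⟨S, htS, hwS⟩ := exists_sylow_pair hS ht hw htw
  obtain ⟨g, hg⟩ := MulAction.exists_smul_eq G S P
  have hstab : ∀ y : C, y ∈ MulAction.stabilizer ↥C t ↔
      (y : G) ∈ Subgroup.centralizer ((S : Subgroup G) : Set G) := by
    intro y
    have hyw : Commute (y : G) w := Subgroup.mem_centralizer_singleton_iff.1 y.2
    rw [MulAction.mem_stabilizer_iff, hsmul, Subgroup.mem_centralizer_iff]
    constructor
    · intro h a ha
      have hyt : Commute (y : G) t := mul_inv_eq_iff_eq_mul.1 h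
      rcases sylow_elements hS S htS hwS ht hw htne ha with e | e | e | e <;> rw [e]
      · rw [one_mul, mul_one]
      · exact hyt.symm.eq
      · exact hyw.symm.eq
      · exact (hyt.mul_right hyw).symm.eq
    · intro h
      rw [← h t htS, mul_inv_cancel_right]
  have hle : Subgroup.centralizer ((S : Subgroup G) : Set G) ≤ C :=
    Subgroup.centralizer_le (Set.singleton_subset_iff.2 hwS)
  have e : MulAction.stabilizer ↥C t =
      (Subgroup.centralizer ((S : Subgroup G) : Set G)).subgroupOf C := by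
    ext y; exact hstab y
  rw [e, Nat.card_congr (Subgroup.subgroupOfEquivOfLe hle).toEquiv]
  have e2 : Subgroup.centralizer ((P : Subgroup G) : Set G) =
      (Subgroup.centralizer ((S : Subgroup G) : Set G)).map (MulAut.conj g).toMonoidHom := by
    ext u
    rw [Subgroup.mem_centralizer_iff, Subgroup.mem_map_equiv, Subgroup.mem_centralizer_iff]
    have hmem : ∀ a, a ∈ (P : Subgroup G) ↔ g⁻¹ * a * g ∈ (S : Subgroup G) := by
      intro a
      rw [← hg, Sylow.coe_subgroup_smul, Subgroup.mem_pointwise_smul_iff_inv_smul_mem, ← map_inv,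
        MulAut.smul_def, MulAut.conj_apply, inv_inv]
    simp only [MulAut.conj_symm_apply]
    constructor
    · intro h a ha
      have := h (g * a * g⁻¹) ((hmem _).2 (by rwa [show g⁻¹ * (g * a * g⁻¹) * g = a by group]))
      calc a * (g⁻¹ * u * g) = g⁻¹ * ((g * a * g⁻¹) * u) * g := by group
        _ = g⁻¹ * (u * (g * a * g⁻¹)) * g := by rw [this]
        _ = g⁻¹ * u * g * a := by group
    · intro h a ha
      have := h _ ((hmem a).1 ha)
      calc a * u = g * ((g⁻¹ * a * g) * (g⁻¹ * u * g)) * g⁻¹ := by group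
        _ = g * ((g⁻¹ * u * g) * (g⁻¹ * a * g)) * g⁻¹ := by rw [this]
        _ = u * a := by group
  rw [e2, Subgroup.card_map_of_injective (f := (MulAut.conj g).toMonoidHom) (MulAut.conj g).injective]

theorem card_centralizer_sylow_dvd {J : G} (hJ : orderOf J = 2) (P : Sylow 2 G) :
    Nat.card ↥(Subgroup.centralizer ((P : Subgroup G) : Set G)) ∣
      Nat.card ↥(Subgroup.centralizer ({J} : Set G)) := by
  obtain ⟨t, ht, htJ, htne⟩ := exists_commuting hS hJ
  exact ⟨_, by rw [mul_comm]; exact (card_centOrbit hS hJ ht htJ htne P).symm⟩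

/-- Involutions paired with `J` to a product with a given involution part. -/
theorem half_eq_iff {J w b : G} (hJ : orderOf J = 2) (hw : orderOf w = 2) (hJw : Commute J w)
    (hne : w ≠ J) :
    (orderOf b = 2 ∧ 2 ∣ orderOf (J * b) ∧ (J * b) ^ (orderOf (J * b) / 2) = w) ↔
      b ∈ centOrbit w (J * w) := by
  haveI : Fact (Nat.Prime 2) := ⟨Nat.prime_two⟩
  have hJwo : orderOf (J * w) = 2 := Invol.order_two_of_sq
    (by rw [hJw.symm.mul_mul_mul_comm, Invol.mul_self hJ, Invol.mul_self hw, one_mul])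
    (fun h => hne (by rw [mul_eq_one_iff_eq_inv, Invol.inv_self hw] at h; exact h.symm))
  have hJww : Commute (J * w) w := hJw.mul_left (Commute.refl w)
  have hJwne : J * w ≠ w := fun h => Invol.ne_one hJ (mul_eq_right.1 h)
  rw [mem_centOrbit_iff hS hw hJwo hJww hJwne]
  set C := Subgroup.centralizer ({w} : Set G) with hC
  set π := QuotientGroup.mk' (pPrimeCore 2 ↥C) with hπ
  let jC : C := ⟨J, Subgroup.mem_centralizer_singleton_iff.2 hJw.eq⟩
  let wC : C := ⟨w, Subgroup.mem_centralizer_singleton_iff.2 rfl⟩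
  have hQ2 : ∀ q : ↥C ⧸ pPrimeCore 2 ↥C, q * q = 1 := by
    intro q
    haveI := Fintype.ofFinite ↥C
    obtain ⟨a, rfl⟩ := QuotientGroup.mk_surjective q
    rw [← QuotientGroup.mk_mul, QuotientGroup.eq_one_iff]
    obtain ⟨u, v, rfl, hc, hu, hv⟩ := Blocks.exists_isPPart Nat.prime_two a
    have hu2 : u * u = 1 := Subtype.ext (hS.sq_eq_one u (by
      simpa [Subgroup.orderOf_coe] using hu))
    have : u * v * (u * v) = v * v := by
      rw [hc.symm.mul_mul_mul_comm, hu2, one_mul]
    rw [this]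
    exact mul_mem (mem_oddCore hS hw hv) (mem_oddCore hS hw hv)
  have hodd_pow : ∀ (q : ↥C ⧸ pPrimeCore 2 ↥C) (m : ℕ), Odd m → q ^ m = q := by
    rintro q m ⟨j, rfl⟩
    rw [pow_succ, pow_mul, pow_two, hQ2, one_pow, one_mul]
  constructor
  · rintro ⟨hb, hev, hhalf⟩
    have hc := Invol.half_commute hJ hb (even_iff_two_dvd.2 hev)
    have hbw : Commute b w := hhalf ▸ hc.2.symm
    refine ⟨hbw, hb, ?_⟩
    let bC : C := ⟨b, Subgroup.mem_centralizer_singleton_iff.2 hbw.eq⟩
    have hm := odd_half hS hev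
    have h1 : π ((jC * bC) ^ (orderOf (J * b) / 2)) = π wC := by
      congr 1
      exact Subtype.ext (by simpa [jC, bC, wC] using hhalf)
    rw [map_pow, hodd_pow _ _ hm, map_mul] at h1
    show bC * (⟨J * w, _⟩ : C)⁻¹ ∈ oddCore w
    rw [show (⟨J * w, _⟩ : C) = jC * wC from rfl]
    refine (QuotientGroup.eq_one_iff _).1 ?_
    show π (bC * (jC * wC)⁻¹) = 1
    rw [map_mul, map_inv, map_mul, ← h1, ← mul_assoc, hQ2, one_mul, mul_inv_cancel]
  · rintro ⟨hbw, hb, hmod⟩
    let bC : C := ⟨b, Subgroup.mem_centralizer_singleton_iff.2 hbw.eq⟩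
    have h1 : π bC = π jC * π wC := by
      rw [← map_mul, ← mul_inv_eq_one, ← map_inv, ← map_mul]
      exact (QuotientGroup.eq_one_iff _).2 hmod
    have h2 : π (jC * bC) = π wC := by rw [map_mul, h1, ← mul_assoc, hQ2, one_mul]
    have hw1 : π wC ≠ 1 := by
      intro h
      obtain ⟨S, hwS⟩ := exists_sylow_mem (g := w) ⟨1, by rw [hw, pow_one]⟩
      exact Invol.ne_one hw (congrArg Subtype.val
        (eq_one_of_sylow hS S wC hwS ((QuotientGroup.eq_one_iff _).1 h)))
    have hord : orderOf (π wC) = 2 := Invol.order_two_of_sq (hQ2 _) hw1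
    have hev : 2 ∣ orderOf (J * b) := by
      have h3 : orderOf (π (jC * bC)) ∣ orderOf (jC * bC) := orderOf_map_dvd π _
      rw [h2, hord, ← Subgroup.orderOf_coe] at h3
      simpa [jC, bC] using h3
    refine ⟨hb, hev, ?_⟩
    have hh := Invol.half_order hJ hb (even_iff_two_dvd.2 hev) (orderOf_pos _)
    have hcw : Commute ((J * b) ^ (orderOf (J * b) / 2)) w := (hJw.mul_left hbw).pow_left _
    refine congrArg Subtype.val (eq_of_mod hS
      (a := (jC * bC) ^ (orderOf (J * b) / 2)) (b := wC) ?_ hw ?_ ?_)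
    · simpa [jC, bC] using hh
    · simpa [jC, bC, wC] using hcw
    · refine (QuotientGroup.eq_one_iff _).1 ?_
      show π ((jC * bC) ^ (orderOf (J * b) / 2) * wC⁻¹) = 1
      rw [map_mul, map_pow, map_inv, hodd_pow _ _ (odd_half hS hev), h2, mul_inv_cancel]

/-- The number of involutions `b` with `J b` of even order. -/
theorem card_pairs {J : G} (hJ : orderOf J = 2) (P : Sylow 2 G) {r : ℕ}
    (hr : Nat.card ↥(Subgroup.centralizer ({J} : Set G)) =
      r * Nat.card ↥(Subgroup.centralizer ((P : Subgroup G) : Set G))) :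
    Nat.card {b : G // orderOf b = 2 ∧ 2 ∣ orderOf (J * b)} = 2 * r * r := by
  classical
  haveI : Fact (Nat.Prime 2) := ⟨Nat.prime_two⟩
  haveI := Fintype.ofFinite G
  have horb : ∀ {w t : G}, orderOf w = 2 → orderOf t = 2 → Commute t w → t ≠ w →
      Nat.card (centOrbit w t) = r := by
    intro w t hw ht htw htne
    have h := card_centOrbit hS hw ht htw htne P
    rw [card_centralizer hS hJ hw, hr] at h
    exact Nat.eq_of_mul_eq_mul_right Nat.card_pos h
  obtain ⟨z, hz, hzJ, hzne⟩ := exists_commuting hS hJ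
  have hJz : orderOf (J * z) = 2 := Invol.order_two_of_sq
    (by rw [hzJ.mul_mul_mul_comm, Invol.mul_self hJ, Invol.mul_self hz, one_mul])
    (fun h => hzne (by rw [mul_eq_one_iff_eq_inv, Invol.inv_self hz] at h; exact h.symm))
  have hJzJ : Commute (J * z) J := (Commute.refl J).mul_left hzJ
  have hJzne : J * z ≠ J := fun h => Invol.ne_one hz (mul_eq_left.1 h)
  let W : Finset G := Finset.univ.filter fun w => orderOf w = 2 ∧ Commute w J ∧ w ≠ J
  have hWeq : W = (centOrbit J z).toFinset ∪ (centOrbit J (J * z)).toFinset := by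
    ext w
    simp only [W, Finset.mem_filter, Finset.mem_univ, true_and, Finset.mem_union, Set.mem_toFinset]
    constructor
    · rintro ⟨hw, hwJ, hwne⟩
      obtain ⟨S1, hwS, hJS⟩ := exists_sylow_pair hS hw hJ hwJ
      obtain ⟨S2, hzS, hJS2⟩ := exists_sylow_pair hS hz hJ hzJ
      obtain ⟨y, hy⟩ := MulAction.exists_smul_eq ↥(Subgroup.centralizer ({J} : Set G))
        (S2.subtype (sylow_le_centralizer hS S2 hJS2)) (S1.subtype (sylow_le_centralizer hS S1 hJS))
      have hyJ : Commute (y : G) J := Subgroup.mem_centralizer_singleton_iff.1 y.2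
      have hmem : (y : G) * z * (y : G)⁻¹ ∈ (S1 : Subgroup G) := by
        have h1 : y * (⟨z, Subgroup.mem_centralizer_singleton_iff.2 hzJ.eq⟩ :
            ↥(Subgroup.centralizer ({J} : Set G))) * y⁻¹ ∈
            ((S1.subtype (sylow_le_centralizer hS S1 hJS) : Sylow 2 _) : Subgroup _) := by
          rw [← hy, Sylow.coe_subgroup_smul]
          exact Subgroup.smul_mem_pointwise_smul _ (MulAut.conj y) _ hzS
        exact h1
      rcases sylow_elements hS S1 hJS hwS hJ hw (Ne.symm hwne) hmem with e | e | e | e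
      · exact absurd (conj_eq_one_iff.1 e) (Invol.ne_one hz)
      · exfalso
        apply hzne
        calc z = (y : G)⁻¹ * ((y : G) * z * (y : G)⁻¹) * y := by group
          _ = (y : G)⁻¹ * (J * y) := by rw [e]; group
          _ = J := by rw [← hyJ.eq, inv_mul_cancel_left]
      · exact Or.inl ⟨y, hyJ, e⟩
      · refine Or.inr ⟨y, hyJ, ?_⟩
        calc (y : G) * (J * z) * (y : G)⁻¹ = ((y : G) * J) * z * (y : G)⁻¹ := by group
          _ = J * ((y : G) * z * (y : G)⁻¹) := by rw [hyJ.eq]; group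
          _ = J * (J * w) := by rw [e]
          _ = w := by rw [← mul_assoc, Invol.mul_self hJ, one_mul]
    · have key : ∀ t, orderOf t = 2 → Commute t J → t ≠ J → w ∈ centOrbit J t →
          orderOf w = 2 ∧ Commute w J ∧ w ≠ J := by
        rintro t ht htJ htne ⟨y, hy, rfl⟩
        refine ⟨by rw [Invol.order_conj, ht], (hy.mul_left htJ).mul_left hy.inv_left, fun h => htne ?_⟩
        calc t = y⁻¹ * (y * t * y⁻¹) * y := by group
          _ = y⁻¹ * (J * y) := by rw [h]; group
          _ = J := by rw [← hy.eq, inv_mul_cancel_left]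
      rintro (h | h)
      · exact key z hz hzJ hzne h
      · exact key _ hJz hJzJ hJzne h
  have hdisj : Disjoint (centOrbit J z).toFinset (centOrbit J (J * z)).toFinset := by
    rw [Finset.disjoint_left]
    intro w h1 h2
    rw [Set.mem_toFinset] at h1 h2
    obtain ⟨hw, hwo, m1⟩ := (mem_centOrbit_iff hS hJ hz hzJ hzne).1 h1
    obtain ⟨hw2, hwo2, m2⟩ := (mem_centOrbit_iff hS hJ hJz hJzJ hJzne).1 h2
    have h3 := mul_mem (inv_mem m1) m2
    rw [mul_inv_rev, inv_inv, mul_assoc, inv_mul_cancel_left] at h3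
    exact Invol.ne_one hJ (mul_eq_right.1
      (congrArg Subtype.val (eq_of_mod hS (a := ⟨z, _⟩) (b := ⟨J * z, _⟩) hz hJz
        (hzJ.mul_right (Commute.refl z)) h3)).symm)
  have hWcard : W.card = 2 * r := by
    rw [hWeq, Finset.card_union_of_disjoint hdisj, Set.toFinset_card, Set.toFinset_card,
      Fintype.card_eq_nat_card, Fintype.card_eq_nat_card, horb hJ hz hzJ hzne,
      horb hJ hJz hJzJ hJzne, two_mul]
  rw [Nat.card_eq_fintype_card, Fintype.card_subtype,
    Finset.card_eq_sum_card_fiberwise (f := fun b => (J * b) ^ (orderOf (J * b) / 2)) (t := W)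
      (fun b hb => ?_)]
  · rw [Finset.sum_congr rfl (g := fun _ => r) (fun w hw => ?_), Finset.sum_const, smul_eq_mul,
      hWcard]
    simp only [W, Finset.mem_filter, Finset.mem_univ, true_and] at hw
    obtain ⟨hw, hwJ, hwne⟩ := hw
    have hJwo : orderOf (J * w) = 2 := Invol.order_two_of_sq
      (by rw [hwJ.mul_mul_mul_comm, Invol.mul_self hJ, Invol.mul_self hw, one_mul])
      (fun h => hwne (by rw [mul_eq_one_iff_eq_inv, Invol.inv_self hw] at h; exact h.symm))
    rw [← horb hw hJwo (hwJ.symm.mul_left (Commute.refl w))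
      (fun h => Invol.ne_one hJ (mul_eq_right.1 h)), Finset.filter_filter, ← Fintype.card_subtype,
      ← Nat.card_eq_fintype_card]
    refine Nat.card_congr (Equiv.subtypeEquivRight fun b => ?_)
    rw [and_assoc]
    exact half_eq_iff hS hJ hw hwJ.symm hwne
  · simp only [Finset.mem_coe, Finset.mem_filter, Finset.mem_univ, true_and] at hb
    simp only [W, Finset.mem_coe, Finset.mem_filter, Finset.mem_univ, true_and]
    have hev : Even (orderOf (J * b)) := even_iff_two_dvd.2 hb.2
    refine ⟨Invol.half_order hJ hb.1 hev (orderOf_pos _), (Invol.half_commute hJ hb.1 hev).1, fun h => ?_⟩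
    refine Invol.not_mem_zpowers hJ hb.1 (fun e => ?_) ?_
    · subst e
      rw [Invol.mul_self hJ, orderOf_one] at hb
      omega
    · have hm : (J * b) ^ (orderOf (J * b) / 2) ∈ Subgroup.zpowers (J * b) :=
        Subgroup.npow_mem_zpowers _ _
      exact Eq.subst (motive := fun t => t ∈ Subgroup.zpowers (J * b)) h hm

omit hS in
/-- Without a normal 2-complement all involutions are conjugate. -/
theorem setup_of_no_complement (P : Sylow 2 G) (hc : Nat.card (P : Subgroup G) = 4)
    (hnc : ¬ Cfsg.HasNormalPComplement 2 G) : Setup G := by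
  haveI : Fact (Nat.Prime 2) := ⟨Nat.prime_two⟩
  classical
  have hPab : IsMulCommutative (P : Subgroup G) :=
    ⟨⟨IsPGroup.commutative_of_card_eq_prime_sq (p := 2) (by rw [hc]; norm_num)⟩⟩
  have hnle : ¬ Subgroup.normalizer ((P : Subgroup G) : Set G) ≤
      Subgroup.centralizer ((P : Subgroup G) : Set G) := fun h =>
    hnc (Fusion.hasNormalPComplement_of_normalizer_le_centralizer P h)
  obtain ⟨n, hn, hnC⟩ := SetLike.not_le_iff_exists.1 hnle
  have hmem : ∀ a ∈ (P : Subgroup G), n * a * n⁻¹ ∈ (P : Subgroup G) := fun a ha =>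
    (Subgroup.mem_normalizer_iff.1 hn a).1 ha
  have hsq : ∀ a : (P : Subgroup G), a * a = 1 := by
    by_contra hne
    push Not at hne
    obtain ⟨a, ha⟩ := hne
    have h4 : orderOf a = 4 := by
      have h1 : orderOf a ∣ 2 ^ 2 := by
        have := orderOf_dvd_natCard a; rw [hc] at this; simpa using this
      obtain ⟨i, hi, hi'⟩ := (Nat.dvd_prime_pow Nat.prime_two).1 h1
      interval_cases i
      · have h0 : a = 1 := orderOf_eq_one_iff.1 (by simpa using hi')
        exact absurd (by rw [h0, one_mul]) ha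
      · have h0 := pow_orderOf_eq_one a
        rw [hi', pow_one, pow_two] at h0
        exact absurd h0 ha
      · simpa using hi'
    haveI : IsCyclic (P : Subgroup G) := isCyclic_of_orderOf_eq_card a (by rw [h4, hc])
    refine hnc (Fusion.hasNormalPComplement_of_normalizer_le_centralizer P ?_)
    refine IsCyclic.normalizer_le_centralizer (P := P) ?_ inferInstance
    exact (Nat.minFac_eq_two_iff _).2
      ((by norm_num : 2 ∣ 4).trans (hc ▸ Subgroup.card_subgroup_dvd_card _))
  refine Setup.of_sylow P hc hsq ?_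
  suffices key : ∀ a ∈ (P : Subgroup G), ∀ b ∈ (P : Subgroup G), orderOf a = 2 → orderOf b = 2 →
      IsConj a b by
    intro s t hs ht
    obtain ⟨R, hR⟩ := exists_sylow_mem (g := s) ⟨1, by rw [hs, pow_one]⟩
    obtain ⟨T, hT⟩ := exists_sylow_mem (g := t) ⟨1, by rw [ht, pow_one]⟩
    obtain ⟨g, hg⟩ := MulAction.exists_smul_eq G R P
    obtain ⟨h, hh⟩ := MulAction.exists_smul_eq G T P
    have h1 : g * s * g⁻¹ ∈ (P : Subgroup G) := by
      rw [← hg, Sylow.coe_subgroup_smul]
      exact Subgroup.smul_mem_pointwise_smul s (MulAut.conj g) _ hR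
    have h2 : h * t * h⁻¹ ∈ (P : Subgroup G) := by
      rw [← hh, Sylow.coe_subgroup_smul]
      exact Subgroup.smul_mem_pointwise_smul t (MulAut.conj h) _ hT
    exact ((isConj_iff.2 ⟨g, rfl⟩).trans (key _ h1 _ h2 (by rw [Invol.order_conj, hs])
      (by rw [Invol.order_conj, ht]))).trans (isConj_iff.2 ⟨h, rfl⟩ : IsConj t _).symm
  -- some involution of `P` is moved by `n`
  obtain ⟨a, ha, hao, hna⟩ : ∃ a ∈ (P : Subgroup G), orderOf a = 2 ∧ n * a * n⁻¹ ≠ a := by
    by_contra hno
    push Not at hno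
    refine hnC (Subgroup.mem_centralizer_iff.2 fun a ha => ?_)
    by_cases h1 : a = 1
    · rw [h1, one_mul, mul_one]
    · have := hno a ha (Invol.order_two_of_sq (congrArg Subtype.val (hsq ⟨a, ha⟩)) h1)
      exact (mul_inv_eq_iff_eq_mul.1 this).symm
  intro b hb c hc' hbo hco
  -- the orbit of `a` under `n` has three members
  have hS2 : ∀ u ∈ (P : Subgroup G), u ≠ 1 → orderOf u = 2 := fun u hu h1 =>
    Invol.order_two_of_sq (congrArg Subtype.val (hsq ⟨u, hu⟩)) h1
  set a₁ := n * a * n⁻¹ with ha₁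
  set a₂ := n * a₁ * n⁻¹ with ha₂
  have ha₁P : a₁ ∈ (P : Subgroup G) := hmem a ha
  have ha₂P : a₂ ∈ (P : Subgroup G) := hmem a₁ ha₁P
  have h12 : a₂ ≠ a₁ := fun e => hna (by simpa [ha₂, ha₁] using e)
  have h02 : a₂ ≠ a := by
    intro e
    obtain ⟨k, m, hm, hkm⟩ := Nat.exists_eq_two_pow_mul_odd (orderOf_pos n).ne'
    obtain ⟨j, rfl⟩ := hm
    have hp : IsPGroup 2 (Subgroup.zpowers (n ^ (2 * j + 1))) := by
      have h1 : orderOf (n ^ (2 * j + 1)) ∣ 2 ^ k := orderOf_dvd_of_pow_eq_one (by
        rw [← pow_mul, mul_comm, ← hkm, pow_orderOf_eq_one])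
      obtain ⟨i, -, hi⟩ := (Nat.dvd_prime_pow Nat.prime_two).1 h1
      exact IsPGroup.of_card (n := i) (by rw [Nat.card_zpowers, hi])
    have hmemP : n ^ (2 * j + 1) ∈ (P : Subgroup G) :=
      ((le_inf le_rfl (Subgroup.zpowers_le.mpr (pow_mem hn _))).trans
        ((hp.inf_normalizer_sylow P).le.trans inf_le_right)) (Subgroup.mem_zpowers _)
    have h1 : Commute (n ^ (2 * j + 1)) a := setLike_mul_comm (s := (P : Subgroup G)) hmemP ha
    have h2 : Commute (n * n) a := mul_inv_eq_iff_eq_mul.1 (by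
      calc n * n * a * (n * n)⁻¹ = n * (n * a * n⁻¹) * n⁻¹ := by group
        _ = a := by rw [← ha₁, ← ha₂, e])
    have h4 : n = ((n * n) ^ j)⁻¹ * n ^ (2 * j + 1) := by
      rw [← pow_two, ← pow_mul, pow_succ, inv_mul_cancel_left]
    have h5 : Commute n a := by
      rw [h4]
      exact (h2.pow_left j).inv_left.mul_left h1
    exact hna (by rw [ha₁, h5.eq, mul_inv_cancel_right])
  have hall : ∀ u ∈ (P : Subgroup G), u ≠ 1 → IsConj a u := by
    intro u hu hu1
    by_contra hno
    haveI := Fintype.ofFinite G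
    let T : Finset G := {1, a, a₁, a₂, u}
    have c1 : IsConj a a₁ := isConj_iff.2 ⟨n, rfl⟩
    have c2 : IsConj a a₂ := c1.trans (isConj_iff.2 ⟨n, rfl⟩)
    have ha₁1 : a₁ ≠ 1 := fun e => Invol.ne_one hao (conj_eq_one_iff.1 e)
    have ha₂1 : a₂ ≠ 1 := fun e => ha₁1 (conj_eq_one_iff.1 e)
    have hu0 : a ≠ u := fun e => hno (e ▸ IsConj.refl a)
    have hu1' : a₁ ≠ u := fun e => hno (e ▸ c1)
    have hu2 : a₂ ≠ u := fun e => hno (e ▸ c2)
    have hT : T.card = 5 := by
      simp [T, Finset.card_insert_of_notMem, (Invol.ne_one hao).symm, ha₁1.symm, ha₂1.symm,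
        Ne.symm hu1, Ne.symm hna, Ne.symm h02, Ne.symm h12, hu0, hu1', hu2]
    have hsub : T ⊆ ((P : Subgroup G) : Set G).toFinset := by
      intro v hv
      simp only [T, Finset.mem_insert, Finset.mem_singleton] at hv
      rw [Set.mem_toFinset, SetLike.mem_coe]
      rcases hv with rfl | rfl | rfl | rfl | rfl
      exacts [one_mem _, ha, ha₁P, ha₂P, hu]
    have := Finset.card_le_card hsub
    rw [hT, Set.toFinset_card, Fintype.card_eq_nat_card] at this
    exact absurd this (by rw [show Nat.card ((P : Subgroup G) : Set G) = 4 from hc]; norm_num)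
  exact (hall b hb (Invol.ne_one hbo)).symm.trans (hall c hc' (Invol.ne_one hco))

end Cfsg.Agent.KleinBlock
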