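import Cfsg.Agent.Lib.Blocks.KleinLocal
import Cfsg.Agent.Lib.Blocks.SecondMain
import Cfsg.Agent.Lib.Blocks.RegularSum
import Cfsg.Agent.Lib.Blocks.Real
import Cfsg.Agent.Lib.Blocks.Misc

/-!
The principal 2-block of a group with a Klein four Sylow 2-subgroup and one class of involutions.
-/

set_option linter.style.haveILetI false
set_option linter.unusedSectionVars false

namespace Cfsg.Agent.KleinBlock

open Cfsg Cfsg.Agent.Char Cfsg.Agent.Blocks
open scoped ComplexConjugate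

universe u

variable {G : Type u} [Group G] [Fintype G]

/-! ## The indicator of a real character of odd degree -/

theorem trace_toMatrix {d : ℕ} (f : (Fin d → ℂ) →ₗ[ℂ] (Fin d → ℂ)) :
    LinearMap.trace ℂ (Fin d → ℂ) f = ∑ i, LinearMap.toMatrix' f i i := by
  rw [LinearMap.trace_eq_matrix_trace ℂ (Pi.basisFun ℂ (Fin d)), LinearMap.toMatrix_eq_toMatrix']
  rfl

/-- An antisymmetric matrix invariant under an irreducible representation of odd degree is zero. -/
theorem antisym_invariant_eq_zero {d : ℕ} (hd : Odd d) (ρ : Representation ℂ G (Fin d → ℂ))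
    (hρ : ρ.IsIrreducible) (A : Matrix (Fin d) (Fin d) ℂ) (hA : A.transpose = -A)
    (hinv : ∀ h : G, LinearMap.toMatrix' (ρ h) * A * (LinearMap.toMatrix' (ρ h)).transpose = A) :
    A = 0 := by
  classical
  have hdet : A.det = 0 := by
    have h := Matrix.det_transpose A
    rw [hA, Matrix.det_neg, Fintype.card_fin, hd.neg_one_pow, neg_one_mul] at h
    exact CharZero.neg_eq_self_iff.1 h
  set L := Matrix.toLin' A with hL
  have hmove : ∀ h : G, LinearMap.toMatrix' (ρ h) * A =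
      A * (LinearMap.toMatrix' (ρ h⁻¹)).transpose := by
    intro h
    conv_rhs => rw [← hinv h]
    rw [mul_assoc, ← Matrix.transpose_mul, ← LinearMap.toMatrix'_mul, ← map_mul, inv_mul_cancel,
      map_one, Module.End.one_eq_id, LinearMap.toMatrix'_id, Matrix.transpose_one, mul_one]
  let W : Subrepresentation ρ :=
    ⟨LinearMap.range L, fun g v hv => by
      obtain ⟨u, rfl⟩ := hv
      refine ⟨Matrix.mulVec (LinearMap.toMatrix' (ρ g⁻¹)).transpose u, ?_⟩
      simp only [hL, Matrix.toLin'_apply, Matrix.mulVec_mulVec]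
      rw [← hmove g, ← Matrix.mulVec_mulVec, LinearMap.toMatrix'_mulVec]⟩
  haveI := hρ
  rcases IsSimpleOrder.eq_bot_or_eq_top W with h | h
  · have h' : LinearMap.range L = ⊥ := congrArg Subrepresentation.toSubmodule h
    rw [LinearMap.range_eq_bot, hL] at h'
    exact (LinearEquiv.map_eq_zero_iff Matrix.toLin').1 h'
  · exfalso
    have h' : LinearMap.range L = ⊤ := congrArg Subrepresentation.toSubmodule h
    have hsurj : Function.Surjective (Matrix.mulVec A) := fun v => by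
      obtain ⟨u, hu⟩ := LinearMap.range_eq_top.1 h' v
      exact ⟨u, by rw [← hu, hL, Matrix.toLin'_apply]⟩
    have hunit := Matrix.mulVec_surjective_iff_isUnit.1 hsurj
    rw [Matrix.isUnit_iff_isUnit_det, hdet] at hunit
    exact not_isUnit_zero hunit

/-- The squares map has average one on a real irreducible character of odd degree. -/
theorem sum_sq_of_real_odd (χ : IrrCharacter G) (hodd : Odd (charDegree (χ : G → ℂ)))
    (hreal : ∀ g, conj ((χ : G → ℂ) g) = (χ : G → ℂ) g) :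
    ∑ y : G, (χ : G → ℂ) (y * y) = (Nat.card G : ℂ) := by
  classical
  obtain ⟨d, ρ, hρ, hρe⟩ := χ.2
  have hd : d = charDegree (χ : G → ℂ) := by
    have h := irr_one_eq_charDegree χ
    rw [← hρe, Representation.char_one, Module.finrank_pi, Fintype.card_fin] at h
    rw [← hρe]
    exact_mod_cast h
  rw [← hd] at hodd
  set R : G → Matrix (Fin d) (Fin d) ℂ := fun g => LinearMap.toMatrix' (ρ g) with hR
  have hmul : ∀ g h, R (g * h) = R g * R h := fun g h => by
    simp only [hR, map_mul, LinearMap.toMatrix'_mul]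
  have hchar : ∀ g, (χ : G → ℂ) g = ∑ i, R g i i := fun g => by
    rw [← hρe]; exact trace_toMatrix (ρ g)
  have hsym : ∀ j l i k, ∑ y : G, R y i j * R y k l = ∑ y : G, R y k j * R y i l := by
    intro j l i k
    set B : Matrix (Fin d) (Fin d) ℂ :=
      ∑ y : G, R y * Matrix.single j l (1 : ℂ) * (R y).transpose with hB
    have hentry : ∀ a b, B a b = ∑ y : G, R y a j * R y b l := fun a b => by
      rw [hB, Matrix.sum_apply]
      refine Finset.sum_congr rfl fun y _ => ?_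
      simp [Matrix.mul_apply, Matrix.single_apply, ite_and, Finset.sum_ite_eq']
    have hBinv : ∀ h : G, R h * B * (R h).transpose = B := by
      intro h
      rw [hB, Finset.mul_sum, Finset.sum_mul]
      refine Fintype.sum_equiv (Equiv.mulLeft h) _ _ fun y => ?_
      simp only [Equiv.coe_mulLeft, hmul, Matrix.transpose_mul, mul_assoc]
    have hzero := antisym_invariant_eq_zero hodd ρ hρ (B - B.transpose)
      (by rw [Matrix.transpose_sub, Matrix.transpose_transpose, neg_sub]) (fun h => by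
        have e : R h * B.transpose * (R h).transpose = B.transpose := by
          conv_rhs => rw [← hBinv h]
          simp [Matrix.transpose_mul, mul_assoc]
        show R h * (B - B.transpose) * (R h).transpose = B - B.transpose
        rw [mul_sub, sub_mul, hBinv h, e])
    have h := congrFun (congrFun (sub_eq_zero.1 hzero) i) k
    rw [Matrix.transpose_apply, hentry, hentry] at h
    exact h
  have hnorm : ∑ y : G, (χ : G → ℂ) y * (χ : G → ℂ) y = (Nat.card G : ℂ) := by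
    have h := classInner_self_irr (G := G) χ.2
    simp only [classInner, hreal] at h
    rw [inv_mul_eq_one₀ (Nat.cast_ne_zero.2 Nat.card_pos.ne')] at h
    exact h.symm
  rw [← hnorm]
  simp only [hchar, hmul, Matrix.mul_apply, Finset.sum_mul, Finset.mul_sum]
  rw [Finset.sum_comm, Finset.sum_comm (γ := G)]
  refine Finset.sum_congr rfl fun i _ => ?_
  rw [Finset.sum_comm, Finset.sum_comm (γ := G)]
  refine Finset.sum_congr rfl fun j _ => ?_
  rw [hsym j i i j]

/-! ## The principal block -/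

variable {M : Ideal AlgInt} [M.IsPrime] (hM : IsPModular 2 M) (hS : Setup G)
include hM hS

theorem value_conj (χ : IrrCharacter G) {J z : G} (hJ : orderOf J = 2) (hz : orderOf z = 2) :
    (χ : G → ℂ) z = (χ : G → ℂ) J :=
  (irr_isConj χ (hS.conj J z hJ hz))

/-- A character of the principal block is constant on the elements of even order. -/
theorem value_singular {χ : IrrCharacter G} (hχ : χ ∈ principalBlock M G) {J g : G}
    (hJ : orderOf J = 2) (hg : 2 ∣ orderOf g) : (χ : G → ℂ) g = (χ : G → ℂ) J := by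
  classical
  obtain ⟨z, v, hz, hc, hv, rfl⟩ := singular_decomp hS hg
  set w : ↥(Subgroup.centralizer ({z} : Set G)) :=
    ⟨v, Subgroup.mem_centralizer_singleton_iff.2 hc.symm.eq⟩ with hw
  have h := irr_section_of_kernel hM (x := z) ⟨1, by rw [hz, pow_one]⟩ rfl hχ (oddCore z)
    (oddCore_coprime hS z) (v := w) (mem_oddCore hS hz (by rwa [hw, Subgroup.orderOf_mk]))
  rw [← value_conj hM hS χ hJ hz]
  exact h

/-- The block pairing of an involution with itself. -/
theorem blockPair_invol {J : G} (hJ : orderOf J = 2) :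
    blockPair (principalBlock M G) J J = 4 := by
  classical
  set C := Subgroup.centralizer ({J} : Set G) with hC
  haveI : Fintype C := Fintype.ofFinite C
  have h1 := sum_normSq_section_principal hM (x := J) ⟨1, by rw [hJ, pow_one]⟩ hC (y := 1)
    (by simpa using Nat.prime_two.ne_one)
  rw [OneMemClass.coe_one, mul_one, blockPair_principal_of_pComplement hM (oddCore J)
    (oddCore_coprime hS J) (oddCore_index_pow hS hJ) (by simpa using Nat.prime_two.ne_one),
    factorization_centralizer hS hJ] at h1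
  rw [h1]; norm_num

/-- Value at involutions. -/
theorem exists_val (χ : IrrCharacter G) : ∃ n : ℤ, ∀ z : G, orderOf z = 2 → (χ : G → ℂ) z = n := by
  obtain ⟨J, hJ⟩ := exists_invol hS
  obtain ⟨n, hn, -⟩ := char_involution χ hJ
  exact ⟨n, fun z hz => (value_conj hM hS χ hJ hz).trans hn⟩

theorem val_mod_four (χ : IrrCharacter G) {n : ℤ}
    (hn : ∀ z : G, orderOf z = 2 → (χ : G → ℂ) z = n) :
    (4 : ℤ) ∣ (charDegree (χ : G → ℂ) : ℤ) - n := by
  classical
  obtain ⟨P⟩ : Nonempty (Sylow 2 G) := inferInstance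
  haveI : Fintype (P : Subgroup G) := Fintype.ofFinite _
  obtain ⟨m, hm⟩ := exists_sum_subgroup_eq (P : Subgroup G) χ
  rw [hS.card_sylow P, ← Finset.add_sum_erase _ _ (Finset.mem_univ (1 : (P : Subgroup G))),
    Finset.sum_congr rfl (g := fun _ => (n : ℂ)) (fun x hx => hn _
      (Invol.order_two_of_sq (sylow_sq hS P x.2)
        (fun e => (Finset.mem_erase.1 hx).1 (Subtype.ext e)))),
    Finset.sum_const, Finset.card_erase_of_mem (Finset.mem_univ _), Finset.card_univ,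
    Fintype.card_eq_nat_card, hS.card_sylow P, OneMemClass.coe_one, irr_one_eq_charDegree] at hm
  refine ⟨(m : ℤ) - n, ?_⟩
  simp only [nsmul_eq_mul] at hm
  norm_num at hm
  have h : (charDegree (χ : G → ℂ) : ℤ) + 3 * n = 4 * m := by exact_mod_cast hm
  omega

/-- The block sum is four times the indicator of the elements of even order. -/
theorem sum_indicator {J : G} (hJ : orderOf J = 2) [DecidablePred (· ∈ principalBlock M G)] (g : G) :
    ∑ χ ∈ Finset.univ.filter (· ∈ principalBlock M G), (χ : G → ℂ) J * (χ : G → ℂ) g =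
      if 2 ∣ orderOf g then 4 else 0 := by
  classical
  have hreal : ∀ χ : IrrCharacter G, conj ((χ : G → ℂ) J) = (χ : G → ℂ) J := fun χ => by
    obtain ⟨n, hn, -⟩ := char_involution χ hJ
    rw [hn, map_intCast]
  have e : ∀ g : G, ∑ χ ∈ Finset.univ.filter (· ∈ principalBlock M G),
      (χ : G → ℂ) J * (χ : G → ℂ) g = blockPair (principalBlock M G) g J := fun g => by
    unfold blockPair
    exact Finset.sum_congr (by congr) fun χ _ => by rw [hreal, mul_comm]
  split_ifs with hg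
  · rw [← blockPair_invol hM hS hJ, ← e J]
    exact Finset.sum_congr rfl fun χ hχ => by
      rw [value_singular hM hS (Finset.mem_filter.1 hχ).2 hJ hg]
  · rw [e, blockPair_regular_singular hM (isPBlock_principalBlock M G) hg (by rw [hJ])]

/-- No member of the principal block vanishes at the involutions. -/
theorem val_ne_zero {χ : IrrCharacter G} (hχ : χ ∈ principalBlock M G) {J : G} (hJ : orderOf J = 2) :
    (χ : G → ℂ) J ≠ 0 := by
  classical
  intro h0
  have hne : (χ : G → ℂ) ≠ (principal G : G → ℂ) := fun e => by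
    have := congrFun e J
    rw [h0] at this
    exact zero_ne_one this
  have hsum : ∑ x ∈ Finset.univ.filter (fun x : G => ¬ 2 ∣ orderOf x), (χ : G → ℂ) x = 0 := by
    rw [Finset.sum_filter]
    have h := classInner_irr_of_ne χ.2 (principal G).2 hne
    simp only [classInner] at h
    rcases mul_eq_zero.1 h with h' | h'
    · exact absurd h' (inv_ne_zero (Nat.cast_ne_zero.2 Nat.card_pos.ne'))
    · refine Eq.trans (Finset.sum_congr rfl fun x _ => ?_) h'
      show _ = (χ : G → ℂ) x * conj ((1 : ℂ))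
      rw [map_one, mul_one]
      split_ifs with hx
      all_goals first
        | rfl
        | rw [value_singular hM hS hχ hJ hx, h0]
  refine sum_regular_not_mem hM (ψ := principal G) principal_mem_principalBlock
    (by show ¬ 2 ∣ charDegree (fun _ : G => (1 : ℂ)); simp [charDegree]) ?_
  let E : MonoidAlgebra (locRing M) G := gaOfFun fun x => if ¬ 2 ∣ orderOf x then 1 else 0
  have hE : IsClassElt E := isClassElt_gaOfFun fun g k => by
    rw [← MulAut.conj_apply, MulEquiv.orderOf_eq]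
  have h := omegaR_congr (χ := principal G) (ψ := χ) hχ hE
  have hval : ∀ φ : IrrCharacter G, omegaR φ E =
      (∑ x ∈ Finset.univ.filter (fun x : G => ¬ 2 ∣ orderOf x), (φ : G → ℂ) x) / (φ : G → ℂ) 1 := by
    intro φ
    rw [omega_eq_sum_div, Finset.sum_filter]
    congr 1
    refine Finset.sum_congr rfl fun x _ => ?_
    simp only [E, coeff_gaOfFun]
    split_ifs <;> simp
  rw [hval, hval, hsum, zero_div, sub_zero] at h
  rw [show ((principal G : G → ℂ) 1) = 1 from rfl, div_one] at h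
  exact h

/-- The principal block has exactly four members. -/
theorem exists_three :
    ∃ χ₁ χ₂ χ₃ : IrrCharacter G,
      ((χ₁ : G → ℂ) ≠ (fun _ => 1) ∧ (χ₂ : G → ℂ) ≠ (fun _ => 1) ∧ (χ₃ : G → ℂ) ≠ (fun _ => 1) ∧
        χ₁ ≠ χ₂ ∧ χ₁ ≠ χ₃ ∧ χ₂ ≠ χ₃) ∧
      principalBlock M G = {χ : IrrCharacter G | (χ : G → ℂ) = (fun _ => 1) ∨ χ = χ₁ ∨ χ = χ₂ ∨ χ = χ₃} ∧
      ∃ ε₁ ε₂ ε₃ : ℤ, ((ε₁ = 1 ∨ ε₁ = -1) ∧ (ε₂ = 1 ∨ ε₂ = -1) ∧ (ε₃ = 1 ∨ ε₃ = -1)) ∧
        ∀ z : G, orderOf z = 2 →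
          (χ₁ : G → ℂ) z = ε₁ ∧ (χ₂ : G → ℂ) z = ε₂ ∧ (χ₃ : G → ℂ) z = ε₃ := by
  classical
  obtain ⟨J, hJ⟩ := exists_invol hS
  choose n hn using exists_val hM hS
  set Bf := Finset.univ.filter (· ∈ principalBlock M G) with hBf
  have h1B : principal G ∈ Bf := Finset.mem_filter.2 ⟨Finset.mem_univ _, principal_mem_principalBlock⟩
  have hn1 : n (principal G) = 1 := by
    have h := hn (principal G) J hJ
    have h' : ((n (principal G) : ℤ) : ℂ) = ((1 : ℤ) : ℂ) := by rw [← h]; simp [principal]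
    exact_mod_cast h'
  have hsum : ∑ χ ∈ Bf, n χ * n χ = 4 := by
    have h := sum_indicator hM hS hJ J
    rw [if_pos (by rw [hJ])] at h
    simp only [hn _ J hJ] at h
    exact_mod_cast h
  have hrest : ∑ χ ∈ Bf.erase (principal G), n χ * n χ = 3 := by
    have := Finset.add_sum_erase Bf (fun χ => n χ * n χ) h1B
    rw [hsum, hn1] at this
    omega
  have hone : ∀ χ ∈ Bf.erase (principal G), n χ * n χ = 1 := by
    intro χ hχ
    have hle : n χ * n χ ≤ 3 := hrest ▸ Finset.single_le_sum (fun x _ => mul_self_nonneg (n x)) hχ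
    have hne : n χ ≠ 0 := fun e => val_ne_zero hM hS
      (Finset.mem_filter.1 (Finset.mem_erase.1 hχ).2).2 hJ (by rw [hn _ J hJ, e, Int.cast_zero])
    have : n χ = 1 ∨ n χ = -1 := by
      have h2 : -2 < n χ ∧ n χ < 2 := ⟨by nlinarith, by nlinarith⟩
      omega
    rcases this with e | e <;> rw [e] <;> norm_num
  have hcard : (Bf.erase (principal G)).card = 3 := by
    rw [Finset.sum_congr rfl hone, Finset.sum_const, nsmul_eq_mul, mul_one] at hrest
    exact_mod_cast hrest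
  obtain ⟨χ₁, χ₂, χ₃, h12, h13, h23, he⟩ := Finset.card_eq_three.1 hcard
  have hmem : ∀ χ, χ ∈ Bf.erase (principal G) ↔ χ = χ₁ ∨ χ = χ₂ ∨ χ = χ₃ := fun χ => by
    simp [he]
  have hne : ∀ χ ∈ Bf.erase (principal G), (χ : G → ℂ) ≠ (fun _ => 1) := fun χ hχ e =>
    (Finset.mem_erase.1 hχ).1 (Subtype.ext e)
  have hpm : ∀ χ ∈ Bf.erase (principal G), n χ = 1 ∨ n χ = -1 := fun χ hχ =>
    Int.eq_one_or_neg_one_of_mul_eq_one (hone χ hχ)
  have m1 := (hmem χ₁).2 (Or.inl rfl)
  have m2 := (hmem χ₂).2 (Or.inr (Or.inl rfl))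
  have m3 := (hmem χ₃).2 (Or.inr (Or.inr rfl))
  refine ⟨χ₁, χ₂, χ₃, ⟨hne _ m1, hne _ m2, hne _ m3, h12, h13, h23⟩, ?_,
    n χ₁, n χ₂, n χ₃, ⟨hpm _ m1, hpm _ m2, hpm _ m3⟩, fun z hz => ⟨hn _ z hz, hn _ z hz, hn _ z hz⟩⟩
  ext χ
  constructor
  · intro hχ
    by_cases e : χ = principal G
    · exact Or.inl (by rw [e]; rfl)
    · exact Or.inr ((hmem χ).1 (Finset.mem_erase.2 ⟨e, Finset.mem_filter.2 ⟨Finset.mem_univ _, hχ⟩⟩))
  · rintro (e | e)
    · rw [show χ = principal G from Subtype.ext e]; exact principal_mem_principalBlock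
    · exact (Finset.mem_filter.1 (Finset.mem_erase.1 ((hmem χ).2 e)).2).2

section Four

variable (χ₁ χ₂ χ₃ : IrrCharacter G) (ε₁ ε₂ ε₃ : ℤ) {J : G} (hJ : orderOf J = 2)
  (hB : principalBlock M G =
    {χ : IrrCharacter G | (χ : G → ℂ) = (fun _ => 1) ∨ χ = χ₁ ∨ χ = χ₂ ∨ χ = χ₃})
  (hdist : (χ₁ : G → ℂ) ≠ (fun _ => 1) ∧ (χ₂ : G → ℂ) ≠ (fun _ => 1) ∧
    (χ₃ : G → ℂ) ≠ (fun _ => 1) ∧ χ₁ ≠ χ₂ ∧ χ₁ ≠ χ₃ ∧ χ₂ ≠ χ₃)
  (hval : (χ₁ : G → ℂ) J = ε₁ ∧ (χ₂ : G → ℂ) J = ε₂ ∧ (χ₃ : G → ℂ) J = ε₃)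
include hJ hB hdist hval

theorem four_sum [DecidablePred (· ∈ principalBlock M G)] (f : IrrCharacter G → ℂ) :
    ∑ χ ∈ Finset.univ.filter (· ∈ principalBlock M G), f χ =
      f (principal G) + f χ₁ + f χ₂ + f χ₃ := by
  classical
  obtain ⟨h1, h2, h3, h12, h13, h23⟩ := hdist
  have e1 : principal G ≠ χ₁ := fun e => h1 (e ▸ rfl)
  have e2 : principal G ≠ χ₂ := fun e => h2 (e ▸ rfl)
  have e3 : principal G ≠ χ₃ := fun e => h3 (e ▸ rfl)
  have e : Finset.univ.filter (· ∈ principalBlock M G) = {principal G, χ₁, χ₂, χ₃} := by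
    ext χ
    simp only [Finset.mem_filter, Finset.mem_univ, true_and, Finset.mem_insert, Finset.mem_singleton,
      hB, Set.mem_setOf_eq]
    exact or_congr_left ⟨fun h => Subtype.ext h, fun h => by rw [h]; rfl⟩
  rw [e, Finset.sum_insert (by simp [e1, e2, e3]), Finset.sum_insert (by simp [h12, h13]),
    Finset.sum_pair h23]
  ring

/-- The relation on the block. -/
theorem four_indicator (g : G) :
    1 + (ε₁ : ℂ) * (χ₁ : G → ℂ) g + (ε₂ : ℂ) * (χ₂ : G → ℂ) g + (ε₃ : ℂ) * (χ₃ : G → ℂ) g =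
      if 2 ∣ orderOf g then 4 else 0 := by
  classical
  rw [← sum_indicator hM hS hJ g, four_sum hM hS χ₁ χ₂ χ₃ ε₁ ε₂ ε₃ hJ hB hdist hval,
    hval.1, hval.2.1, hval.2.2]
  simp [principal]

/-- The degree relation. -/
theorem degree_relation :
    1 + ε₁ * (charDegree (χ₁ : G → ℂ) : ℤ) + ε₂ * (charDegree (χ₂ : G → ℂ) : ℤ) +
      ε₃ * (charDegree (χ₃ : G → ℂ) : ℤ) = 0 := by
  have h := four_indicator hM hS χ₁ χ₂ χ₃ ε₁ ε₂ ε₃ hJ hB hdist hval 1
  rw [if_neg (by simp), irr_one_eq_charDegree, irr_one_eq_charDegree, irr_one_eq_charDegree] at h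
  exact_mod_cast h

theorem mod_four : (4 : ℤ) ∣ (charDegree (χ₁ : G → ℂ) : ℤ) - ε₁ ∧
    (4 : ℤ) ∣ (charDegree (χ₂ : G → ℂ) : ℤ) - ε₂ ∧ (4 : ℤ) ∣ (charDegree (χ₃ : G → ℂ) : ℤ) - ε₃ :=
  ⟨val_mod_four hM hS χ₁ fun z hz => (value_conj hM hS χ₁ hJ hz).trans hval.1,
    val_mod_four hM hS χ₂ fun z hz => (value_conj hM hS χ₂ hJ hz).trans hval.2.1,
    val_mod_four hM hS χ₃ fun z hz => (value_conj hM hS χ₃ hJ hz).trans hval.2.2⟩

/-- The order formula. -/
theorem order_formula (hε : (ε₁ = 1 ∨ ε₁ = -1) ∧ (ε₂ = 1 ∨ ε₂ = -1) ∧ (ε₃ = 1 ∨ ε₃ = -1))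
    (P : Sylow 2 G) {r : ℕ} (hr : Nat.card ↥(Subgroup.centralizer ({J} : Set G)) =
      r * Nat.card ↥(Subgroup.centralizer ((P : Subgroup G) : Set G))) :
    (Nat.card G : ℚ) * (1 + (ε₁ : ℚ) / charDegree (χ₁ : G → ℂ) + (ε₂ : ℚ) / charDegree (χ₂ : G → ℂ) +
      (ε₃ : ℚ) / charDegree (χ₃ : G → ℂ)) =
      8 * (r : ℚ) ^ 3 * Nat.card ↥(Subgroup.centralizer ((P : Subgroup G) : Set G)) := by
  classical
  set I : Finset G := Finset.univ.filter fun a => orderOf a = 2 with hI
  set cI : ℕ := I.card with hcI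
  have hmemI : ∀ a, a ∈ I ↔ IsConj J a := by
    intro a
    simp only [hI, Finset.mem_filter, Finset.mem_univ, true_and]
    refine ⟨fun h => hS.conj J a hJ h, fun h => ?_⟩
    obtain ⟨c, rfl⟩ := isConj_iff.1 h
    rw [Invol.order_conj, hJ]
  have hindex : cI = (Subgroup.centralizer ({J} : Set G)).index := by
    rw [← card_isConj_eq_index, hcI, Nat.card_eq_fintype_card, Fintype.card_subtype]
    congr 1
    ext a
    simp [hmemI]
  -- the left hand count
  have hleft : ∑ a ∈ I, ∑ b ∈ I, (if 2 ∣ orderOf (a * b) then (4 : ℂ) else 0) =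
      (cI : ℂ) * (4 * (2 * r * r : ℕ)) := by
    rw [Finset.sum_congr rfl (g := fun _ => (4 : ℂ) * (2 * r * r : ℕ)) (fun a ha => ?_),
      Finset.sum_const, nsmul_eq_mul, hcI]
    have hao : orderOf a = 2 := (Finset.mem_filter.1 ha).2
    rw [← Finset.sum_filter, Finset.sum_const, nsmul_eq_mul, mul_comm]
    congr 2
    rw [← card_pairs hS hao P (by rw [card_centralizer hS hJ hao, hr]), Nat.card_eq_fintype_card,
      Fintype.card_subtype, hI, Finset.filter_filter]
  -- the characters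
  have hscal : ∀ χ : IrrCharacter G, ∑ a ∈ I, ∑ b ∈ I, (χ : G → ℂ) (a * b) =
      (χ : G → ℂ) 1 * ((cI : ℂ) * (χ : G → ℂ) J / (χ : G → ℂ) 1) ^ 2 := by
    intro χ
    have hx : IsClassElt (classSum ℂ J) := isClassElt_classSum J
    have hsum : classSum ℂ J = ∑ a ∈ I, MonoidAlgebra.single a (1 : ℂ) := by
      refine gaExt fun y => ?_
      rw [coeff_classSum, MonoidAlgebra.coeff_sum, Finset.sum_apply']
      simp only [MonoidAlgebra.coeff_single, Finsupp.single_apply, Finset.sum_ite_eq', ← hmemI]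
    have hom : ∀ g : G, omega χ (MonoidAlgebra.single g (1 : ℂ)) = (χ : G → ℂ) g / (χ : G → ℂ) 1 := by
      intro g
      simp [omega, Finsupp.single_apply]
    have h2 := omega_mul χ hx hx
    rw [omega_classSum, centralChar, ← hindex] at h2
    rw [hsum, Finset.sum_mul, omega_sum] at h2
    simp only [Finset.mul_sum, omega_sum, MonoidAlgebra.single_mul_single, mul_one, hom,
      ← Finset.sum_div] at h2
    rw [div_eq_iff (irr_one_ne_zero χ)] at h2
    rw [h2]; ring
  have hleft' : ∑ a ∈ I, ∑ b ∈ I, (if 2 ∣ orderOf (a * b) then (4 : ℂ) else 0) =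
      ∑ a ∈ I, ∑ b ∈ I, (1 + (ε₁ : ℂ) * (χ₁ : G → ℂ) (a * b) + (ε₂ : ℂ) * (χ₂ : G → ℂ) (a * b) +
        (ε₃ : ℂ) * (χ₃ : G → ℂ) (a * b)) :=
    Finset.sum_congr rfl fun a _ => Finset.sum_congr rfl fun b _ =>
      (four_indicator hM hS χ₁ χ₂ χ₃ ε₁ ε₂ ε₃ hJ hB hdist hval _).symm
  rw [hleft] at hleft'
  simp only [Finset.sum_add_distrib, ← Finset.mul_sum, hscal, Finset.sum_const, nsmul_eq_mul,
    mul_one, hval.1, hval.2.1, hval.2.2, irr_one_eq_charDegree, ← hcI] at hleft'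
  have d1 : (charDegree (χ₁ : G → ℂ) : ℂ) ≠ 0 := Nat.cast_ne_zero.2 (charDegree_pos χ₁).ne'
  have d2 : (charDegree (χ₂ : G → ℂ) : ℂ) ≠ 0 := Nat.cast_ne_zero.2 (charDegree_pos χ₂).ne'
  have d3 : (charDegree (χ₃ : G → ℂ) : ℂ) ≠ 0 := Nat.cast_ne_zero.2 (charDegree_pos χ₃).ne'
  have c1 : (ε₁ : ℂ) ^ 3 = ε₁ := by rcases hε.1 with e | e <;> rw [e] <;> norm_num
  have c2 : (ε₂ : ℂ) ^ 3 = ε₂ := by rcases hε.2.1 with e | e <;> rw [e] <;> norm_num
  have c3 : (ε₃ : ℂ) ^ 3 = ε₃ := by rcases hε.2.2 with e | e <;> rw [e] <;> norm_num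
  have hcI0 : (cI : ℂ) ≠ 0 := by
    rw [hindex]; exact Nat.cast_ne_zero.2 Subgroup.index_ne_zero_of_finite
  have hG : (Nat.card G : ℂ) = (cI : ℂ) *
      ((r : ℂ) * Nat.card ↥(Subgroup.centralizer ((P : Subgroup G) : Set G))) := by
    rw [hindex, ← Nat.cast_mul, ← Nat.cast_mul, ← hr, mul_comm, Subgroup.card_mul_index]
  have key : (cI : ℂ) * (1 + (ε₁ : ℂ) / charDegree (χ₁ : G → ℂ) + (ε₂ : ℂ) / charDegree (χ₂ : G → ℂ) +
      (ε₃ : ℂ) / charDegree (χ₃ : G → ℂ)) = 8 * (r : ℂ) ^ 2 := by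
    apply mul_left_cancel₀ hcI0
    field_simp at hleft' ⊢
    push_cast at hleft'
    linear_combination (-1 : ℂ) * hleft' - (cI : ℂ) * (charDegree (χ₂ : G → ℂ) : ℂ) * (charDegree (χ₃ : G → ℂ) : ℂ) * c1
      - (cI : ℂ) * (charDegree (χ₁ : G → ℂ) : ℂ) * (charDegree (χ₃ : G → ℂ) : ℂ) * c2
      - (cI : ℂ) * (charDegree (χ₁ : G → ℂ) : ℂ) * (charDegree (χ₂ : G → ℂ) : ℂ) * c3
  apply (Rat.cast_injective (α := ℂ))
  push_cast
  rw [hG]
  linear_combination (r : ℂ) * (Nat.card ↥(Subgroup.centralizer ((P : Subgroup G) : Set G)) : ℂ) * key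

/-- The two characters positive at the involutions are not both real. -/
theorem not_both_real (h1 : ε₁ = 1) (h2 : ε₂ = 1) (h3 : ε₃ = -1) :
    ¬ ((∀ g, conj ((χ₁ : G → ℂ) g) = (χ₁ : G → ℂ) g) ∧
      ∀ g, conj ((χ₂ : G → ℂ) g) = (χ₂ : G → ℂ) g) := by
  classical
  rintro ⟨r1, r2⟩
  obtain ⟨m1, m2, m3⟩ := mod_four hM hS χ₁ χ₂ χ₃ ε₁ ε₂ ε₃ hJ hB hdist hval
  have r3 : ∀ g, conj ((χ₃ : G → ℂ) g) = (χ₃ : G → ℂ) g := by
    intro g
    have e := four_indicator hM hS χ₁ χ₂ χ₃ ε₁ ε₂ ε₃ hJ hB hdist hval g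
    rw [h1, h2, h3] at e
    push_cast at e
    have e3 : (χ₃ : G → ℂ) g = 1 + (χ₁ : G → ℂ) g + (χ₂ : G → ℂ) g -
        (if 2 ∣ orderOf g then 4 else 0) := by rw [← e]; ring
    rw [e3, map_sub, map_add, map_add, r1 g, r2 g, map_one]
    split_ifs <;> simp [Complex.conj_ofNat]
  have hodd : ∀ {χ : IrrCharacter G} {ε : ℤ}, (ε = 1 ∨ ε = -1) →
      (4 : ℤ) ∣ (charDegree (χ : G → ℂ) : ℤ) - ε → Odd (charDegree (χ : G → ℂ)) := by
    intro χ ε he hm
    rw [Nat.odd_iff]; omega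
  have e : ∑ y : G, (1 + (ε₁ : ℂ) * (χ₁ : G → ℂ) (y * y) + (ε₂ : ℂ) * (χ₂ : G → ℂ) (y * y) +
      (ε₃ : ℂ) * (χ₃ : G → ℂ) (y * y)) = 0 := by
    refine Finset.sum_eq_zero fun y _ => ?_
    rw [four_indicator hM hS χ₁ χ₂ χ₃ ε₁ ε₂ ε₃ hJ hB hdist hval, if_neg]
    intro hy
    rw [← pow_two, orderOf_pow] at hy
    by_cases h : 2 ∣ orderOf y
    · have hh := odd_half hS h
      rw [Nat.gcd_eq_right h] at hy
      exact (Nat.not_even_iff_odd.2 hh) (even_iff_two_dvd.2 hy)
    · rw [Nat.Coprime.gcd_eq_one ((Nat.prime_two.coprime_iff_not_dvd.2 h).symm), Nat.div_one] at hy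
      exact h hy
  simp only [Finset.sum_add_distrib, ← Finset.mul_sum, Finset.sum_const, Finset.card_univ,
    sum_sq_of_real_odd χ₁ (hodd (Or.inl h1) m1) r1, sum_sq_of_real_odd χ₂ (hodd (Or.inl h2) m2) r2,
    sum_sq_of_real_odd χ₃ (hodd (Or.inr h3) m3) r3, h1, h2, h3, Nat.card_eq_fintype_card,
    nsmul_eq_mul] at e
  push_cast at e
  have : (Fintype.card G : ℂ) = 0 := by linear_combination e / 2
  exact Fintype.card_ne_zero (Nat.cast_eq_zero.1 this)

/-- The two characters positive at the involutions have the same degree. -/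
theorem degree_eq (h1 : ε₁ = 1) (h2 : ε₂ = 1) (h3 : ε₃ = -1) :
    charDegree (χ₁ : G → ℂ) = charDegree (χ₂ : G → ℂ) := by
  classical
  have hmemB : ∀ {χ}, χ = χ₁ ∨ χ = χ₂ ∨ χ = χ₃ → χ ∈ principalBlock M G := fun h => by
    rw [hB]; exact Or.inr h
  have key : ∀ χ : IrrCharacter G, χ = χ₁ ∨ χ = χ₂ →
      (¬ ∀ g, conj ((χ : G → ℂ) g) = (χ : G → ℂ) g) → conjIrr χ = χ₁ ∨ conjIrr χ = χ₂ := by
    intro χ hχ hnr
    have hc : conjIrr χ ∈ principalBlock M G := by
      have hp : conjIrr (principal G) = principal G := Subtype.ext (funext fun g => by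
        simp [conjIrr_apply, principal])
      exact conjIrr_mem (isPBlock_principalBlock M G) principal_mem_principalBlock
        (by rw [hp]; exact principal_mem_principalBlock) (hmemB (hχ.imp_right Or.inl))
    have hJv : (conjIrr χ : G → ℂ) J = 1 := by
      rw [conjIrr_apply]
      rcases hχ with e | e <;> rw [e]
      · rw [hval.1, h1]; simp
      · rw [hval.2.1, h2]; simp
    rw [hB] at hc
    rcases hc with e | e | e | e
    · refine absurd (fun g => ?_) hnr
      have h := congrFun e g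
      rw [conjIrr_apply] at h
      have h' : (χ : G → ℂ) g = 1 := by rw [← Complex.conj_conj ((χ : G → ℂ) g), h, map_one]
      rw [h', map_one]
    · exact Or.inl e
    · exact Or.inr e
    · rw [e, hval.2.2, h3] at hJv
      norm_num at hJv
  by_cases r1 : ∀ g, conj ((χ₁ : G → ℂ) g) = (χ₁ : G → ℂ) g
  · have r2 : ¬ ∀ g, conj ((χ₂ : G → ℂ) g) = (χ₂ : G → ℂ) g := fun r2 =>
      not_both_real hM hS χ₁ χ₂ χ₃ ε₁ ε₂ ε₃ hJ hB hdist hval h1 h2 h3 ⟨r1, r2⟩
    rcases key χ₂ (Or.inr rfl) r2 with e | e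
    · rw [← e, charDegree_conjIrr]
    · exact absurd (fun g => congrFun (congrArg Subtype.val e) g) r2
  · rcases key χ₁ (Or.inl rfl) r1 with e | e
    · exact absurd (fun g => congrFun (congrArg Subtype.val e) g) r1
    · rw [← e, charDegree_conjIrr]

end Four

end Cfsg.Agent.KleinBlock
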