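/-
Külshammer's formula for the idempotent of the principal block.
-/
import Cfsg.Agent.Lib.Blocks.GreenDefect
import Cfsg.Agent.Lib.Blocks.RegularSum
import Cfsg.Agent.Lib.Blocks.HeightZero
import Cfsg.Agent.Lib.Blocks.GenChar

set_option linter.unusedSectionVars false
set_option linter.style.haveILetI false

namespace Cfsg.Agent.Blocks

open Cfsg MonoidAlgebra Cfsg.Agent.Char
open scoped ComplexConjugate

universe u

variable {G : Type u} [Group G] [Fintype G] {p : ℕ} {M : Ideal AlgInt} [M.IsPrime]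

/-- The p-part of the group order divides the sum of a character over the p-elements. -/
theorem isIntegral_pElement_sum (hp : p.Prime) {φ : G → ℂ} (hφ : IsCharacter G φ)
    [DecidablePred fun x : G => ∃ k, orderOf x = p ^ k] :
    IsIntegral ℤ ((∑ x ∈ Finset.univ.filter (fun x : G => ∃ k, orderOf x = p ^ k), φ x) /
      ((p ^ (Nat.card G).factorization p : ℕ) : ℂ)) := by
  classical
  haveI := Fact.mk hp
  obtain ⟨P⟩ : Nonempty (Sylow p (Subgroup.centralizer ({(1 : G)} : Set G))) := inferInstance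
  set F : G → ℂ := cosetFun (sylowImage P) 1 with hF
  have hcomm : ∀ u ∈ sylowImage P, Commute (1 : G) u := fun u _ => Commute.one_left u
  have hs : ¬ p ∣ orderOf (1 : G) := by simpa using hp.ne_one
  have hoff : ∀ x : G, (¬ ∃ k, orderOf x = p ^ k) → F x = 0 := fun x hx => by
    by_contra hne
    obtain ⟨g, u, hu, he⟩ := exists_of_cosetFun_ne_zero hne
    obtain ⟨j, hj⟩ := (IsPGroup.iff_orderOf).1 (isPGroup_sylowImage P) ⟨u, hu⟩
    rw [← Subgroup.orderOf_coe] at hj
    refine hx ⟨j, ?_⟩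
    rw [show x = g * ((1 : G) * u) * g⁻¹ by rw [← he]; group, one_mul, ← MulAut.conj_apply,
      MulEquiv.orderOf_eq]
    exact hj
  have hval : ∀ x : G, (∃ k, orderOf x = p ^ k) → ∃ m : ℕ, ¬ p ∣ m ∧ F x = (m : ℂ) := fun x hx => by
    obtain ⟨m, hm, hme⟩ := cosetFun_value hp hs P (u := x) hx (Commute.one_left x)
    exact ⟨m, hm, by rw [hF, ← hme, one_mul]⟩
  set b := (Nat.card G).factorization p with hb
  have hN : 0 < Nat.totient (p ^ b) := Nat.totient_pos.2 (pow_pos hp.pos b)
  obtain ⟨N, hN'⟩ := Nat.exists_eq_add_one.2 hN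
  have hI := intTest_pow (isClassFunction_cosetFun _ _) (intTest_cosetFun _ hcomm) N φ hφ
  have hpc : ((p ^ b : ℕ) : ℂ) ≠ 0 := Nat.cast_ne_zero.2 (pow_ne_zero _ hp.ne_zero)
  obtain ⟨c, hc⟩ : p ^ b ∣ Nat.card G := Nat.ordProj_dvd _ _
  have h1 : IsIntegral ℤ ((∑ x ∈ Finset.univ.filter (fun x : G => ∃ k, orderOf x = p ^ k),
      F x ^ (N + 1) * φ x) / ((p ^ b : ℕ) : ℂ)) := by
    have e : (∑ x ∈ Finset.univ.filter (fun x : G => ∃ k, orderOf x = p ^ k),
        F x ^ (N + 1) * φ x) / ((p ^ b : ℕ) : ℂ) =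
        (c : ℂ) * ((Nat.card G : ℂ)⁻¹ * ∑ x, (F ^ (N + 1)) x * φ x) := by
      have hsum : ∑ x, (F ^ (N + 1)) x * φ x =
          ∑ x ∈ Finset.univ.filter (fun x : G => ∃ k, orderOf x = p ^ k), F x ^ (N + 1) * φ x := by
        rw [Finset.sum_filter]
        refine Finset.sum_congr rfl fun x _ => ?_
        by_cases hx : ∃ k, orderOf x = p ^ k
        · rw [if_pos hx, Pi.pow_apply]
        · rw [if_neg hx, Pi.pow_apply, hoff x hx, zero_pow (Nat.succ_ne_zero N), zero_mul]
      rw [hsum, hc, Nat.cast_mul]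
      have hc0 : (c : ℂ) ≠ 0 := Nat.cast_ne_zero.2 fun h0 => (Nat.card_pos (α := G)).ne' (by
        rw [hc, h0, mul_zero])
      field_simp
    rw [e]
    exact (isIntegral_natCast c).mul hI
  have h2 : IsIntegral ℤ ((∑ x ∈ Finset.univ.filter (fun x : G => ∃ k, orderOf x = p ^ k),
      (1 - F x ^ (N + 1)) * φ x) / ((p ^ b : ℕ) : ℂ)) := by
    rw [Finset.sum_div]
    refine IsIntegral.sum _ fun x hx => ?_
    obtain ⟨m, hm, hme⟩ := hval x (Finset.mem_filter.1 hx).2
    have hmod : m ^ (N + 1) ≡ 1 [MOD p ^ b] := by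
      rw [← hN']
      exact Nat.ModEq.pow_totient (Nat.Coprime.pow_right b ((hp.coprime_iff_not_dvd.2 hm).symm))
    obtain ⟨z, hz⟩ := Nat.modEq_iff_dvd.1 hmod
    have hz' : (1 : ℂ) - (m : ℂ) ^ (N + 1) = ((p ^ b : ℕ) : ℂ) * (z : ℂ) := by
      have := congrArg (fun w : ℤ => (w : ℂ)) hz
      push_cast at this ⊢
      exact this
    rw [hme, hz', show ((p ^ b : ℕ) : ℂ) * (z : ℂ) * φ x / ((p ^ b : ℕ) : ℂ) = (z : ℂ) * φ x by
      field_simp]
    exact (isIntegral_algebraMap (R := ℤ) (x := z)).mul (IsCharacter.isIntegral hφ x)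
  have := h2.add h1
  rw [← add_div, ← Finset.sum_add_distrib] at this
  rw [Finset.sum_congr rfl (fun x _ => by ring :
    ∀ x ∈ Finset.univ.filter (fun x : G => ∃ k, orderOf x = p ^ k),
      (1 - F x ^ (N + 1)) * φ x + F x ^ (N + 1) * φ x = φ x)] at this
  exact this

/-- Translating the sum of a class function against an irreducible character. -/
theorem sum_classFun_mul (χ : IrrCharacter G) {f : G → ℂ} (hf : IsClassFunction G f) (u : G) :
    ∑ z, f z * (χ : G → ℂ) (u * z) =
      (∑ z, f z * (χ : G → ℂ) z) / (χ : G → ℂ) 1 * (χ : G → ℂ) u := by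
  classical
  have hG : (Nat.card G : ℂ) ≠ 0 := Nat.cast_ne_zero.2 Nat.card_pos.ne'
  refine mul_left_cancel₀ hG ?_
  have h1 : ∀ c : G, ∑ z, f z * (χ : G → ℂ) (u * (c⁻¹ * z * c)) =
      ∑ z, f z * (χ : G → ℂ) (u * z) := fun c => by
    refine Fintype.sum_equiv (MulAut.conj c⁻¹).toEquiv _ _ fun z => ?_
    simp only [MulEquiv.toEquiv_eq_coe, EquivLike.coe_coe, MulAut.conj_apply, inv_inv]
    rw [show f (c⁻¹ * z * c) = f z by simpa using hf z c⁻¹]
  calc (Nat.card G : ℂ) * ∑ z, f z * (χ : G → ℂ) (u * z)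
      = ∑ z, f z * ∑ c : G, (χ : G → ℂ) (u * (c⁻¹ * z * c)) := by
        simp only [Finset.mul_sum]
        conv_rhs => rw [Finset.sum_comm]; arg 2; ext c; rw [h1 c]
        rw [Finset.sum_comm]
        refine Finset.sum_congr rfl fun z _ => ?_
        rw [Finset.sum_const, Finset.card_univ, nsmul_eq_mul, Nat.card_eq_fintype_card]
    _ = _ := by
        rw [Finset.sum_div, Finset.sum_mul, Finset.mul_sum]
        refine Finset.sum_congr rfl fun z _ => ?_
        rw [sum_conj_eq z (fun y => (χ : G → ℂ) (u * y)), sum_classFinset_mul, centralChar,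
          ← Subgroup.card_mul_index (Subgroup.centralizer ({z} : Set G)), Nat.cast_mul]
        ring

/-- Külshammer's congruence. -/
theorem kulshammer (hM : IsPModular p M) [Fact p.Prime] {g : G} (hg : ¬ p ∣ orderOf g) :
    MemLocalIdeal M (blockCoeff (principalBlock M G) g -
      (Nat.card {xy : G × G // (∃ k : ℕ, orderOf xy.1 = p ^ k) ∧ ¬ p ∣ orderOf xy.2 ∧
        xy.1 * xy.2 = g} : ℂ) / (Nat.card {y : G // ¬ p ∣ orderOf y} : ℂ)) := by
  classical
  set B := principalBlock M G with hBdef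
  have hB : IsPBlock M B := isPBlock_principalBlock M G
  have h1B : Cfsg.Agent.Char.principal G ∈ B := principal_mem_principalBlock
  set R : ℂ := (Nat.card {y : G // ¬ p ∣ orderOf y} : ℂ) with hR
  set N : ℂ := (Nat.card {xy : G × G // (∃ k : ℕ, orderOf xy.1 = p ^ k) ∧ ¬ p ∣ orderOf xy.2 ∧
    xy.1 * xy.2 = g} : ℂ) with hN
  set Pe := Finset.univ.filter (fun x : G => ∃ k, orderOf x = p ^ k) with hPe
  let F : G → ℂ := fun u => if p ∣ orderOf u then 0 else 1
  let T : IrrCharacter G → ℂ := fun χ => (∑ x ∈ Pe, (χ : G → ℂ) x) / (Nat.card G : ℂ)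
  let W : IrrCharacter G → ℂ := fun χ => (∑ u, F u * (χ : G → ℂ) u) / (χ : G → ℂ) 1
  have hFc : IsClassFunction G F := fun x c => by
    simp only [F, ← MulAut.conj_apply, MulEquiv.orderOf_eq]
  have hinv : ∀ f : G → ℂ, ∑ x ∈ Pe, f x⁻¹ = ∑ x ∈ Pe, f x := fun f => by
    refine Finset.sum_nbij' (·⁻¹) (·⁻¹) ?_ ?_ (by simp) (by simp) (by simp) <;>
    · intro x hx
      simpa [hPe] using hx
  -- the number of factorisations
  have hN' : N = ∑ x ∈ Pe, F (x⁻¹ * g) := by
    have e : ∀ x ∈ Pe, F (x⁻¹ * g) = if ¬ p ∣ orderOf (x⁻¹ * g) then 1 else 0 := fun x _ => by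
      simp only [F]; by_cases h : p ∣ orderOf (x⁻¹ * g) <;> simp [h]
    rw [Finset.sum_congr rfl e, Finset.sum_boole, hN, Nat.card_eq_fintype_card,
      Fintype.card_subtype]
    congr 1
    refine Finset.card_nbij' (fun xy => xy.1) (fun x => (x, x⁻¹ * g)) ?_ ?_ ?_ ?_
    · intro xy hxy
      obtain ⟨h1, h2, h3⟩ := (Finset.mem_filter.1 hxy).2
      refine Finset.mem_filter.2 ⟨Finset.mem_filter.2 ⟨Finset.mem_univ _, h1⟩, ?_⟩
      rwa [← h3, inv_mul_cancel_left]
    · intro x hx
      obtain ⟨hx1, hx2⟩ := Finset.mem_filter.1 hx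
      exact Finset.mem_filter.2 ⟨Finset.mem_univ _, (Finset.mem_filter.1 hx1).2, hx2,
        mul_inv_cancel_left _ _⟩
    · intro xy hxy
      obtain ⟨-, -, h3⟩ := (Finset.mem_filter.1 hxy).2
      refine Prod.ext rfl ?_
      show xy.1⁻¹ * g = xy.2
      rw [← h3, inv_mul_cancel_left]
    · exact fun x _ => rfl
  have hout : ∀ χ : IrrCharacter G, χ ∉ B → ∑ u, F u * (χ : G → ℂ) u = 0 := fun χ hχ => by
    have h := sum_regular_eq_zero hM (χ := χ) (ψ := Cfsg.Agent.Char.principal G)
      fun h => hχ (isPBlock_mem_of_sameBlock hB h1B (sameBlock_symm h))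
    rw [Finset.sum_filter] at h
    rw [← h]
    refine Finset.sum_congr rfl fun u _ => ?_
    simp only [F, Cfsg.Agent.Char.principal]
    by_cases hu : p ∣ orderOf u <;> simp [hu]
  -- the expansion
  have hexp : N = ∑ χ ∈ Finset.univ.filter (· ∈ B), W χ * (T χ * conj ((χ : G → ℂ) g)) := by
    have h2 : ∀ u : G, F u = ∑ χ : IrrCharacter G, classInner F (χ : G → ℂ) * (χ : G → ℂ) u :=
      fun u => by
        have := congrFun (classFunction_eq_sum hFc) u
        simpa [Finset.sum_apply] using this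
    have hFconj : ∀ u, conj (F u) = F u := fun u => by simp only [F]; split_ifs <;> simp
    let eP : G → ℂ := fun x => if ∃ k, orderOf x = p ^ k then 1 else 0
    have hPc : IsClassFunction G eP := fun x c => by
      simp only [eP, ← MulAut.conj_apply, MulEquiv.orderOf_eq]
    rw [hN']
    have h3 : ∑ x ∈ Pe, F (x⁻¹ * g) = ∑ χ : IrrCharacter G,
        conj (classInner F (χ : G → ℂ) * ∑ x, eP x * (χ : G → ℂ) (g * x)) := by
      have h3' : ∑ x ∈ Pe, F (x⁻¹ * g) = ∑ x ∈ Pe, conj (F (g * x)) := by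
        rw [← hinv fun x => conj (F (g * x))]
        refine Finset.sum_congr rfl fun x _ => ?_
        rw [hFconj, ← hFc (g * x⁻¹) x⁻¹]
        congr 1
        group
      rw [h3']
      simp only [h2 (g * _), Finset.mul_sum, map_sum]
      rw [Finset.sum_comm]
      refine Finset.sum_congr rfl fun χ _ => ?_
      rw [hPe, Finset.sum_filter]
      refine Finset.sum_congr rfl fun x _ => ?_
      simp only [eP]
      split_ifs <;> simp
    rw [h3, Finset.sum_filter]
    refine Finset.sum_congr rfl fun χ _ => ?_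
    have h4 : classInner F (χ : G → ℂ) = (∑ u, F u * (χ : G → ℂ) u) / (Nat.card G : ℂ) := by
      rw [classInner, inv_mul_eq_div]
      congr 1
      refine Fintype.sum_equiv (Equiv.inv G) _ _ fun u => ?_
      simp only [Equiv.inv_apply, irr_inv, F, orderOf_inv]
    have h5 : ∀ S : Finset G, (∀ x, x⁻¹ ∈ S ↔ x ∈ S) →
        conj (∑ u ∈ S, (χ : G → ℂ) u) = ∑ u ∈ S, (χ : G → ℂ) u := fun S hS => by
      rw [map_sum]
      refine Finset.sum_nbij' (·⁻¹) (·⁻¹) (fun x hx => (hS x).2 hx) (fun x hx => (hS x).2 hx)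
        (by simp) (by simp) fun x _ => (irr_inv χ x).symm
    rw [sum_classFun_mul χ hPc]
    by_cases hχ : χ ∈ B
    · rw [if_pos hχ, h4]
      have e1 : conj (∑ u, F u * (χ : G → ℂ) u) = ∑ u, F u * (χ : G → ℂ) u := by
        have e : ∑ u, F u * (χ : G → ℂ) u =
            ∑ u ∈ Finset.univ.filter (fun u : G => ¬ p ∣ orderOf u), (χ : G → ℂ) u := by
          rw [Finset.sum_filter]
          exact Finset.sum_congr rfl fun u _ => by
            simp only [F]; by_cases hu : p ∣ orderOf u <;> simp [hu]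
        rw [e]
        exact h5 _ fun x => by simp
      have e2 : conj (∑ x, eP x * (χ : G → ℂ) x) = ∑ x ∈ Pe, (χ : G → ℂ) x := by
        rw [← h5 Pe fun x => by simp [hPe], hPe, Finset.sum_filter]
        congr 1
        exact Finset.sum_congr rfl fun x _ => by simp only [eP]; split_ifs <;> simp
      rw [map_mul, map_mul, map_div₀, map_div₀, map_natCast, e1, e2, irr_one_eq_charDegree χ,
        map_natCast]
      simp only [W, T, irr_one_eq_charDegree χ]
      ring
    · rw [if_neg hχ, h4, hout χ hχ, zero_div, zero_mul, map_zero]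
  -- the idempotent coefficient
  have ha : blockCoeff B g = ∑ χ ∈ Finset.univ.filter (· ∈ B), T χ * conj ((χ : G → ℂ) g) := by
    have hG : (Nat.card G : ℂ) ≠ 0 := Nat.cast_ne_zero.2 Nat.card_pos.ne'
    have h1 : ∑ x ∈ Pe, blockPair B x g = blockPair B 1 g := by
      refine Finset.sum_eq_single_of_mem 1 (Finset.mem_filter.2 ⟨Finset.mem_univ _, 0, by simp⟩)
        fun x hx hne => ?_
      obtain ⟨k, hk⟩ := (Finset.mem_filter.1 hx).2
      refine blockPair_eq_zero_of_pPart hM hB (g := x) (x := x) ?_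
        ((isPPart_one_iff hM.1).2 hg) fun h => hne (isConj_one_left.1 h)
      exact ⟨1, mul_one _, Commute.one_right _, ⟨k, hk⟩, by simpa using hM.1.ne_one⟩
    rw [blockCoeff_eq_blockPair, ← h1]
    simp only [T, Finset.sum_div, Finset.sum_mul, Finset.mul_sum]
    unfold blockPair
    simp only [Finset.mul_sum]
    rw [Finset.sum_comm]
    exact Finset.sum_congr rfl fun χ _ => Finset.sum_congr rfl fun x _ => by ring
  have hTR : ∀ χ, MemLocalRing M (T χ) := fun χ => by
    have h1 := isIntegral_pElement_sum (p := p) hM.1 (irr_isCharacter χ)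
    have e : T χ = (∑ x ∈ Pe, (χ : G → ℂ) x) / ((p ^ (Nat.card G).factorization p : ℕ) : ℂ) *
        (ordPrime p G : ℂ)⁻¹ := by
      simp only [T, ordPrime]
      conv_lhs => rw [← Nat.ordProj_mul_ordCompl_eq_self (Nat.card G) p, Nat.cast_mul]
      rw [div_mul_eq_div_div, div_eq_mul_inv]
    rw [e]
    exact (locRing M).mul_mem (mem_locRing_of_isIntegral h1) (inv_ordPrime_mem hM)
  have hW : ∀ χ ∈ B, MemLocalIdeal M (W χ - R) := fun χ hχ => by
    let X : MonoidAlgebra (locRing M) G := gaOfFun fun u => if p ∣ orderOf u then 0 else 1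
    have hX : IsClassElt X := isClassElt_gaOfFun fun u c => by
      rw [← MulAut.conj_apply, MulEquiv.orderOf_eq]
    have hω : ∀ φ : IrrCharacter G, omegaR φ X = W φ := fun φ => by
      rw [omega_eq_sum_div]
      simp only [W, F, X, coeff_gaOfFun]
      congr 1
      refine Finset.sum_congr rfl fun u _ => ?_
      split_ifs <;> simp
    have h2 := omegaR_congr (isPBlock_sameBlock hB hχ h1B) hX
    rw [hω, hω] at h2
    convert h2 using 2
    simp only [hR, W, F, Cfsg.Agent.Char.principal, mul_one, div_one]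
    rw [Nat.card_eq_fintype_card, Fintype.card_subtype, ← Finset.sum_boole]
    refine Finset.sum_congr rfl fun u _ => ?_
    by_cases hu : p ∣ orderOf u <;> simp [hu]
  have hRunit : ¬ MemLocalIdeal M R := by
    have h := sum_regular_not_mem hM (ψ := Cfsg.Agent.Char.principal G) h1B
      (by simp [Cfsg.Agent.Char.principal, charDegree, hM.1.ne_one])
    intro hmem
    refine h ?_
    convert hmem using 1
    simp only [hR, Cfsg.Agent.Char.principal, Finset.sum_const, nsmul_eq_mul, mul_one]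
    rw [Nat.card_eq_fintype_card, Fintype.card_subtype]
  have hdiff : MemLocalIdeal M (N - R * blockCoeff B g) := by
    rw [hexp, ha, Finset.mul_sum, ← Finset.sum_sub_distrib]
    refine memLocalIdeal_sum _ _ fun χ hχ => ?_
    rw [← sub_mul]
    exact MemLocalIdeal.mul_right (hW χ (Finset.mem_filter.1 hχ).2)
      ((locRing M).mul_mem (mem_locRing.2 (hTR χ)) (mem_locRing.2 (conj_irr_memLocalRing χ g)))
  have hRR : MemLocalRing M R := mem_locRing.1 (natCast_mem (locRing M) _)
  have hR0 : R ≠ 0 := fun e => hRunit (by rw [e]; exact memLocalIdeal_zero)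
  have := MemLocalIdeal.neg (MemLocalIdeal.mul_left (memLocalRing_inv hRR hRunit) hdiff)
  convert this using 1
  field_simp
  ring

end Cfsg.Agent.Blocks
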