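/-
A solvable linear group with a non-normal Sylow `p`-subgroup has degree divisible by a prime power
congruent to `-1`, `0` or `1` modulo `p`.
-/
import Cfsg.Agent.Lib.Char.ChiefRestrict
import Cfsg.Agent.Lib.Char.Multiplicity
import Cfsg.Agent.Lib.Char.SolvablePrimitive
import Cfsg.Agent.Lib.Char.Integral
import Cfsg.Agent.Lib.Blocks.Degree
import Cfsg.Agent.Lib.Solvable.MinimalNonNilpotent
import Cfsg.Agent.Lib.Char.TwoDegrees

set_option linter.unusedSectionVars false
set_option linter.style.haveILetI false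

namespace Cfsg.Agent.NonnormalSylow

open Cfsg Cfsg.Agent.Char Cfsg.Agent.Blocks

open scoped ComplexConjugate Pointwise commutatorElement

universe u

/-- No prime power dividing `n` is congruent to `-1`, `0` or `1` modulo `p`. -/
def NoQ (p n : ℕ) : Prop :=
  ∀ q : ℕ, IsPrimePow q → q ∣ n →
    ¬ ((q : ℤ) ≡ -1 [ZMOD p] ∨ (q : ℤ) ≡ 0 [ZMOD p] ∨ (q : ℤ) ≡ 1 [ZMOD p])

theorem NoQ.of_dvd {p m n : ℕ} (h : NoQ p n) (hmn : m ∣ n) : NoQ p m :=
  fun q hq hqm => h q hq (hqm.trans hmn)

theorem NoQ.not_dvd {p n : ℕ} (hp : p.Prime) (h : NoQ p n) : ¬ p ∣ n :=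
  fun hd => h p hp.isPrimePow hd (Or.inr (Or.inl (Int.modEq_zero_iff_dvd.2 dvd_rfl)))

theorem NoQ.not_sq {p n e a q : ℕ} (hp : p.Prime) (h : NoQ p n) (hq : q.Prime) (ha : a ≠ 0)
    (he : e ^ 2 = q ^ a) (hmod : q ^ a ≡ 1 [MOD p]) : ¬ e ∣ n := by
  intro hen
  obtain ⟨j, -, hj⟩ := (Nat.dvd_prime_pow hq).1 (he ▸ dvd_pow_self e two_ne_zero)
  have hj0 : j ≠ 0 := by
    rintro rfl
    rw [hj, pow_zero, one_pow] at he
    exact (Nat.one_lt_pow ha hq.one_lt).ne he
  refine h e (hj ▸ hq.isPrimePow.pow hj0) hen ?_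
  have h2 := Int.modEq_iff_dvd.1 (Int.natCast_modEq_iff.2 hmod.symm)
  rw [← he] at h2
  push_cast at h2
  have h3 : (p : ℤ) ∣ ((e : ℤ) - 1) * ((e : ℤ) + 1) := by
    rw [show ((e : ℤ) - 1) * ((e : ℤ) + 1) = (e : ℤ) ^ 2 - 1 by ring]
    exact h2
  rcases (Nat.prime_iff_prime_int.1 hp).dvd_or_dvd h3 with h4 | h4
  · exact Or.inr (Or.inr (Int.modEq_iff_dvd.2 h4).symm)
  · refine Or.inl (Int.modEq_iff_dvd.2 ?_).symm
    rwa [sub_neg_eq_add]

/-- A subgroup contained in a normal subgroup with normal Sylow subgroup. -/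
theorem normal_of_le_normal {G : Type u} [Group G] [Finite G] {p : ℕ} [Fact p.Prime]
    (P : Sylow p G) {N : Subgroup G} [N.Normal] (hPN : (P : Subgroup G) ≤ N)
    (h : ∀ R : Sylow p N, (R : Subgroup N).Normal) : (P : Subgroup G).Normal := by
  haveI := (P.subtype hPN).characteristic_of_normal (h _)
  have h' : (((P.subtype hPN : Sylow p N) : Subgroup N).map N.subtype).Normal := inferInstance
  rwa [show ((P.subtype hPN : Sylow p N) : Subgroup N) = (P : Subgroup G).subgroupOf N from rfl,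
    Subgroup.subgroupOf_map_subtype, inf_eq_left.2 hPN] at h'

/-- A Sylow subgroup does not cover a quotient whose order has another prime divisor. -/
theorem sup_ne_top {G : Type u} [Group G] [Finite G] {p q : ℕ} [Fact p.Prime] (P : Sylow p G)
    (L : Subgroup G) [L.Normal] (hq : q.Prime) (hqp : q ≠ p) (hdvd : q ∣ L.index) :
    L ⊔ (P : Subgroup G) ≠ ⊤ := by
  intro htop
  have h1 := congrArg (Subgroup.map (QuotientGroup.mk' L)) htop
  rw [Subgroup.map_sup, QuotientGroup.map_mk'_self, bot_sup_eq,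
    Subgroup.map_top_of_surjective _ (QuotientGroup.mk'_surjective L)] at h1
  obtain ⟨k, hk⟩ := P.2.exists_card_eq
  have h2 := Subgroup.card_map_dvd (H := (P : Subgroup G)) (QuotientGroup.mk' L)
  rw [h1, Subgroup.card_top, ← Subgroup.index_eq_card, hk] at h2
  exact hqp ((Nat.prime_dvd_prime_iff_eq hq Fact.out).1
    (hq.dvd_of_dvd_pow (hdvd.trans h2)))

section Step

variable {G : Type u} [Group G] [Fintype G] {p : ℕ} [Fact p.Prime]

/-- The induction hypothesis. -/
def Hyp (p : ℕ) (N : ℕ) : Prop :=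
  ∀ (H : Type u) [Group H] [Finite H], Nat.card H < N → Group.IsSolvable H →
    ∀ ψ : H → ℂ, IsIrrCharacter H ψ → (∀ g, ψ g = ψ 1 → g = 1) → ∀ m : ℕ, ψ 1 = (m : ℂ) →
      NoQ p m → ∀ R : Sylow p H, (R : Subgroup H).Normal

/-- Proper normal subgroups have normal Sylow subgroups. -/
theorem normal_sylow_of_normal [Group.IsSolvable G] {χ : G → ℂ} (hχ : IsIrrCharacter G χ)
    (hfaith : ∀ g, χ g = χ 1 → g = 1) {n : ℕ} (hn : χ 1 = (n : ℂ)) (hno : NoQ p n)
    (IH : Hyp.{u} p (Nat.card G)) (M : Subgroup G) [M.Normal] (hM : M ≠ ⊤) (PM : Sylow p M) :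
    (PM : Subgroup M).Normal := by
  classical
  haveI : Fintype M := Fintype.ofFinite M
  have hMc : Nat.card M < Nat.card G := lt_of_le_of_ne
    (Nat.le_of_dvd Nat.card_pos (Subgroup.card_subgroup_dvd_card M))
    fun h => hM (Subgroup.eq_top_of_card_eq M h)
  let D : Subgroup M := ⨅ (K : Subgroup M) (_ : ((PM : Subgroup M) ⊔ K).Normal),
    (PM : Subgroup M) ⊔ K
  haveI hDn : D.Normal := Subgroup.normal_iInf_normal fun K =>
    Subgroup.normal_iInf_normal fun h => h
  obtain ⟨k, hk⟩ := PM.2.exists_card_eq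
  have hres := IsCharacter.restrict (IsIrrCharacter.isCharacter hχ) M
  have hDp : IsPGroup p D := by
    intro d
    refine ⟨k, Subtype.ext (Subtype.ext ?_)⟩
    rw [OneMemClass.coe_one, OneMemClass.coe_one, SubgroupClass.coe_pow]
    refine hfaith _ ?_
    have hs := IsCharacter.eq_sum hres
    have ha := congrFun hs ((d : M) ^ p ^ k)
    have hb := congrFun hs 1
    rw [← show ((1 : M) : G) = 1 from OneMemClass.coe_one _]
    rw [ha, hb, Finset.sum_apply, Finset.sum_apply]
    refine Finset.sum_congr rfl fun θ _ => ?_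
    simp only [Pi.smul_apply, smul_eq_mul]
    by_cases hθ : classInner (fun h : M => χ h) (θ : M → ℂ) = 0
    · rw [hθ, zero_mul, zero_mul]
    congr 1
    obtain ⟨K, hK, hKmem, -⟩ := IsCharacter.exists_kernel (irr_isCharacter θ)
    haveI := hK
    obtain ⟨θ', -, he, hirr⟩ := IsCharacter.deflate (irr_isCharacter θ) K
      fun x hx => (hKmem x).1 hx
    obtain ⟨e, hen, -⟩ := exists_ratio_dvd_index M hχ θ.2 hθ
    rw [hn, irr_one_eq_charDegree, ← Nat.cast_mul, Nat.cast_inj] at hen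
    let R : Sylow p (M ⧸ K) := PM.mapSurjective (QuotientGroup.mk'_surjective K)
    have hR : (R : Subgroup (M ⧸ K)).Normal := by
      refine IH (M ⧸ K) (lt_of_le_of_lt ?_ hMc) inferInstance θ' (hirr θ.2) ?_
        (charDegree (θ : M → ℂ)) ?_ (hno.of_dvd ⟨e, by rw [hen, mul_comm]⟩) R
      · exact Nat.card_le_card_of_surjective _ (QuotientGroup.mk'_surjective K)
      · intro x hx
        obtain ⟨m, rfl⟩ := QuotientGroup.mk_surjective x
        rw [he, ← QuotientGroup.mk_one, he] at hx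
        exact (QuotientGroup.eq_one_iff _).2 ((hKmem m).2 hx)
      · rw [← QuotientGroup.mk_one, he, irr_one_eq_charDegree]
    have hsupn : ((PM : Subgroup M) ⊔ K).Normal := by
      have h := hR.comap (QuotientGroup.mk' K)
      rwa [show (R : Subgroup (M ⧸ K)) = (PM : Subgroup M).map (QuotientGroup.mk' K) from rfl,
        Subgroup.comap_map_eq, QuotientGroup.ker_mk'] at h
    have hd : (d : M) ∈ (PM : Subgroup M) ⊔ K :=
      (iInf₂_le (f := fun (K : Subgroup M) (_ : ((PM : Subgroup M) ⊔ K).Normal) =>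
        (PM : Subgroup M) ⊔ K) K hsupn) d.2
    rw [sup_comm, ← SetLike.mem_coe, Subgroup.normal_mul] at hd
    obtain ⟨a, ha', b, hb', hab⟩ := Set.mem_mul.1 hd
    refine (hKmem _).1 ((QuotientGroup.eq_one_iff _).1 ?_)
    rw [← hab, QuotientGroup.mk_pow, QuotientGroup.mk_mul,
      (QuotientGroup.eq_one_iff a).2 ha', one_mul, ← QuotientGroup.mk_pow, ← hk,
      show (b ^ Nat.card (PM : Subgroup M)) = 1 from
        congrArg Subtype.val (pow_card_eq_one' (x := (⟨b, hb'⟩ : (PM : Subgroup M)))),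
      QuotientGroup.mk_one]
  have hle : (PM : Subgroup M) ≤ D := le_iInf₂ fun K _ => le_sup_left
  rw [← PM.is_maximal' hDp hle]
  exact hDn

/-- A linear character sum: an abelian subgroup. -/
theorem comm_of_normal_pgroup {χ : G → ℂ} (hχ : IsIrrCharacter G χ)
    (hfaith : ∀ g, χ g = χ 1 → g = 1) {n : ℕ} (hn : χ 1 = (n : ℂ)) (hpn : ¬ p ∣ n)
    (A : Subgroup G) [A.Normal] (hA : IsPGroup p A) (a b : A) : a * b = b * a := by
  classical
  haveI : Fintype A := Fintype.ofFinite A
  have hres := IsCharacter.restrict (IsIrrCharacter.isCharacter hχ) A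
  have h1 : χ ((a * b * a⁻¹ * b⁻¹ : A) : G) = χ 1 := by
    have hs := IsCharacter.eq_sum hres
    have ha := congrFun hs (a * b * a⁻¹ * b⁻¹)
    have hb := congrFun hs 1
    rw [← show ((1 : A) : G) = 1 from OneMemClass.coe_one _]
    rw [ha, hb, Finset.sum_apply, Finset.sum_apply]
    refine Finset.sum_congr rfl fun θ _ => ?_
    simp only [Pi.smul_apply, smul_eq_mul]
    by_cases hθ : classInner (fun h : A => χ h) (θ : A → ℂ) = 0
    · rw [hθ, zero_mul, zero_mul]
    obtain ⟨e, hen, -⟩ := exists_ratio_dvd_index A hχ θ.2 hθ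
    rw [hn, irr_one_eq_charDegree, ← Nat.cast_mul, Nat.cast_inj] at hen
    obtain ⟨k, hk⟩ := hA.exists_card_eq
    obtain ⟨j, -, hj⟩ := (Nat.dvd_prime_pow Fact.out).1 (hk ▸ charDegree_dvd_card θ)
    have hlin : charDegree (θ : A → ℂ) = 1 := by
      rcases Nat.eq_zero_or_pos j with rfl | hj0
      · rw [hj, pow_zero]
      · refine absurd ?_ hpn
        rw [hen, hj]
        exact (dvd_pow_self p hj0.ne').mul_left _
    obtain ⟨f, hf⟩ := exists_hom_of_degree_one (irr_isCharacter θ)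
      (by rw [irr_one_eq_charDegree, hlin, Nat.cast_one])
    rw [hf]
    simp [mul_comm]
  have h2 : a * b * a⁻¹ * b⁻¹ = 1 := Subtype.ext (by rw [hfaith _ h1, OneMemClass.coe_one])
  rwa [mul_inv_eq_one, mul_inv_eq_iff_eq_mul] at h2

/-- An element centralising a subgroup with irreducible restriction is central. -/
theorem central_of_centralizes {χ : G → ℂ} (hχ : IsIrrCharacter G χ)
    (hfaith : ∀ g, χ g = χ 1 → g = 1) (L : Subgroup G) [Fintype L]
    (hirr : IsIrrCharacter L (fun x : L => χ x)) {z : G} (hz : ∀ l ∈ L, z * l = l * z) :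
    z ∈ Subgroup.center G := by
  have hnorm := classInner_self_irr hirr
  obtain ⟨m, ρ, hρ, rfl⟩ := hχ
  let σ : Representation ℂ L (Fin m → ℂ) := ρ.comp L.subtype
  haveI : σ.IsIrreducible := isIrreducible_of_norm_one σ hnorm
  obtain ⟨c, hc⟩ := schur_scalar σ (ρ z) fun l x => by
    show ρ z (ρ (l : G) x) = ρ (l : G) (ρ z x)
    rw [← Module.End.mul_apply, ← map_mul, ← Module.End.mul_apply, ← map_mul, hz _ l.2]
  rw [Subgroup.mem_center_iff]
  intro g
  have hcomm : ρ (g * z) = ρ (z * g) := by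
    rw [map_mul, map_mul, hc]
    ext x
    simp
  have h1 : ρ (g * z * g⁻¹ * z⁻¹) = 1 := by
    rw [map_mul, map_mul (f := ρ) (x := g * z), hcomm, ← map_mul, ← map_mul,
      show z * g * g⁻¹ * z⁻¹ = 1 by group, map_one]
  have h2 : g * z * g⁻¹ * z⁻¹ = 1 := hfaith _ (by
    show LinearMap.trace ℂ _ (ρ (g * z * g⁻¹ * z⁻¹)) = LinearMap.trace ℂ _ (ρ 1)
    rw [h1, map_one ρ])
  rwa [mul_inv_eq_one, mul_inv_eq_iff_eq_mul] at h2

omit [Fact p.Prime] in
/-- The elements of a quotient of prime index which commute with an outside element are central. -/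
theorem mem_center_quot (M L : Subgroup G) [L.Normal] (hab : ∀ a ∈ M, ∀ b ∈ M, ⁅a, b⁆ ∈ L)
    {y : G} (htop : M ⊔ Subgroup.zpowers y = ⊤) {x : G} (hx : x ∈ M) (hxy : ⁅x, y⁆ ∈ L) :
    (x : G ⧸ L) ∈ Subgroup.center (G ⧸ L) := by
  have hle : M ⊔ Subgroup.zpowers y ≤
      (Subgroup.centralizer ({(x : G ⧸ L)} : Set (G ⧸ L))).comap (QuotientGroup.mk' L) := by
    refine sup_le (fun m hm => ?_) (Subgroup.zpowers_le.2 ?_)
    · rw [Subgroup.mem_comap, Subgroup.mem_centralizer_singleton_iff]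
      show (m : G ⧸ L) * (x : G ⧸ L) = (x : G ⧸ L) * (m : G ⧸ L)
      rw [← commutatorElement_eq_one_iff_mul_comm]
      exact (QuotientGroup.eq_one_iff _).2 (hab m hm x hx)
    · rw [Subgroup.mem_comap, Subgroup.mem_centralizer_singleton_iff]
      show (y : G ⧸ L) * (x : G ⧸ L) = (x : G ⧸ L) * (y : G ⧸ L)
      exact (commutatorElement_eq_one_iff_mul_comm.1 ((QuotientGroup.eq_one_iff _).2 hxy)).symm
  rw [Subgroup.mem_center_iff]
  intro g
  obtain ⟨g, rfl⟩ := QuotientGroup.mk_surjective g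
  exact Subgroup.mem_centralizer_singleton_iff.1 (hle (htop ▸ Subgroup.mem_top g))

omit [Fact p.Prime] in
/-- In an abelian factor with a prime divisor of minimal kind, the order is a prime power. -/
theorem relIndex_eq_pow (M L : Subgroup G) [M.Normal] [L.Normal] (hLM : L < M)
    (hab : ∀ a ∈ M, ∀ b ∈ M, ⁅a, b⁆ ∈ L)
    (hchief : ∀ W : Subgroup G, W.Normal → L ≤ W → W ≤ M → W = L ∨ W = M) :
    ∃ q a : ℕ, q.Prime ∧ a ≠ 0 ∧ L.relIndex M = q ^ a := by
  classical
  let Mb : Subgroup (G ⧸ L) := M.map (QuotientGroup.mk' L)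
  have hcard : Nat.card Mb = L.relIndex M := by
    rw [Subgroup.relIndex]
    have h := Subgroup.index_ker ((QuotientGroup.mk' L).comp M.subtype)
    rw [← MonoidHom.comap_ker, QuotientGroup.ker_mk', MonoidHom.range_comp, Subgroup.range_subtype]
      at h
    exact h.symm
  have hne : L.relIndex M ≠ 1 := fun h => hLM.not_ge (Subgroup.relIndex_eq_one.1 h)
  obtain ⟨q, hq, hqd⟩ := Nat.exists_prime_and_dvd hne
  haveI := Fact.mk hq
  let W : Subgroup G :=
    { carrier := {x | x ∈ M ∧ ∃ k, x ^ q ^ k ∈ L}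
      one_mem' := ⟨one_mem M, 0, by simp [one_mem L]⟩
      inv_mem' := fun {x} ⟨hx, k, hk⟩ => ⟨inv_mem hx, k, by rw [inv_pow]; exact inv_mem hk⟩
      mul_mem' := fun {x z} ⟨hx, k, hk⟩ ⟨hz, l, hl⟩ => ⟨mul_mem hx hz, k + l, by
        have hc : Commute (x : G ⧸ L) (z : G ⧸ L) :=
          commutatorElement_eq_one_iff_mul_comm.1 ((QuotientGroup.eq_one_iff _).2 (hab x hx z hz))
        refine (QuotientGroup.eq_one_iff _).1 ?_
        rw [QuotientGroup.mk_pow, QuotientGroup.mk_mul, hc.mul_pow,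
          show ((x : G ⧸ L)) ^ q ^ (k + l) = 1 by
            rw [pow_add, pow_mul, ← QuotientGroup.mk_pow, (QuotientGroup.eq_one_iff _).2 hk, one_pow],
          show ((z : G ⧸ L)) ^ q ^ (k + l) = 1 by
            rw [pow_add, mul_comm, pow_mul, ← QuotientGroup.mk_pow,
              (QuotientGroup.eq_one_iff _).2 hl, one_pow], one_mul]⟩ }
  have hWn : W.Normal := ⟨fun x hx g => ⟨‹M.Normal›.conj_mem x hx.1 g, hx.2.imp fun k hk => by
    rw [conj_pow]; exact ‹L.Normal›.conj_mem _ hk g⟩⟩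
  have hW : W = M := by
    rcases hchief W hWn (fun x hx => ⟨hLM.le hx, 0, by simpa using hx⟩) (fun x hx => hx.1) with h | h
    · exfalso
      obtain ⟨⟨z, hz⟩, hz'⟩ := exists_prime_orderOf_dvd_card' (G := Mb) q (hcard ▸ hqd)
      obtain ⟨x, hx, rfl⟩ := hz
      have hxW : x ∈ W := ⟨hx, 1, (QuotientGroup.eq_one_iff _).1 (by
        have h1 : ((⟨_, _⟩ : Mb) ^ q) = 1 := hz' ▸ pow_orderOf_eq_one _
        rw [pow_one, QuotientGroup.mk_pow]
        exact congrArg Subtype.val h1)⟩
      rw [h] at hxW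
      refine hq.ne_one (hz'.symm.trans (orderOf_eq_one_iff.2 (Subtype.ext ?_)))
      exact (QuotientGroup.eq_one_iff x).2 hxW
    · exact h
  have hMb : IsPGroup q Mb := by
    rintro ⟨z, x, hx, rfl⟩
    have hx' : x ∈ W := hW.symm ▸ hx
    obtain ⟨k, hk⟩ := hx'.2
    refine ⟨k, Subtype.ext ?_⟩
    show ((x : G ⧸ L)) ^ q ^ k = 1
    rw [← QuotientGroup.mk_pow, (QuotientGroup.eq_one_iff _).2 hk]
  obtain ⟨a, ha⟩ := hMb.exists_card_eq
  refine ⟨q, a, hq, ?_, hcard ▸ ha⟩
  rintro rfl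
  exact hne (by rw [← hcard, ha, pow_zero])

/-- The fixed-point-free action gives the congruence. -/
theorem relIndex_modEq_one (M L : Subgroup G) [M.Normal] [L.Normal] {y : G}
    (hy : IsPGroup p (Subgroup.zpowers y)) (hfix : ∀ x ∈ M, ⁅x, y⁆ ∈ L → x ∈ L) :
    L.relIndex M ≡ 1 [MOD p] := by
  classical
  let Mb : Subgroup (G ⧸ L) := M.map (QuotientGroup.mk' L)
  haveI : Mb.Normal := Subgroup.Normal.map inferInstance _ (QuotientGroup.mk'_surjective L)
  have hcard : Nat.card Mb = L.relIndex M := by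
    rw [Subgroup.relIndex]
    have h := Subgroup.index_ker ((QuotientGroup.mk' L).comp M.subtype)
    rw [← MonoidHom.comap_ker, QuotientGroup.ker_mk', MonoidHom.range_comp, Subgroup.range_subtype]
      at h
    exact h.symm
  let φ : Subgroup.zpowers y →* MulAut Mb :=
    (MulAut.conjNormal (H := Mb)).comp ((QuotientGroup.mk' L).comp (Subgroup.zpowers y).subtype)
  letI : MulAction (Subgroup.zpowers y) Mb := MulAction.compHom Mb φ
  rw [← hcard]
  refine (hy.card_modEq_card_fixedPoints Mb).trans ?_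
  have huniq : MulAction.fixedPoints (Subgroup.zpowers y) Mb = {1} := by
    ext ⟨z, hz⟩
    rw [MulAction.mem_fixedPoints, Set.mem_singleton_iff]
    constructor
    · intro h
      obtain ⟨x, hx, rfl⟩ := id hz
      have h1 := congrArg Subtype.val (h ⟨y, Subgroup.mem_zpowers y⟩)
      change (y : G ⧸ L) * (x : G ⧸ L) * (y : G ⧸ L)⁻¹ = (x : G ⧸ L) at h1
      refine Subtype.ext ((QuotientGroup.eq_one_iff x).2 (hfix x hx ?_))
      refine (QuotientGroup.eq_one_iff _).1 ?_
      show ⁅(x : G ⧸ L), (y : G ⧸ L)⁆ = 1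
      rw [commutatorElement_eq_one_iff_mul_comm]
      exact (mul_inv_eq_iff_eq_mul.1 h1).symm
    · intro h g
      rw [h]
      exact map_one (φ g)
  rw [huniq, Nat.card_eq_fintype_card]
  simp [Nat.ModEq]

/-- Averaging. -/
theorem exists_average (A L U : Subgroup G) (M : Subgroup G) [M.Normal]
    (hAcomm : ∀ a ∈ A, ∀ b ∈ A, a * b = b * a) (hnorm : ∀ l ∈ L, ∀ a ∈ A, l * a * l⁻¹ ∈ A)
    (hUA : U ≤ A) {y : G} (hy : y ∈ A) (hLM : L ≤ M) :
    ∃ z ∈ A, (∀ l ∈ L, z * l = l * z) ∧ (z : G ⧸ M) = (y : G ⧸ M) ^ U.relIndex L := by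
  classical
  letI : CommGroup A :=
    { (inferInstance : Group A) with mul_comm := fun a b => Subtype.ext (hAcomm a a.2 b b.2) }
  let U' := U.subgroupOf L
  haveI : Fintype (L ⧸ U') := Fintype.ofFinite _
  let f : L → A := fun l => ⟨(l : G) * y * (l : G)⁻¹, hnorm l l.2 y hy⟩
  have hf : ∀ a b : L, a⁻¹ * b ∈ U' → f a = f b := by
    intro a b hab
    refine Subtype.ext ?_
    have hc := hAcomm _ (hUA (Subgroup.mem_subgroupOf.1 hab)) y hy
    have e : (b : G) = (a : G) * ((a⁻¹ * b : L) : G) := by simp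
    show (a : G) * y * (a : G)⁻¹ = (b : G) * y * (b : G)⁻¹
    rw [e, mul_inv_rev, mul_assoc (a : G) _ y, hc]
    group
  let F : L ⧸ U' → A := fun c => Quotient.liftOn' c f fun a b h =>
    hf a b (QuotientGroup.leftRel_apply.1 h)
  have hF : ∀ l : L, F (l : L ⧸ U') = f l := fun l => rfl
  refine ⟨(∏ c, F c : A), SetLike.coe_mem _, fun l hl => ?_, ?_⟩
  · let φ : A →* A :=
      { toFun := fun a => ⟨l * (a : G) * l⁻¹, hnorm l hl a a.2⟩
        map_one' := Subtype.ext (by simp)
        map_mul' := fun a b => Subtype.ext (by simp [mul_assoc]) }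
    have h : φ (∏ c, F c) = ∏ c, F c := by
      rw [map_prod]
      refine Fintype.prod_equiv (MulAction.toPerm (⟨l, hl⟩ : L)) _ _ fun c => ?_
      obtain ⟨m, rfl⟩ := QuotientGroup.mk_surjective c
      refine Subtype.ext ?_
      show l * ((m : G) * y * (m : G)⁻¹) * l⁻¹ = (l * (m : G)) * y * (l * (m : G))⁻¹
      group
    have h' : l * ((∏ c, F c : A) : G) * l⁻¹ = ((∏ c, F c : A) : G) := congrArg Subtype.val h
    exact (mul_inv_eq_iff_eq_mul.1 h').symm
  · have h : QuotientGroup.mk' (M.subgroupOf A) (∏ c, F c) =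
        (QuotientGroup.mk' (M.subgroupOf A) ⟨y, hy⟩) ^ U.relIndex L := by
      rw [map_prod, Finset.prod_congr rfl (g := fun _ => QuotientGroup.mk' (M.subgroupOf A) ⟨y, hy⟩),
        Finset.prod_const, Finset.card_univ, ← Nat.card_eq_fintype_card]
      · rfl
      · intro c _
        obtain ⟨m, rfl⟩ := QuotientGroup.mk_surjective c
        refine QuotientGroup.eq.2 (Subgroup.mem_subgroupOf.2 ?_)
        show ((m : G) * y * (m : G)⁻¹)⁻¹ * y ∈ M
        rw [show ((m : G) * y * (m : G)⁻¹)⁻¹ * y = (m : G) * (y⁻¹ * (m : G)⁻¹ * (y⁻¹)⁻¹) by group]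
        exact mul_mem (hLM m.2) (‹M.Normal›.conj_mem _ (inv_mem (hLM m.2)) _)
    rw [← map_pow] at h
    have h' := Subgroup.mem_subgroupOf.1 (QuotientGroup.eq.1 h)
    rw [← QuotientGroup.mk_pow]
    exact QuotientGroup.eq.2 h'

end Step

/-- If no such prime power divides the degree then every Sylow subgroup is normal. -/
theorem normal_sylow {p : ℕ} [Fact p.Prime] : ∀ (N : ℕ) (G : Type u) [Group G] [Finite G],
    Nat.card G = N → Group.IsSolvable G → ∀ χ : G → ℂ, IsIrrCharacter G χ →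
      (∀ g, χ g = χ 1 → g = 1) → ∀ n : ℕ, χ 1 = (n : ℂ) → NoQ p n →
        ∀ P : Sylow p G, (P : Subgroup G).Normal := by
  intro N
  induction N using Nat.strong_induction_on with
  | _ N ih =>
  intro G _ _ hN hsolv χ hχ hfaith n hn hno P
  classical
  haveI := hsolv
  haveI : Fintype G := Fintype.ofFinite G
  have hp : p.Prime := Fact.out
  have IH : Hyp.{u} p (Nat.card G) := fun H _ _ hlt hs ψ hψ hf m hm hq R =>
    ih _ (hN ▸ hlt) H rfl hs ψ hψ hf m hm hq R
  have hstep : ∀ (M : Subgroup G) [M.Normal], M ≠ ⊤ → ∀ R : Sylow p M, (R : Subgroup M).Normal :=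
    fun M _ hM R => normal_sylow_of_normal hχ hfaith hn hno IH M hM R
  have hpn := hno.not_dvd hp
  by_cases htriv : Nontrivial G
  swap
  · rw [not_nontrivial_iff_subsingleton] at htriv
    exact ⟨fun x hx g => by rwa [Subsingleton.elim (g * x * g⁻¹) x]⟩
  obtain ⟨M, hM, hMr, -⟩ := SolvMinNN.exists_normal_prime_index (G := G)
  haveI := hM
  haveI : Fintype M := Fintype.ofFinite M
  have hMtop : M ≠ ⊤ := fun h => hMr.ne_one (Subgroup.index_eq_one.2 h)
  by_cases hPM : (P : Subgroup G) ≤ M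
  · exact normal_of_le_normal P hPM (hstep M hMtop)
  obtain ⟨y, hyP, hyM⟩ := SetLike.not_le_iff_exists.1 hPM
  have hMp : M.index = p := by
    obtain ⟨k, hk⟩ := P.2 ⟨y, hyP⟩
    have hy1 : (y : G ⧸ M) ^ p ^ k = 1 := by
      rw [← QuotientGroup.mk_pow, show y ^ p ^ k = 1 from congrArg Subtype.val hk,
        QuotientGroup.mk_one]
    obtain ⟨j, -, hj⟩ := (Nat.dvd_prime_pow hp).1 (orderOf_dvd_of_pow_eq_one hy1)
    have hd : orderOf (y : G ⧸ M) ∣ M.index := Subgroup.index_eq_card M ▸ orderOf_dvd_natCard _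
    rcases hMr.eq_one_or_self_of_dvd _ hd with h | h
    · exact absurd ((QuotientGroup.eq_one_iff y).1 (orderOf_eq_one_iff.1 h)) hyM
    · rw [hj] at h
      rcases j with _ | j
      · exact absurd h.symm (by simpa using hMr.ne_one)
      · exact ((Nat.prime_dvd_prime_iff_eq hp hMr).1 (h ▸ dvd_pow_self p j.succ_ne_zero)).symm
  have htopy : ∀ z : G, z ∉ M → M ⊔ Subgroup.zpowers z = ⊤ := by
    intro z hz
    have hlt : M < M ⊔ Subgroup.zpowers z := left_lt_sup.2 fun h => hz (h (Subgroup.mem_zpowers z))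
    rcases hMr.eq_one_or_self_of_dvd _ (Subgroup.index_dvd_of_le hlt.le) with h | h
    · exact Subgroup.index_eq_one.1 h
    · exact absurd h (Subgroup.index_strictAnti hlt).ne
  obtain ⟨PM⟩ : Nonempty (Sylow p M) := inferInstance
  have hPMn := hstep M hMtop PM
  haveI := PM.characteristic_of_normal hPMn
  set U : Subgroup G := (PM : Subgroup M).map M.subtype with hUdef
  haveI hUn : U.Normal := inferInstance
  have hUp : IsPGroup p U := PM.2.map M.subtype
  have hUM : U ≤ M := Subgroup.map_subtype_le _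
  have hUP : U ≤ (P : Subgroup G) := by
    have hj : IsPGroup p ((P : Subgroup G) ⊔ U : Subgroup G) := P.2.to_sup_of_normal_right hUp
    rw [← P.is_maximal' hj le_sup_left]
    exact le_sup_right
  have hPMU : (P : Subgroup G) ⊓ M ≤ U := by
    intro x hx
    have h : ((P : Subgroup G).subgroupOf M) = (PM : Subgroup M) :=
      PM.is_maximal' (P.2.comap_of_injective M.subtype M.subtype_injective) fun z hz =>
        hUP ⟨z, hz, rfl⟩
    exact ⟨⟨x, hx.2⟩, h ▸ Subgroup.mem_subgroupOf.2 hx.1, rfl⟩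
  have hUrel : ¬ p ∣ U.relIndex M := by
    rw [Subgroup.relIndex, show U.subgroupOf M = (PM : Subgroup M) from
      Subgroup.comap_map_eq_self_of_injective M.subtype_injective _]
    exact PM.not_dvd_index
  -- the case of a `p`-group
  by_cases hUM' : M ≤ U
  · have hG : IsPGroup p G := by
      obtain ⟨k, hk⟩ := hUp.exists_card_eq
      refine IsPGroup.of_card (n := k + 1) ?_
      rw [← M.card_mul_index, hMp, ← le_antisymm hUM hUM', hk, pow_succ]
    have hPtop : (P : Subgroup G) = ⊤ :=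
      (P.is_maximal' (hG.to_subgroup ⊤) le_top).symm
    rw [hPtop]
    infer_instance
  -- a chief factor above `U`
  haveI : Fintype (Subgroup G) := Fintype.ofFinite _
  obtain ⟨L, hLmem, hLmax⟩ := Finset.exists_max_image
    (Finset.univ.filter fun L : Subgroup G => L.Normal ∧ U ≤ L ∧ L < M)
    (fun L => Nat.card L)
    ⟨U, Finset.mem_filter.2 ⟨Finset.mem_univ _, hUn, le_rfl, lt_of_le_not_ge hUM hUM'⟩⟩
  obtain ⟨-, hLn, hUL, hLM⟩ := Finset.mem_filter.1 hLmem
  haveI := hLn
  haveI : Fintype L := Fintype.ofFinite L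
  have hchief : ∀ W : Subgroup G, W.Normal → L ≤ W → W ≤ M → W = L ∨ W = M := by
    intro W hW hLW hWM
    refine or_iff_not_imp_right.2 fun hne => ?_
    have h := hLmax W (Finset.mem_filter.2
      ⟨Finset.mem_univ _, hW, hUL.trans hLW, lt_of_le_of_ne hWM hne⟩)
    exact (Subgroup.eq_of_le_of_card_ge hLW h).symm
  have habM : ⁅M, M⁆ ≤ L := by
    haveI : (⁅M, M⁆ ⊔ L).Normal := inferInstance
    rcases hchief (⁅M, M⁆ ⊔ L) inferInstance le_sup_right
      (sup_le (Subgroup.commutator_le_left M M) hLM.le) with h | h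
    · exact h ▸ le_sup_left
    exfalso
    refine hLM.not_ge ?_
    have hmap : (M.map (QuotientGroup.mk' L)) = ⁅M.map (QuotientGroup.mk' L),
        M.map (QuotientGroup.mk' L)⁆ := by
      conv_lhs => rw [← h]
      rw [Subgroup.map_sup, QuotientGroup.map_mk'_self, sup_bot_eq, Subgroup.map_commutator]
    have hbot : M.map (QuotientGroup.mk' L) = ⊥ := by
      set Mb := M.map (QuotientGroup.mk' L)
      haveI : Group.IsSolvable Mb := inferInstance
      by_contra hne
      haveI : Nontrivial Mb := (Subgroup.nontrivial_iff_ne_bot _).2 hne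
      refine (Group.IsSolvable.commutator_lt_top_of_nontrivial Mb).ne ?_
      refine Subgroup.map_injective Mb.subtype_injective ?_
      rw [commutator_def, Subgroup.map_commutator, ← MonoidHom.range_eq_map, Subgroup.range_subtype]
      exact hmap.symm
    rwa [Subgroup.map_eq_bot_iff, QuotientGroup.ker_mk'] at hbot
  have hab : ∀ a ∈ M, ∀ b ∈ M, ⁅a, b⁆ ∈ L := fun a ha b hb =>
    habM (Subgroup.commutator_mem_commutator ha hb)
  obtain ⟨q, a, hq, ha0, hqa⟩ := relIndex_eq_pow M L hLM hab hchief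
  have hdvdM : L.relIndex M ∣ U.relIndex M :=
    ⟨U.relIndex L, by rw [mul_comm, Subgroup.relIndex_mul_relIndex U L M hUL hLM.le]⟩
  have hqp : q ≠ p := by
    rintro rfl
    exact hUrel ((hqa ▸ dvd_pow_self q ha0 : q ∣ L.relIndex M).trans hdvdM)
  have hqidx : q ∣ L.index := by
    rw [← Subgroup.relIndex_mul_index hLM.le]
    exact ((hqa ▸ dvd_pow_self q ha0 : q ∣ L.relIndex M)).mul_right _
  have hLP := sup_ne_top P L hq hqp hqidx
  -- the centralizer in the chief factor
  let C : Subgroup G := M ⊓ (Subgroup.center (G ⧸ L)).comap (QuotientGroup.mk' L)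
  haveI hCn : C.Normal := inferInstance
  rcases hchief C hCn (le_inf hLM.le fun x hx => by
    rw [Subgroup.mem_comap, show QuotientGroup.mk' L x = 1 from (QuotientGroup.eq_one_iff x).2 hx]
    exact one_mem _) inf_le_left with hC | hC
  swap
  · haveI : (L ⊔ (P : Subgroup G)).Normal := by
      have hcom : commutator G ≤ L := by
        rw [commutator_def, Subgroup.commutator_le]
        have hcen : ∀ g : G, (g : G ⧸ L) ∈ Subgroup.centralizer
            ({(y : G ⧸ L)} : Set (G ⧸ L)) := by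
          intro g
          have hle : M ⊔ Subgroup.zpowers y ≤ (Subgroup.centralizer
              ({(y : G ⧸ L)} : Set (G ⧸ L))).comap (QuotientGroup.mk' L) := by
            refine sup_le (fun m hm => ?_) (Subgroup.zpowers_le.2 ?_)
            · rw [Subgroup.mem_comap, Subgroup.mem_centralizer_singleton_iff]
              exact (Subgroup.mem_center_iff.1 ((hC.symm ▸ hm : m ∈ C).2) _).symm
            · rw [Subgroup.mem_comap, Subgroup.mem_centralizer_singleton_iff]
              rfl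
          exact hle (htopy y hyM ▸ Subgroup.mem_top g)
        have hall : ∀ g : G, (g : G ⧸ L) ∈ Subgroup.center (G ⧸ L) := by
          intro g
          have hle : M ⊔ Subgroup.zpowers y ≤
              (Subgroup.center (G ⧸ L)).comap (QuotientGroup.mk' L) := by
            refine sup_le (fun m hm => (hC.symm ▸ hm : m ∈ C).2) (Subgroup.zpowers_le.2 ?_)
            rw [Subgroup.mem_comap, Subgroup.mem_center_iff]
            intro h
            obtain ⟨h, rfl⟩ := QuotientGroup.mk_surjective h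
            exact Subgroup.mem_centralizer_singleton_iff.1 (hcen h)
          exact hle (htopy y hyM ▸ Subgroup.mem_top g)
        intro g _ h _
        refine (QuotientGroup.eq_one_iff _).1 ?_
        show ⁅(g : G ⧸ L), (h : G ⧸ L)⁆ = 1
        rw [commutatorElement_eq_one_iff_mul_comm]
        exact (Subgroup.mem_center_iff.1 (hall g) _).symm
      refine ⟨fun x hx g => ?_⟩
      have h1 : g * x * g⁻¹ * x⁻¹ ∈ L ⊔ (P : Subgroup G) := Subgroup.mem_sup_left
        (hcom (Subgroup.commutator_mem_commutator (Subgroup.mem_top g) (Subgroup.mem_top x)))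
      simpa using mul_mem h1 hx
    exact normal_of_le_normal P le_sup_right (hstep _ hLP)
  have hfix : ∀ z : G, z ∉ M → ∀ x ∈ M, ⁅x, z⁆ ∈ L → x ∈ L := by
    intro z hz x hx hxz
    rw [← hC]
    exact ⟨hx, mem_center_quot M L hab (htopy z hz) hx hxz⟩
  have hmod : q ^ a ≡ 1 [MOD p] := hqa ▸ relIndex_modEq_one M L
    (P.2.to_le (Subgroup.zpowers_le.2 hyP)) (hfix y hyM)
  -- the restriction to `M` is irreducible
  obtain ⟨θ, hθ⟩ := exists_restrict_constituent hχ M
  have hθeq : (fun x : M => χ x) = (θ : M → ℂ) := by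
    obtain ⟨e, hen, hed⟩ := exists_ratio_dvd_index M hχ θ.2 hθ
    have he1 : e = 1 := by
      rcases hp.eq_one_or_self_of_dvd e (hMp ▸ hed) with h | h
      · exact h
      · rw [hn, irr_one_eq_charDegree, ← Nat.cast_mul, Nat.cast_inj] at hen
        exact absurd ⟨_, h ▸ hen⟩ hpn
    refine eq_of_constituent_degree (IsCharacter.restrict (IsIrrCharacter.isCharacter hχ) M) θ.2 hθ ?_
    rw [OneMemClass.coe_one, hen, he1, Nat.cast_one, one_mul]
  have hMirr : IsIrrCharacter M (fun x : M => χ x) := hθeq ▸ θ.2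
  have hinv : ∀ (g : G) (m : M), (fun x : M => χ x) (Cfsg.Agent.Char.conjHom M g m) =
      (fun x : M => χ x) m := fun g m => by
    simp only [Cfsg.Agent.Char.conjHom_coe]
    exact IsCharacter.isClassFunction (IsIrrCharacter.isCharacter hχ) (m : G) g
  rcases ChiefRestrict.trichotomy M L hLM hchief habM _ hMirr hinv with
    hirr | ⟨φ, e, hφ, hres, he⟩ | ⟨F, hF, hFc, hres⟩
  rotate_left
  · exfalso
    obtain ⟨d, -, hd⟩ := IsIrrCharacter.exists_degree hφ
    have h1 := congrFun hres 1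
    simp only [Pi.smul_apply, smul_eq_mul, OneMemClass.coe_one, hd] at h1
    rw [hn, ← Nat.cast_mul, Nat.cast_inj] at h1
    exact hno.not_sq hp hq ha0 (he.trans hqa) hmod ⟨d, h1⟩
  · exfalso
    obtain ⟨φ₀, hφ₀⟩ : F.Nonempty := Finset.card_pos.1 (by rw [hFc, hqa]; exact pow_pos hq.pos a)
    have hcls : ∀ φ ∈ F, classInner (fun x : L => χ x) φ ≠ 0 := by
      intro φ hφ
      have h1 : classInner (fun x : L => χ x) φ = 1 := by
        rw [show (fun x : L => χ x) = ∑ ψ ∈ F, ψ from hres, classInner_sum_left,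
          Finset.sum_congr rfl fun ψ hψ => classInner_irr (hF ψ hψ) (hF φ hφ), Finset.sum_ite_eq',
          if_pos hφ]
      rw [h1]
      exact one_ne_zero
    obtain ⟨d, -, hd⟩ := IsIrrCharacter.exists_degree (hF φ₀ hφ₀)
    have hdeg : ∀ φ ∈ F, φ 1 = (d : ℂ) := by
      intro φ hφ
      obtain ⟨g, rfl⟩ := (mem_conjOrbit L).1 (restrict_constituent_conj L hχ (hF φ₀ hφ₀)
        (hF φ hφ) (hcls φ₀ hφ₀) (hcls φ hφ))
      rw [← hd]
      exact congrArg φ₀ (Subtype.ext (by simp))
    have h1 := congrFun hres 1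
    rw [Finset.sum_apply, Finset.sum_congr rfl hdeg, Finset.sum_const, hFc, hqa, nsmul_eq_mul,
      ← Nat.cast_mul] at h1
    rw [show ((⟨((1 : L) : G), _⟩ : M) : G) = 1 from rfl, hn, Nat.cast_inj] at h1
    exact hno (q ^ a) (hq.isPrimePow.pow ha0) ⟨d, h1⟩
      (Or.inr (Or.inr (Int.natCast_modEq_iff.2 hmod)))
  -- the irreducible case
  exfalso
  set G1 : Subgroup G := L ⊔ (P : Subgroup G) with hG1
  have hPG1 : (P : Subgroup G) ≤ G1 := le_sup_right
  haveI : Fintype G1 := Fintype.ofFinite G1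
  have hG1c : Nat.card G1 < Nat.card G := lt_of_le_of_ne
    (Nat.le_of_dvd Nat.card_pos (Subgroup.card_subgroup_dvd_card G1))
    fun h => hLP (Subgroup.eq_top_of_card_eq G1 h)
  have hG1irr : IsIrrCharacter G1 (fun x : G1 => χ x) :=
    SolvPrimitive.isIrr_of_comp (Subgroup.inclusion (le_sup_left : L ≤ G1))
      (IsCharacter.restrict (IsIrrCharacter.isCharacter hχ) G1) hirr
  have hG1f : ∀ g : G1, χ (g : G) = χ ((1 : G1) : G) → g = 1 := fun g hg =>
    Subtype.ext (hfaith g hg)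
  haveI hPn : ((P.subtype hPG1 : Sylow p G1) : Subgroup G1).Normal :=
    IH G1 hG1c inferInstance _ hG1irr hG1f n hn hno _
  have hnormP : ∀ l ∈ L, ∀ x ∈ (P : Subgroup G), l * x * l⁻¹ ∈ (P : Subgroup G) := fun l hl x hx =>
    hPn.conj_mem (⟨x, hPG1 hx⟩ : G1) hx ⟨l, (le_sup_left : L ≤ G1) hl⟩
  have hPcomm : ∀ u ∈ (P : Subgroup G), ∀ v ∈ (P : Subgroup G), u * v = v * u := by
    intro u hu v hv
    have h := comm_of_normal_pgroup (p := p) hG1irr hG1f (n := n) hn hpn
      ((P.subtype hPG1 : Sylow p G1) : Subgroup G1) (P.subtype hPG1).2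
      ⟨⟨u, hPG1 hu⟩, hu⟩ ⟨⟨v, hPG1 hv⟩, hv⟩
    exact congrArg (fun w : ((P.subtype hPG1 : Sylow p G1) : Subgroup G1) => ((w : G1) : G)) h
  obtain ⟨z, hzP, hzL, hzM⟩ := exists_average (P : Subgroup G) L U M hPcomm
    hnormP hUP hyP hLM.le
  have hzM' : z ∉ M := by
    intro hz
    rw [(QuotientGroup.eq_one_iff z).2 hz, eq_comm, ← orderOf_dvd_iff_pow_eq_one] at hzM
    have hd : orderOf (y : G ⧸ M) ∣ p := hMp ▸ Subgroup.index_eq_card M ▸ orderOf_dvd_natCard _
    rcases hp.eq_one_or_self_of_dvd _ hd with h | h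
    · exact hyM ((QuotientGroup.eq_one_iff y).1 (orderOf_eq_one_iff.1 h))
    · rw [h] at hzM
      refine hUrel (hzM.trans ⟨L.relIndex M, ?_⟩)
      rw [Subgroup.relIndex_mul_relIndex U L M hUL hLM.le]
  have hzc : z ∈ Subgroup.center G := central_of_centralizes hχ hfaith L hirr hzL
  refine hLM.not_ge fun x hx => hfix z hzM' x hx ?_
  rw [show ⁅x, z⁆ = 1 from commutatorElement_eq_one_iff_mul_comm.2 (Subgroup.mem_center_iff.1 hzc x)]
  exact one_mem L

end Cfsg.Agent.NonnormalSylow
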