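/-
Eigenvalues and the sum of the `p`-conjugate power maps of a character.
-/
import Cfsg.Agent.Lib.Blocks.CycloCongr
import Cfsg.Agent.Lib.Blocks.AlgGalois
import Mathlib.NumberTheory.Basic

set_option linter.unusedSectionVars false
set_option linter.style.haveILetI false

namespace Cfsg.Agent.PConj

open Cfsg Cfsg.Agent.Blocks Cfsg.Agent.Char

open scoped Classical

universe u

variable {p : ℕ} {M : Ideal AlgInt} [M.IsPrime]

/-- Multisets of roots of unity are determined by their power sums. -/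
theorem multiset_eq_of_powerSums {n : ℕ} (hn : n ≠ 0) {A B : Multiset ℂ}
    (hA : ∀ z ∈ A, z ^ n = 1) (hB : ∀ z ∈ B, z ^ n = 1)
    (h : ∀ j : ℕ, (A.map fun z => z ^ j).sum = (B.map fun z => z ^ j).sum) : A = B := by
  refine Multiset.ext.2 fun z => ?_
  by_cases hz : z ^ n = 1
  swap
  · rw [Multiset.count_eq_zero.2 fun h' => hz (hA z h'),
      Multiset.count_eq_zero.2 fun h' => hz (hB z h')]
  have hz0 : z ≠ 0 := fun h0 => by simp [h0, zero_pow hn] at hz
  have key : ∀ C : Multiset ℂ, (∀ w ∈ C, w ^ n = 1) →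
      ∑ j ∈ Finset.range n, z⁻¹ ^ j * (C.map fun w => w ^ j).sum = (n : ℂ) * C.count z := by
    intro C
    induction C using Multiset.induction_on with
    | empty => simp
    | cons a C ih =>
      intro hC
      simp only [Multiset.map_cons, Multiset.sum_cons, mul_add, Finset.sum_add_distrib,
        ih fun w hw => hC w (Multiset.mem_cons_of_mem hw), ← mul_pow]
      by_cases ha : a = z
      · subst ha
        simp [inv_mul_cancel₀ hz0, mul_add, add_comm]
      · have h1 : z⁻¹ * a ≠ 1 := fun h1 =>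
          ha (by have := congrArg (z * ·) h1; simpa [← mul_assoc, mul_inv_cancel₀ hz0] using this)
        rw [geom_sum_eq h1, mul_pow, inv_pow, hz, hC a (Multiset.mem_cons_self _ _),
          Multiset.count_cons_of_ne (fun h => ha h.symm)]
        simp
  have h1 := key A hA
  simp only [h] at h1
  rw [key B hB] at h1
  exact_mod_cast (mul_left_cancel₀ (Nat.cast_ne_zero.2 hn) h1).symm

/-- Sums over a set with a `p`-group action reduce to the fixed points modulo `M`. -/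
theorem sum_sub_fixed_mem (hM : IsPModular p M) {H α : Type*} [Group H] [Finite H] [Fintype α]
    [MulAction H α] (hH : IsPGroup p H) (f : α → ℂ) (hint : ∀ x, MemLocalRing M (f x))
    (hf : ∀ (g : H) x, MemLocalIdeal M (f (g • x) - f x)) :
    MemLocalIdeal M (∑ x, f x -
      ∑ x ∈ Finset.univ.filter (fun x => ∀ g : H, g • x = x), f x) := by
  haveI := Fact.mk hM.1
  rw [← Finset.sum_filter_add_sum_filter_not Finset.univ (fun x => ∀ g : H, g • x = x),
    add_sub_cancel_left,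
    ← Finset.sum_fiberwise (Finset.univ.filter fun x => ¬ ∀ g : H, g • x = x)
      (fun x => (Quotient.mk (MulAction.orbitRel H α) x))]
  refine memLocalIdeal_sum _ _ fun q _ => ?_
  set s := (Finset.univ.filter fun x => ¬ ∀ g : H, g • x = x).filter
    (fun x => Quotient.mk (MulAction.orbitRel H α) x = q) with hs
  rcases s.eq_empty_or_nonempty with h | ⟨x0, hx0⟩
  · rw [h, Finset.sum_empty]
    exact memLocalIdeal_zero
  have hx := Finset.mem_filter.1 hx0
  have hnfix : ¬ ∀ g : H, g • x0 = x0 := (Finset.mem_filter.1 hx.1).2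
  have hset : ∀ x, x ∈ s ↔ x ∈ MulAction.orbit H x0 := by
    intro x
    rw [hs, Finset.mem_filter, Finset.mem_filter, ← hx.2, Quotient.eq]
    refine ⟨fun h => h.2, fun h => ⟨⟨Finset.mem_univ _, fun hfix => hnfix ?_⟩, h⟩⟩
    obtain ⟨g, hg⟩ := h
    have hg' : g • x0 = x := hg
    have : x0 = x := by
      rw [← inv_smul_smul g x0, hg', hfix]
    rwa [this]
  have hdvd : p ∣ s.card := by
    have hc : s.card = Nat.card (MulAction.orbit H x0) := by
      rw [← Nat.card_eq_finsetCard]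
      exact Nat.card_congr (Equiv.subtypeEquivRight hset)
    obtain ⟨j, hj⟩ := hH.card_orbit x0
    rw [hc, hj]
    refine dvd_pow_self p fun h0 => hnfix fun g => ?_
    rw [h0, pow_zero, Nat.card_eq_one_iff_unique] at hj
    have := hj.1.elim ⟨g • x0, MulAction.mem_orbit _ _⟩ ⟨x0, MulAction.mem_orbit_self _⟩
    exact congrArg Subtype.val this
  have h1 : ∑ x ∈ s, f x = (s.card : ℂ) * f x0 + ∑ x ∈ s, (f x - f x0) := by
    rw [Finset.sum_sub_distrib, Finset.sum_const, nsmul_eq_mul]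
    ring
  rw [h1]
  refine MemLocalIdeal.add
    (MemLocalIdeal.mul_right ((natCast_memLocalIdeal_iff hM _).2 hdvd) (hint x0))
    (memLocalIdeal_sum _ _ fun x hxs => ?_)
  obtain ⟨g, hg⟩ := (hset x).1 hxs
  rw [← show g • x0 = x from hg]
  exact hf g x0

/-- Sums over a set with a fixed point free `p`-group action vanish modulo `M`. -/
theorem sum_mem_of_no_fixed (hM : IsPModular p M) {H α : Type*} [Group H] [Finite H] [Fintype α]
    [MulAction H α] (hH : IsPGroup p H) (f : α → ℂ) (hint : ∀ x, MemLocalRing M (f x))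
    (hf : ∀ (g : H) x, MemLocalIdeal M (f (g • x) - f x))
    (hnone : ∀ x : α, ¬ ∀ g : H, g • x = x) : MemLocalIdeal M (∑ x, f x) := by
  have h := sum_sub_fixed_mem hM hH f hint hf
  rwa [Finset.filter_false_of_mem fun x _ => hnone x, Finset.sum_empty, sub_zero] at h

/-- Sums over a set with a `p`-group action vanish modulo `M` if they do so at the fixed points. -/
theorem sum_mem_of_fixed (hM : IsPModular p M) {H α : Type*} [Group H] [Finite H] [Fintype α]
    [MulAction H α] (hH : IsPGroup p H) (f : α → ℂ) (hint : ∀ x, MemLocalRing M (f x))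
    (hf : ∀ (g : H) x, MemLocalIdeal M (f (g • x) - f x))
    (hfixed : ∀ x : α, (∀ g : H, g • x = x) → MemLocalIdeal M (f x)) :
    MemLocalIdeal M (∑ x, f x) := by
  have h := MemLocalIdeal.add (sum_sub_fixed_mem hM hH f hint hf)
    (memLocalIdeal_sum (Finset.univ.filter fun x : α => ∀ g : H, g • x = x) f
      fun x hx => hfixed x (Finset.mem_filter.1 hx).2)
  rwa [sub_add_cancel] at h

/-- Exponents separating the `p`-part from the `p'`-part of `|G|`. -/
structure Exps (p N : ℕ) where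
  a : ℕ
  m : ℕ
  e : ℕ
  f : ℕ
  hN : N = p ^ a * m
  hm : ¬ p ∣ m
  he0 : p ^ a ∣ e
  he1 : e ≡ 1 [MOD m]
  hf0 : m ∣ f
  hf1 : f ≡ 1 [MOD p ^ a]

variable {N : ℕ} (X : Exps p N)

theorem exists_exps (hp : p.Prime) (hN : N ≠ 0) :
    ∃ X : Exps p N, X.a = N.factorization p ∧ X.m = N / p ^ N.factorization p := by
  have hm : ¬ p ∣ N / p ^ N.factorization p := Nat.not_dvd_ordCompl hp hN
  have hc : Nat.Coprime (p ^ N.factorization p) (N / p ^ N.factorization p) :=
    ((hp.coprime_iff_not_dvd).2 hm).pow_left _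
  obtain ⟨e, he, he'⟩ := Nat.chineseRemainder hc 0 1
  obtain ⟨f, hf, hf'⟩ := Nat.chineseRemainder hc 1 0
  exact ⟨⟨_, _, e, f, (Nat.ordProj_mul_ordCompl_eq_self N p).symm, hm,
    (Nat.modEq_zero_iff_dvd).1 he, he', (Nat.modEq_zero_iff_dvd).1 hf', hf⟩, rfl, rfl⟩

variable [hp : Fact p.Prime]

/-- The exponent attached to a unit modulo `p ^ a`. -/
def Exps.k (X : Exps p N) (u : (ZMod (p ^ X.a))ˣ) : ℕ := X.e + (u : ZMod (p ^ X.a)).val * X.f

theorem Exps.modEq_iff {x y : ℕ} :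
    x ≡ y [MOD N] ↔ x ≡ y [MOD p ^ X.a] ∧ x ≡ y [MOD X.m] := by
  conv_lhs => rw [X.hN]
  exact (Nat.modEq_and_modEq_iff_modEq_mul (((hp.out.coprime_iff_not_dvd).2 X.hm).pow_left _)).symm

theorem Exps.k_modEq_pow (u : (ZMod (p ^ X.a))ˣ) :
    X.k u ≡ (u : ZMod (p ^ X.a)).val [MOD p ^ X.a] := by
  have := (Nat.modEq_zero_iff_dvd.2 X.he0).add (X.hf1.mul_left (u : ZMod (p ^ X.a)).val)
  rwa [zero_add, mul_one] at this

theorem Exps.k_modEq_one (u : (ZMod (p ^ X.a))ˣ) : X.k u ≡ 1 [MOD X.m] := by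
  have := X.he1.add ((Nat.modEq_zero_iff_dvd.2 X.hf0).mul_left (u : ZMod (p ^ X.a)).val)
  rwa [mul_zero, add_zero] at this

theorem Exps.k_mul (u v : (ZMod (p ^ X.a))ˣ) : X.k (u * v) ≡ X.k u * X.k v [MOD N] := by
  refine X.modEq_iff.2 ⟨(X.k_modEq_pow _).trans ?_, (X.k_modEq_one _).trans ?_⟩
  · rw [Units.val_mul, ZMod.val_mul]
    exact (Nat.mod_modEq _ _).trans ((X.k_modEq_pow u).symm.mul (X.k_modEq_pow v).symm)
  · exact ((X.k_modEq_one u).mul (X.k_modEq_one v)).symm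

theorem Exps.k_one : X.k 1 ≡ 1 [MOD N] := by
  refine X.modEq_iff.2 ⟨(X.k_modEq_pow _).trans ?_, X.k_modEq_one _⟩
  rw [Units.val_one, ZMod.val_one_eq_one_mod]
  exact Nat.mod_modEq _ _

theorem Exps.k_coprime (u : (ZMod (p ^ X.a))ˣ) : (X.k u).Coprime N := by
  have h := (X.k_mul u u⁻¹).symm.trans (mul_inv_cancel u ▸ X.k_one)
  have h1 : Nat.Coprime (X.k u * X.k u⁻¹) N := (Nat.ModEq.gcd_eq h).trans (Nat.gcd_one_left N)
  exact Nat.Coprime.coprime_dvd_left (dvd_mul_right _ _) h1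

theorem pow_congr {x : ℂ} (hx : x ^ N = 1) {i j : ℕ} (h : i ≡ j [MOD N]) : x ^ i = x ^ j := by
  rw [← pow_mod_orderOf, ← pow_mod_orderOf x j]
  congr 1
  exact Nat.ModEq.of_dvd (orderOf_dvd_of_pow_eq_one hx) h

theorem Exps.root_split {x : ℂ} (hx : x ^ N = 1) : x ^ X.e * x ^ X.f = x := by
  rw [← pow_add, pow_congr hx (X.modEq_iff.2 ⟨?_, ?_⟩ : X.e + X.f ≡ 1 [MOD N]), pow_one]
  · have := (Nat.modEq_zero_iff_dvd.2 X.he0).add X.hf1
    rwa [zero_add] at this
  · have := X.he1.add (Nat.modEq_zero_iff_dvd.2 X.hf0)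
    rwa [add_zero] at this

theorem Exps.eta_pow {x : ℂ} (hx : x ^ N = 1) : (x ^ X.f) ^ p ^ X.a = 1 := by
  obtain ⟨c, hc⟩ := X.hf0
  rw [← pow_mul, hc, mul_right_comm, mul_comm X.m, ← X.hN, pow_mul, hx, one_pow]

/-- The sum of the powers of a `p`-power root of unity prime to `p`. -/
theorem sum_units_pow {a : ℕ} {η : ℂ} (hη : η ^ p ^ (a + 1) = 1) :
    ∑ u : (ZMod (p ^ (a + 1)))ˣ, η ^ (u : ZMod (p ^ (a + 1))).val =
      (p : ℂ) ^ a * ((if η = 1 then (p : ℂ) else 0) - if η ^ p = 1 then 1 else 0) := by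
  haveI : NeZero (p ^ (a + 1)) := ⟨pow_ne_zero _ hp.out.ne_zero⟩
  have h1 : ∑ u : (ZMod (p ^ (a + 1)))ˣ, η ^ (u : ZMod (p ^ (a + 1))).val =
      ∑ j ∈ (Finset.range (p ^ (a + 1))).filter (fun j => ¬ p ∣ j), η ^ j := by
    refine Finset.sum_bij (fun u _ => (u : ZMod (p ^ (a + 1))).val) (fun u _ => ?_)
      (fun u _ v _ h => Units.ext (ZMod.val_injective _ h)) (fun j hj => ?_) fun _ _ => rfl
    · refine Finset.mem_filter.2 ⟨Finset.mem_range.2 (ZMod.val_lt _), fun hd => ?_⟩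
      exact (hp.out.coprime_iff_not_dvd.1
        ((ZMod.val_coe_unit_coprime u).coprime_dvd_right (dvd_pow_self p a.succ_ne_zero)).symm) hd
    · obtain ⟨hj1, hj2⟩ := Finset.mem_filter.1 hj
      refine ⟨ZMod.unitOfCoprime j (((hp.out.coprime_iff_not_dvd).2 hj2).symm.pow_right _),
        Finset.mem_univ _, ?_⟩
      rw [ZMod.coe_unitOfCoprime, ZMod.val_cast_of_lt (Finset.mem_range.1 hj1)]
  have h2 : (Finset.range (p ^ (a + 1))).filter (fun j => p ∣ j) =
      (Finset.range (p ^ a)).image fun i => p * i := by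
    ext j
    simp only [Finset.mem_filter, Finset.mem_range, Finset.mem_image]
    constructor
    · rintro ⟨hj, c, rfl⟩
      refine ⟨c, ?_, rfl⟩
      rw [pow_succ'] at hj
      exact Nat.lt_of_mul_lt_mul_left hj
    · rintro ⟨i, hi, rfl⟩
      exact ⟨by rw [pow_succ']; exact Nat.mul_lt_mul_of_pos_left hi hp.out.pos, dvd_mul_right _ _⟩
  have h3 := Finset.sum_filter_add_sum_filter_not (Finset.range (p ^ (a + 1))) (fun j => p ∣ j)
    (fun j => η ^ j)
  rw [h2, Finset.sum_image fun i _ j _ h => Nat.eq_of_mul_eq_mul_left hp.out.pos h] at h3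
  simp only [pow_mul] at h3
  rw [h1, eq_sub_of_add_eq' h3]
  by_cases hη1 : η = 1
  · subst hη1
    simp [pow_succ]
    ring
  rw [if_neg hη1, geom_sum_eq hη1, hη, sub_self, zero_div]
  by_cases hηp : η ^ p = 1
  · simp [hηp]
  · rw [if_neg hηp, geom_sum_eq hηp, ← pow_mul, ← pow_succ', hη, sub_self, zero_div]
    simp

/-- The units congruent to `1` modulo `p`. -/
def U1 (p q : ℕ) : Subgroup (ZMod q)ˣ where
  carrier := {u | (p : ZMod q) ∣ (u : ZMod q) - 1}
  one_mem' := by simp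
  mul_mem' := by
    intro u v hu hv
    show (p : ZMod q) ∣ (u : ZMod q) * v - 1
    rw [show (u : ZMod q) * v - 1 = u * ((v : ZMod q) - 1) + ((u : ZMod q) - 1) by ring]
    exact dvd_add (dvd_mul_of_dvd_right hv _) hu
  inv_mem' := by
    intro u hu
    show (p : ZMod q) ∣ ((u⁻¹ : (ZMod q)ˣ) : ZMod q) - 1
    rw [show ((u⁻¹ : (ZMod q)ˣ) : ZMod q) - 1 = -(((u⁻¹ : (ZMod q)ˣ) : ZMod q) * ((u : ZMod q) - 1)) by
      rw [mul_sub, Units.inv_mul, mul_one, neg_sub]]
    exact dvd_neg.2 (dvd_mul_of_dvd_right hu _)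

theorem isPGroup_U1 (a : ℕ) : IsPGroup p (U1 p (p ^ a)) := fun u => by
  refine ⟨a, Subtype.ext (Units.ext ?_)⟩
  have h := dvd_sub_pow_of_dvd_sub (R := ZMod (p ^ a)) u.2 a
  rw [pow_succ, ← Nat.cast_pow, ZMod.natCast_self, zero_mul, zero_dvd_iff, one_pow, sub_eq_zero] at h
  simpa using h

variable {G : Type u} [Group G] [Fintype G] (Y : Exps p (Nat.card G))

/-- The normalised sum over the `p`-conjugates. -/
noncomputable def W (χ : G → ℂ) (g : G) : ℂ :=
  ((p : ℂ) ^ (Y.a - 1))⁻¹ * ∑ u : (ZMod (p ^ Y.a))ˣ, χ (g ^ Y.k u)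

theorem pow_congr_group (g : G) {i j : ℕ} (h : i ≡ j [MOD Nat.card G]) : g ^ i = g ^ j :=
  pow_eq_pow_iff_modEq.2 (Nat.ModEq.of_dvd (orderOf_dvd_natCard g) h)

theorem pow_k_mul (g : G) (u v : (ZMod (p ^ Y.a))ˣ) : g ^ Y.k (u * v) = (g ^ Y.k u) ^ Y.k v := by
  rw [← pow_mul]
  exact pow_congr_group g (Y.k_mul u v)

theorem W_pow (χ : G → ℂ) (g : G) (v : (ZMod (p ^ Y.a))ˣ) : W Y χ (g ^ Y.k v) = W Y χ g := by
  unfold W
  congr 1
  refine Fintype.sum_equiv (Equiv.mulLeft v) _ _ fun u => ?_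
  rw [Equiv.coe_mulLeft, pow_k_mul]

variable {χ : G → ℂ} (hχ : IsCharacter G χ)

include hχ

theorem W_eig {a : ℕ} (ha : Y.a = a + 1) (g : G) :
    ∃ S : Multiset ℂ, (∀ z ∈ S, z ^ Nat.card G = 1) ∧ (∀ j : ℕ, χ (g ^ j) = (S.map (· ^ j)).sum) ∧
      W Y χ g = (S.map fun z => z ^ Y.e *
        ((if z ^ Y.f = 1 then (p : ℂ) else 0) - if (z ^ Y.f) ^ p = 1 then 1 else 0)).sum := by
  obtain ⟨n, ρ, rfl⟩ := hχ
  obtain ⟨S, -, hS, hpow, -⟩ := exists_eigenvalues ρ g
  have hN : ∀ z ∈ S, z ^ Nat.card G = 1 := fun z hz => by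
    obtain ⟨c, hc⟩ := orderOf_dvd_natCard g
    rw [hc, pow_mul, hS z hz, one_pow]
  refine ⟨S, hN, hpow, ?_⟩
  have hp0 : ((p : ℂ) ^ (Y.a - 1)) ≠ 0 := pow_ne_zero _ (Nat.cast_ne_zero.2 hp.out.ne_zero)
  unfold W
  rw [inv_mul_eq_iff_eq_mul₀ hp0, ← Multiset.sum_map_mul_left,
    Finset.sum_congr rfl fun u _ => hpow (Y.k u)]
  rw [show ∑ u : (ZMod (p ^ Y.a))ˣ, (S.map fun z => z ^ Y.k u).sum =
    (S.map fun z => ∑ u : (ZMod (p ^ Y.a))ˣ, z ^ Y.k u).sum by
      clear hS hpow hN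
      induction S using Multiset.induction_on with
      | empty => simp
      | cons z S ih => simp [Finset.sum_add_distrib, ih]]
  refine congrArg Multiset.sum (Multiset.map_congr rfl fun z hz => ?_)
  obtain ⟨Ya, Ym, Ye, Yf, h1, h2, h3, h4, h5, h6⟩ := Y
  simp only at ha ⊢
  subst ha
  have hη := Exps.eta_pow (⟨_, Ym, Ye, Yf, h1, h2, h3, h4, h5, h6⟩ : Exps p (Nat.card G)) (hN z hz)
  simp only [Exps.k, pow_add z, mul_comm (ZMod.val _) Yf, pow_mul z Yf, ← Finset.mul_sum,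
    sum_units_pow hη, Nat.add_sub_cancel]
  ring

theorem W_integral {a : ℕ} (ha : Y.a = a + 1) (g : G) : IsIntegral ℤ (W Y χ g) := by
  obtain ⟨S, hS, -, hW⟩ := W_eig Y hχ ha g
  rw [hW]
  refine IsIntegral.multiset_sum fun w hw => ?_
  obtain ⟨z, hz, rfl⟩ := Multiset.mem_map.1 hw
  have hzi : IsIntegral ℤ z :=
    IsIntegral.of_pow Nat.card_pos (by rw [hS z hz]; exact isIntegral_one)
  refine (hzi.pow _).mul (IsIntegral.sub ?_ ?_) <;> split_ifs
  · exact isIntegral_natCast p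
  · exact isIntegral_zero
  · exact isIntegral_one
  · exact isIntegral_zero

/-- On a class fixed by the `p`-conjugations the normalised sum is congruent to `-χ`. -/
theorem W_add_mem (hM : IsPModular p M) {a : ℕ} (ha : Y.a = a + 1) {g : G}
    (hfix : ∀ u ∈ U1 p (p ^ Y.a), IsConj (g ^ Y.k u) g) :
    MemLocalIdeal M (W Y χ g + χ g) := by
  haveI : NeZero (p ^ Y.a) := ⟨pow_ne_zero _ hp.out.ne_zero⟩
  obtain ⟨S, hS, hpow, hW⟩ := W_eig Y hχ ha g
  have hg : χ g = (S.map fun z => z).sum := by simpa using hpow 1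
  rw [hW, hg, ← Multiset.sum_map_add]
  set P : ℂ → Prop := fun z => (z ^ Y.f) ^ p = 1 with hP
  have hsplit : (S.map fun z => z ^ Y.e *
      ((if z ^ Y.f = 1 then (p : ℂ) else 0) - if (z ^ Y.f) ^ p = 1 then 1 else 0) + z).sum =
      (S.map fun z => z ^ Y.e * (if z ^ Y.f = 1 then (p : ℂ) else 0) +
        z ^ Y.e * (z ^ Y.f - 1)).sum + ((S.filter fun z => ¬ P z).map (· ^ Y.e)).sum := by
    have h' : ∀ z ∈ S, z ^ Y.e *
        ((if z ^ Y.f = 1 then (p : ℂ) else 0) - if (z ^ Y.f) ^ p = 1 then 1 else 0) + z =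
        (z ^ Y.e * (if z ^ Y.f = 1 then (p : ℂ) else 0) + z ^ Y.e * (z ^ Y.f - 1)) +
          if ¬ P z then z ^ Y.e else 0 := by
      intro z hz
      conv_lhs => arg 2; rw [← Y.root_split (hS z hz)]
      simp only [hP]
      by_cases h : (z ^ Y.f) ^ p = 1 <;> by_cases h' : z ^ Y.f = 1 <;> simp [h, h'] <;> ring
    rw [Multiset.map_congr rfl h', Multiset.sum_map_add]
    congr 1
    clear hW hpow hg hS h'
    induction S using Multiset.induction_on with
    | empty => simp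
    | cons z S ih =>
      rw [Multiset.map_cons, Multiset.sum_cons, ih]
      by_cases h : P z <;> simp [h]
  rw [hsplit]
  refine MemLocalIdeal.add (Multiset.sum_induction (MemLocalIdeal M) _
    (fun _ _ => MemLocalIdeal.add) memLocalIdeal_zero fun w hw => ?_) ?_
  · obtain ⟨z, hz, rfl⟩ := Multiset.mem_map.1 hw
    have hzi : IsIntegral ℤ z :=
      IsIntegral.of_pow Nat.card_pos (by rw [hS z hz]; exact isIntegral_one)
    refine MemLocalIdeal.add (MemLocalIdeal.mul_left (mem_locRing_of_isIntegral (hzi.pow _)) ?_)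
      (MemLocalIdeal.mul_left (mem_locRing_of_isIntegral (hzi.pow _))
        (memLocalIdeal_sub_one_of_pow_eq_one hM (k := Y.a) (Y.eta_pow (hS z hz))))
    split_ifs
    · exact (natCast_memLocalIdeal_iff hM p).2 dvd_rfl
    · exact memLocalIdeal_zero
  set S' := S.filter fun z => ¬ P z with hS'
  have hS'1 : ∀ z ∈ S', z ^ Nat.card G = 1 := fun z hz => hS z (Multiset.mem_filter.1 hz).1
  have hne : Nat.card G ≠ 0 := Nat.card_pos.ne'
  -- stability under the power maps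
  have hinj : ∀ (u : (ZMod (p ^ Y.a))ˣ) (z w : ℂ), z ^ Nat.card G = 1 → w ^ Nat.card G = 1 →
      z ^ Y.k u = w ^ Y.k u → z = w := by
    intro u z w hz hw h
    have := congrArg (· ^ Y.k u⁻¹) h
    simp only [← pow_mul] at this
    rwa [← pow_congr hz (Y.k_mul u u⁻¹), ← pow_congr hw (Y.k_mul u u⁻¹), mul_inv_cancel,
      pow_congr hz Y.k_one, pow_congr hw Y.k_one, pow_one, pow_one] at this
  have hmap : ∀ u ∈ U1 p (p ^ Y.a), S.map (· ^ Y.k u) = S := by
    intro u hu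
    refine multiset_eq_of_powerSums hne (fun w hw => ?_) hS fun j => ?_
    · obtain ⟨z, hz, rfl⟩ := Multiset.mem_map.1 hw
      rw [← pow_mul, mul_comm, pow_mul, hS z hz, one_pow]
    · rw [Multiset.map_map, ← hpow j,
        show (S.map ((fun z => z ^ j) ∘ fun z => z ^ Y.k u)).sum = χ (g ^ (Y.k u * j)) by
          rw [hpow]; simp only [Function.comp_def, ← pow_mul]]
      obtain ⟨c, hc⟩ := isConj_iff.1 (hfix u hu)
      have : g ^ j = c * g ^ (Y.k u * j) * c⁻¹ := by rw [pow_mul, ← conj_pow, hc]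
      rw [this, IsCharacter.isClassFunction hχ]
  have hPk : ∀ (u : (ZMod (p ^ Y.a))ˣ) (z : ℂ), z ^ Nat.card G = 1 → P z → P (z ^ Y.k u) := by
    intro u z _ h
    show ((z ^ Y.k u) ^ Y.f) ^ p = 1
    rw [← pow_mul z, mul_comm, pow_mul z, ← pow_mul (z ^ Y.f), mul_comm, pow_mul, h, one_pow]
  have hcount : ∀ u ∈ U1 p (p ^ Y.a), ∀ z ∈ S', z ^ Y.k u ∈ S' ∧
      S'.count (z ^ Y.k u) = S'.count z := by
    intro u hu z hz
    obtain ⟨hzS, hzP⟩ := Multiset.mem_filter.1 hz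
    have hnP : ¬ P (z ^ Y.k u) := fun h => hzP (by
      have := hPk u⁻¹ _ (by rw [← pow_mul, mul_comm, pow_mul, hS z hzS, one_pow]) h
      rwa [← pow_mul, ← pow_congr (hS z hzS) (Y.k_mul u u⁻¹), mul_inv_cancel,
        pow_congr (hS z hzS) Y.k_one, pow_one] at this)
    have hmem : z ^ Y.k u ∈ S := by
      rw [← hmap u hu]; exact Multiset.mem_map.2 ⟨z, hzS, rfl⟩
    refine ⟨Multiset.mem_filter.2 ⟨hmem, hnP⟩, ?_⟩
    rw [hS', Multiset.count_filter_of_pos (p := fun z => ¬ P z) hnP,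
      Multiset.count_filter_of_pos (p := fun z => ¬ P z) hzP]
    conv_lhs => rw [← hmap u hu]
    exact Multiset.count_map_eq_count _ _
      (fun x hx y hy h => hinj u x y (hS x hx) (hS y hy) h) z hzS
  letI : MulAction (U1 p (p ^ Y.a)) {z // z ∈ S'.toFinset} :=
    { smul := fun u z => ⟨z.1 ^ Y.k u.1,
        Multiset.mem_toFinset.2 (hcount u.1 u.2 z.1 (Multiset.mem_toFinset.1 z.2)).1⟩
      one_smul := fun z => Subtype.ext (by
        show z.1 ^ Y.k 1 = z.1
        rw [pow_congr (hS'1 _ (Multiset.mem_toFinset.1 z.2)) Y.k_one, pow_one])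
      mul_smul := fun u v z => Subtype.ext (by
        show z.1 ^ Y.k (u.1 * v.1) = (z.1 ^ Y.k v.1) ^ Y.k u.1
        rw [← pow_mul, mul_comm (Y.k v.1)]
        exact pow_congr (hS'1 _ (Multiset.mem_toFinset.1 z.2)) (Y.k_mul _ _)) }
  have hzi : ∀ z : {z // z ∈ S'.toFinset}, IsIntegral ℤ z.1 := fun z =>
    IsIntegral.of_pow Nat.card_pos
      (by rw [hS'1 _ (Multiset.mem_toFinset.1 z.2)]; exact isIntegral_one)
  have key := sum_mem_of_no_fixed (H := U1 p (p ^ Y.a)) (α := {z // z ∈ S'.toFinset}) hM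
    (isPGroup_U1 Y.a) (fun z => (S'.count z.1 : ℂ) * z.1 ^ Y.e)
    (fun z => mem_locRing_of_isIntegral ((isIntegral_natCast _).mul ((hzi z).pow _)))
    (fun u z => by
      show MemLocalIdeal M ((S'.count (z.1 ^ Y.k u.1) : ℂ) * (z.1 ^ Y.k u.1) ^ Y.e -
        (S'.count z.1 : ℂ) * z.1 ^ Y.e)
      have hz := Multiset.mem_toFinset.1 z.2
      rw [(hcount u.1 u.2 _ hz).2, ← pow_mul, pow_congr (hS'1 _ hz) (Y.modEq_iff.2 ⟨?_, ?_⟩ :
        Y.k u.1 * Y.e ≡ Y.e [MOD Nat.card G]), sub_self]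
      · exact memLocalIdeal_zero
      · exact (Nat.modEq_zero_iff_dvd.2 (dvd_mul_of_dvd_right Y.he0 _)).trans
          (Nat.modEq_zero_iff_dvd.2 Y.he0).symm
      · simpa using (Y.k_modEq_one u.1).mul_right Y.e)
  have hsum : (S'.map (· ^ Y.e)).sum =
      ∑ z : {z // z ∈ S'.toFinset}, (S'.count z.1 : ℂ) * z.1 ^ Y.e := by
    rw [Finset.sum_coe_sort S'.toFinset (fun z => (S'.count z : ℂ) * z ^ Y.e),
      Finset.sum_multiset_map_count]
    simp only [nsmul_eq_mul]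
  have hnone : ∀ z : {z // z ∈ S'.toFinset}, ¬ ∀ u : U1 p (p ^ Y.a), u • z = z := by
    intro z hfx
    have hz' := Multiset.mem_toFinset.1 z.2
    obtain ⟨hzS, hzP⟩ := Multiset.mem_filter.1 hz'
    have hc : (1 + p).Coprime (p ^ Y.a) := by
      refine Nat.Coprime.pow_right _ ?_
      rw [Nat.coprime_add_self_left]
      exact Nat.coprime_one_left p
    let u0 : (ZMod (p ^ Y.a))ˣ := ZMod.unitOfCoprime (1 + p) hc
    have hu0 : u0 ∈ U1 p (p ^ Y.a) := by
      show (p : ZMod (p ^ Y.a)) ∣ (u0 : ZMod (p ^ Y.a)) - 1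
      rw [ZMod.coe_unitOfCoprime]
      exact ⟨1, by push_cast; ring⟩
    have h1 : z.1 ^ Y.k u0 = z.1 := congrArg Subtype.val (hfx ⟨u0, hu0⟩)
    refine hzP ?_
    have h2 : (z.1 ^ Y.f) ^ (u0 : ZMod (p ^ Y.a)).val = (z.1 ^ Y.f) ^ (1 + p) := by
      refine pow_congr (Y.eta_pow (hS _ hzS)) ?_
      rw [ZMod.coe_unitOfCoprime, ZMod.val_natCast]
      exact Nat.mod_modEq _ _
    have h3 : z.1 ^ Y.e * (z.1 ^ Y.f) ^ (1 + p) = z.1 ^ Y.e * z.1 ^ Y.f := by
      rw [← h2, ← pow_mul, ← pow_add, mul_comm Y.f, Y.root_split (hS _ hzS)]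
      exact h1
    have hz0 : z.1 ≠ 0 := fun h0 => by
      have := hS _ hzS
      simp [h0, zero_pow hne] at this
    have h4 := mul_left_cancel₀ (pow_ne_zero _ hz0) h3
    rw [pow_add, pow_one] at h4
    exact mul_left_cancel₀ (pow_ne_zero Y.f hz0) (h4.trans (mul_one _).symm)
  rw [hsum]
  exact key hnone

end Cfsg.Agent.PConj
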