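/-
The number of `p`-conjugates of an irreducible character times its degree.
-/
import Cfsg.Agent.Lib.Blocks.PConjSum
import Cfsg.Agent.Lib.Blocks.RegTrExact
import Cfsg.Agent.Lib.Char.Degree

set_option linter.unusedSectionVars false
set_option linter.style.haveILetI false

namespace Cfsg.Agent.PConj

open Cfsg Cfsg.Agent.Blocks Cfsg.Agent.Char

open scoped Classical ComplexConjugate

universe u

variable {G : Type u} [Group G] [Fintype G] {p : ℕ} [hp : Fact p.Prime]
  {M : Ideal AlgInt} [M.IsPrime] (Y : Exps p (Nat.card G))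

theorem index_centralizer_conj {x y : G} (h : IsConj x y) :
    (Subgroup.centralizer ({x} : Set G)).index = (Subgroup.centralizer ({y} : Set G)).index := by
  rw [← card_classFinset, ← card_classFinset]
  refine congrArg Finset.card (Finset.ext fun z => ?_)
  rw [mem_classFinset, mem_classFinset]
  exact ⟨fun e => h.symm.trans e, fun e => h.trans e⟩

theorem centralChar_conj {χ : G → ℂ} (hχ : IsClassFunction G χ) {x y : G} (h : IsConj x y) :
    centralChar χ x = centralChar χ y := by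
  rw [centralChar, centralChar, index_centralizer_conj h, isClassFunction_iff.1 hχ x y h]

theorem root_mem_adjoin {ζ z : ℂ} {N : ℕ} [NeZero N] (hζ : IsPrimitiveRoot ζ N)
    (hz : z ^ N = 1) : z ∈ IntermediateField.adjoin ℚ ({ζ} : Set ℂ) := by
  obtain ⟨i, -, rfl⟩ := hζ.eq_pow_of_pow_eq_one hz
  exact pow_mem (IntermediateField.subset_adjoin ℚ _ (Set.mem_singleton ζ)) i

theorem sum_mem_field {S : Multiset ℂ} (K : IntermediateField ℚ ℂ) (h : ∀ z ∈ S, z ∈ K) :
    S.sum ∈ K := multiset_sum_mem S h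

theorem char_mem_adjoin {χ : G → ℂ} (hχ : IsCharacter G χ) {ζ : ℂ}
    (hζ : IsPrimitiveRoot ζ (Nat.card G)) (g : G) :
    χ g ∈ IntermediateField.adjoin ℚ ({ζ} : Set ℂ) := by
  haveI : NeZero (Nat.card G) := ⟨Nat.card_pos.ne'⟩
  obtain ⟨n, ρ, rfl⟩ := hχ
  obtain ⟨S, -, hS, hpow, -⟩ := exists_eigenvalues ρ g
  have h : ρ.character g = S.sum := by simpa using hpow 1
  rw [h]
  refine sum_mem_field _ fun z hz => root_mem_adjoin hζ ?_
  obtain ⟨c, hc⟩ := orderOf_dvd_natCard g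
  rw [hc, pow_mul, hS z hz, one_pow]

/-- Values and central values change only modulo `M` under `p`-conjugation. -/
theorem pow_congr_value (hM : IsPModular p M) (χ : IrrCharacter G) (u : (ZMod (p ^ Y.a))ˣ)
    (g : G) :
    MemLocalIdeal M ((χ : G → ℂ) (g ^ Y.k u) - (χ : G → ℂ) g) ∧
      MemLocalIdeal M (centralChar (χ : G → ℂ) (g ^ Y.k u) - centralChar (χ : G → ℂ) g) := by
  have hN : Nat.card G ≠ 0 := Nat.card_pos.ne'
  obtain ⟨ζ, hζ⟩ : ∃ ζ : ℂ, IsPrimitiveRoot ζ (Nat.card G) :=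
    ⟨_, Complex.isPrimitiveRoot_exp _ hN⟩
  obtain ⟨σ, hσ⟩ := CharGalois.exists_galoisAut hN (Y.k_coprime u)
  have hmap : ∀ x, σ ((χ : G → ℂ) x) = (χ : G → ℂ) (x ^ Y.k u) := fun x =>
    CharGalois.map_char (IsIrrCharacter.isCharacter χ.2) σ.toRingHom hσ x
  have hζk : MemLocalIdeal M (ζ ^ Y.k u - ζ) := by
    have h1 := Y.eta_pow hζ.pow_eq_one
    have h2 : ζ ^ Y.k u - ζ = ζ ^ Y.e *
        (((ζ ^ Y.f) ^ (u : ZMod (p ^ Y.a)).val - 1) - (ζ ^ Y.f - 1)) := by
      rw [sub_sub_sub_cancel_right, mul_sub, Y.root_split hζ.pow_eq_one, ← pow_mul, ← pow_add,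
        mul_comm Y.f]
      rfl
    rw [h2]
    refine MemLocalIdeal.mul_left
      (mem_locRing_of_isIntegral ((hζ.isIntegral Nat.card_pos).pow _)) (MemLocalIdeal.sub ?_
        (memLocalIdeal_sub_one_of_pow_eq_one hM (k := Y.a) h1))
    refine memLocalIdeal_sub_one_of_pow_eq_one hM (k := Y.a) ?_
    rw [← pow_mul, mul_comm, pow_mul, h1, one_pow]
  have hc := char_mem_adjoin (IsIrrCharacter.isCharacter χ.2) hζ
  refine ⟨?_, ?_⟩
  · rw [← hmap]
    exact sub_mem_of_mem_adjoin hM hN hζ (hσ ζ hζ.pow_eq_one) hζk (hc g)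
      (IsCharacter.isIntegral (IsIrrCharacter.isCharacter χ.2) g)
  · have h1 : σ (centralChar (χ : G → ℂ) g) = centralChar (χ : G → ℂ) (g ^ Y.k u) := by
      rw [centralChar, centralChar, map_div₀, map_mul, map_natCast, hmap, hmap, one_pow,
        centralizer_pow_coprime (Y.k_coprime u)]
    rw [← h1]
    refine sub_mem_of_mem_adjoin hM hN hζ (hσ ζ hζ.pow_eq_one) hζk ?_
      (IsIrrCharacter.isIntegral_centralChar χ.2 g)
    exact div_mem (mul_mem (natCast_mem _ _) (hc g)) (hc 1)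

/-- Sums of class functions, class by class. -/
theorem sum_eq_sum_classes (F : G → ℂ) (hF : IsClassFunction G F) :
    ∑ g, F g = ∑ C : ConjClasses G,
      ((Subgroup.centralizer ({Quotient.out C} : Set G)).index : ℂ) * F (Quotient.out C) := by
  rw [← Finset.sum_fiberwise Finset.univ (fun g : G => ConjClasses.mk g) F]
  refine Finset.sum_congr rfl fun C _ => ?_
  rw [← sum_char_class hF]
  refine Finset.sum_congr (Finset.ext fun g => ?_) fun _ _ => rfl
  rw [Finset.mem_filter, mem_classFinset, ← ConjClasses.mk_eq_mk_iff_isConj,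
    show ConjClasses.mk (Quotient.out C) = C from Quotient.out_eq C]
  exact ⟨fun h => h.2.symm, fun h => ⟨Finset.mem_univ _, h.symm⟩⟩

variable (p) in
/-- The divisibility statements for the number `r` of `p`-conjugates. -/
theorem conjugates_degree (χ : IrrCharacter G) (r : ℕ)
    (hr : Nat.card {ψ : IrrCharacter G // ∃ σ : ℂ ≃+* ℂ,
      σ (Complex.exp (2 * Real.pi * Complex.I /
          ((Nat.card G / p ^ (Nat.card G).factorization p : ℕ) : ℂ))) =
        Complex.exp (2 * Real.pi * Complex.I /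
          ((Nat.card G / p ^ (Nat.card G).factorization p : ℕ) : ℂ)) ∧
      (ψ : G → ℂ) = fun g => σ ((χ : G → ℂ) g)} = r) :
    (r * charDegree (χ : G → ℂ)).factorization p ≤ (Nat.card G).factorization p ∧
      (p ^ (Nat.card G).factorization p ∣ r * charDegree (χ : G → ℂ) →
        p ^ (Nat.card G).factorization p ∣ charDegree (χ : G → ℂ)) := by
  have hN : Nat.card G ≠ 0 := Nat.card_pos.ne'
  obtain ⟨Y, hYa, hYm⟩ := exists_exps hp.out hN
  rw [← hYm] at hr
  obtain ⟨M, hM⟩ := exists_isPModular_witness p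
  haveI := IsPModular.isPrime hM
  haveI : NeZero (p ^ Y.a) := ⟨pow_ne_zero _ hp.out.ne_zero⟩
  set d := charDegree (χ : G → ℂ) with hd
  have hd0 : d ≠ 0 := (CharX.irr_deg_pos χ).ne'
  have hdN : d ∣ Nat.card G := CharX.irr_deg_dvd_card χ
  have hχc := IsIrrCharacter.isCharacter χ.2
  letI actI : MulAction (ZMod (p ^ Y.a))ˣ (IrrCharacter G) :=
    { smul := fun u ψ => ⟨fun g => (ψ : G → ℂ) (g ^ Y.k u),
        CharGalois.IsIrrCharacter.powMap ψ.2 (Y.k_coprime u)⟩
      one_smul := fun ψ => Subtype.ext (funext fun g => by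
        show (ψ : G → ℂ) (g ^ Y.k 1) = _
        rw [pow_congr_group g Y.k_one, pow_one])
      mul_smul := fun u v ψ => Subtype.ext (funext fun g => by
        show (ψ : G → ℂ) (g ^ Y.k (u * v)) = (ψ : G → ℂ) ((g ^ Y.k u) ^ Y.k v)
        rw [pow_k_mul]) }
  -- the conjugates form the orbit
  have hμ : IsPrimitiveRoot (Complex.exp (2 * Real.pi * Complex.I / (Y.m : ℂ))) Y.m :=
    Complex.isPrimitiveRoot_exp Y.m fun h => Y.hm (h ▸ dvd_zero p)
  have horbit : ∀ ψ : IrrCharacter G, (∃ σ : ℂ ≃+* ℂ,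
      σ (Complex.exp (2 * Real.pi * Complex.I / (Y.m : ℂ))) =
        Complex.exp (2 * Real.pi * Complex.I / (Y.m : ℂ)) ∧
      (ψ : G → ℂ) = fun g => σ ((χ : G → ℂ) g)) ↔
      ψ ∈ MulAction.orbit (ZMod (p ^ Y.a))ˣ χ := by
    intro ψ
    constructor
    · rintro ⟨σ, hσμ, hψ⟩
      obtain ⟨k, hk, hσ⟩ := CharGalois.exists_exponent σ.toRingHom hN
      have hkp : k.Coprime (p ^ Y.a) := Nat.Coprime.coprime_dvd_right ⟨Y.m, Y.hN⟩ hk
      refine ⟨ZMod.unitOfCoprime k hkp, Subtype.ext (funext fun g => ?_)⟩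
      have hkm : k ≡ 1 [MOD Y.m] := by
        have h1 : σ.toRingHom (Complex.exp (2 * Real.pi * Complex.I / (Y.m : ℂ))) = _ :=
          hσ _ ((hμ.pow_eq_one_iff_dvd _).2 ⟨p ^ Y.a, Y.hN.trans (mul_comm _ _)⟩)
        have h2 : Complex.exp (2 * Real.pi * Complex.I / (Y.m : ℂ)) ^ k =
            Complex.exp (2 * Real.pi * Complex.I / (Y.m : ℂ)) ^ 1 := by
          rw [pow_one, ← h1]; exact hσμ
        rw [hμ.eq_orderOf]
        exact (hμ.isOfFinOrder (fun h => Y.hm (h ▸ dvd_zero p))).pow_eq_pow_iff_modEq.1 h2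
      have hkk : Y.k (ZMod.unitOfCoprime k hkp) ≡ k [MOD Nat.card G] :=
        Y.modEq_iff.2 ⟨(Y.k_modEq_pow _).trans (by
          rw [ZMod.coe_unitOfCoprime, ZMod.val_natCast]; exact Nat.mod_modEq _ _),
          (Y.k_modEq_one _).trans hkm.symm⟩
      show (χ : G → ℂ) (g ^ Y.k (ZMod.unitOfCoprime k hkp)) = _
      rw [pow_congr_group g hkk, hψ]
      exact (CharGalois.map_char hχc σ.toRingHom hσ g).symm
    · rintro ⟨u, rfl⟩
      obtain ⟨σ, hσ⟩ := CharGalois.exists_galoisAut hN (Y.k_coprime u)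
      refine ⟨σ, ?_, funext fun g => (CharGalois.map_char hχc σ.toRingHom hσ g).symm⟩
      rw [hσ _ ((hμ.pow_eq_one_iff_dvd _).2 ⟨p ^ Y.a, Y.hN.trans (mul_comm _ _)⟩),
        pow_congr hμ.pow_eq_one (Y.k_modEq_one u), pow_one]
  rw [Nat.card_congr (Equiv.subtypeEquivRight horbit)] at hr
  set h := Nat.card (MulAction.stabilizer (ZMod (p ^ Y.a))ˣ χ) with hh
  have hrh : r * h = (p ^ Y.a).totient := by
    rw [← hr, Nat.card_congr (MulAction.orbitEquivQuotientStabilizer _ χ), hh,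
      ← Subgroup.card_eq_card_quotient_mul_card_subgroup, Nat.card_eq_fintype_card,
      ZMod.card_units_eq_totient]
  have hh0 : 0 < h := Nat.card_pos
  rw [← hYa]
  rcases Nat.eq_zero_or_pos Y.a with ha0 | hapos
  · have h0 : (Nat.card G).factorization p = 0 := hYa ▸ ha0
    rw [ha0, pow_zero, Nat.totient_one, mul_eq_one] at hrh
    rw [hrh.1, one_mul, ha0]
    refine ⟨h0 ▸ ?_, fun _ => by rw [pow_zero]; exact one_dvd _⟩
    exact (Nat.factorization_le_iff_dvd hd0 hN).2 hdN p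
  obtain ⟨A, hA⟩ : ∃ A, Y.a = A + 1 := ⟨Y.a - 1, by omega⟩
  have hpφ : (p ^ Y.a).totient = p ^ A * (p - 1) := by
    rw [hA, Nat.totient_prime_pow_succ hp.out]
  have hr0 : r ≠ 0 := fun h0 => by
    have h1 := hrh
    rw [h0, zero_mul] at h1
    exact (Nat.totient_pos.2 (pow_pos hp.out.pos _)).ne' h1.symm
  have hp1 := hp.out.two_le
  -- orthogonality
  have hWc : IsClassFunction G fun g => (χ : G → ℂ) g * W Y (χ : G → ℂ) g⁻¹ := fun x c => by
    simp only [IsCharacter.isClassFunction hχc x c]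
    congr 1
    unfold W
    congr 1
    refine Finset.sum_congr rfl fun u _ => ?_
    rw [show (c * x * c⁻¹)⁻¹ = c * x⁻¹ * c⁻¹ by group, conj_pow,
      IsCharacter.isClassFunction hχc]
  have horth : ∀ u : (ZMod (p ^ Y.a))ˣ, ∑ g, (χ : G → ℂ) g * (χ : G → ℂ) (g⁻¹ ^ Y.k u) =
      if u ∈ MulAction.stabilizer (ZMod (p ^ Y.a))ˣ χ then (Nat.card G : ℂ) else 0 := by
    intro u
    have h1 := classInner_irr χ.2 (u • χ).2
    rw [classInner, inv_mul_eq_iff_eq_mul₀ (Nat.cast_ne_zero.2 hN)] at h1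
    rw [Finset.sum_congr rfl fun g _ => show _ = (χ : G → ℂ) g * conj ((u • χ : IrrCharacter G).1 g) by
      rw [← irr_inv (u • χ) g]; rfl, h1]
    by_cases hu : u • χ = χ
    · rw [if_pos (congrArg Subtype.val hu.symm), if_pos (MulAction.mem_stabilizer_iff.2 hu), mul_one]
    · rw [if_neg fun e => hu (Subtype.ext e.symm),
        if_neg fun e => hu (MulAction.mem_stabilizer_iff.1 e), mul_zero]
  let ω : ConjClasses G → ℂ := fun C => centralChar (χ : G → ℂ) (Quotient.out C)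
  have hS : ∑ C, ω C * W Y (χ : G → ℂ) (Quotient.out C)⁻¹ =
      ((Nat.card G * (p - 1) : ℕ) : ℂ) / ((r * d : ℕ) : ℂ) := by
    have h1 : ∑ g, (χ : G → ℂ) g * W Y (χ : G → ℂ) g⁻¹ =
        ((p : ℂ) ^ A)⁻¹ * ((h : ℂ) * Nat.card G) := by
      simp only [W, hA ▸ Nat.add_sub_cancel A 1, Finset.mul_sum]
      rw [Finset.sum_comm]
      simp only [mul_left_comm ((χ : G → ℂ) _), ← Finset.mul_sum, horth]
      congr 1
      rw [← Finset.sum_filter, Finset.sum_const, nsmul_eq_mul]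
      congr 2
      exact (Fintype.card_subtype _).symm.trans
        (Nat.card_eq_fintype_card (α := MulAction.stabilizer (ZMod (p ^ Y.a))ˣ χ)).symm
    rw [sum_eq_sum_classes _ hWc] at h1
    have h2 : ∑ C, ω C * W Y (χ : G → ℂ) (Quotient.out C)⁻¹ =
        (∑ C : ConjClasses G, ((Subgroup.centralizer ({Quotient.out C} : Set G)).index : ℂ) *
          ((χ : G → ℂ) (Quotient.out C) * W Y (χ : G → ℂ) (Quotient.out C)⁻¹)) /
          (χ : G → ℂ) 1 := by
      rw [Finset.sum_div]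
      refine Finset.sum_congr rfl fun C _ => ?_
      simp only [ω, centralChar]
      ring
    rw [h2, h1, CharX.irr_deg, ← hd]
    have hcast : (r : ℂ) * h = (p : ℂ) ^ A * ((p - 1 : ℕ) : ℂ) := by
      exact_mod_cast hrh.trans hpφ
    have e0 : (p : ℂ) ^ A ≠ 0 := pow_ne_zero _ (Nat.cast_ne_zero.2 hp.out.ne_zero)
    have e1 : (r : ℂ) ≠ 0 := Nat.cast_ne_zero.2 hr0
    have e2 : (d : ℂ) ≠ 0 := Nat.cast_ne_zero.2 hd0
    push_cast
    field_simp
    linear_combination hcast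
  have hint : ∀ C, IsIntegral ℤ (ω C) := fun C => IsIrrCharacter.isIntegral_centralChar χ.2 _
  have hdvd : r * d ∣ Nat.card G * (p - 1) := by
    have hz : IsIntegral ℤ (((Nat.card G * (p - 1) : ℕ) : ℂ) / ((r * d : ℕ) : ℂ)) := by
      rw [← hS]
      exact IsIntegral.sum _ fun C _ => (hint C).mul (W_integral Y hχc hA _)
    obtain ⟨n, hn⟩ := exists_int_of_isIntegral
      (q := ((Nat.card G * (p - 1) : ℕ) : ℚ) / ((r * d : ℕ) : ℚ)) (by push_cast at hz ⊢; exact hz)
    rw [div_eq_iff (Nat.cast_ne_zero.2 (mul_ne_zero hr0 hd0))] at hn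
    refine Int.natCast_dvd_natCast.1 ⟨n, ?_⟩
    have : ((Nat.card G * (p - 1) : ℕ) : ℤ) = n * ((r * d : ℕ) : ℤ) := by exact_mod_cast hn
    rw [this, mul_comm]
  have hcop : ∀ i, (p ^ i).Coprime (p - 1) := fun i => by
    refine Nat.Coprime.pow_left i ((hp.out.coprime_iff_not_dvd).2 fun hd' => ?_)
    have := Nat.le_of_dvd (by omega) hd'
    omega
  have hrd0 : r * d ≠ 0 := mul_ne_zero hr0 hd0
  refine ⟨?_, fun hdiv => ?_⟩
  · rw [hYa, ← hp.out.pow_dvd_iff_le_factorization hN]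
    exact (hcop _).dvd_of_dvd_mul_right ((Nat.ordProj_dvd _ _).trans hdvd)
  by_contra hnd
  -- the sum over the classes vanishes modulo `M`
  have hnot : ¬ MemLocalIdeal M (((Nat.card G * (p - 1) : ℕ) : ℂ) / ((r * d : ℕ) : ℂ)) := by
    refine not_memLocalIdeal_natDiv hM hrd0 (mul_ne_zero hN (by omega)) ?_
    rw [Nat.factorization_mul hN (by omega), Finsupp.add_apply,
      Nat.factorization_eq_zero_of_not_dvd (fun hd' => by
        have := Nat.le_of_dvd (by omega) hd'; omega : ¬ p ∣ p - 1), add_zero, ← hYa]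
    exact (hp.out.pow_dvd_iff_le_factorization hrd0).1 hdiv
  refine hnot ?_
  rw [← hS]
  -- the action on classes
  letI actC : MulAction (U1 p (p ^ Y.a)) (ConjClasses G) :=
    { smul := fun u => Quotient.map' (fun g => g ^ Y.k u.1) fun x y hxy => by
        obtain ⟨c, hc⟩ := isConj_iff.1 (show IsConj x y from hxy)
        exact isConj_iff.2 ⟨c, by rw [← conj_pow, hc]⟩
      one_smul := by
        rintro ⟨g⟩
        show ConjClasses.mk (g ^ Y.k 1) = ConjClasses.mk g
        rw [pow_congr_group g Y.k_one, pow_one]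
      mul_smul := by
        rintro u v ⟨g⟩
        show ConjClasses.mk (g ^ Y.k (u.1 * v.1)) = ConjClasses.mk ((g ^ Y.k v.1) ^ Y.k u.1)
        rw [mul_comm, pow_k_mul] }
  have hout : ∀ (u : U1 p (p ^ Y.a)) (C : ConjClasses G),
      IsConj (Quotient.out (u • C)) (Quotient.out C ^ Y.k u.1) := by
    intro u C
    rw [← ConjClasses.mk_eq_mk_iff_isConj]
    refine (Quotient.out_eq (u • C)).trans ?_
    conv_lhs => rw [← Quotient.out_eq C]
    rfl
  have hcl := IsCharacter.isClassFunction hχc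
  have hinvW : ∀ (u : U1 p (p ^ Y.a)) (C : ConjClasses G),
      W Y (χ : G → ℂ) (Quotient.out (u • C))⁻¹ = W Y (χ : G → ℂ) (Quotient.out C)⁻¹ := by
    intro u C
    obtain ⟨c, hc⟩ := isConj_iff.1 (hout u C).symm
    rw [← hc, show (c * Quotient.out C ^ Y.k u.1 * c⁻¹)⁻¹ = c * (Quotient.out C)⁻¹ ^ Y.k u.1 * c⁻¹ by
      rw [inv_pow]; group, ← W_pow Y (χ : G → ℂ) (Quotient.out C)⁻¹ u.1]
    unfold W
    congr 1
    exact Finset.sum_congr rfl fun v _ => by rw [conj_pow, hcl]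
  have hchiinv : ∀ (u : U1 p (p ^ Y.a)) (C : ConjClasses G), MemLocalIdeal M
      ((χ : G → ℂ) (Quotient.out (u • C))⁻¹ - (χ : G → ℂ) (Quotient.out C)⁻¹) := by
    intro u C
    obtain ⟨c, hc⟩ := isConj_iff.1 (hout u C).symm
    rw [← hc, show (c * Quotient.out C ^ Y.k u.1 * c⁻¹)⁻¹ = c * (Quotient.out C)⁻¹ ^ Y.k u.1 * c⁻¹ by
      rw [inv_pow]; group, hcl]
    exact (pow_congr_value Y hM χ u.1 _).1
  have hωinv : ∀ (u : U1 p (p ^ Y.a)) (C : ConjClasses G),
      MemLocalIdeal M (ω (u • C) - ω C) := by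
    intro u C
    show MemLocalIdeal M (centralChar _ _ - centralChar _ _)
    rw [centralChar_conj hcl (hout u C)]
    exact (pow_congr_value Y hM χ u.1 _).2
  have hωR : ∀ C, MemLocalRing M (ω C) := fun C => mem_locRing_of_isIntegral (hint C)
  have hWR : ∀ g, MemLocalRing M (W Y (χ : G → ℂ) g + (χ : G → ℂ) g) := fun g =>
    mem_locRing_of_isIntegral ((W_integral Y hχc hA g).add (IsCharacter.isIntegral hχc g))
  have key := sum_mem_of_fixed (H := U1 p (p ^ Y.a)) hM (isPGroup_U1 Y.a)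
    (fun C => ω C * (W Y (χ : G → ℂ) (Quotient.out C)⁻¹ + (χ : G → ℂ) (Quotient.out C)⁻¹))
    (fun C => mem_locRing_of_isIntegral ((hint C).mul
      ((W_integral Y hχc hA _).add (IsCharacter.isIntegral hχc _))))
    (fun u C => by
      have e : ω (u • C) * (W Y (χ : G → ℂ) (Quotient.out (u • C))⁻¹ +
            (χ : G → ℂ) (Quotient.out (u • C))⁻¹) -
          ω C * (W Y (χ : G → ℂ) (Quotient.out C)⁻¹ + (χ : G → ℂ) (Quotient.out C)⁻¹) =
          (ω (u • C) - ω C) * (W Y (χ : G → ℂ) (Quotient.out (u • C))⁻¹ +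
            (χ : G → ℂ) (Quotient.out (u • C))⁻¹) +
          ω C * ((χ : G → ℂ) (Quotient.out (u • C))⁻¹ - (χ : G → ℂ) (Quotient.out C)⁻¹) := by
        rw [hinvW]; ring
      show MemLocalIdeal M (_ - _)
      rw [e]
      exact MemLocalIdeal.add (MemLocalIdeal.mul_right (hωinv u C) (hWR _))
        (MemLocalIdeal.mul_left (hωR C) (hchiinv u C)))
  have hfixed : ∀ C : ConjClasses G, (∀ u : U1 p (p ^ Y.a), u • C = C) → MemLocalIdeal M
      (ω C * (W Y (χ : G → ℂ) (Quotient.out C)⁻¹ + (χ : G → ℂ) (Quotient.out C)⁻¹)) := by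
    intro C hC
    refine MemLocalIdeal.mul_left (hωR C) (W_add_mem Y hχc hM hA fun u hu => ?_)
    have h1 := hout ⟨u, hu⟩ C
    rw [hC ⟨u, hu⟩] at h1
    obtain ⟨c, hc⟩ := isConj_iff.1 h1.symm
    refine isConj_iff.2 ⟨c, ?_⟩
    rw [inv_pow, show c * (Quotient.out C ^ Y.k u)⁻¹ * c⁻¹ =
      (c * Quotient.out C ^ Y.k u * c⁻¹)⁻¹ by group, hc]
  have hsum2 : MemLocalIdeal M (∑ C, ω C * (χ : G → ℂ) (Quotient.out C)⁻¹) := by
    obtain ⟨q, hq⟩ := hdN
    have hval : ∑ C, ω C * (χ : G → ℂ) (Quotient.out C)⁻¹ = (q : ℂ) := by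
      have h1 := classInner_self_irr χ.2
      rw [classInner, inv_mul_eq_iff_eq_mul₀ (Nat.cast_ne_zero.2 hN), mul_one,
        Finset.sum_congr rfl fun g _ => show _ = (χ : G → ℂ) g * (χ : G → ℂ) g⁻¹ by
          rw [irr_inv],
        sum_eq_sum_classes _ (fun x c => by
          simp only [hcl x c]
          rw [show (c * x * c⁻¹)⁻¹ = c * x⁻¹ * c⁻¹ by group, hcl])] at h1
      rw [Finset.sum_congr rfl fun C _ => show ω C * (χ : G → ℂ) (Quotient.out C)⁻¹ =
          ((Subgroup.centralizer ({Quotient.out C} : Set G)).index : ℂ) *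
            ((χ : G → ℂ) (Quotient.out C) * (χ : G → ℂ) (Quotient.out C)⁻¹) / (χ : G → ℂ) 1 by
            simp only [ω, centralChar]; ring,
        ← Finset.sum_div, h1, CharX.irr_deg, ← hd, hq]
      push_cast
      field_simp
    rw [hval, natCast_memLocalIdeal_iff hM]
    by_contra hpq
    refine hnd ?_
    have h1 : p ^ Y.a ∣ d * q := hq ▸ hYa ▸ Nat.ordProj_dvd (Nat.card G) p
    exact (((hp.out.coprime_iff_not_dvd).2 hpq).pow_left _).dvd_of_dvd_mul_right h1
  convert MemLocalIdeal.sub (key hfixed) hsum2 using 1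
  rw [← Finset.sum_sub_distrib]
  exact Finset.sum_congr rfl fun C _ => by ring

end Cfsg.Agent.PConj
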