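/-
A bound for the order of a `p`-group with a faithful irreducible character in terms of its degree
and the degree of its field of values.
-/
import Cfsg.Agent.Lib.Char.Monomial
import Cfsg.Agent.Lib.Char.Galois
import Cfsg.Agent.Lib.Char.Multiplicity
import Cfsg.Agent.Lib.Char.Orbit
import Cfsg.Agent.Lib.Char.Integral
import Cfsg.Agent.Lib.Blocks.Degree
import Mathlib.FieldTheory.Relrank
import Mathlib.FieldTheory.Extension
import Mathlib.RingTheory.Polynomial.Cyclotomic.Roots

set_option linter.unusedSectionVars false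
set_option linter.style.haveILetI false

namespace Cfsg.Agent.PGroupField

open Cfsg Cfsg.Agent.Char Cfsg.Agent.Blocks

open scoped ComplexConjugate Pointwise IntermediateField

universe u

/-- The field of values. -/
noncomputable abbrev fld {G : Type u} (χ : G → ℂ) : IntermediateField ℚ ℂ :=
  IntermediateField.adjoin ℚ (Set.range χ)

theorem char_integral {G : Type u} [Group G] [Finite G] {χ : G → ℂ} (hχ : IsCharacter G χ) (g : G) :
    IsIntegral ℤ (χ g) := Cfsg.Agent.Char.IsCharacter.isIntegral hχ g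

theorem fld_finite {G : Type u} [Group G] [Finite G] {χ : G → ℂ} (hχ : IsCharacter G χ) :
    FiniteDimensional ℚ (fld χ) := by
  haveI : Finite (Set.range χ) := (Set.finite_range χ).to_subtype
  refine IntermediateField.finiteDimensional_adjoin ?_
  rintro _ ⟨g, rfl⟩
  exact (char_integral hχ g).tower_top

/-- Ring homomorphisms agreeing on the generators are equal. -/
theorem ext_adjoin {S : Set ℂ} (f g : IntermediateField.adjoin ℚ S →+* ℂ)
    (h : ∀ (x : ℂ) (hx : x ∈ S), f ⟨x, IntermediateField.subset_adjoin ℚ S hx⟩ =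
      g ⟨x, IntermediateField.subset_adjoin ℚ S hx⟩) : f = g := by
  refine RingHom.ext fun ⟨x, hx⟩ => ?_
  induction hx using IntermediateField.adjoin_induction with
  | mem y hy => exact h y hy
  | algebraMap q =>
    exact RingHom.congr_fun (Subsingleton.elim (f.comp (algebraMap ℚ _))
      (g.comp (algebraMap ℚ _))) q
  | add y z hy hz h1 h2 =>
    exact (map_add f ⟨y, hy⟩ ⟨z, hz⟩).trans
      ((congrArg₂ (· + ·) h1 h2).trans (map_add g ⟨y, hy⟩ ⟨z, hz⟩).symm)
  | inv y hy h1 =>
    exact (map_inv₀ f ⟨y, hy⟩).trans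
      ((congrArg (·⁻¹) h1).trans (map_inv₀ g ⟨y, hy⟩).symm)
  | mul y z hy hz h1 h2 =>
    exact (map_mul f ⟨y, hy⟩ ⟨z, hz⟩).trans
      ((congrArg₂ (· * ·) h1 h2).trans (map_mul g ⟨y, hy⟩ ⟨z, hz⟩).symm)

/-- An embedding of a field of algebraic numbers extends to an automorphism of `ℂ`. -/
theorem exists_aut (E : IntermediateField ℚ ℂ) (hE : E ≤ algebraicClosure ℚ ℂ) (σ : E →ₐ[ℚ] ℂ) :
    ∃ τ : ℂ ≃+* ℂ, ∀ x : E, τ (x : ℂ) = σ x := by
  haveI : IsAlgClosure ℚ (algebraicClosure ℚ ℂ) := algebraicClosure.isAlgClosure ℚ ℂ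
  haveI : Algebra.IsAlgebraic ℚ (algebraicClosure ℚ ℂ) := IsAlgClosure.isAlgebraic
  let L : IntermediateField ℚ (algebraicClosure ℚ ℂ) :=
    E.comap (algebraicClosure ℚ ℂ).val
  let f : L →ₐ[ℚ] ℂ := σ.comp
    { toFun := fun x => (⟨((x : algebraicClosure ℚ ℂ) : ℂ), x.2⟩ : E)
      map_one' := rfl
      map_mul' := fun _ _ => rfl
      map_zero' := rfl
      map_add' := fun _ _ => rfl
      commutes' := fun _ => rfl }
  obtain ⟨φ, hφ⟩ := IntermediateField.exists_algHom_of_splits (F := ℚ)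
    (E := algebraicClosure ℚ ℂ) (K := ℂ) (fun s => ⟨Algebra.IsIntegral.isIntegral s,
      IsAlgClosed.splits _⟩) f
  let ψ : algebraicClosure ℚ ℂ →ₐ[ℚ] algebraicClosure ℚ ℂ :=
    { toFun := fun x => ⟨φ x, mem_algebraicClosure_iff.2
        (((Algebra.IsIntegral.isIntegral (R := ℚ) x).map φ).isAlgebraic)⟩
      map_one' := Subtype.ext (map_one φ)
      map_mul' := fun a b => Subtype.ext (map_mul φ a b)
      map_zero' := Subtype.ext (map_zero φ)
      map_add' := fun a b => Subtype.ext (map_add φ a b)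
      commutes' := fun r => Subtype.ext (AlgHom.commutes φ r) }
  obtain ⟨τ, hτ⟩ := CharGalois.exists_aut_extending
    (AlgEquiv.ofBijective ψ (Algebra.IsAlgebraic.algHom_bijective ψ)).toRingEquiv
  refine ⟨τ, fun x => ?_⟩
  have h1 := hτ ⟨(x : ℂ), hE x.2⟩
  have h2 : φ ⟨(x : ℂ), hE x.2⟩ = σ x := AlgHom.congr_fun hφ ⟨⟨(x : ℂ), hE x.2⟩, x.2⟩
  exact h1.trans h2

/-- The case of degree one. -/
theorem linear_case {G : Type u} [Group G] [Finite G] {p : ℕ} (hp : p.Prime) {a : ℕ}
    (hG : Nat.card G = p ^ a) {χ : G → ℂ} (hχ : IsCharacter G χ) (h1 : χ 1 = 1)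
    (hfaith : ∀ g, χ g = χ 1 → g = 1) {t : ℕ}
    (hfield : Module.finrank ℚ (fld χ) ≤ (p - 1) * p ^ t) : a ≤ t + 1 := by
  by_cases ha : a = 0
  · omega
  obtain ⟨f, hf⟩ := exists_hom_of_degree_one hχ h1
  have hinj : Function.Injective f := by
    rw [← MonoidHom.ker_eq_bot_iff, Subgroup.eq_bot_iff_forall]
    intro g hg
    exact hfaith g (by rw [hf]; simp [MonoidHom.mem_ker.1 hg])
  haveI : IsCyclic G := isCyclic_of_subgroup_isDomain
    ((Units.coeHom ℂ).comp f) (fun x y h => hinj (Units.ext h))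
  obtain ⟨g, hg⟩ := IsCyclic.exists_ofOrder_eq_natCard (α := G)
  have hprim : IsPrimitiveRoot (χ g) (p ^ a) := by
    rw [hf, ← hG, ← hg, ← orderOf_injective f hinj g, ← orderOf_units]
    exact IsPrimitiveRoot.orderOf _
  haveI := fld_finite hχ
  have hmem : ℚ⟮χ g⟯ ≤ fld χ := IntermediateField.adjoin_simple_le_iff.2
    (IntermediateField.subset_adjoin ℚ _ ⟨g, rfl⟩)
  have hle : Module.finrank ℚ ℚ⟮χ g⟯ ≤ Module.finrank ℚ (fld χ) :=
    IntermediateField.finrank_le_of_le_right hmem
  rw [IntermediateField.adjoin.finrank (char_integral hχ g).tower_top,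
    ← Polynomial.cyclotomic_eq_minpoly_rat hprim (pow_pos hp.pos a), Polynomial.natDegree_cyclotomic,
    Nat.totient_prime_pow hp (Nat.pos_of_ne_zero ha)] at hle
  have h3 : p ^ (a - 1) ≤ p ^ t := Nat.le_of_mul_le_mul_left
    (by rw [mul_comm (p - 1) (p ^ (a - 1))]; exact hle.trans hfield)
    (Nat.sub_pos_of_lt hp.one_lt)
  have := (Nat.pow_le_pow_iff_right hp.one_lt).1 h3
  omega

set_option maxHeartbeats 1600000 in
theorem bound {p : ℕ} [Fact p.Prime] : ∀ (a : ℕ) (G : Type u) [Group G] [Fintype G],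
    Nat.card G = p ^ a → ∀ (χ : G → ℂ), IsIrrCharacter G χ → (∀ g, χ g = χ 1 → g = 1) →
      ∀ f t : ℕ, χ 1 = (f : ℂ) → Module.finrank ℚ (fld χ) ≤ (p - 1) * p ^ t →
        (p - 1) * a ≤ (f - 1) + (p - 1) * (t + 1) * f := by
  intro a
  induction a using Nat.strong_induction_on with
  | _ a ih =>
  intro G _ _ hG χ hχ hfaith f t hf hfield
  classical
  have hp : p.Prime := Fact.out
  have hpg : IsPGroup p G := IsPGroup.of_card hG
  haveI : Group.IsNilpotent G := hpg.isNilpotent
  by_cases hf1 : f = 1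
  · subst hf1
    have := linear_case hp hG (IsIrrCharacter.isCharacter hχ) (by simpa using hf) hfaith hfield
    simp only [Nat.sub_self, zero_add, mul_one]
    exact Nat.mul_le_mul_left _ this
  -- a maximal subgroup from which the character is induced
  obtain ⟨H, lam, hind⟩ := exists_monomial_of_nilpotent (Nat.card G) G rfl χ hχ
  have hHidx : (H.index : ℂ) = (f : ℂ) := by
    rw [← hf, hind, indFun_one_apply]; simp
  have hHtop : H ≠ ⊤ := fun h => hf1 (by
    rw [h, Subgroup.index_top] at hHidx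
    exact_mod_cast hHidx.symm)
  obtain ⟨M, hM, hHM⟩ := (eq_top_or_exists_le_coatom H).resolve_left hHtop
  haveI : M.Normal := Subgroup.NormalizerCondition.normal_of_coatom M
    Group.normalizerCondition_of_isNilpotent hM
  have hMidx : M.index = p := by
    obtain ⟨k, hk⟩ := hpg.index M
    have hk0 : k ≠ 0 := fun h => hM.1 (Subgroup.index_eq_one.1 (by rw [hk, h, pow_zero]))
    obtain ⟨j, hjcard⟩ := (hpg.to_subgroup M).exists_card_eq
    have hja : j + k = a := by
      have := M.card_mul_index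
      rw [hjcard, hk, hG, ← pow_add] at this
      exact Nat.pow_right_injective hp.two_le this
    obtain ⟨K, hK, hMK⟩ := Sylow.exists_subgroup_card_pow_succ (G := G) (p := p) (n := j)
      (by rw [hG]; exact pow_dvd_pow p (by omega)) hjcard
    have hKtop : K = ⊤ := hM.2 K (lt_of_le_of_ne hMK fun h => by
      rw [← h, hjcard] at hK
      exact absurd (Nat.pow_right_injective hp.two_le hK) (by omega))
    rw [hKtop, Subgroup.card_top, hG] at hK
    have := Nat.pow_right_injective hp.two_le hK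
    rw [hk, show k = 1 by omega, pow_one]
  haveI : Fintype M := Fintype.ofFinite M
  have hvan : ∀ g : G, g ∉ M → χ g = 0 := by
    intro g hg
    rw [hind, indFun_apply, Finset.sum_eq_zero, mul_zero]
    intro x _
    refine extendByZero_not_mem _ _ fun hx => hg ?_
    have := (inferInstance : M.Normal).conj_mem _ (hHM hx) x
    simpa [mul_assoc] using this
  have hχc := IsIrrCharacter.isCharacter hχ
  have hMnorm : classInner (fun m : M => χ m) (fun m : M => χ m) = (p : ℂ) := by
    have h := classInner_self_irr hχ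
    simp only [classInner] at h ⊢
    rw [← Finset.sum_subset (Finset.subset_univ (Finset.univ.filter fun k => k ∈ M))
      (fun k _ hk => by
        rw [hvan k (fun h' => hk (Finset.mem_filter.mpr ⟨Finset.mem_univ _, h'⟩)), zero_mul]),
      Finset.sum_subtype (p := fun k => k ∈ M) _ (by simp),
      inv_mul_eq_iff_eq_mul₀ (Nat.cast_ne_zero.mpr Nat.card_pos.ne'), mul_one,
      ← M.card_mul_index, Nat.cast_mul, hMidx] at h
    rw [h, inv_mul_cancel_left₀ (Nat.cast_ne_zero.mpr Nat.card_pos.ne')]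
  obtain ⟨θ, hθ⟩ := exists_restrict_constituent hχ M
  obtain ⟨e, he⟩ := IsCharacter.exists_classInner_nat (IsCharacter.restrict hχc M) (irr_isCharacter θ)
  have hcl := clifford M hχ θ.2 hθ
  rw [he] at hcl
  have hirr : ∀ φ ∈ conjOrbit M (θ : M → ℂ), IsIrrCharacter M φ := fun φ hφ => by
    obtain ⟨g, rfl⟩ := (mem_conjOrbit M).mp hφ
    exact isIrrCharacter_conjChar M θ.2 g
  have hcount : e ^ 2 * (conjOrbit M (θ : M → ℂ)).card = p := by
    rw [hcl, classInner_smul_left, classInner_smul_right, classInner_sum_left,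
      Finset.sum_congr rfl fun ψ hψ => by
        rw [classInner_sum_right, Finset.sum_congr rfl fun ψ' hψ' =>
          classInner_irr (hirr ψ hψ) (hirr ψ' hψ'), Finset.sum_ite_eq, if_pos hψ],
      Finset.sum_const, nsmul_eq_mul, mul_one, map_natCast] at hMnorm
    rw [sq, mul_assoc]
    exact_mod_cast hMnorm
  obtain ⟨he1, hcard⟩ : e = 1 ∧ (conjOrbit M (θ : M → ℂ)).card = p := by
    rcases hp.eq_one_or_self_of_dvd e ⟨e * (conjOrbit M (θ : M → ℂ)).card, by
      rw [← mul_assoc, ← sq, hcount]⟩ with h | h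
    · rw [h, one_pow, one_mul] at hcount
      exact ⟨h, hcount⟩
    · exfalso
      rw [h] at hcount
      rcases Nat.eq_zero_or_pos (conjOrbit M (θ : M → ℂ)).card with h0 | h0
      · rw [h0, mul_zero] at hcount
        exact hp.ne_zero hcount.symm
      · have := (Nat.le_mul_of_pos_right (p ^ 2) h0).trans_eq hcount
        nlinarith [hp.two_le]
  subst he1
  have hsum : ∀ m : M, χ (m : G) = ∑ φ ∈ conjOrbit M (θ : M → ℂ), φ m := by
    intro m
    rw [show χ (m : G) = _ from congrFun hcl m]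
    simp
  set d := charDegree (θ : M → ℂ) with hd
  have hfd : f = p * d := by
    have h := hsum 1
    rw [Finset.sum_congr rfl (g := fun _ => (d : ℂ)) fun φ hφ => by
      obtain ⟨g, rfl⟩ := (mem_conjOrbit M).mp hφ
      rw [show conjChar M g (θ : M → ℂ) 1 = (θ : M → ℂ) 1 from
        congrArg (θ : M → ℂ) (Subtype.ext (by simp)), irr_one_eq_charDegree],
      Finset.sum_const, hcard, OneMemClass.coe_one, hf, nsmul_eq_mul, ← Nat.cast_mul,
      Nat.cast_inj] at h
    exact h
  have hdpos : 0 < d := charDegree_pos θ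
  -- the kernel
  obtain ⟨K, hKn, hKmem, -⟩ := IsCharacter.exists_kernel (irr_isCharacter θ)
  haveI := hKn
  have hfaithM : ∀ m : M, (∀ φ ∈ conjOrbit M (θ : M → ℂ), φ m = φ 1) → m = 1 := by
    intro m hm
    refine Subtype.ext (hfaith _ ?_)
    rw [← show ((1 : M) : G) = 1 from OneMemClass.coe_one _, hsum, hsum]
    exact Finset.sum_congr rfl hm
  obtain ⟨b, hb⟩ := ((hpg.to_subgroup M).to_quotient K).exists_card_eq
  obtain ⟨θ', -, hθ', hirr'⟩ := IsCharacter.deflate (irr_isCharacter θ) K fun x hx => (hKmem x).1 hx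
  haveI : Fintype (M ⧸ K) := Fintype.ofFinite _
  have hrange : Set.range θ' = Set.range (θ : M → ℂ) := by
    ext z
    constructor
    · rintro ⟨x, rfl⟩
      obtain ⟨m, rfl⟩ := QuotientGroup.mk_surjective x
      exact ⟨m, (hθ' m).symm⟩
    · rintro ⟨m, rfl⟩
      exact ⟨m, hθ' m⟩
  have hfaith' : ∀ x : M ⧸ K, θ' x = θ' 1 → x = 1 := by
    intro x hx
    obtain ⟨m, rfl⟩ := QuotientGroup.mk_surjective x
    rw [hθ', ← QuotientGroup.mk_one, hθ'] at hx
    exact (QuotientGroup.eq_one_iff _).2 ((hKmem m).2 hx)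
  have hMcard : Nat.card M * p = p ^ a := by
    have := M.card_mul_index
    rwa [hMidx, hG] at this
  have hba : b < a := by
    have h1 : Nat.card (M ⧸ K) ≤ Nat.card M :=
      Nat.card_le_card_of_surjective _ (QuotientGroup.mk'_surjective K)
    rw [hb] at h1
    refine (Nat.pow_lt_pow_iff_right hp.one_lt).1 ?_
    calc p ^ b ≤ Nat.card M := h1
      _ < Nat.card M * p := (lt_mul_iff_one_lt_right Nat.card_pos).2 hp.one_lt
      _ = _ := hMcard
  have hIH : ∀ t' : ℕ, Module.finrank ℚ (fld (θ : M → ℂ)) ≤ (p - 1) * p ^ t' →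
      (p - 1) * b ≤ (d - 1) + (p - 1) * (t' + 1) * d := by
    intro t' ht'
    refine ih b hba (M ⧸ K) hb θ' (hirr' θ.2) hfaith' d t' ?_ ?_
    · rw [← QuotientGroup.mk_one, hθ', irr_one_eq_charDegree]
    · rwa [fld, hrange]
  -- the fields
  have hle : fld χ ≤ fld (θ : M → ℂ) := by
    rw [IntermediateField.adjoin_le_iff]
    rintro _ ⟨g, rfl⟩
    by_cases hg : g ∈ M
    · rw [show χ g = ∑ φ ∈ conjOrbit M (θ : M → ℂ), φ ⟨g, hg⟩ from hsum ⟨g, hg⟩]
      refine sum_mem fun φ hφ => ?_
      obtain ⟨x, rfl⟩ := (mem_conjOrbit M).mp hφ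
      exact IntermediateField.subset_adjoin ℚ _ ⟨_, rfl⟩
    · rw [hvan g hg]
      exact zero_mem _
  haveI := fld_finite hχc
  haveI := fld_finite (irr_isCharacter θ)
  set E := IntermediateField.extendScalars hle
  haveI : FiniteDimensional (fld χ) E := by
    haveI : FiniteDimensional ℚ E := ‹FiniteDimensional ℚ (fld (θ : M → ℂ))›
    exact Module.Finite.of_restrictScalars_finite ℚ _ _
  have htower : Module.finrank ℚ (fld χ) * Module.finrank (fld χ) E =
      Module.finrank ℚ (fld (θ : M → ℂ)) := by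
    rw [← IntermediateField.relfinrank_eq_finrank_of_le hle,
      IntermediateField.finrank_bot_mul_relfinrank hle]
  have halg : fld (θ : M → ℂ) ≤ algebraicClosure ℚ ℂ := by
    rw [IntermediateField.adjoin_le_iff]
    rintro _ ⟨m, rfl⟩
    exact mem_algebraicClosure_iff.2 (char_integral (irr_isCharacter θ) m).tower_top.isAlgebraic
  let val : (E →ₐ[fld χ] ℂ) → (M → ℂ) := fun σ m =>
    σ ⟨(θ : M → ℂ) m, IntermediateField.subset_adjoin ℚ _ ⟨m, rfl⟩⟩
  have hval : ∀ σ : E →ₐ[fld χ] ℂ, val σ ∈ conjOrbit M (θ : M → ℂ) := by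
    intro σ
    obtain ⟨τ, hτ⟩ := exists_aut (fld (θ : M → ℂ)) halg
      ((σ.restrictScalars ℚ) : fld (θ : M → ℂ) →ₐ[ℚ] ℂ)
    have h1 : (fun m : M => τ ((θ : M → ℂ) m)) = val σ := funext fun m =>
      hτ ⟨(θ : M → ℂ) m, IntermediateField.subset_adjoin ℚ _ ⟨m, rfl⟩⟩
    rw [← h1]
    have hτirr : IsIrrCharacter M (fun m : M => τ ((θ : M → ℂ) m)) :=
      CharGalois.IsIrrCharacter.twist θ.2 τ
    refine restrict_constituent_conj M hχ θ.2 hτirr hθ ?_
    intro h0
    -- the automorphism fixes the restriction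
    have hfix : ∀ m : M, τ (χ (m : G)) = χ (m : G) := by
      intro m
      have hm : χ (m : G) ∈ fld χ := IntermediateField.subset_adjoin ℚ _ ⟨_, rfl⟩
      have h2 := hτ ⟨χ (m : G), hle hm⟩
      rw [h2]
      exact σ.commutes ⟨χ (m : G), hm⟩
    obtain ⟨k, hk⟩ := IsCharacter.exists_classInner_nat (IsCharacter.restrict hχc M)
      (IsIrrCharacter.isCharacter hτirr)
    refine hθ ?_
    obtain ⟨s, hs⟩ := IsCharacter.exists_decomp (IsCharacter.restrict hχc M)
    -- apply the automorphism to the inner product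
    have hinv : ∀ m : M, conj (τ ((θ : M → ℂ) m)) = τ (conj ((θ : M → ℂ) m)) := by
      intro m
      rw [← IsCharacter.inv (IsIrrCharacter.isCharacter hτirr) m,
        ← IsCharacter.inv (irr_isCharacter θ) m]
    have h3 : τ (classInner (fun h : M => χ h) (θ : M → ℂ)) =
        classInner (fun h : M => χ h) (fun m : M => τ ((θ : M → ℂ) m)) := by
      simp only [classInner, map_mul, map_sum, map_inv₀, map_natCast, hfix, hinv]
    rw [h0, ← map_zero τ] at h3
    exact τ.injective h3
  have hvalinj : Function.Injective val := by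
    intro σ₁ σ₂ h12
    refine AlgHom.ext fun y => ?_
    exact RingHom.congr_fun (ext_adjoin (S := Set.range (θ : M → ℂ))
      (σ₁ : E →+* ℂ) (σ₂ : E →+* ℂ) fun x hx => by
        obtain ⟨m, rfl⟩ := hx
        exact congrFun h12 m) y
  have hdeg : Fintype.card (E →ₐ[fld χ] ℂ) = Module.finrank (fld χ) E := AlgHom.card _ _ _
  have hdle : Module.finrank (fld χ) E ≤ p := by
    rw [← hdeg, ← hcard, ← Fintype.card_coe]
    exact Fintype.card_le_of_injective (fun σ => ⟨val σ, hval σ⟩)
      fun σ₁ σ₂ h => hvalinj (congrArg Subtype.val h)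
  obtain ⟨q, hq⟩ : ∃ q, p = q + 1 := ⟨p - 1, by have := hp.one_lt; omega⟩
  rcases Nat.lt_or_ge (Module.finrank (fld χ) E) 2 with hsmall | hbig
  · -- the same field
    have ht : Module.finrank ℚ (fld (θ : M → ℂ)) ≤ (p - 1) * p ^ t := by
      rw [← htower]
      calc Module.finrank ℚ (fld χ) * Module.finrank (fld χ) E
          ≤ Module.finrank ℚ (fld χ) * 1 := Nat.mul_le_mul_left _ (by omega)
        _ ≤ _ := by rw [mul_one]; exact hfield
    have hIH' := hIH t ht
    have hexists : ∀ φ : conjOrbit M (θ : M → ℂ), ∃ g : G, (φ : M → ℂ) = conjChar M g θ :=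
      fun φ => (mem_conjOrbit M).mp φ.2
    choose g hg using hexists
    have hinf : (⨅ φ : conjOrbit M (θ : M → ℂ), K.comap (Cfsg.Agent.Char.conjHom M (g φ))) = ⊥ := by
      rw [Subgroup.eq_bot_iff_forall]
      intro m hm
      refine hfaithM m fun φ hφ => ?_
      rw [show φ = conjChar M (g ⟨φ, hφ⟩) θ from hg ⟨φ, hφ⟩]
      show (θ : M → ℂ) (Cfsg.Agent.Char.conjHom M (g ⟨φ, hφ⟩) m) =
        (θ : M → ℂ) (Cfsg.Agent.Char.conjHom M (g ⟨φ, hφ⟩) 1)
      rw [map_one]
      exact (hKmem _).1 ((Subgroup.mem_iInf.1 hm) ⟨φ, hφ⟩)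
    have hle2 := Subgroup.index_iInf_le
      (fun φ : conjOrbit M (θ : M → ℂ) => K.comap (Cfsg.Agent.Char.conjHom M (g φ)))
    rw [hinf, Subgroup.index_bot, Finset.prod_congr rfl (g := fun _ => p ^ b) fun φ _ => by
      rw [Subgroup.index_comap_of_surjective _ (Cfsg.Agent.Char.conjHom_surjective M _),
        Subgroup.index_eq_card, hb], Finset.prod_const, Finset.card_univ, Fintype.card_coe, hcard,
      ← pow_mul] at hle2
    have hap : a ≤ b * p + 1 := by
      refine (Nat.pow_le_pow_iff_right hp.one_lt).1 ?_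
      rw [← hMcard, pow_succ]
      exact Nat.mul_le_mul_right _ hle2
    obtain ⟨d', rfl⟩ : ∃ d', f = p * (d' + 1) := ⟨d - 1, by rw [hfd]; congr 1; omega⟩
    have hdd : d = d' + 1 := (Nat.eq_of_mul_eq_mul_left hp.pos hfd).symm
    rw [hdd, Nat.add_sub_cancel] at hIH'
    rw [hq, Nat.add_sub_cancel] at hIH' ⊢
    rw [hq] at hap
    rw [show (q + 1) * (d' + 1) - 1 = (q + 1) * d' + q by
      rw [mul_add, mul_one]; omega]
    nlinarith [Nat.mul_le_mul_left q hap, Nat.mul_le_mul_left (q + 1) hIH']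
  · -- a larger field: the kernel is trivial
    obtain ⟨σ, hσ⟩ : ∃ σ : E →ₐ[fld χ] ℂ, val σ ≠ θ := by
      by_contra hcon
      push Not at hcon
      rw [← hdeg] at hbig
      obtain ⟨σ₁, σ₂, hne⟩ := Fintype.exists_pair_of_one_lt_card (α := E →ₐ[fld χ] ℂ) (by omega)
      exact hne (hvalinj ((hcon σ₁).trans (hcon σ₂).symm))
    obtain ⟨x, hx⟩ := (mem_conjOrbit M).mp (hval σ)
    have hxM : x ∉ M := fun h => hσ (by
      rw [hx, conjChar_of_mem M (IsCharacter.isClassFunction (irr_isCharacter θ)) h])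
    have hxK : ∀ m : M, m ∈ K ↔ Cfsg.Agent.Char.conjHom M x m ∈ K := by
      intro m
      rw [hKmem, hKmem]
      have h1 : (θ : M → ℂ) (Cfsg.Agent.Char.conjHom M x m) = val σ m := (congrFun hx m).symm
      have h2 : (θ : M → ℂ) 1 = val σ 1 := by
        rw [congrFun hx 1]
        exact (congrArg (θ : M → ℂ) (map_one (Cfsg.Agent.Char.conjHom M x))).symm
      constructor
      · intro h
        rw [h1, h2]
        exact congrArg σ (Subtype.ext h)
      · intro h
        rw [h1, h2] at h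
        exact congrArg Subtype.val (RingHom.injective (σ : E →+* ℂ) h)
    have hKbot : K = ⊥ := by
      have hnorm : (K.map M.subtype).Normal := by
        rw [← Subgroup.normalizer_eq_top_iff]
        have hMle : M ≤ Subgroup.normalizer ((K.map M.subtype : Subgroup G) : Set G) := by
          intro m hm
          rw [Subgroup.mem_normalizer_iff]
          intro y
          constructor
          · rintro ⟨k, hk, rfl⟩
            exact ⟨_, hKn.conj_mem k hk ⟨m, hm⟩, rfl⟩
          · rintro ⟨k, hk, hky⟩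
            refine ⟨_, hKn.conj_mem k hk ⟨m, hm⟩⁻¹, ?_⟩
            have hky' : (k : G) = m * y * m⁻¹ := hky
            show m⁻¹ * (k : G) * m⁻¹⁻¹ = y
            rw [hky']; group
        refine hM.2 _ (lt_of_le_of_ne hMle fun h => hxM (h ▸ ?_))
        rw [Subgroup.mem_normalizer_iff]
        intro y
        constructor
        · rintro ⟨k, hk, rfl⟩
          exact ⟨_, (hxK k).1 hk, rfl⟩
        · rintro ⟨k, hk, hky⟩
          have hky' : (k : G) = x * y * x⁻¹ := hky
          have hyM : y ∈ M := by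
            have := (inferInstance : M.Normal).conj_mem _ k.2 x⁻¹
            rw [hky'] at this
            simpa [mul_assoc] using this
          refine ⟨⟨y, hyM⟩, (hxK _).2 ?_, rfl⟩
          rwa [show Cfsg.Agent.Char.conjHom M x ⟨y, hyM⟩ = k from Subtype.ext hky'.symm]
      rw [Subgroup.eq_bot_iff_forall]
      intro m hm
      refine hfaithM m fun φ hφ => ?_
      obtain ⟨y, rfl⟩ := (mem_conjOrbit M).mp hφ
      show (θ : M → ℂ) (Cfsg.Agent.Char.conjHom M y m) = (θ : M → ℂ) (Cfsg.Agent.Char.conjHom M y 1)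
      rw [map_one]
      obtain ⟨k, hk, hky⟩ := hnorm.conj_mem (m : G) ⟨m, hm, rfl⟩ y
      rw [show Cfsg.Agent.Char.conjHom M y m = k from Subtype.ext hky.symm]
      exact (hKmem k).1 hk
    have hab : a = b + 1 := by
      have h1 : Nat.card M = p ^ b := by
        rw [← hb, ← Subgroup.index_eq_card, hKbot, Subgroup.index_bot]
      rw [h1, ← pow_succ] at hMcard
      exact (Nat.pow_right_injective hp.two_le hMcard).symm
    have ht : Module.finrank ℚ (fld (θ : M → ℂ)) ≤ (p - 1) * p ^ (t + 1) := by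
      rw [← htower, pow_succ, ← mul_assoc]
      exact Nat.mul_le_mul hfield hdle
    have hIH' := hIH (t + 1) ht
    obtain ⟨d', rfl⟩ : ∃ d', f = p * (d' + 1) := ⟨d - 1, by rw [hfd]; congr 1; omega⟩
    have hdd : d = d' + 1 := (Nat.eq_of_mul_eq_mul_left hp.pos hfd).symm
    rw [hdd, Nat.add_sub_cancel] at hIH'
    have hq0 : 0 < q := by have := hp.one_lt; omega
    rw [hq, Nat.add_sub_cancel] at hIH' ⊢
    rw [hab, show (q + 1) * (d' + 1) - 1 = (q + 1) * d' + q by rw [mul_add, mul_one]; omega]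
    nlinarith [Nat.zero_le (q * q * t * (d' + 1)), Nat.mul_le_mul hq0 hq0,
      Nat.zero_le (q * d'), Nat.zero_le (q * q * d'), Nat.zero_le (q * t * d')]

end Cfsg.Agent.PGroupField
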