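/-
The p-length is at most one exactly when the principal block restricts irreducibly to the
normalizer of a Sylow p-subgroup.
-/
import Cfsg.Agent.Lib.Blocks.KernelBlock
import Cfsg.Agent.Lib.Blocks.SecondMain
import Cfsg.Agent.Lib.Char.Integral
import Cfsg.Agent.Lib.Solvable.PSeries

set_option linter.unusedSectionVars false
set_option linter.style.haveILetI false

namespace Cfsg.Agent.PLengthRestrict

open Cfsg Cfsg.Agent.Blocks Cfsg.Agent.Char Cfsg.Agent.CharX Cfsg.Agent.PSeries
open scoped ComplexConjugate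

universe u

variable {G : Type u} [Group G] [Fintype G] {p : ℕ} [Fact p.Prime] {M : Ideal AlgInt} [M.IsPrime]

theorem norm_irr_le (χ : IrrCharacter G) (g : G) :
    ‖(χ : G → ℂ) g‖ ≤ (charDegree (χ : G → ℂ) : ℝ) := by
  obtain ⟨n, ρ, h⟩ := irr_isCharacter χ
  have h1 : (charDegree (χ : G → ℂ) : ℂ) = (n : ℂ) := by
    rw [← irr_one_eq_charDegree, ← h, Representation.char_one, Module.finrank_fin_fun]
  rw [Nat.cast_inj.1 h1, ← h]
  simpa using norm_char_le ρ g

/-- If the principal block restricts irreducibly to the normalizer of a Sylow subgroup, the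
group has p-length at most one. -/
theorem pLengthLE_of_restrict (hM : IsPModular p M) (P : Sylow p G)
    (h : ∀ χ ∈ principalBlock M G,
      IsIrrCharacter ↥(Subgroup.normalizer ((P : Subgroup G) : Set G))
        (fun n : ↥(Subgroup.normalizer ((P : Subgroup G) : Set G)) => (χ : G → ℂ) n)) :
    PLengthLE p 1 G := by
  classical
  have hp : p.Prime := Fact.out
  set B := principalBlock M G with hBdef
  have hB : IsPBlock M B := isPBlock_principalBlock M G
  set N := Subgroup.normalizer ((P : Subgroup G) : Set G) with hNdef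
  have hPN : (P : Subgroup G) ≤ N := Subgroup.le_normalizer
  choose K hKn hK hKmul using fun χ : IrrCharacter G => IsCharacter.exists_kernel (irr_isCharacter χ)
  haveI : ∀ χ, (K χ).Normal := hKn
  haveI hPnorm : ((P : Subgroup G).subgroupOf N).Normal := Subgroup.normal_in_normalizer
  haveI : Fintype N := Fintype.ofFinite _
  haveI : Fintype ((P : Subgroup G).subgroupOf N) := Fintype.ofFinite _
  haveI : Fintype (P : Subgroup G) := Fintype.ofFinite _
  have hsum : ∀ χ ∈ B, ¬ (P : Subgroup G) ≤ K χ →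
      ∑ u : (P : Subgroup G), (χ : G → ℂ) u = 0 := by
    intro χ hχ hne
    obtain ⟨u, hu, hu'⟩ := SetLike.not_le_iff_exists.1 hne
    have h0 := sum_coset_eq_zero (h χ hχ) ((P : Subgroup G).subgroupOf N)
      ⟨⟨u, hPN hu⟩, hu, fun e => hu' ((hK χ u).2 e)⟩ 1
    simp only [one_mul] at h0
    rw [← h0]
    exact (Fintype.sum_equiv (Subgroup.subgroupOfEquivOfLe hPN).toEquiv
      (fun n => (χ : G → ℂ) ((n : N) : G)) (fun u : (P : Subgroup G) => (χ : G → ℂ) u)
      fun n => rfl).symm
  set L := Subgroup.normalClosure ((P : Subgroup G) : Set G) with hL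
  set S := Finset.univ.filter (fun χ : IrrCharacter G => χ ∈ B ∧ (P : Subgroup G) ≤ K χ) with hS
  -- the pairing of a regular element with the identity
  have hkey : ∀ y : G, ¬ p ∣ orderOf y → blockPair B y 1 = (Nat.card (P : Subgroup G) : ℂ) *
      ∑ χ ∈ S, (χ : G → ℂ) y * (charDegree (χ : G → ℂ) : ℂ) := by
    intro y hy
    have h1 : ∑ u : (P : Subgroup G), blockPair B y (u : G) = blockPair B y 1 := by
      rw [Finset.sum_eq_single (1 : (P : Subgroup G)) (fun u _ hu => ?_)
        fun h => absurd (Finset.mem_univ _) h]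
      · rfl
      · refine blockPair_regular_singular hM hB hy ?_
        obtain ⟨k, hk⟩ := IsPGroup.iff_orderOf.1 P.isPGroup' u
        rw [Subgroup.orderOf_coe, hk]
        refine dvd_pow_self p fun e => hu (orderOf_eq_one_iff.1 ?_)
        rw [hk, e, pow_zero]
    rw [← h1]
    unfold blockPair
    rw [Finset.sum_comm, Finset.mul_sum,
      ← Finset.sum_subset (s₁ := S) (fun χ hχ => Finset.mem_filter.2
        ⟨Finset.mem_univ _, (Finset.mem_filter.1 hχ).2.1⟩)
      fun χ hχ hχS => by
        rw [← Finset.mul_sum, ← map_sum, hsum χ (Finset.mem_filter.1 hχ).2 fun h =>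
          hχS (Finset.mem_filter.2 ⟨Finset.mem_univ _, (Finset.mem_filter.1 hχ).2, h⟩), map_zero,
          mul_zero]]
    refine Finset.sum_congr rfl fun χ hχ => ?_
    rw [Finset.sum_congr rfl fun u _ => by rw [(hK χ u).1 ((Finset.mem_filter.1 hχ).2.2 u.2)],
      Finset.sum_const, Finset.card_univ, ← Nat.card_eq_fintype_card, nsmul_eq_mul,
      irr_one_eq_charDegree, map_natCast]
  have hreg : ∀ y ∈ L, ¬ p ∣ orderOf y → ∀ χ ∈ B, y ∈ K χ := by
    intro y hyL hy χ hχ
    have hone : ¬ p ∣ orderOf (1 : G) := by simp [hp.ne_one]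
    have heq : blockPair B y 1 = blockPair B 1 1 := by
      rw [hkey y hy, hkey 1 hone]
      refine congrArg _ (Finset.sum_congr rfl fun φ hφ => ?_)
      rw [(hK φ y).1 (Subgroup.normalClosure_le_normal (Finset.mem_filter.1 hφ).2.2 hyL)]
    have hre := congrArg Complex.re heq
    unfold blockPair at hre
    simp only [irr_one_eq_charDegree, map_natCast, Complex.re_sum, Complex.mul_re,
      Complex.natCast_re, Complex.natCast_im, mul_zero, sub_zero] at hre
    have hle : ∀ φ ∈ Finset.univ.filter (· ∈ B),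
        ((φ : G → ℂ) y).re * (charDegree (φ : G → ℂ) : ℝ) ≤
          (charDegree (φ : G → ℂ) : ℝ) * (charDegree (φ : G → ℂ) : ℝ) := fun φ _ =>
      mul_le_mul_of_nonneg_right ((Complex.re_le_norm _).trans (norm_irr_le φ y))
        (Nat.cast_nonneg _)
    have h2 := (Finset.sum_eq_sum_iff_of_le hle).1 hre χ
      (Finset.mem_filter.2 ⟨Finset.mem_univ _, hχ⟩)
    have h3 := mul_right_cancel₀ (Nat.cast_ne_zero.2 (charDegree_pos χ).ne') h2
    refine (hK χ y).2 ?_
    rw [irr_one_eq_charDegree]
    refine Complex.ext (by rw [h3, Complex.natCast_re]) ?_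
    rw [Complex.natCast_im]
    have h4 := norm_irr_le χ y
    rw [← h3] at h4
    have h5 : ((χ : G → ℂ) y).re = ‖(χ : G → ℂ) y‖ := le_antisymm (Complex.re_le_norm _) h4
    have h6 : ‖(χ : G → ℂ) y‖ ^ 2 = ((χ : G → ℂ) y).re * ((χ : G → ℂ) y).re +
        ((χ : G → ℂ) y).im * ((χ : G → ℂ) y).im := by
      rw [← Complex.normSq_eq_norm_sq, Complex.normSq_apply]
    rw [← h5] at h6
    exact mul_self_eq_zero.1 (by nlinarith)
  set O := pPrimeCore p G with hO
  haveI hOn : O.Normal := FittingCores.pPrimeCore_normal (G := G) p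
  have hKO : (⨅ χ ∈ B, K χ) ≤ O := by
    refine FittingCores.le_pPrimeCore
      (Subgroup.normal_iInf_normal fun χ => Subgroup.normal_iInf_normal fun _ => hKn χ)
      ((hp.coprime_iff_not_dvd.2 fun hd => ?_).symm)
    obtain ⟨x, hx⟩ := exists_prime_orderOf_dvd_card' p hd
    have h1 := blockPair_regular_singular hM hB (u := (1 : G)) (w := (x : G))
      (by simp [hp.ne_one]) (by rw [Subgroup.orderOf_coe, hx])
    unfold blockPair at h1
    rw [Finset.sum_congr rfl fun χ hχ => by
      rw [(hK χ (x : G)).1 ((Subgroup.mem_iInf.1 ((Subgroup.mem_iInf.1 x.2) χ))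
        (Finset.mem_filter.1 hχ).2), irr_one_eq_charDegree, map_natCast, ← Nat.cast_mul]] at h1
    rw [← Nat.cast_sum, Nat.cast_eq_zero, Finset.sum_eq_zero_iff] at h1
    have h2 := h1 (principal G)
      (Finset.mem_filter.2 ⟨Finset.mem_univ _, principal_mem_principalBlock⟩)
    exact (Nat.mul_pos (charDegree_pos _) (charDegree_pos _)).ne' h2
  haveI : L.Normal := Subgroup.normalClosure_normal
  have hLp : IsPGroup p (L.map (QuotientGroup.mk' O)) := by
    rintro ⟨_, l, hl, rfl⟩
    refine ⟨(orderOf l).factorization p, Subtype.ext ?_⟩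
    show (QuotientGroup.mk' O l) ^ _ = 1
    rw [← map_pow, QuotientGroup.mk'_apply, QuotientGroup.eq_one_iff]
    refine hKO ?_
    simp only [Subgroup.mem_iInf]
    intro χ hχ
    refine hreg _ (pow_mem hl _) ?_ χ hχ
    rw [orderOf_pow_of_dvd (pow_ne_zero _ hp.ne_zero) (Nat.ordProj_dvd _ _)]
    exact Nat.not_dvd_ordCompl hp (orderOf_pos l).ne'
  have hU2 : L ⊔ O ≤ U p G 2 := by
    haveI : (L ⊔ O).Normal := Subgroup.sup_normal L O
    refine le_succ_odd (n := 1) (by decide) ?_
    rw [← card_map_mk', show (L ⊔ O).map (QuotientGroup.mk' (U p G 1)) =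
      L.map (QuotientGroup.mk' (U p G 1)) by
        rw [Subgroup.map_sup, sup_eq_left,
          (Subgroup.map_eq_bot_iff _).2 (by rw [QuotientGroup.ker_mk', U_one])]
        exact bot_le, card_map_mk', U_one, ← card_map_mk']
    exact hLp.exists_card_eq
  rw [pLengthLE_iff]
  refine top_le_iff.1 (le_succ_even (n := 2) (by decide) ?_)
  rw [Subgroup.relIndex_top_right]
  refine Nat.Coprime.coprime_dvd_left (Subgroup.index_dvd_of_le ?_)
    (hp.coprime_iff_not_dvd.2 P.not_dvd_index).symm
  exact le_trans (le_trans Subgroup.subset_normalClosure le_sup_left) hU2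

/-- With p-length at most one the principal block restricts irreducibly to the normalizer. -/
theorem restrict_of_pLengthLE (hM : IsPModular p M) (P : Sylow p G) (h : PLengthLE p 1 G)
    {χ : IrrCharacter G} (hχ : χ ∈ principalBlock M G) :
    IsIrrCharacter ↥(Subgroup.normalizer ((P : Subgroup G) : Set G))
      (fun n : ↥(Subgroup.normalizer ((P : Subgroup G) : Set G)) => (χ : G → ℂ) n) := by
  classical
  have hp : p.Prime := Fact.out
  rw [pLengthLE_iff] at h
  have hcop : (U p G 2).index.Coprime p := by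
    have h1 := relIndex_succ_even (p := p) (G := G) (n := 2) (by decide)
    rwa [show U p G (2 + 1) = ⊤ from h, Subgroup.relIndex_top_right] at h1
  have hPU : (P : Subgroup G) ≤ U p G 2 := by
    intro u hu
    obtain ⟨k, hk⟩ := P.isPGroup' ⟨u, hu⟩
    have hk' : u ^ p ^ k = 1 := congrArg Subtype.val hk
    refine (QuotientGroup.eq_one_iff u).1 (orderOf_eq_one_iff.1 ?_)
    refine Nat.eq_one_of_dvd_coprimes (hcop.pow_right k) (orderOf_dvd_natCard _) ?_
    exact orderOf_dvd_of_pow_eq_one (by rw [← QuotientGroup.mk_pow, hk', QuotientGroup.mk_one])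
  set O := pPrimeCore p G with hO
  haveI hOn : O.Normal := FittingCores.pPrimeCore_normal (G := G) p
  haveI : Fintype (G ⧸ O) := Fintype.ofFinite _
  set f := QuotientGroup.mk' O with hf
  have hfs : Function.Surjective f := QuotientGroup.mk'_surjective _
  have hU1 : U p G 1 = O := U_one
  obtain ⟨m, hm⟩ := relIndex_succ_odd (p := p) (G := G) (n := 1) (by decide)
  have himg : (U p G 2).map f = (P : Subgroup G).map f := by
    refine le_antisymm ?_ (Subgroup.map_mono hPU)
    have h1 : IsPGroup p ((U p G 2).map f) :=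
      IsPGroup.of_card (n := m) (by rw [hf, card_map_mk', ← hU1]; exact hm)
    exact ((P.mapSurjective hfs : Sylow p (G ⧸ O)).is_maximal' h1 (Subgroup.map_mono hPU)).le
  set N := Subgroup.normalizer ((P : Subgroup G) : Set G) with hN
  have hU2N : U p G 2 ≤ N ⊔ O := by
    intro u hu
    obtain ⟨v, hv, hvu⟩ : f u ∈ (P : Subgroup G).map f := himg ▸ Subgroup.mem_map_of_mem f hu
    have ho : v⁻¹ * u ∈ O := QuotientGroup.eq.1 hvu
    rw [show u = v * (v⁻¹ * u) by group]
    exact mul_mem (Subgroup.mem_sup_left (Subgroup.le_normalizer hv)) (Subgroup.mem_sup_right ho)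
  have htop : N ⊔ O = ⊤ := top_le_iff.1 <| (Sylow.normalizer_sup_eq_top' P hPU).symm.le.trans
    (sup_le le_sup_left hU2N)
  have hO' : ¬ p ∣ Nat.card O :=
    hp.coprime_iff_not_dvd.1 (FittingCores.pPrimeCore_coprime (G := G) p).symm
  have htriv := trivialOn_of_sameBlock hM O hO' (χ := principal G) (ψ := χ) hχ fun _ _ => rfl
  obtain ⟨χ', hχ'⟩ := (quotEquiv O).surjective ⟨χ, htriv⟩
  have e : infl O χ' = χ := congrArg Subtype.val hχ'
  have hsurj : Function.Surjective (f.comp N.subtype) := by
    intro q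
    obtain ⟨g, rfl⟩ := hfs q
    obtain ⟨n, hn, o, ho, rfl⟩ :=
      Subgroup.mem_sup_of_normal_right.1 (htop.symm ▸ Subgroup.mem_top g : g ∈ N ⊔ O)
    exact ⟨⟨n, hn⟩, by simp [hf, (QuotientGroup.eq_one_iff o).2 ho]⟩
  have h2 := IsIrrCharacter.comp χ'.2 (f.comp N.subtype) hsurj
  convert h2 using 2 with n
  rw [← e, infl_apply]
  rfl

end Cfsg.Agent.PLengthRestrict
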