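/-
Schur's bound for the p-part of the order of a group with a faithful p-rational character.
-/
import Cfsg.Agent.Lib.Blocks.Congr
import Cfsg.Agent.Lib.Blocks.AlgGalois
import Cfsg.Agent.Lib.Char.GlaubermanMod
import Cfsg.Agent.Lib.Char.Galois
import Cfsg.Agent.Lib.Char.Integral
import Mathlib.Data.Nat.Choose.Factorization

set_option linter.unusedSectionVars false
set_option linter.style.haveILetI false

namespace Cfsg.Agent.Blocks.SchurBound

open Cfsg Cfsg.Agent.Char Cfsg.Agent.CharGalois Cfsg.Agent.Blocks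
open scoped ComplexConjugate

universe u

/-- Products of translates of a character average to algebraic integers. -/
theorem isIntegral_avg {P : Type u} [Group P] [Fintype P] {χ : P → ℂ} (hχ : IsCharacter P χ)
    (s : Finset ℕ) (c : ℕ → ℤ) : ∀ ψ : P → ℂ, IsCharacter P ψ →
    IsIntegral ℤ ((Nat.card P : ℂ)⁻¹ * ∑ x : P, (∏ i ∈ s, (χ x - (c i : ℂ))) * ψ x) := by
  classical
  induction s using Finset.induction with
  | empty =>
    intro ψ hψ
    obtain ⟨m, hm⟩ := IsCharacter.exists_classInner_nat hψ (isCharacter_one (G := P))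
    have : (Nat.card P : ℂ)⁻¹ * ∑ x : P, (∏ i ∈ (∅ : Finset ℕ), (χ x - (c i : ℂ))) * ψ x =
        (m : ℂ) := by
      rw [← hm, classInner]
      simp
    rw [this]
    exact isIntegral_algebraMap (x := (m : ℤ))
  | insert i s hi ih =>
    intro ψ hψ
    have e : (Nat.card P : ℂ)⁻¹ * ∑ x : P, (∏ j ∈ insert i s, (χ x - (c j : ℂ))) * ψ x =
        (Nat.card P : ℂ)⁻¹ * (∑ x : P, (∏ j ∈ s, (χ x - (c j : ℂ))) * (χ x * ψ x)) -
          (c i : ℂ) * ((Nat.card P : ℂ)⁻¹ * ∑ x : P, (∏ j ∈ s, (χ x - (c j : ℂ))) * ψ x) := by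
      simp only [Finset.mul_sum, ← Finset.sum_sub_distrib, Finset.prod_insert hi]
      exact Finset.sum_congr rfl fun x _ => by ring
    rw [e]
    exact (ih (χ * ψ) (IsCharacter.mul hχ hψ)).sub
      ((isIntegral_algebraMap (x := c i)).mul (ih ψ hψ))

/-- The values of a rational character at a nontrivial element of prime power order. -/
theorem exists_value {P : Type u} [Group P] [Fintype P] {p : ℕ} (hp : p.Prime) {χ : P → ℂ}
    (hχ : IsCharacter P χ) {n : ℕ} (hn : χ 1 = (n : ℂ)) {v : P → ℤ} (hv : ∀ x, χ x = (v x : ℂ))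
    {x : P} {k : ℕ} (hk : orderOf x = p ^ (k + 1)) (hne : χ x ≠ χ 1)
    (hpow : ∀ i : ℕ, ¬ p ∣ i → χ (x ^ i) = χ x) :
    ∃ d : ℕ, 1 ≤ d ∧ d ≤ n / (p - 1) ∧ (n : ℤ) - v x = (p * d : ℕ) := by
  classical
  haveI := Fact.mk hp
  -- values are at most the degree
  have hle : ∀ y, v y ≤ n := by
    intro y
    obtain ⟨m, ρ, rfl⟩ := hχ
    have h1 := norm_char_le ρ y
    rw [hv y] at h1
    have h2 : ρ.character 1 = (m : ℂ) := by rw [Representation.char_one]; simp
    rw [hn, Nat.cast_inj] at h2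
    simp only [Module.finrank_pi, Fintype.card_fin, ← h2, Complex.norm_intCast] at h1
    exact_mod_cast (le_abs_self _).trans h1
  -- congruence with the degree
  obtain ⟨M, hM⟩ := Cfsg.Agent.GlaubermanMod.exists_isPModular p
  haveI := IsPModular.isPrime hM
  have hc := char_congr_regular hM hχ (y := (1 : P)) (Commute.one_right x) hk
    (by simpa using hp.ne_one)
  rw [mul_one] at hc
  have hlt : v x < n := by
    refine lt_of_le_of_ne (hle x) fun h => hne ?_
    rw [hv, h, hn, Int.cast_natCast]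
  obtain ⟨e, he⟩ : ∃ e : ℕ, (n : ℤ) - v x = (e : ℤ) :=
    ⟨((n : ℤ) - v x).toNat, (Int.toNat_of_nonneg (by linarith [hle x])).symm⟩
  have hpe : p ∣ e := by
    rw [← natCast_memLocalIdeal_iff hM]
    have := MemLocalIdeal.neg hc
    rw [neg_sub, hn, hv x] at this
    rw [show ((e : ℂ)) = ((e : ℤ) : ℂ) by norm_num, ← he]
    push_cast
    exact this
  obtain ⟨d, rfl⟩ := hpe
  refine ⟨d, ?_, ?_, he⟩
  · rcases Nat.eq_zero_or_pos d with rfl | h
    · simp at he; omega
    · exact h
  -- the average over the cyclic subgroup is not negative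
  set o := p ^ (k + 1) with ho
  obtain ⟨m, hm⟩ : ∃ m : ℕ, ∑ i ∈ Finset.range o, χ (x ^ i) = (o : ℂ) * m := by
    obtain ⟨m, hm⟩ := IsCharacter.exists_classInner_nat
      (IsCharacter.restrict hχ (Subgroup.zpowers x)) (isCharacter_one (G := Subgroup.zpowers x))
    refine ⟨m, ?_⟩
    rw [← hm, classInner, Nat.card_zpowers, hk, ← mul_assoc,
      mul_inv_cancel₀ (Nat.cast_ne_zero.2 (pow_ne_zero _ hp.ne_zero)), one_mul]
    simp only [map_one, mul_one]
    rw [Finset.sum_range]
    exact Fintype.sum_equiv ((finCongr hk.symm).trans (finEquivZPowers (isOfFinOrder_of_finite x)))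
      _ _ fun i => rfl
  have hsum : (∑ i ∈ Finset.range o, v (x ^ i)) = (o : ℤ) * m := by
    have := hm
    simp only [hv] at this
    exact_mod_cast this
  set s := (Finset.range o).filter (p ∣ ·) with hs
  set t := (Finset.range o).filter (fun i => ¬ p ∣ i) with ht
  have hcard : s.card = p ^ k := by
    rw [show s = (Finset.range (p ^ k)).image (p * ·) from ?_,
      Finset.card_image_of_injective _ (mul_right_injective₀ hp.ne_zero), Finset.card_range]
    ext i
    simp only [hs, Finset.mem_filter, Finset.mem_range, Finset.mem_image, ho]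
    refine ⟨fun ⟨h1, j, hj⟩ => ⟨j, ?_, hj.symm⟩, fun ⟨j, h1, hj⟩ => ⟨?_, hj ▸ dvd_mul_right p j⟩⟩
    · rw [hj, pow_succ'] at h1
      exact Nat.lt_of_mul_lt_mul_left h1
    · rw [← hj, pow_succ']
      exact Nat.mul_lt_mul_of_pos_left h1 hp.pos
  have htot : s.card + t.card = o := by
    rw [hs, ht, Finset.card_filter_add_card_filter_not, Finset.card_range]
  have h1 : ∑ i ∈ t, v (x ^ i) = (t.card : ℤ) * v x := by
    rw [Finset.sum_congr rfl (fun i hi => ?_), Finset.sum_const, nsmul_eq_mul]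
    have := hpow i (Finset.mem_filter.1 hi).2
    rw [hv, hv] at this
    exact_mod_cast this
  have h2 : ∑ i ∈ s, v (x ^ i) ≤ (s.card : ℤ) * n := by
    rw [← nsmul_eq_mul, ← Finset.sum_const]
    exact Finset.sum_le_sum fun i _ => hle _
  have h3 := Finset.sum_filter_add_sum_filter_not (Finset.range o) (p ∣ ·) fun i => v (x ^ i)
  rw [← hs, ← ht, hsum, h1] at h3
  have htc : (t.card : ℤ) = (p ^ k : ℕ) * ((p : ℤ) - 1) := by
    have h4 : (o : ℤ) = (p ^ k : ℕ) * (p : ℤ) := by rw [ho]; push_cast; ring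
    have h5 : ((s.card : ℤ)) + t.card = o := by exact_mod_cast htot
    rw [hcard] at h5
    linarith
  rw [hcard] at h2
  rw [htc] at h3
  have hpos : (0 : ℤ) < (p ^ k : ℕ) := by exact_mod_cast pow_pos hp.pos k
  have h6 : (0 : ℤ) ≤ ((p : ℤ) - 1) * v x + n := by
    refine nonneg_of_mul_nonneg_right (a := ((p ^ k : ℕ) : ℤ)) ?_ hpos
    have : (0 : ℤ) ≤ (o : ℤ) * m := by positivity
    nlinarith
  rw [Nat.le_div_iff_mul_le (by have := hp.two_le; omega)]
  have h7 : ((p : ℤ) * d) * ((p : ℤ) - 1) ≤ (p : ℤ) * n := by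
    push_cast at he
    rw [← he]
    nlinarith
  rw [mul_assoc] at h7
  have h8 := le_of_mul_le_mul_left h7 (by exact_mod_cast hp.pos)
  have h9 : ((p - 1 : ℕ) : ℤ) = (p : ℤ) - 1 := by
    rw [Nat.cast_sub hp.one_le, Nat.cast_one]
  rw [← h9] at h8
  exact_mod_cast h8

variable {G : Type u} [Group G] [Finite G]

theorem schur_bound (p : ℕ) (hp : p.Prime) {χ : G → ℂ} (hχ : IsCharacter G χ)
    (hfaith : ∀ g : G, χ g = χ 1 → g = 1) (r : ℕ) (hr0 : 0 < r) (hr : ¬ p ∣ r)
    (hrat : ∀ g : G, χ g ∈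
      IntermediateField.adjoin ℚ ({Complex.exp (2 * Real.pi * Complex.I / r)} : Set ℂ))
    (n : ℕ) (hn : χ 1 = (n : ℂ)) :
    (Nat.card G).factorization p ≤ ∑ i ∈ Finset.range (n + 1), n / ((p - 1) * p ^ i) := by
  classical
  haveI := Fact.mk hp
  haveI : Fintype G := Fintype.ofFinite G
  obtain ⟨S⟩ : Nonempty (Sylow p G) := inferInstance
  set a := (Nat.card G).factorization p with ha
  have hScard : Nat.card (S : Subgroup G) = p ^ a := Sylow.card_eq_multiplicity S
  let P : Subgroup G := S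
  haveI : Fintype P := Fintype.ofFinite P
  have hres : IsCharacter P (fun y : P => χ y) := IsCharacter.restrict hχ P
  set ζ := Complex.exp (2 * Real.pi * Complex.I / r) with hζdef
  have hζ : IsPrimitiveRoot ζ r := Complex.isPrimitiveRoot_exp r hr0.ne'
  -- automorphisms fixing the root fix the values
  have hfix : ∀ σ : ℂ ≃+* ℂ, σ ζ = ζ → ∀ g, σ (χ g) = χ g := by
    intro σ hσ g
    have := hrat g
    revert this
    generalize χ g = z
    intro this
    induction this using IntermediateField.adjoin_induction with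
    | mem x hx => rw [Set.mem_singleton_iff.1 hx, hσ]
    | algebraMap q => simp
    | add x y _ _ hx hy => rw [map_add, hx, hy]
    | inv x _ hx => rw [map_inv₀, hx]
    | mul x y _ _ hx hy => rw [map_mul, hx, hy]
  have hpowp : ∀ (y : P) (j : ℕ), ¬ p ∣ j → χ ((y : G) ^ j) = χ y := by
    intro y j hj
    have hN : p ^ a * r ≠ 0 := mul_ne_zero (pow_ne_zero _ hp.ne_zero) hr0.ne'
    have hco : (p ^ a).Coprime r := ((hp.coprime_iff_not_dvd).2 hr).pow_left a
    obtain ⟨e, he1, he2⟩ := Nat.chineseRemainder hco j 1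
    have hec : e.Coprime (p ^ a * r) := by
      refine Nat.Coprime.mul_right ?_ ?_
      · rw [Nat.Coprime, he1.gcd_eq]
        exact (((hp.coprime_iff_not_dvd).2 hj).pow_left a).symm
      · rw [Nat.Coprime, he2.gcd_eq]
        exact Nat.gcd_one_left r
    obtain ⟨σ, hσ⟩ := exists_galoisAut hN hec
    have hσζ : σ ζ = ζ := by
      rw [hσ ζ (by rw [mul_comm, pow_mul, hζ.pow_eq_one, one_pow])]
      have := pow_eq_pow_of_modEq (x := ζ) he2 hζ.pow_eq_one
      rwa [pow_one] at this
    have hz : ∀ z : ℂ, z ^ Nat.card P = 1 → (σ : ℂ →+* ℂ) z = z ^ j := by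
      intro z hz
      rw [hScard] at hz
      show σ z = z ^ j
      rw [hσ z (by rw [pow_mul, hz, one_pow])]
      exact pow_eq_pow_of_modEq he1 hz
    have h1 := map_char hres (σ : ℂ →+* ℂ) hz y
    simp only [SubmonoidClass.coe_pow] at h1
    rw [← h1]
    exact hfix σ hσζ _
  -- the values on the Sylow subgroup are rational integers
  have hval : ∀ y : P, ∃ v : ℤ, χ y = (v : ℂ) := by
    intro y
    refine exists_int_of_fixed (IsCharacter.isIntegral hχ (y : G)) fun σ => ?_
    obtain ⟨j, hj, hσ⟩ := exists_exponent (σ : ℂ →+* ℂ) (n := p ^ (a + 1))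
      (pow_ne_zero _ hp.ne_zero)
    have hjp : ¬ p ∣ j := fun h => hp.ne_one (Nat.eq_one_of_dvd_coprimes hj h
      (dvd_pow_self p (by omega)))
    have hz : ∀ z : ℂ, z ^ Nat.card P = 1 → (σ : ℂ →+* ℂ) z = z ^ j := fun z hz =>
      hσ z (by rw [pow_succ, pow_mul, ← hScard, hz, one_pow])
    have h1 := map_char hres (σ : ℂ →+* ℂ) hz y
    simp only [SubmonoidClass.coe_pow, RingHom.coe_coe] at h1
    rw [h1, hpowp y j hjp]
  choose v hv using hval
  set K := n / (p - 1) with hK
  -- the product vanishes off the identity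
  have hvan : ∀ y : P, y ≠ 1 →
      ∏ d ∈ Finset.Icc 1 K, (χ y - (((n : ℤ) - (p * d : ℕ) : ℤ) : ℂ)) = 0 := by
    intro y hy
    obtain ⟨k, hk⟩ := (IsPGroup.iff_orderOf).1 S.isPGroup' y
    obtain ⟨k, rfl⟩ : ∃ k', k = k' + 1 := by
      rcases k with _ | k
      · exact absurd (orderOf_eq_one_iff.1 (by simpa using hk)) hy
      · exact ⟨k, rfl⟩
    obtain ⟨d, hd1, hd2, hd⟩ := exists_value hp hres (n := n)
      (by rw [Subgroup.coe_one]; exact hn) hv (x := y) hk
      (fun h => hy (Subtype.ext (hfaith y (by simpa using h))))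
      (fun i hi => by simpa using hpowp y i hi)
    refine Finset.prod_eq_zero (Finset.mem_Icc.2 ⟨hd1, hd2⟩) ?_
    rw [hv, ← hd]
    simp
  have hint := isIntegral_avg hres (Finset.Icc 1 K) (fun d => (n : ℤ) - (p * d : ℕ))
    (fun _ => 1) (isCharacter_one (G := P))
  rw [Finset.sum_eq_single (1 : P) (fun y _ hy => by rw [hvan y hy, zero_mul])
    (fun h => absurd (Finset.mem_univ _) h), mul_one] at hint
  have hprod : ∏ d ∈ Finset.Icc 1 K, (χ ((1 : P) : G) - (((n : ℤ) - (p * d : ℕ) : ℤ) : ℂ)) =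
      ((p ^ K * K.factorial : ℕ) : ℂ) := by
    rw [Subgroup.coe_one, hn, Finset.prod_congr rfl (fun d _ => show
      ((n : ℂ) - (((n : ℤ) - (p * d : ℕ) : ℤ) : ℂ)) = ((p * d : ℕ) : ℂ) by push_cast; ring),
      ← Nat.cast_prod, Finset.prod_mul_distrib, Finset.prod_const, Nat.card_Icc,
      ← Finset.Ico_add_one_right_eq_Icc, Finset.prod_Ico_id_eq_factorial]
    simp
  rw [hprod, hScard, inv_mul_eq_div] at hint
  have hdvd : p ^ a ∣ p ^ K * K.factorial := by
    obtain ⟨M, hM⟩ := Cfsg.Agent.GlaubermanMod.exists_isPModular p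
    haveI := IsPModular.isPrime hM
    have hne : p ^ K * K.factorial ≠ 0 :=
      mul_ne_zero (pow_ne_zero _ hp.ne_zero) (Nat.factorial_ne_zero _)
    have h1 := mem_locRing.1 (mem_locRing_of_isIntegral (M := M) hint)
    rw [memLocalRing_natDiv_iff hM (pow_ne_zero _ hp.ne_zero) hne, hp.factorization_pow,
      Finsupp.single_eq_same] at h1
    exact (hp.pow_dvd_iff_le_factorization hne).2 h1
  have hb := (hp.pow_dvd_iff_le_factorization
    (mul_ne_zero (pow_ne_zero _ hp.ne_zero) (Nat.factorial_ne_zero _))).1 hdvd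
  rw [Nat.factorization_mul (pow_ne_zero _ hp.ne_zero) (Nat.factorial_ne_zero _),
    Finsupp.add_apply, hp.factorization_pow, Finsupp.single_eq_same,
    Nat.factorization_factorial hp (b := n + 1)
      (lt_of_le_of_lt ((Nat.log_le_self _ _).trans (Nat.div_le_self _ _)) (Nat.lt_succ_self n))] at hb
  refine hb.trans (le_of_eq ?_)
  rw [Finset.range_eq_Ico, Finset.sum_eq_sum_Ico_succ_bot (Nat.succ_pos n), pow_zero, mul_one]
  congr 1
  exact Finset.sum_congr rfl fun i _ => Nat.div_div_eq_div_mul _ _ _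

end Cfsg.Agent.Blocks.SchurBound
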