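/-
The bound for the `p`-part of a `p`-solvable linear group.
-/
import Cfsg.Agent.Lib.Blocks.SchurBound
import Cfsg.Agent.Lib.Char.GlaubermanCyclic
import Cfsg.Agent.Lib.Char.DetComp
import Cfsg.Agent.Lib.Char.Clifford
import Cfsg.Agent.Lib.Blocks.Degree
import Cfsg.Agent.Lib.Solvable.HHThmB
import Cfsg.Agent.Lib.Solvable.Coprime
import Cfsg.Agent.Lib.Char.PermChar

set_option linter.unusedSectionVars false
set_option linter.style.haveILetI false

namespace Cfsg.Agent.PSolvBound

open Cfsg Cfsg.Agent.Char Cfsg.Agent.Blocks Cfsg.Agent.GlaubCyc Cfsg.Agent.DetComp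

open scoped ComplexConjugate Pointwise commutatorElement

universe u

/-- Schur's exponent. -/
def bound (p n : ℕ) : ℕ := ∑ i ∈ Finset.range (n + 1), n / ((p - 1) * p ^ i)

theorem bound_mono {p m n : ℕ} (h : m ≤ n) : bound p m ≤ bound p n :=
  (Finset.sum_le_sum fun _ _ => Nat.div_le_div_right h).trans
    (Finset.sum_le_sum_of_subset (Finset.range_mono (by omega)))

theorem bound_eq_zero {p n : ℕ} (hp : 2 ≤ p) (h : n < p - 1) : bound p n = 0 :=
  Finset.sum_eq_zero fun i _ => Nat.div_eq_of_lt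
    (lt_of_lt_of_le h (Nat.le_mul_of_pos_right _ (pow_pos (by omega) i)))

variable {H : Type u} [Group H] [Fintype H] (Q R : Subgroup H) [Q.Normal]

section Local

variable (θ : IrrCharacter Q)

/-- The inertia group. -/
abbrev T : Subgroup H := inertia Q (θ : Q → ℂ)

theorem Q_le_T : Q ≤ T Q θ := le_inertia Q (IsCharacter.isClassFunction (irr_isCharacter θ))

variable (hsup : Q ⊔ R = ⊤) (hcop : (Nat.card Q).Coprime (Nat.card R))

include hsup hcop

theorem exists_prod (h : H) : ∃ a ∈ Q, ∃ b ∈ R, a * b = h :=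
  Set.mem_mul.1 (show h ∈ (Q : Set H) * (R : Set H) by
    rw [← Subgroup.normal_mul, hsup]; exact Subgroup.mem_top h)

/-- The canonical extension to the inertia group, with the properties we use. -/
theorem exists_good :
    ∃ η : T Q θ → ℂ, IsIrrCharacter (T Q θ) η ∧
      (∀ q : Q, η ⟨q, Q_le_T Q θ q.2⟩ = (θ : Q → ℂ) q) ∧
      ∀ k : ℕ, k ≡ 1 [MOD Nat.card Q] → k.Coprime (Nat.card H) →
        ∀ t : T Q θ, η (t ^ k) = η t := by
  classical
  set Q' := Q.subgroupOf (T Q θ) with hQ'
  set S' := R.subgroupOf (T Q θ) with hS'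
  haveI : Fintype (T Q θ) := Fintype.ofFinite _
  let e : Q' ≃* Q := Subgroup.subgroupOfEquivOfLe (Q_le_T Q θ)
  have htop : Q' ⊔ S' = ⊤ := by
    rw [eq_top_iff]
    intro t _
    obtain ⟨a, ha, b, hb, hab⟩ := exists_prod Q R hsup hcop (t : H)
    have hbT : b ∈ T Q θ := by
      have := mul_mem (inv_mem (Q_le_T Q θ ha)) t.2
      rwa [← hab, inv_mul_cancel_left] at this
    rw [show t = (⟨a, Q_le_T Q θ ha⟩ : T Q θ) * ⟨b, hbT⟩ from Subtype.ext hab.symm]
    exact mul_mem (Subgroup.mem_sup_left ha) (Subgroup.mem_sup_right hb)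
  have hcard : Nat.card Q' = Nat.card Q := Nat.card_congr e.toEquiv
  have hcop' : (Nat.card Q').Coprime (Nat.card S') := by
    rw [hcard]
    refine hcop.coprime_dvd_right ?_
    exact Subgroup.card_comap_dvd_of_injective R _ (T Q θ).subtype_injective
  have hθ' : IsIrrCharacter Q' (fun x : Q' => (θ : Q → ℂ) (e x)) :=
    IsIrrCharacter.comp θ.2 e.toMonoidHom e.surjective
  have hinv : ∀ x : T Q θ, conjChar Q' x (fun x : Q' => (θ : Q → ℂ) (e x)) =
      fun x : Q' => (θ : Q → ℂ) (e x) := fun x => funext fun y =>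
    (mem_inertia_iff Q).1 x.2 (e y)
  obtain ⟨η, hη, he⟩ := exists_canon Q' S' htop hcop' hθ' hinv
  refine ⟨η, hη.1, fun q => ?_, fun k hk hkc t => ?_⟩
  · exact he ⟨⟨(q : H), Q_le_T Q θ q.2⟩, q.2⟩
  · exact canon_fixed Q' S' htop hcop' hθ' hη he (by rw [hcard]; exact hk)
      (hkc.coprime_dvd_right (Subgroup.card_subgroup_dvd_card _)) t

/-- The chosen extension. -/
noncomputable def ext : T Q θ → ℂ := (exists_good Q R θ hsup hcop).choose

theorem ext_irr : IsIrrCharacter (T Q θ) (ext Q R θ hsup hcop) :=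
  (exists_good Q R θ hsup hcop).choose_spec.1

theorem ext_res (q : Q) : ext Q R θ hsup hcop ⟨q, Q_le_T Q θ q.2⟩ = (θ : Q → ℂ) q :=
  (exists_good Q R θ hsup hcop).choose_spec.2.1 q

theorem ext_fixed {k : ℕ} (hk : k ≡ 1 [MOD Nat.card Q]) (hkc : k.Coprime (Nat.card H))
    (t : T Q θ) : ext Q R θ hsup hcop (t ^ k) = ext Q R θ hsup hcop t :=
  (exists_good Q R θ hsup hcop).choose_spec.2.2 k hk hkc t

theorem ext_one : ext Q R θ hsup hcop 1 = (charDegree (θ : Q → ℂ) : ℂ) := by
  rw [← irr_one_eq_charDegree, ← ext_res Q R θ hsup hcop 1]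
  rfl

/-- The induced character. -/
noncomputable def ind : H → ℂ := indFun (T Q θ) (ext Q R θ hsup hcop)

theorem ind_char : IsCharacter H (ind Q R θ hsup hcop) :=
  isCharacter_indFun _ (IsIrrCharacter.isCharacter (ext_irr Q R θ hsup hcop))

theorem ind_one : ind Q R θ hsup hcop 1 =
    (((T Q θ).index * charDegree (θ : Q → ℂ) : ℕ) : ℂ) := by
  rw [ind, indFun_one_apply, ext_one, Nat.cast_mul]

theorem ind_fixed {k : ℕ} (hk : k ≡ 1 [MOD Nat.card Q]) (hkc : k.Coprime (Nat.card H)) (h : H) :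
    ind Q R θ hsup hcop (h ^ k) = ind Q R θ hsup hcop h := by
  unfold ind indFun
  congr 1
  refine Finset.sum_congr rfl fun x _ => ?_
  have e : x⁻¹ * h ^ k * x = (x⁻¹ * h * x) ^ k := by
    have := (conj_pow (a := x⁻¹) (b := h) (i := k)).symm
    rwa [inv_inv] at this
  rw [e]
  by_cases hm : x⁻¹ * h * x ∈ T Q θ
  · rw [extendByZero_mem _ _ hm, extendByZero_mem _ _ (pow_mem hm k)]
    exact ext_fixed Q R θ hsup hcop hk hkc ⟨_, hm⟩
  · rw [extendByZero_not_mem _ _ hm, extendByZero_not_mem _ _ fun h' => hm ?_]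
    obtain ⟨y, hy⟩ := (powCoprime hkc.symm).surjective (x⁻¹ * h * x)
    obtain ⟨z, hz⟩ := (powCoprime (hkc.symm.coprime_dvd_left
      (Subgroup.card_subgroup_dvd_card (T Q θ)))).surjective ⟨_, h'⟩
    rw [powCoprime_apply] at hz
    rw [(powCoprime hkc.symm).injective (a₁ := x⁻¹ * h * x) (a₂ := (z : H)) (by
      rw [powCoprime_apply, powCoprime_apply, ← SubgroupClass.coe_pow, hz])]
    exact z.2

/-- The kernel condition. -/
theorem conj_commutator_ker {r : H} (hr : ind Q R θ hsup hcop r = ind Q R θ hsup hcop 1) (x : H)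
    {q : H} (hq : q ∈ Q) :
    conjChar Q x (θ : Q → ℂ) ⟨⁅q, r⁆, by
      rw [commutatorElement_def, mul_assoc, mul_assoc]
      exact mul_mem hq (by rw [← mul_assoc]; exact ‹Q.Normal›.conj_mem _ (inv_mem hq) r)⟩ =
      conjChar Q x (θ : Q → ℂ) 1 := by
  classical
  set η := ext Q R θ hsup hcop
  set d := charDegree (θ : Q → ℂ)
  have hη1 : η 1 = (d : ℂ) := ext_one Q R θ hsup hcop
  -- every conjugate lies in the kernel
  have hall : ∀ y : H, ∃ hy : y * r * y⁻¹ ∈ T Q θ, η ⟨_, hy⟩ = η 1 := by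
    have h0 := hr
    rw [ind, indFun_one_apply, indFun, show ext Q R θ hsup hcop 1 = (d : ℂ) from ext_one Q R θ hsup hcop] at h0
    rw [inv_mul_eq_iff_eq_mul₀ (Nat.cast_ne_zero.2 Nat.card_pos.ne'), ← mul_assoc, ← Nat.cast_mul,
      Subgroup.card_mul_index] at h0
    have hle : ∀ y : H, (extendByZero (T Q θ) η (y⁻¹ * r * y)).re ≤ (d : ℝ) := by
      intro y
      by_cases hm : y⁻¹ * r * y ∈ T Q θ
      · rw [extendByZero_mem _ _ hm]
        exact (Complex.re_le_norm _).trans
          (Cfsg.Agent.Char.IsIrrCharacter.norm_le (ext_irr Q R θ hsup hcop) hη1 _)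
      · rw [extendByZero_not_mem _ _ hm]; simp
    have hsum : ∑ y : H, (extendByZero (T Q θ) η (y⁻¹ * r * y)).re = ∑ _y : H, (d : ℝ) := by
      rw [← Complex.re_sum, h0, Finset.sum_const, Finset.card_univ, nsmul_eq_mul,
        ← Nat.card_eq_fintype_card, ← Nat.cast_mul, Complex.natCast_re, Nat.cast_mul]
    have heq := (Finset.sum_eq_sum_iff_of_le fun y _ => hle y).1 hsum
    intro y
    have h1 := heq y⁻¹ (Finset.mem_univ _)
    rw [inv_inv] at h1
    have hm : y * r * y⁻¹ ∈ T Q θ := by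
      by_contra hm
      rw [extendByZero_not_mem _ _ hm, Complex.zero_re] at h1
      exact (charDegree_pos θ).ne' (by exact_mod_cast h1.symm)
    refine ⟨hm, ?_⟩
    rw [extendByZero_mem _ _ hm] at h1
    have h2 := Cfsg.Agent.Char.IsIrrCharacter.norm_le (ext_irr Q R θ hsup hcop) hη1 ⟨_, hm⟩
    have h3 := Complex.re_le_norm (η ⟨y * r * y⁻¹, hm⟩)
    have h4 : ‖η ⟨y * r * y⁻¹, hm⟩‖ = (η ⟨y * r * y⁻¹, hm⟩).re := by linarith
    rw [hη1]
    refine Complex.ext (by rw [h1, Complex.natCast_re]) ?_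
    rw [Complex.natCast_im]
    have h5 := Complex.sq_norm (η ⟨y * r * y⁻¹, hm⟩)
    rw [h4, Complex.normSq_apply] at h5
    nlinarith
  obtain ⟨K, hK, hmem, -⟩ :=
    IsCharacter.exists_kernel (IsIrrCharacter.isCharacter (ext_irr Q R θ hsup hcop))
  obtain ⟨hm, hval⟩ := hall x
  have hqT : x * q * x⁻¹ ∈ T Q θ := Q_le_T Q θ (‹Q.Normal›.conj_mem _ hq x)
  have hrK : (⟨_, hm⟩ : T Q θ) ∈ K := (hmem _).2 hval
  have hcK : ⁅(⟨_, hqT⟩ : T Q θ), ⟨_, hm⟩⁆ ∈ K := by
    rw [commutatorElement_def]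
    exact mul_mem (hK.conj_mem _ hrK _) (inv_mem hrK)
  have h1 := (hmem _).1 hcK
  have hcQ : x * ⁅q, r⁆ * x⁻¹ ∈ Q := ‹Q.Normal›.conj_mem _ (by
    rw [commutatorElement_def, mul_assoc, mul_assoc]
    exact mul_mem hq (by rw [← mul_assoc]; exact ‹Q.Normal›.conj_mem _ (inv_mem hq) r)) x
  rw [show ⁅(⟨_, hqT⟩ : T Q θ), ⟨_, hm⟩⁆ = ⟨((⟨_, hcQ⟩ : Q) : H), Q_le_T Q θ hcQ⟩ from
    Subtype.ext (by simp only [commutatorElement_def, Subgroup.coe_mul, Subgroup.coe_inv]; group),
    ext_res, ext_one, ← irr_one_eq_charDegree] at h1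
  refine h1.trans ?_
  exact congrArg (θ : Q → ℂ) (Subtype.ext (by simp))

end Local

/-- The coprime bound. -/
theorem coprime_bound {p : ℕ} (hp : p.Prime) (hsup : Q ⊔ R = ⊤) (hpQ : ¬ p ∣ Nat.card Q)
    (hR : IsPGroup p R) {χ : H → ℂ} (hχ : IsCharacter H χ)
    (hfaith : ∀ q ∈ Q, χ q = χ 1 → q = 1) {n : ℕ} (hn : χ 1 = (n : ℂ)) :
    ((Subgroup.centralizer (Q : Set H)).relIndex R).factorization p ≤ bound p n ∧
    ((∃ r ∈ R, r ∉ Subgroup.centralizer (Q : Set H)) → n + 1 = p →
      IsIrrCharacter Q fun q : Q => χ q) := by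
  classical
  haveI : Fintype Q := Fintype.ofFinite _
  haveI := Fact.mk hp
  have hcop : (Nat.card Q).Coprime (Nat.card R) := by
    obtain ⟨k, hk⟩ := hR.exists_card_eq
    rw [hk]
    exact (((hp.coprime_iff_not_dvd.2 hpQ).symm).pow_right k)
  have hres : IsCharacter Q (fun q : Q => χ q) := IsCharacter.restrict hχ Q
  set S : Finset (IrrCharacter Q) := Finset.univ.filter fun θ : IrrCharacter Q =>
    classInner (fun q : Q => χ q) (θ : Q → ℂ) ≠ 0 with hS
  choose m hm using fun θ : IrrCharacter Q =>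
    IsCharacter.exists_classInner_nat hres (irr_isCharacter θ)
  have hmS : ∀ θ ∈ S, 1 ≤ m θ := fun θ hθ => by
    have h := (Finset.mem_filter.1 hθ).2
    rw [hm] at h
    have : m θ ≠ 0 := fun e => h (by rw [e, Nat.cast_zero])
    omega
  have hdeg : ∑ θ ∈ S, charDegree (θ : Q → ℂ) ≤ n :=
    le_trans (Finset.sum_le_sum fun θ hθ => Nat.le_mul_of_pos_left _ (hmS θ hθ))
      (sum_constituents_le hres S m (fun θ _ => hm θ) _ irr_one_eq_charDegree n (by simpa using hn))
  -- one constituent for each orbit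
  let orb : IrrCharacter Q → Finset (Q → ℂ) := fun θ => conjOrbit Q (θ : Q → ℂ)
  have hrep : ∀ o ∈ S.image orb, ∃ θ ∈ S, orb θ = o := fun o ho => Finset.mem_image.1 ho
  choose rep hrepS hrepo using hrep
  let E : Finset (IrrCharacter Q) := (S.image orb).attach.image fun o => rep o.1 o.2
  have hES : E ⊆ S := fun θ hθ => by
    obtain ⟨o, -, rfl⟩ := Finset.mem_image.1 hθ
    exact hrepS _ _
  have hEinj : ∀ θ ∈ E, ∀ θ' ∈ E, orb θ = orb θ' → θ = θ' := by
    intro θ hθ θ' hθ' h
    obtain ⟨o, -, rfl⟩ := Finset.mem_image.1 hθ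
    obtain ⟨o', -, rfl⟩ := Finset.mem_image.1 hθ'
    rw [hrepo, hrepo] at h
    rw [Subtype.ext h]
  have hEcov : ∀ θ ∈ S, ∃ θ' ∈ E, orb θ' = orb θ := fun θ hθ =>
    ⟨rep (orb θ) (Finset.mem_image_of_mem _ hθ),
      Finset.mem_image.2 ⟨⟨_, Finset.mem_image_of_mem _ hθ⟩, Finset.mem_attach _ _, rfl⟩,
      hrepo _ _⟩
  set Ψ : H → ℂ := ∑ θ ∈ E, ind Q R θ hsup hcop with hΨ
  have hΨc : IsCharacter H Ψ := isCharacter_sum _ fun θ _ => ind_char Q R θ hsup hcop
  -- the degree
  have horbit : ∀ θ ∈ E, (T Q θ).index * charDegree (θ : Q → ℂ) ≤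
      ∑ φ ∈ S.filter (fun φ => orb φ = orb θ), charDegree (φ : Q → ℂ) := by
    intro θ hθ
    have hθS := (Finset.mem_filter.1 (hES hθ)).2
    rw [show (T Q θ).index = (conjOrbit Q (θ : Q → ℂ)).card from (card_conjOrbit Q _).symm]
    have hsub : ∀ f ∈ conjOrbit Q (θ : Q → ℂ), ∃ φ ∈ S.filter (fun φ => orb φ = orb θ),
        (φ : Q → ℂ) = f ∧ charDegree (φ : Q → ℂ) = charDegree (θ : Q → ℂ) := by
      intro f hf
      obtain ⟨g, rfl⟩ := (mem_conjOrbit Q).1 hf
      refine ⟨⟨_, isIrrCharacter_conjChar Q θ.2 g⟩, Finset.mem_filter.2 ⟨Finset.mem_filter.2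
        ⟨Finset.mem_univ _, ?_⟩, ?_⟩, rfl, ?_⟩
      · rw [classInner_restrict_conjChar Q (IsCharacter.isClassFunction hχ)]
        exact hθS
      · ext f
        show f ∈ conjOrbit Q (conjChar Q g (θ : Q → ℂ)) ↔ f ∈ conjOrbit Q (θ : Q → ℂ)
        rw [mem_conjOrbit, mem_conjOrbit]
        constructor
        · rintro ⟨a, rfl⟩
          exact ⟨g * a, (conjChar_mul Q g a (θ : Q → ℂ)).symm⟩
        · rintro ⟨a, rfl⟩
          refine ⟨g⁻¹ * a, ?_⟩
          have e := conjChar_mul Q g (g⁻¹ * a) (θ : Q → ℂ)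
          rwa [mul_inv_cancel_left] at e
      · show ⌊((θ : Q → ℂ) ⟨g * ((1 : Q) : H) * g⁻¹, _⟩).re⌋₊ = ⌊((θ : Q → ℂ) 1).re⌋₊
        congr 3
        first
          | exact congrArg (θ : Q → ℂ) (Subtype.ext (by simp))
          | (exact Subtype.ext (show g * 1 * g⁻¹ = 1 by group))
          | group
    choose φ hφ hφe hφd using hsub
    rw [← smul_eq_mul, ← Finset.sum_const, ← Finset.sum_attach]
    refine le_trans (le_of_eq ?_) (Finset.sum_le_sum_of_subset
      (show (conjOrbit Q (θ : Q → ℂ)).attach.image (fun f => φ f.1 f.2) ⊆ _ from fun x hx => by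
        obtain ⟨f, -, rfl⟩ := Finset.mem_image.1 hx
        exact hφ _ _))
    rw [Finset.sum_image fun a _ b _ h => Subtype.ext (by
      rw [← hφe a.1 a.2, ← hφe b.1 b.2]; exact congrArg Subtype.val h)]
    exact Finset.sum_congr rfl fun f _ => (hφd f.1 f.2).symm
  set D := ∑ θ ∈ E, (T Q θ).index * charDegree (θ : Q → ℂ) with hD
  have hDn : D ≤ n := by
    refine le_trans (Finset.sum_le_sum horbit) (le_trans ?_ hdeg)
    rw [← Finset.sum_biUnion fun a ha b hb hab => Finset.disjoint_left.2 fun x hx hx' =>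
      hab (hEinj a ha b hb ((Finset.mem_filter.1 hx).2.symm.trans (Finset.mem_filter.1 hx').2))]
    exact Finset.sum_le_sum_of_subset fun x hx => by
      obtain ⟨θ, -, h⟩ := Finset.mem_biUnion.1 hx
      exact (Finset.mem_filter.1 h).1
  have hΨ1 : Ψ 1 = (D : ℂ) := by
    rw [hΨ, Finset.sum_apply, hD, Nat.cast_sum]
    exact Finset.sum_congr rfl fun θ _ => ind_one Q R θ hsup hcop
  -- the kernel inside the p-group
  obtain ⟨K, hKn, hKmem, -⟩ := IsCharacter.exists_kernel hΨc
  haveI := hKn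
  have hker : ∀ r ∈ R, r ∈ K → r ∈ Subgroup.centralizer (Q : Set H) := by
    intro r _ hrK
    have hr : ∀ θ ∈ E, ind Q R θ hsup hcop r = ind Q R θ hsup hcop 1 := by
      have h := (hKmem r).1 hrK
      rw [hΨ, Finset.sum_apply, Finset.sum_apply] at h
      have hle : ∀ θ ∈ E, (ind Q R θ hsup hcop r).re ≤ (ind Q R θ hsup hcop 1).re := fun θ _ => by
        obtain ⟨d, ρ, hρ⟩ := ind_char Q R θ hsup hcop
        rw [← hρ, Representation.char_one, Complex.natCast_re]
        exact (Complex.re_le_norm _).trans (norm_char_le ρ r)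
      have heq := (Finset.sum_eq_sum_iff_of_le hle).1 (by
        rw [← Complex.re_sum, ← Complex.re_sum, h])
      intro θ hθ
      have h1 := heq θ hθ
      obtain ⟨d, ρ, hρ⟩ := ind_char Q R θ hsup hcop
      rw [← hρ, Representation.char_one, Complex.natCast_re] at h1
      rw [← hρ, Representation.char_one]
      have h2 := norm_char_le ρ r
      have h3 := Complex.re_le_norm (ρ.character r)
      refine Complex.ext (by rw [h1, Complex.natCast_re]) ?_
      rw [Complex.natCast_im]
      have h5 := Complex.sq_norm (ρ.character r)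
      rw [show ‖ρ.character r‖ = (ρ.character r).re by linarith, Complex.normSq_apply] at h5
      nlinarith
    rw [Subgroup.mem_centralizer_iff]
    intro q hq
    refine commutatorElement_eq_one_iff_mul_comm.1 ?_
    have hcQ : ⁅q, r⁆ ∈ Q := by
      rw [commutatorElement_def, mul_assoc, mul_assoc]
      exact mul_mem hq (by rw [← mul_assoc]; exact ‹Q.Normal›.conj_mem _ (inv_mem hq) r)
    refine hfaith _ hcQ ?_
    have e := IsCharacter.eq_sum hres
    have ha := congrFun e ⟨_, hcQ⟩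
    have hb := congrFun e 1
    simp only [OneMemClass.coe_one] at hb
    rw [ha, hb, Finset.sum_apply, Finset.sum_apply]
    refine Finset.sum_congr rfl fun φ _ => ?_
    simp only [Pi.smul_apply, smul_eq_mul]
    by_cases hφ : classInner (fun q : Q => χ q) (φ : Q → ℂ) = 0
    · rw [hφ, zero_mul, zero_mul]
    obtain ⟨θ, hθ, ho⟩ := hEcov φ (Finset.mem_filter.2 ⟨Finset.mem_univ _, hφ⟩)
    obtain ⟨x, hx⟩ := (mem_conjOrbit Q).1 (show (φ : Q → ℂ) ∈ conjOrbit Q (θ : Q → ℂ) by
      rw [show conjOrbit Q (θ : Q → ℂ) = conjOrbit Q (φ : Q → ℂ) from ho, mem_conjOrbit]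
      exact ⟨1, (conjChar_one Q _).symm⟩)
    rw [hx, conj_commutator_ker Q R θ hsup hcop (hr θ hθ) x hq]
  -- the bound
  haveI : Fintype R := Fintype.ofFinite _
  obtain ⟨Ψ', hΨ'c, hΨ'v, -⟩ := IsCharacter.deflate (IsCharacter.restrict hΨc R) (K.subgroupOf R)
    fun x hx => by simpa using (hKmem x).1 hx
  have hschur := SchurBound.schur_bound p hp hΨ'c (fun g hg => by
      obtain ⟨x, rfl⟩ := QuotientGroup.mk_surjective g
      rw [hΨ'v, ← QuotientGroup.mk_one, hΨ'v] at hg
      exact (QuotientGroup.eq_one_iff x).2 ((hKmem x).2 (by simpa using hg)))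
    (Nat.card Q) Nat.card_pos hpQ (fun g => by
      obtain ⟨x, rfl⟩ := QuotientGroup.mk_surjective g
      rw [hΨ'v]
      set ζ := Complex.exp (2 * Real.pi * Complex.I / (Nat.card Q : ℕ))
      have hζ : IsPrimitiveRoot ζ (Nat.card Q) := Complex.isPrimitiveRoot_exp _ Nat.card_pos.ne'
      refine mem_adjoin_of_fixed ((hζ.isIntegral Nat.card_pos).tower_top (A := ℚ)).isAlgebraic ?_ fun σ hσ => ?_
      · obtain ⟨d, ρ, hρ⟩ := hΨc
        rw [← hρ]
        exact ((isIntegral_char ρ _).tower_top (A := ℚ)).isAlgebraic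
      · obtain ⟨k, hk, hkz⟩ := CharGalois.exists_exponent σ.toRingHom (Nat.card_pos (α := H)).ne'
        have hk1 : k ≡ 1 [MOD Nat.card Q] := by
          have h2 := hkz ζ (by
            obtain ⟨c, hc⟩ := Subgroup.card_subgroup_dvd_card Q
            rw [hc, pow_mul, hζ.pow_eq_one, one_pow])
          rw [show σ.toRingHom ζ = ζ from hσ] at h2
          have h3 : ζ ^ k = ζ ^ 1 := by rw [pow_one]; exact h2.symm
          refine hζ.pow_inj (Nat.mod_lt _ Nat.card_pos) (Nat.mod_lt _ Nat.card_pos) ?_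
          rwa [← pow_eq_pow_mod _ hζ.pow_eq_one, ← pow_eq_pow_mod _ hζ.pow_eq_one]
        show σ.toRingHom (Ψ x) = Ψ x
        rw [CharGalois.map_char hΨc σ.toRingHom hkz, hΨ, Finset.sum_apply, Finset.sum_apply]
        exact Finset.sum_congr rfl fun θ _ => ind_fixed Q R θ hsup hcop hk1 hk _)
    D (by rw [← QuotientGroup.mk_one, hΨ'v]; simpa using hΨ1)
  have hrel : ((Subgroup.centralizer (Q : Set H)).relIndex R).factorization p ≤
      (Nat.card (R ⧸ K.subgroupOf R)).factorization p := by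
    rw [← Subgroup.index_eq_card]
    refine (Nat.factorization_le_iff_dvd ?_ ?_).2 ?_ p
    · exact Subgroup.index_ne_zero_of_finite
    · exact Subgroup.index_ne_zero_of_finite
    · exact Subgroup.index_dvd_of_le fun x hx => hker x x.2 hx
  have hmain : ((Subgroup.centralizer (Q : Set H)).relIndex R).factorization p ≤ bound p D :=
    hrel.trans hschur
  refine ⟨hmain.trans (bound_mono hDn), fun ⟨r, hr, hrC⟩ hnp => ?_⟩
  -- the extreme case
  have hpos : 0 < ((Subgroup.centralizer (Q : Set H)).relIndex R).factorization p := by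
    refine hp.factorization_pos_of_dvd Subgroup.index_ne_zero_of_finite ?_
    obtain ⟨k, hk⟩ := hR.exists_card_eq
    obtain ⟨i, -, hi⟩ := (Nat.dvd_prime_pow hp).1
      (hk ▸ ((Subgroup.centralizer (Q : Set H)).subgroupOf R).index_dvd_card)
    have hi' : (Subgroup.centralizer (Q : Set H)).relIndex R = p ^ i := hi
    rw [hi']
    refine dvd_pow_self p fun e => hrC ?_
    rw [e, pow_zero] at hi'
    exact Subgroup.relIndex_eq_one.1 hi' hr
  have hDeq : D = n := by
    by_contra hne
    have := bound_eq_zero (p := p) (n := D) hp.two_le (by omega)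
    omega
  -- all orbits are trivial
  have hT : ∀ θ ∈ E, (T Q θ).index = 1 := by
    intro θ hθ
    have hdvd : (T Q θ).index ∣ Nat.card R := by
      have h1 := Subgroup.index_dvd_of_le (Q_le_T Q θ)
      have hd : Disjoint Q R := Subgroup.disjoint_of_coprime_natCard hcop
      have hc := Subgroup.isComplement'_of_disjoint_and_mul_eq_univ hd
        (by rw [← Subgroup.normal_mul, hsup]; rfl)
      have h2 : Q.index = Nat.card R := hc.symm.index_eq_card
      rwa [h2] at h1
    obtain ⟨k, hk⟩ := hR.exists_card_eq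
    obtain ⟨i, -, hi⟩ := (Nat.dvd_prime_pow hp).1 (hk ▸ hdvd)
    rcases Nat.eq_zero_or_pos i with rfl | hi0
    · simpa using hi
    · exfalso
      have h1 : (T Q θ).index * charDegree (θ : Q → ℂ) ≤ D :=
        Finset.single_le_sum (f := fun θ : IrrCharacter Q => (T Q θ).index * charDegree (θ : Q → ℂ))
          (fun _ _ => Nat.zero_le _) hθ
      have h2 : p ≤ (T Q θ).index := hi ▸ Nat.le_self_pow hi0.ne' p
      have := Nat.le_mul_of_pos_right (T Q θ).index (charDegree_pos θ)
      omega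
  -- one orbit only
  obtain ⟨θ, hθE, hθbig⟩ : ∃ θ ∈ E, p - 1 ≤ charDegree (θ : Q → ℂ) := by
    by_contra hcon
    push Not at hcon
    -- each part is too small
    have hall : ∀ θ ∈ E, ∀ x ∈ R, ∀ q, ∀ hq : q ∈ Q,
        (θ : Q → ℂ) ⟨⁅q, x⁆, by
          rw [commutatorElement_def, mul_assoc, mul_assoc]
          exact mul_mem (by assumption) (by rw [← mul_assoc]; exact ‹Q.Normal›.conj_mem _ (inv_mem (by assumption)) x)⟩
          = (θ : Q → ℂ) 1 := by
      intro θ hθ x hx q hq
      have hlt := hcon θ hθ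
      obtain ⟨K', hK'n, hK'mem, -⟩ := IsCharacter.exists_kernel (ind_char Q R θ hsup hcop)
      haveI := hK'n
      obtain ⟨Φ, hΦc, hΦv, -⟩ := IsCharacter.deflate
        (IsCharacter.restrict (ind_char Q R θ hsup hcop) R) (K'.subgroupOf R)
        fun x hx => by simpa using (hK'mem x).1 hx
      have hs := SchurBound.schur_bound p hp hΦc (fun g hg => by
          obtain ⟨y, rfl⟩ := QuotientGroup.mk_surjective g
          rw [hΦv, ← QuotientGroup.mk_one, hΦv] at hg
          exact (QuotientGroup.eq_one_iff y).2 ((hK'mem y).2 (by simpa using hg)))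
        (Nat.card Q) Nat.card_pos hpQ (fun g => by
          obtain ⟨y, rfl⟩ := QuotientGroup.mk_surjective g
          rw [hΦv]
          set ζ := Complex.exp (2 * Real.pi * Complex.I / (Nat.card Q : ℕ))
          have hζ : IsPrimitiveRoot ζ (Nat.card Q) := Complex.isPrimitiveRoot_exp _ Nat.card_pos.ne'
          refine mem_adjoin_of_fixed ((hζ.isIntegral Nat.card_pos).tower_top (A := ℚ)).isAlgebraic ?_
            fun σ hσ => ?_
          · obtain ⟨d, ρ, hρ⟩ := ind_char Q R θ hsup hcop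
            rw [← hρ]
            exact ((isIntegral_char ρ _).tower_top (A := ℚ)).isAlgebraic
          · obtain ⟨k, hk, hkz⟩ :=
              CharGalois.exists_exponent σ.toRingHom (Nat.card_pos (α := H)).ne'
            have hk1 : k ≡ 1 [MOD Nat.card Q] := by
              have h2 := hkz ζ (by
                obtain ⟨c, hc⟩ := Subgroup.card_subgroup_dvd_card Q
                rw [hc, pow_mul, hζ.pow_eq_one, one_pow])
              rw [show σ.toRingHom ζ = ζ from hσ] at h2
              have h3 : ζ ^ k = ζ ^ 1 := by rw [pow_one]; exact h2.symm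
              refine hζ.pow_inj (Nat.mod_lt _ Nat.card_pos) (Nat.mod_lt _ Nat.card_pos) ?_
              rwa [← pow_eq_pow_mod _ hζ.pow_eq_one, ← pow_eq_pow_mod _ hζ.pow_eq_one]
            show σ.toRingHom _ = _
            rw [CharGalois.map_char (ind_char Q R θ hsup hcop) σ.toRingHom hkz]
            exact ind_fixed Q R θ hsup hcop hk1 hk _)
        (charDegree (θ : Q → ℂ))
        (by rw [← QuotientGroup.mk_one, hΦv]; simp [ind_one, hT θ hθ])
      rw [show (∑ i ∈ Finset.range (charDegree (θ : Q → ℂ) + 1),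
          charDegree (θ : Q → ℂ) / ((p - 1) * p ^ i)) = 0 from bound_eq_zero hp.two_le hlt,
        Nat.le_zero] at hs
      have hone : Nat.card (R ⧸ K'.subgroupOf R) = 1 := by
        obtain ⟨k, hk⟩ := (hR.to_quotient (K'.subgroupOf R)).exists_card_eq
        rw [hk, hp.factorization_pow, Finsupp.single_eq_same] at hs
        rw [hk, hs, pow_zero]
      rw [← Subgroup.index_eq_card, Subgroup.index_eq_one, Subgroup.subgroupOf_eq_top] at hone
      have h := conj_commutator_ker Q R θ hsup hcop ((hK'mem x).1 (hone hx)) 1 hq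
      rwa [conjChar_one] at h
    refine hrC (Subgroup.mem_centralizer_iff.2 fun q hq => commutatorElement_eq_one_iff_mul_comm.1 ?_)
    have hcQ : ⁅q, r⁆ ∈ Q := by
      rw [commutatorElement_def, mul_assoc, mul_assoc]
      exact mul_mem hq (by rw [← mul_assoc]; exact ‹Q.Normal›.conj_mem _ (inv_mem hq) r)
    refine hfaith _ hcQ ?_
    have e := IsCharacter.eq_sum hres
    have ha := congrFun e ⟨_, hcQ⟩
    have hb := congrFun e 1
    simp only [OneMemClass.coe_one] at hb
    rw [ha, hb, Finset.sum_apply, Finset.sum_apply]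
    refine Finset.sum_congr rfl fun φ _ => ?_
    simp only [Pi.smul_apply, smul_eq_mul]
    by_cases hφ : classInner (fun q : Q => χ q) (φ : Q → ℂ) = 0
    · rw [hφ, zero_mul, zero_mul]
    obtain ⟨θ, hθ, ho⟩ := hEcov φ (Finset.mem_filter.2 ⟨Finset.mem_univ _, hφ⟩)
    obtain ⟨x, hx⟩ := (mem_conjOrbit Q).1 (show (φ : Q → ℂ) ∈ conjOrbit Q (θ : Q → ℂ) by
      rw [show conjOrbit Q (θ : Q → ℂ) = conjOrbit Q (φ : Q → ℂ) from ho, mem_conjOrbit]
      exact ⟨1, (conjChar_one Q _).symm⟩)
    have hxfix : conjChar Q x (θ : Q → ℂ) = θ :=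
      (mem_inertia Q).1 ((Subgroup.eq_top_iff' _).1 (Subgroup.index_eq_one.1 (hT θ hθ)) x)
    rw [hxfix] at hx
    rw [hx, hall θ hθ r hr q hq]
  have hsingle := eq_of_constituent_degree hres θ.2 (Finset.mem_filter.1 (hES hθE)).2 (by
    rw [OneMemClass.coe_one, hn, irr_one_eq_charDegree]
    have hle : charDegree (θ : Q → ℂ) ≤ n :=
      degree_le_of_constituent hres θ.2 (Finset.mem_filter.1 (hES hθE)).2
        (by rw [OneMemClass.coe_one, hn]) (irr_one_eq_charDegree θ)
    rw [show charDegree (θ : Q → ℂ) = n by omega])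
  exact hsingle ▸ θ.2

/-- Reduction of a `p`-solvable group to a coprime configuration. -/
theorem exists_config {G : Type u} [Group G] [Finite G] {p : ℕ} [Fact p.Prime]
    (hsolv : IsPSolvable p G) :
    ∃ Q R : Subgroup G, ¬ p ∣ Nat.card Q ∧ IsPGroup p R ∧ R ≤ Subgroup.normalizer (Q : Set G) ∧
      (pCore p G).index.factorization p ≤
        ((Subgroup.centralizer (Q : Set G)).relIndex R).factorization p := by
  classical
  have hp : p.Prime := Fact.out
  set U := pCore p G with hU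
  haveI hUn : U.Normal := by
    haveI : (pCore p G).Characteristic := FittingCores.pCore_characteristic p
    infer_instance
  have hUp : IsPGroup p U := FittingCores.pCore_isPGroup p
  set f := QuotientGroup.mk' U with hf
  have hfs : Function.Surjective f := QuotientGroup.mk'_surjective U
  have hO : pCore p (G ⧸ U) = ⊥ := by
    haveI : (pCore p (G ⧸ U)).Characteristic := FittingCores.pCore_characteristic p
    have hp1 : IsPGroup p ((pCore p (G ⧸ U)).comap f) :=
      (FittingCores.pCore_isPGroup p).comap_of_ker_isPGroup f (by rw [hf, QuotientGroup.ker_mk']; exact hUp)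
    have hle : (pCore p (G ⧸ U)).comap f ≤ U := le_sSup ⟨inferInstance, hp1⟩
    rw [eq_bot_iff]
    intro x hx
    obtain ⟨g, rfl⟩ := hfs x
    exact Subgroup.mem_bot.2 ((QuotientGroup.eq_one_iff g).2 (hle hx))
  have hC := HHThmB.centralizer_pPrimeCore_le (p := p) (PSolvable.quotient U hsolv) hO
  set Kb := pPrimeCore p (G ⧸ U) with hKb
  haveI : Kb.Normal := FittingCores.pPrimeCore_normal p
  set K := Kb.comap f with hK
  have hUK : U ≤ K := fun u hu => by
    rw [hK, Subgroup.mem_comap, show f u = 1 from (QuotientGroup.eq_one_iff u).2 hu]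
    exact one_mem _
  obtain ⟨a, ha⟩ := hUp.exists_card_eq
  have hcardU : Nat.card (U.subgroupOf K) = p ^ a := by
    rw [Nat.card_congr (Subgroup.subgroupOfEquivOfLe hUK).toEquiv, ha]
  have hidxU : (U.subgroupOf K).index = Nat.card Kb := by
    have h := Subgroup.card_mul_index (U.subgroupOf K)
    rw [hcardU] at h
    have h2 : Nat.card K = p ^ a * Nat.card Kb := by
      have hi := Subgroup.index_comap_of_surjective Kb hfs
      have h3 := K.card_mul_index
      rw [hK, hi, ← Subgroup.card_mul_index U, Subgroup.index_eq_card U,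
        ← Subgroup.card_mul_index Kb, ← mul_assoc, ha] at h3
      exact Nat.eq_of_mul_eq_mul_right (Nat.pos_of_ne_zero Subgroup.index_ne_zero_of_finite) h3
    rw [h2] at h
    exact Nat.eq_of_mul_eq_mul_left (pow_pos hp.pos a) h
  have hKbp : (Nat.card Kb).Coprime p := FittingCores.pPrimeCore_coprime p
  obtain ⟨Q0, hQ0⟩ := Subgroup.exists_right_complement'_of_coprime (N := U.subgroupOf K)
    (by rw [hcardU, hidxU]; exact (hKbp.symm.pow_left a))
  set Q := Q0.map K.subtype with hQdef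
  have hQcard : Nat.card Q = Nat.card Kb := by
    rw [hQdef, Subgroup.card_map_of_injective K.subtype_injective]
    have := hQ0.symm.index_eq_card
    rw [hidxU] at this
    exact this.symm
  have hQmap : Q.map f = Kb := by
    refine le_antisymm ?_ ?_
    · rintro _ ⟨_, ⟨x, -, rfl⟩, rfl⟩
      exact x.2
    · intro y hy
      obtain ⟨g, rfl⟩ := hfs y
      obtain ⟨u, hu, q, hq, huq⟩ := Set.mem_mul.1 (show (⟨g, hy⟩ : K) ∈
          ((U.subgroupOf K : Subgroup K) : Set K) * (Q0 : Set K) by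
        rw [hQ0.mul_eq]; trivial)
      refine ⟨(q : K), ⟨q, hq, rfl⟩, ?_⟩
      rw [show g = (u : G) * q from (congrArg Subtype.val huq).symm, map_mul,
        show f (u : G) = 1 from (QuotientGroup.eq_one_iff _).2 hu, one_mul]
  -- Frattini argument
  have hfrat : ∀ g : G, ∃ u ∈ U, ∃ x ∈ Subgroup.normalizer (Q : Set G), g = u * x := by
    intro g
    have hKsup : K ≤ U ⊔ Q := by
      intro k hk
      obtain ⟨u, hu, q, hq, huq⟩ := Set.mem_mul.1 (show (⟨k, hk⟩ : K) ∈
          ((U.subgroupOf K : Subgroup K) : Set K) * (Q0 : Set K) by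
        rw [hQ0.mul_eq]; trivial)
      rw [show k = (u : G) * q from (congrArg Subtype.val huq).symm]
      exact mul_mem (Subgroup.mem_sup_left hu) (Subgroup.mem_sup_right ⟨q, hq, rfl⟩)
    haveI : Group.IsNilpotent U := hUp.isNilpotent
    obtain ⟨k, hk, hkQ⟩ := SchurZ.conj_in (A := Q) (K := U) (B := MulAut.conj g • Q)
      (Subgroup.normalizer_eq_top_iff.2 hUn ▸ le_top)
      (by rw [hQcard, ha]; exact hKbp.pow_right a) (Or.inr inferInstance)
      (fun x hx => hKsup (by
        obtain ⟨y, ⟨z, hz, rfl⟩, rfl⟩ := hx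
        exact (show K.Normal from inferInstance).conj_mem _ z.2 g))
      (Subgroup.card_map_of_injective (MulAut.conj g).injective)
    refine ⟨k, hk, k⁻¹ * g, SolvBasic.mem_normalizer_iff_conjSmul.2 ?_, by group⟩
    rw [map_mul, mul_smul, ← hkQ, ← mul_smul, ← map_mul, inv_mul_cancel, map_one, one_smul]
  set NQ := Subgroup.normalizer (Q : Set G) with hNQ
  obtain ⟨R0⟩ : Nonempty (Sylow p NQ) := inferInstance
  set R := (R0 : Subgroup NQ).map NQ.subtype with hR
  refine ⟨Q, R, ?_, R0.2.map _, Subgroup.map_subtype_le _, ?_⟩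
  · rw [hQcard]; exact hp.coprime_iff_not_dvd.1 hKbp.symm
  have hidx : U.index = (U.subgroupOf NQ).index := by
    have hsup : NQ ⊔ U = ⊤ := by
      rw [eq_top_iff]
      intro g _
      obtain ⟨u, hu, x, hx, rfl⟩ := hfrat g
      exact mul_mem (Subgroup.mem_sup_right hu) (Subgroup.mem_sup_left hx)
    show U.index = U.relIndex NQ
    rw [← Subgroup.relIndex_sup_right (K := U) (H := NQ), hsup, Subgroup.relIndex_top_right]
  rw [hidx]
  haveI : Fintype NQ := Fintype.ofFinite _
  -- the p-part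
  have hUR : U.subgroupOf NQ ≤ (R0 : Subgroup NQ) := IsPGroup.le_sylow_of_normal hUp.comap_subtype R0
  have h1 : (U.subgroupOf NQ).index.factorization p =
      ((U.subgroupOf NQ).relIndex (R0 : Subgroup NQ)).factorization p := by
    rw [← Subgroup.relIndex_mul_index hUR,
      Nat.factorization_mul (show (U.subgroupOf NQ).relIndex (R0 : Subgroup NQ) ≠ 0 from
        Subgroup.index_ne_zero_of_finite) Subgroup.index_ne_zero_of_finite,
      Finsupp.add_apply, Nat.factorization_eq_zero_of_not_dvd R0.not_dvd_index, add_zero]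
  rw [h1]
  refine (Nat.factorization_le_iff_dvd Subgroup.index_ne_zero_of_finite
    Subgroup.index_ne_zero_of_finite).2 ?_ p
  change _ ∣ (Subgroup.centralizer (Q : Set G)).relIndex R
  rw [show (Subgroup.centralizer (Q : Set G)).relIndex R =
    ((Subgroup.centralizer (Q : Set G)).subgroupOf NQ).relIndex (R0 : Subgroup NQ) from
    (Subgroup.relIndex_comap (f := NQ.subtype) (H := Subgroup.centralizer (Q : Set G))
      (K := (R0 : Subgroup NQ))).symm]
  refine Subgroup.index_dvd_of_le fun x hx => ?_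
  rw [Subgroup.mem_subgroupOf, Subgroup.mem_subgroupOf] at hx ⊢
  -- a p-element centralizing Q lies in U
  have hcen : f ((x : NQ) : G) ∈ Subgroup.centralizer (Kb : Set (G ⧸ U)) := by
    rw [Subgroup.mem_centralizer_iff, ← hQmap]
    rintro _ ⟨q, hq, rfl⟩
    rw [← map_mul, ← map_mul, Subgroup.mem_centralizer_iff.1 hx q hq]
  obtain ⟨i, hi⟩ := (IsPGroup.iff_orderOf).1 R0.2 x
  have hi' : orderOf ((x : NQ) : G) = p ^ i := by rw [Subgroup.orderOf_coe, Subgroup.orderOf_coe, hi]
  have h2 : orderOf (f ((x : NQ) : G)) = 1 := Nat.eq_one_of_dvd_coprimes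
    (hKbp.symm.pow_left i) (hi' ▸ orderOf_map_dvd f _)
    (Subgroup.orderOf_dvd_natCard Kb (hC hcen))
  exact (QuotientGroup.eq_one_iff _).1 (orderOf_eq_one_iff.1 h2)

/-- The bound applied in a subgroup of the linear group. -/
theorem bound_in {G : Type u} [Group G] [Finite G] {p : ℕ} (hp : p.Prime) {χ : G → ℂ}
    (hχ : IsCharacter G χ) (hfaith : ∀ g : G, χ g = χ 1 → g = 1) {n : ℕ} (hn : χ 1 = (n : ℂ))
    (Q R : Subgroup G) (hQ : ¬ p ∣ Nat.card Q) (hR : IsPGroup p R)
    (hRQ : R ≤ Subgroup.normalizer (Q : Set G)) :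
    ((Subgroup.centralizer (Q : Set G)).relIndex R).factorization p ≤ bound p n ∧
    ((∃ r ∈ R, r ∉ Subgroup.centralizer (Q : Set G)) → n + 1 = p →
      IsIrrCharacter Q fun q : Q => χ q) := by
  classical
  set Hs := Q ⊔ R with hHs
  haveI : Fintype Hs := Fintype.ofFinite _
  haveI : (Q.subgroupOf Hs).Normal :=
    Subgroup.normal_subgroupOf_of_le_normalizer (sup_le Subgroup.le_normalizer hRQ)
  have hsup : Q.subgroupOf Hs ⊔ R.subgroupOf Hs = ⊤ := by
    rw [← Subgroup.subgroupOf_sup le_sup_left le_sup_right, Subgroup.subgroupOf_self]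
  have h := coprime_bound (Q.subgroupOf Hs) (R.subgroupOf Hs) hp hsup
    (by rwa [Nat.card_congr (Subgroup.subgroupOfEquivOfLe (le_sup_left : Q ≤ Hs)).toEquiv])
    hR.comap_subtype (IsCharacter.restrict hχ Hs)
    (fun q _ hq => Subtype.ext (hfaith q hq)) (n := n) hn
  have hcent : Subgroup.centralizer ((Q.subgroupOf Hs : Subgroup Hs) : Set Hs) =
      (Subgroup.centralizer (Q : Set G)).subgroupOf Hs := by
    ext x
    rw [Subgroup.mem_centralizer_iff, Subgroup.mem_subgroupOf, Subgroup.mem_centralizer_iff]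
    exact ⟨fun h q hq => congrArg Subtype.val (h ⟨q, (le_sup_left : Q ≤ Hs) hq⟩ hq),
      fun h q hq => Subtype.ext (h q hq)⟩
  rw [hcent, show ((Subgroup.centralizer (Q : Set G)).subgroupOf Hs).relIndex (R.subgroupOf Hs) =
      (Subgroup.centralizer (Q : Set G)).relIndex R by
    rw [Subgroup.subgroupOf, Subgroup.relIndex_comap, Subgroup.subgroupOf_map_subtype,
      inf_eq_left.2 (le_sup_right : R ≤ Hs)]] at h
  refine ⟨h.1, fun ⟨r, hr, hrC⟩ hnp => ?_⟩
  have h2 := h.2 ⟨⟨r, (le_sup_right : R ≤ Hs) hr⟩, hr, hrC⟩ hnp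
  exact IsIrrCharacter.comp h2 (Subgroup.subgroupOfEquivOfLe (le_sup_left : Q ≤ Hs)).symm.toMonoidHom
    (Subgroup.subgroupOfEquivOfLe (le_sup_left : Q ≤ Hs)).symm.surjective

/-- A normal Sylow subgroup is the `p`-core. -/
theorem normal_of_index {G : Type u} [Group G] [Finite G] {p : ℕ} [Fact p.Prime]
    (h : (pCore p G).index.factorization p = 0) (P : Sylow p G) : (P : Subgroup G).Normal := by
  haveI : (pCore p G).Characteristic := FittingCores.pCore_characteristic p
  have hUn : (pCore p G).Normal := inferInstance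
  have hle : pCore p G ≤ (P : Subgroup G) :=
    IsPGroup.le_sylow_of_normal (FittingCores.pCore_isPGroup p) P
  have h1 := Subgroup.relIndex_mul_index hle
  obtain ⟨k, hk⟩ := P.2.exists_card_eq
  obtain ⟨i, -, hi⟩ := (Nat.dvd_prime_pow (Fact.out : p.Prime)).1
    (hk ▸ ((pCore p G).subgroupOf (P : Subgroup G)).index_dvd_card)
  have hi' : (pCore p G).relIndex (P : Subgroup G) = p ^ i := hi
  have hi0 : i = 0 := by
    rw [← h1, hi', Nat.factorization_mul (pow_ne_zero _ (Fact.out : p.Prime).ne_zero)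
      Subgroup.index_ne_zero_of_finite, Finsupp.add_apply, (Fact.out : p.Prime).factorization_pow,
      Finsupp.single_eq_same] at h
    omega
  rw [hi0, pow_zero] at hi'
  rw [show (P : Subgroup G) = pCore p G from le_antisymm (Subgroup.relIndex_eq_one.1 hi') hle]
  exact hUn

/-- The extreme case of small degree. -/
theorem small_degree {G : Type u} [Group G] [Finite G] {p : ℕ} [Fact p.Prime]
    (hsolv : IsPSolvable p G) {χ : G → ℂ} (hχ : IsCharacter G χ)
    (hfaith : ∀ g : G, χ g = χ 1 → g = 1) {n : ℕ} (hn : χ 1 = (n : ℂ)) (hnp : n + 1 ≤ p)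
    (P : Sylow p G) (hP : ¬ (P : Subgroup G).Normal) :
    n + 1 = p ∧ (∃ k, n = 2 ^ k) ∧ IsIrrCharacter G χ := by
  classical
  haveI : Fintype G := Fintype.ofFinite G
  have hp : p.Prime := Fact.out
  obtain ⟨Q, R, hQp, hR, hRQ, hle⟩ := exists_config (G := G) hsolv
  have hpos : 0 < ((Subgroup.centralizer (Q : Set G)).relIndex R).factorization p :=
    lt_of_lt_of_le (Nat.pos_of_ne_zero fun h => hP (normal_of_index h P)) hle
  obtain ⟨hb, hirr⟩ := bound_in hp hχ hfaith hn Q R hQp hR hRQ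
  have hnp' : n + 1 = p := by
    by_contra hne
    rw [bound_eq_zero hp.two_le (by omega)] at hb
    omega
  obtain ⟨r, hr, hrC⟩ : ∃ r ∈ R, r ∉ Subgroup.centralizer (Q : Set G) := by
    by_contra hcon
    push Not at hcon
    rw [Subgroup.relIndex_eq_one.2 hcon] at hpos
    simp at hpos
  have hQirr := hirr ⟨r, hr, hrC⟩ hnp'
  haveI : Fintype Q := Fintype.ofFinite _
  have hGirr : IsIrrCharacter G χ := by
    obtain ⟨ψ, hψ⟩ := IsCharacter.exists_constituent hχ fun h0 => by
      have h1 := congrFun h0 1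
      rw [hn, Pi.zero_apply, Nat.cast_eq_zero] at h1
      exact IsIrrCharacter.one_ne_zero hQirr (by
        simp only [OneMemClass.coe_one]; rw [hn, h1, Nat.cast_zero])
    refine (eq_of_constituent_degree hχ ψ.2 hψ ?_) ▸ ψ.2
    obtain ⟨θ, hθ⟩ := exists_restrict_constituent ψ.2 Q
    -- the restriction of a constituent contains the restriction
    obtain ⟨e, he⟩ := IsCharacter.exists_decomp hχ
    have heq : (θ : Q → ℂ) = fun q : Q => χ q := by
      by_contra hne
      have h0 : classInner (fun q : Q => χ q) (θ : Q → ℂ) = 0 :=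
        classInner_irr_of_ne hQirr θ.2 (fun h => hne h.symm)
      have h1 : (fun q : Q => χ q) =
          ∑ x : IrrCharacter G, (e x : ℂ) • fun q : Q => (x : G → ℂ) q := by
        funext q
        rw [congrFun he (q : G)]
        simp
      rw [h1, classInner_sum_left] at h0
      simp only [classInner_smul_left] at h0
      choose c hc using fun x : IrrCharacter G => IsCharacter.exists_classInner_nat
        (IsCharacter.restrict (irr_isCharacter x) Q) (irr_isCharacter θ)
      simp only [hc, ← Nat.cast_mul, ← Nat.cast_sum, Nat.cast_eq_zero, Finset.sum_eq_zero_iff,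
        Finset.mem_univ, true_implies, mul_eq_zero] at h0
      rcases h0 ψ with h2 | h2
      · refine hψ ?_
        rw [he, classInner_combination, h2, Nat.cast_zero]
      · exact hθ (by rw [hc, h2, Nat.cast_zero])
    have hle1 : charDegree (θ : Q → ℂ) ≤ charDegree (ψ : G → ℂ) :=
      degree_le_of_constituent (IsCharacter.restrict (irr_isCharacter ψ) Q) θ.2 hθ
        (by rw [OneMemClass.coe_one, irr_one_eq_charDegree]) (irr_one_eq_charDegree θ)
    have hle2 : charDegree (ψ : G → ℂ) ≤ n :=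
      degree_le_of_constituent hχ ψ.2 hψ hn (irr_one_eq_charDegree ψ)
    have hθn : (charDegree (θ : Q → ℂ) : ℂ) = (n : ℂ) := by
      rw [← irr_one_eq_charDegree, heq]; simpa using hn
    rw [Nat.cast_inj] at hθn
    rw [hn, irr_one_eq_charDegree, show charDegree (ψ : G → ℂ) = n by omega]
  refine ⟨hnp', ?_, hGirr⟩
  -- the degree is a prime power
  by_cases hp2 : p = 2
  · exact ⟨0, by rw [pow_zero]; omega⟩
  obtain ⟨kR, hkR⟩ := hR.exists_card_eq
  have hcop : (Nat.card R).Coprime (Nat.card Q) := by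
    rw [hkR]; exact (hp.coprime_iff_not_dvd.2 hQp).pow_left kR
  haveI : Group.IsNilpotent R := hR.isNilpotent
  obtain ⟨q, hq, Qq, hQq, hnot⟩ : ∃ q : ℕ, ∃ hq : Fact q.Prime, ∃ Qq : Sylow q Q,
      R ≤ Subgroup.normalizer (((Qq : Subgroup Q).map Q.subtype : Subgroup G) : Set G) ∧
      ¬ R ≤ Subgroup.centralizer (((Qq : Subgroup Q).map Q.subtype : Subgroup G) : Set G) := by
    by_contra hcon
    push Not at hcon
    refine hrC ?_
    have htop : (Subgroup.centralizer ({r} : Set G)).subgroupOf Q = ⊤ := by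
      refine Subgroup.index_eq_one.1 (Nat.eq_one_iff_not_exists_prime_dvd.2 fun s hs hsd => ?_)
      haveI := Fact.mk hs
      obtain ⟨S, hS⟩ := Cfsg.Agent.CoprimeAct.exists_invariant_sylow hRQ hcop (Or.inl inferInstance) s
      have hle := hcon s ⟨hs⟩ S hS
      refine S.not_dvd_index (hsd.trans (Subgroup.index_dvd_of_le fun x hx => ?_))
      rw [Subgroup.mem_subgroupOf, Subgroup.mem_centralizer_singleton_iff]
      exact Subgroup.mem_centralizer_iff.1 (hle hr) x ⟨x, hx, rfl⟩
    rw [Subgroup.mem_centralizer_iff]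
    intro x hx
    have h := (Subgroup.eq_top_iff' _).1 htop ⟨x, hx⟩
    rw [Subgroup.mem_subgroupOf, Subgroup.mem_centralizer_singleton_iff] at h
    exact h
  set Q' := (Qq : Subgroup Q).map Q.subtype with hQ'
  haveI : Fintype Q' := Fintype.ofFinite _
  obtain ⟨j, hj⟩ := (Qq.2.map Q.subtype).exists_card_eq
  have hQ'p : ¬ p ∣ Nat.card Q' := fun h =>
    hQp (h.trans (Subgroup.card_dvd_of_le (Subgroup.map_subtype_le _)))
  obtain ⟨-, hirr'⟩ := bound_in hp hχ hfaith hn Q' R hQ'p hR hQq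
  obtain ⟨r', hr', hr'C⟩ := SetLike.not_le_iff_exists.1 hnot
  have h := hirr' ⟨r', hr', hr'C⟩ hnp'
  have hdvd : n ∣ q ^ j := hj ▸ degree_dvd_card h (by simpa using hn)
  obtain ⟨i, -, hi⟩ := (Nat.dvd_prime_pow hq.out).1 hdvd
  refine ⟨i, ?_⟩
  rcases Nat.eq_zero_or_pos i with rfl | hi0
  · simpa using hi
  have hq2 : q = 2 := by
    have heven : 2 ∣ n := by
      rcases hp.eq_two_or_odd with h | h
      · exact absurd h hp2
      · omega
    exact ((Nat.prime_dvd_prime_iff_eq Nat.prime_two hq.out).1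
      (Nat.prime_two.dvd_of_dvd_pow (hi ▸ heven))).symm
  rw [hi, hq2]

end Cfsg.Agent.PSolvBound
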