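import Cfsg.Agent.Lib.Blocks.PairSingular
import Cfsg.Agent.Lib.LocalEven.OmegaOne
import Cfsg.Agent.Lib.Char.Induction
import Mathlib.Analysis.SpecialFunctions.Complex.CircleAddChar
import Mathlib.Analysis.RCLike.Basic
import Mathlib.GroupTheory.Transfer

/-!
# Cyclic Sylow subgroups: centralizers, multiplicities and class sums
-/

set_option autoImplicit false
set_option linter.style.haveILetI false
set_option linter.unusedSectionVars false

namespace Cfsg.Agent.Blocks.PairCyc

open Cfsg Cfsg.Agent.Char Cfsg.Agent.Blocks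
open scoped ComplexConjugate

universe u

variable {p : ℕ} [hp : Fact p.Prime]

/-- A `p`-solvable group with cyclic Sylow subgroups and a central element of order `p` has a
normal `p`-complement, `p` odd. -/
theorem exists_complement {H : Type u} [Group H] [Finite H] (hp2 : p ≠ 2) (hH : IsPSolvable p H)
    (Q : Sylow p H) (hQ : IsCyclic (Q : Subgroup H)) {z : H} (hz : orderOf z = p)
    (hzc : z ∈ Subgroup.center H) :
    ∃ N : Subgroup H, N.Normal ∧ ¬ p ∣ Nat.card N ∧ ∃ k, N.index = p ^ k := by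
  classical
  set O := Cfsg.pPrimeCore p H with hO
  haveI : O.Normal := FittingCores.pPrimeCore_normal p
  have hOp : ¬ p ∣ Nat.card O := fun h =>
    (hp.out.coprime_iff_not_dvd.1 (FittingCores.pPrimeCore_coprime p).symm) h
  refine ⟨O, inferInstance, hOp, ?_⟩
  set π := QuotientGroup.mk' O with hπ
  have hπs : Function.Surjective π := QuotientGroup.mk'_surjective O
  set U := Cfsg.pCore p (H ⧸ O) with hU
  haveI : U.Normal := FittingCores.pCore_normal p
  have hUp : IsPGroup p U := AxB.isPGroup_pCore p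
  have hCU := PSolvable.centralizer_pCore_le (PSolvable.quotient O hH)
    (FittingCores.pPrimeCore_quotient_eq_bot p O hO)
  obtain ⟨Q', hQ'⟩ : ∃ Q' : Sylow p (H ⧸ O), (Q' : Subgroup (H ⧸ O)) = (Q : Subgroup H).map π :=
    ⟨Q.mapSurjective hπs, Sylow.coe_mapSurjective hπs Q⟩
  haveI hQc : IsCyclic (Q' : Subgroup (H ⧸ O)) := by
    haveI := hQ
    rw [hQ']
    exact isCyclic_of_surjective _ ((π.subgroupMap_surjective (Q : Subgroup H)))
  have hUQ : ∀ R : Sylow p (H ⧸ O), U ≤ R := fun R => by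
    obtain ⟨R₀, hR₀⟩ := hUp.exists_le_sylow
    obtain ⟨g, rfl⟩ := MulAction.exists_smul_eq (H ⧸ O) R₀ R
    intro w hw
    refine ⟨g⁻¹ * w * g, hR₀ ?_, ?_⟩
    · simpa using ‹U.Normal›.conj_mem w hw g⁻¹
    · show g * (g⁻¹ * w * g) * g⁻¹ = w
      group
  have hQU : (Q' : Subgroup (H ⧸ O)) = U := by
    refine le_antisymm (le_trans ?_ hCU) (hUQ Q')
    exact fun s hs => Subgroup.mem_centralizer_iff.2 fun t ht =>
      congrArg Subtype.val (IsMulCommutative.is_comm.comm (⟨t, hUQ Q' ht⟩ : (Q' : Subgroup (H ⧸ O))) ⟨s, hs⟩)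
  set w := π z with hw
  have hwc : ∀ g, w * g = g * w := by
    intro g
    obtain ⟨h, rfl⟩ := hπs g
    rw [hw, ← map_mul, ← map_mul, Subgroup.mem_center_iff.1 hzc h]
  have hwo : orderOf w = p := by
    refine orderOf_eq_prime (by rw [hw, ← map_pow, ← hz, pow_orderOf_eq_one, map_one]) fun h => ?_
    exact hOp (hz ▸ Subgroup.orderOf_dvd_natCard O ((QuotientGroup.eq_one_iff z).1 h))
  have hwU : w ∈ U := by
    have hW : (Subgroup.zpowers w).Normal := ⟨fun a ha g => by
      obtain ⟨i, rfl⟩ := ha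
      rw [← (show Commute (w ^ i) g from Commute.zpow_left (hwc g) i).eq, mul_inv_cancel_right]
      exact ⟨i, rfl⟩⟩
    exact AxB.le_pCore hW (IsPGroup.of_card (n := 1) (by rw [Nat.card_zpowers, hwo, pow_one]))
      (Subgroup.mem_zpowers w)
  haveI hUc : IsCyclic U := hQU ▸ hQc
  have homega : ∀ a ∈ U, a ^ p = 1 → ∀ g, g * a = a * g := by
    intro a ha hap g
    haveI : Fintype U := Fintype.ofFinite U
    have h1 := IsCyclic.card_pow_eq_one_le (α := U) hp.out.pos
    let w' : U := ⟨w, hwU⟩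
    have hsub : ((Finset.range p).image fun i => w' ^ i) ⊆ Finset.univ.filter fun b : U => b ^ p = 1 := by
      intro b hb
      obtain ⟨i, -, rfl⟩ := Finset.mem_image.1 hb
      refine Finset.mem_filter.2 ⟨Finset.mem_univ _, ?_⟩
      rw [← pow_mul, mul_comm, pow_mul, show w' ^ p = 1 from Subtype.ext (by
        show w ^ p = 1; rw [← hwo, pow_orderOf_eq_one]), one_pow]
    have hcard : ((Finset.range p).image fun i => w' ^ i).card = p := by
      rw [Finset.card_image_of_injOn, Finset.card_range]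
      intro i hi j hj h
      have ho : orderOf w' = p := by rw [← Subgroup.orderOf_coe]; exact hwo
      exact pow_injOn_Iio_orderOf (x := w') (by simpa [ho] using hi) (by simpa [ho] using hj) h
    have heq := Finset.eq_of_subset_of_card_le hsub (by rw [hcard]; exact h1)
    have hmem : (⟨a, ha⟩ : U) ∈ (Finset.range p).image fun i => w' ^ i := by
      rw [heq]
      exact Finset.mem_filter.2 ⟨Finset.mem_univ _, Subtype.ext hap⟩
    obtain ⟨i, -, hi⟩ := Finset.mem_image.1 hmem
    have : a = w ^ i := (congrArg Subtype.val hi).symm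
    rw [this]
    exact ((show Commute w g from hwc g).pow_left i).eq.symm
  have hpg : IsPGroup p (H ⧸ O) := by
    intro g
    obtain ⟨k, m, hm, hord⟩ :=
      Nat.exists_eq_pow_mul_and_not_dvd (orderOf_pos g).ne' p hp.out.ne_one
    refine ⟨k, ?_⟩
    set x := g ^ p ^ k with hx
    have hxo : orderOf x = m := by
      rw [hx, orderOf_pow_of_dvd (pow_ne_zero k hp.out.ne_zero) (hord ▸ dvd_mul_right _ _), hord,
        Nat.mul_div_cancel_left _ (pow_pos hp.out.pos k)]
    have hxc : (orderOf x).Coprime p := hxo ▸ ((hp.out.coprime_iff_not_dvd.2 hm).symm)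
    have hxN : x ∈ Subgroup.normalizer (U : Set (H ⧸ O)) := by
      rw [Subgroup.normalizer_eq_top_iff.2 ‹U.Normal›]; trivial
    have hxU : x ∈ U := hCU (LEOmega.mem_centralizer_of_omega hp2 hxc hUp hxN
      fun a ha hap => homega a ha hap x)
    obtain ⟨j, hj⟩ := hUp ⟨x, hxU⟩
    rw [← orderOf_eq_one_iff]
    exact Nat.eq_one_of_dvd_coprimes (hxc.pow_right j) dvd_rfl
      (orderOf_dvd_of_pow_eq_one (congrArg Subtype.val hj))
  obtain ⟨k, hk⟩ := IsPGroup.iff_card.1 hpg
  exact ⟨k, hk⟩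

variable {G : Type u} [Group G] [Fintype G]

open scoped Classical in
/-- The scalar by which the sum over a conjugation invariant set acts. -/
theorem sum_invariant_pairs (χ : IrrCharacter G) (K : Finset G)
    (hK : ∀ g h : G, h ∈ K → g * h * g⁻¹ ∈ K) :
    ∑ ab ∈ K ×ˢ K, (χ : G → ℂ) (ab.1 * ab.2) =
      (∑ a ∈ K, (χ : G → ℂ) a) ^ 2 / (χ : G → ℂ) 1 := by
  obtain ⟨n, ρ, hρ, hχ⟩ := χ.2
  haveI := hρ
  have hcomm : ∀ g v, (∑ a ∈ K, ρ a) (ρ g v) = ρ g ((∑ a ∈ K, ρ a) v) := by
    intro g v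
    rw [LinearMap.sum_apply, LinearMap.sum_apply, map_sum]
    refine Finset.sum_bij' (fun a _ => g⁻¹ * a * g) (fun a _ => g * a * g⁻¹)
      (fun a ha => by simpa using hK g⁻¹ a ha) (fun a ha => hK g a ha)
      (fun a _ => by group) (fun a _ => by group) fun a _ => ?_
    show ρ a (ρ g v) = ρ g (ρ (g⁻¹ * a * g) v)
    rw [← Module.End.mul_apply, ← map_mul, ← Module.End.mul_apply, ← map_mul]
    congr 2
    group
  obtain ⟨c, hc⟩ := schur_scalar ρ (∑ a ∈ K, ρ a) hcomm
  have htr := congrArg (LinearMap.trace ℂ _) hc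
  rw [map_sum, map_smul, LinearMap.trace_id, smul_eq_mul] at htr
  have hmul := congrArg₂ (fun A B => LinearMap.trace ℂ _ (A * B)) hc hc
  simp only [Finset.sum_mul, Finset.mul_sum, ← map_mul, map_sum, smul_mul_smul_comm,
    map_smul, smul_eq_mul] at hmul
  rw [Finset.sum_product, ← hχ, Finset.sum_comm]
  refine hmul.trans ?_
  have htr' : ∑ a ∈ K, ρ.character a = c * (Module.finrank ℂ (Fin n → ℂ) : ℂ) := htr
  rw [show (LinearMap.id : Module.End ℂ (Fin n → ℂ)) * LinearMap.id = LinearMap.id from rfl,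
    LinearMap.trace_id, Representation.char_one, htr']
  have hn : (Module.finrank ℂ (Fin n → ℂ) : ℂ) ≠ 0 :=
    Nat.cast_ne_zero.2 (finrank_pos_of_irreducible ρ).ne'
  field_simp

/-- The multiplicities of the linear characters in the restriction to a cyclic subgroup. -/
theorem exists_mult {N : ℕ} [NeZero N] (P : Subgroup G) (e : Multiplicative (ZMod N) ≃* P)
    (χ : IrrCharacter G) :
    ∃ m : ZMod N → ℕ,
      (∀ k, (N : ℂ) * (m k : ℂ) =
        ∑ i : ZMod N, (χ : G → ℂ) (e (Multiplicative.ofAdd i) : G) * ZMod.stdAddChar (-(k * i))) ∧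
      ∀ l, (χ : G → ℂ) (e (Multiplicative.ofAdd l) : G) =
        ∑ k : ZMod N, (m k : ℂ) * ZMod.stdAddChar (k * l) := by
  classical
  haveI : Fintype P := Fintype.ofFinite P
  let lin : ZMod N → P →* ℂˣ := fun k =>
    (((ZMod.stdAddChar (N := N)).mulShift k).toMonoidHom.toHomUnits).comp e.symm.toMonoidHom
  have hlin : ∀ k (i : ZMod N), ((lin k (e (Multiplicative.ofAdd i)) : ℂˣ) : ℂ) =
      ZMod.stdAddChar (k * i) := fun k i => by
    simp [lin, AddChar.mulShift_apply]
  have hnat : ∀ k, ∃ m : ℕ, (N : ℂ) * (m : ℂ) =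
      ∑ i : ZMod N, (χ : G → ℂ) (e (Multiplicative.ofAdd i) : G) * ZMod.stdAddChar (-(k * i)) := by
    intro k
    obtain ⟨m, hm⟩ := IsCharacter.exists_classInner_nat (IsCharacter.restrict (irr_isCharacter χ) P)
      (IsIrrCharacter.isCharacter (isIrrCharacter_linear (lin k)))
    refine ⟨m, ?_⟩
    rw [← hm, classInner, show Nat.card P = N by
      rw [← Nat.card_congr e.toEquiv, Nat.card_congr Multiplicative.toAdd, Nat.card_zmod],
      ← mul_assoc, mul_inv_cancel₀ (Nat.cast_ne_zero.2 (NeZero.ne N)), one_mul]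
    refine (Fintype.sum_equiv (Multiplicative.ofAdd.trans e.toEquiv) _ _ fun i => ?_).symm
    show _ = (χ : G → ℂ) (e (Multiplicative.ofAdd i) : G) *
      conj ((lin k (e (Multiplicative.ofAdd i)) : ℂˣ) : ℂ)
    rw [hlin, AddChar.map_neg_eq_conj]
  choose m hm using hnat
  refine ⟨m, hm, fun l => ?_⟩
  have hN : (N : ℂ) ≠ 0 := Nat.cast_ne_zero.2 (NeZero.ne N)
  apply mul_left_cancel₀ hN
  rw [Finset.mul_sum]
  simp only [← mul_assoc, hm, Finset.sum_mul]
  rw [Finset.sum_comm]
  have key : ∀ i : ZMod N,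
      ∑ k : ZMod N, (χ : G → ℂ) (e (Multiplicative.ofAdd i) : G) * ZMod.stdAddChar (-(k * i)) *
        ZMod.stdAddChar (k * l) =
      if i = l then (N : ℂ) * (χ : G → ℂ) (e (Multiplicative.ofAdd i) : G) else 0 := by
    intro i
    simp only [mul_assoc, ← AddChar.map_add_eq_mul, ← Finset.mul_sum]
    have e1 : ∀ k : ZMod N, -(k * i) + k * l = k * (l - i) := fun k => by ring
    simp only [e1, AddChar.sum_mulShift _ (ZMod.isPrimitive_stdAddChar N), ZMod.card, sub_eq_zero,
      eq_comm (a := l)]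
    split_ifs <;> simp [mul_comm]
  simp only [key, Finset.sum_ite_eq', Finset.mem_univ, if_true]

end Cfsg.Agent.Blocks.PairCyc
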