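import Cfsg.Agent.Lib.Blocks.PairCyclicTools
import Cfsg.Agent.Lib.Blocks.CyclicCount

/-!
# Cyclic Sylow subgroups: pairs of elements of order `p` in a simple group
-/

set_option autoImplicit false
set_option linter.style.haveILetI false
set_option linter.unusedSectionVars false

namespace Cfsg.Agent.Blocks.PairCyc

open Cfsg Cfsg.Agent.Char Cfsg.Agent.Blocks
open scoped ComplexConjugate

universe u

variable {p : ℕ} [hp : Fact p.Prime] {G : Type u} [Group G] [Fintype G]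

theorem mod_mem_Ico {a : ℕ} (ha : ¬ p ∣ a) : a % p ∈ Finset.Ico 1 p :=
  Finset.mem_Ico.2 ⟨Nat.one_le_iff_ne_zero.2 fun h => ha (Nat.dvd_of_mod_eq_zero h),
    Nat.mod_lt _ hp.out.pos⟩

theorem pow_mod_p {x : G} (hxo : orderOf x = p) (a : ℕ) : x ^ (a % p) = x ^ a := by
  rw [← hxo]; exact pow_mod_orderOf x a

theorem not_dvd_of_mem_Ico {l : ℕ} (hl : l ∈ Finset.Ico 1 p) : ¬ p ∣ l :=
  Nat.not_dvd_of_pos_of_lt (Finset.mem_Ico.1 hl).1 (Finset.mem_Ico.1 hl).2

theorem exists_inv_exp {x : G} (hxo : orderOf x = p) {l : ℕ} (hl : l ∈ Finset.Ico 1 p) :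
    ∃ i : ℕ, ¬ p ∣ i ∧ (x ^ l) ^ i = x := by
  obtain ⟨i, -, hi⟩ := Nat.exists_mul_mod_eq_one_of_coprime
    ((hp.out.coprime_iff_not_dvd).2 (not_dvd_of_mem_Ico hl)).symm hp.out.one_lt
  refine ⟨i, fun h => ?_, ?_⟩
  · rw [Nat.mod_eq_zero_of_dvd (dvd_mul_of_dvd_right h l)] at hi
    exact zero_ne_one hi
  · rw [← pow_mul, ← pow_mod_p hxo, hi, pow_one]

open scoped Classical in
/-- The products of two elements of order `p` in the sections of the powers of `x`. -/
theorem count {M : Ideal AlgInt} [M.IsPrime] (hM : IsPModular p M) {x : G} (hxo : orderOf x = p)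
    {C : Subgroup G} (hC : C = Subgroup.centralizer ({x} : Set G)) [Fintype C]
    (Nc : Subgroup C) [Nc.Normal]
    (hNc : ¬ p ∣ Nat.card Nc)
    (hreg : ∀ v : C, ¬ p ∣ orderOf v → v ∈ Nc)
    (K : Finset G) (hK : ∀ g h : G, h ∈ K → g * h * g⁻¹ ∈ K)
    (B : Finset (IrrCharacter G)) (hB : ∀ χ, χ ∈ B ↔ χ ∈ principalBlock M G)
    (c : IrrCharacter G → ℝ)
    (hS : ∀ χ ∈ B, ∑ l ∈ Finset.Ico 1 p, (χ : G → ℂ) (x ^ l) = ((p - 1 : ℕ) : ℂ) * (c χ : ℂ))
    (hKsum : ∀ χ ∈ B, ∑ a ∈ K, (χ : G → ℂ) a = (K.card : ℂ) * (c χ : ℂ))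
    (Nz : Finset G) (hNz : ∀ u, u ∈ Nz ↔ ∃ l ∈ Finset.Ico 1 p, u * x * u⁻¹ = x ^ l)
    (hsum : (Nat.card Nc : ℝ) * (((p - 1 : ℕ) : ℝ) * ∑ χ ∈ B, c χ ^ 2) = (Nz.card : ℝ))
    (hsing : ∀ a ∈ K, ∀ b ∈ K, p ∣ orderOf (a * b) → ∃ y, IsPPart p (a * b) y ∧
      ∃ u, ∃ l ∈ Finset.Ico 1 p, u * x ^ l * u⁻¹ = y) :
    (Nz.card : ℝ) * (((K ×ˢ K).filter fun ab : G × G => p ∣ orderOf (ab.1 * ab.2)).card : ℝ) ≤
      (Nat.card Nc : ℝ) * ((p - 1 : ℕ) : ℝ) * ((K.card : ℝ) ^ 2 *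
        ∑ χ ∈ B, c χ ^ 3 / (charDegree (χ : G → ℂ) : ℝ)) := by
  have hcent : ∀ l ∈ Finset.Ico 1 p, C = Subgroup.centralizer ({x ^ l} : Set G) := by
    intro l hl
    obtain ⟨i, -, hi⟩ := exists_inv_exp hxo hl
    ext g
    simp only [hC, Subgroup.mem_centralizer_singleton_iff]
    constructor
    · intro h; exact ((show Commute g x from h).pow_right l).eq
    · intro h
      have := ((show Commute g (x ^ l) from h).pow_right i).eq
      rwa [hi] at this
  have hlp : ∀ l ∈ Finset.Ico 1 p, ∃ k, orderOf (x ^ l) = p ^ k := fun l _ => by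
    obtain ⟨i, -, hi⟩ := (Nat.dvd_prime_pow hp.out).1
      (show orderOf (x ^ l) ∣ p ^ 1 by rw [pow_one, ← hxo]; exact orderOf_pow_dvd l)
    exact ⟨i, hi⟩
  have hsec : ∀ l ∈ Finset.Ico 1 p, ∀ v : Nc, IsPPart p (x ^ l * ((v : C) : G)) (x ^ l) := by
    intro l hl v
    refine ⟨((v : C) : G), rfl, ?_, hlp l hl, ?_⟩
    · have h := (hcent l hl).le (v : C).2
      exact (Subgroup.mem_centralizer_singleton_iff.1 h).symm
    · rw [Subgroup.orderOf_coe]
      exact fun h => hNc (h.trans (Subgroup.orderOf_dvd_natCard Nc v.2))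
  set I := Finset.Ico 1 p ×ˢ (Finset.univ : Finset Nc) with hI
  let val : ℕ × Nc → G := fun t => x ^ t.1 * ((t.2 : C) : G)
  let A : IrrCharacter G → ℂ := fun χ => ∑ t ∈ I, (χ : G → ℂ) (val t)
  have hIcard : I.card = (p - 1) * Nat.card Nc := by
    rw [hI, Finset.card_product, Nat.card_Ico, Finset.card_univ, Nat.card_eq_fintype_card]
  have hAin : ∀ χ ∈ B, A χ = (Nat.card Nc : ℂ) * (((p - 1 : ℕ) : ℂ) * (c χ : ℂ)) := by
    intro χ hχ
    rw [← hS χ hχ, Finset.mul_sum]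
    show ∑ t ∈ I, _ = _
    rw [hI, Finset.sum_product]
    refine Finset.sum_congr rfl fun l hl => ?_
    rw [Finset.sum_congr rfl fun (v : Nc) _ => irr_section_of_kernel hM (hlp l hl) (hcent l hl)
      ((hB χ).1 hχ) Nc hNc (v := (v : C)) v.2, Finset.sum_const, Finset.card_univ,
      ← Nat.card_eq_fintype_card, nsmul_eq_mul]
  -- the sections lie over the normaliser
  have hNzmem : ∀ (u : G) (l l' : ℕ), l ∈ Finset.Ico 1 p → l' ∈ Finset.Ico 1 p →
      u * x ^ l' * u⁻¹ = x ^ l → u ∈ Nz := by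
    intro u l l' hl hl' h
    obtain ⟨i, hi', hi⟩ := exists_inv_exp hxo hl'
    refine (hNz u).2 ⟨(l * i) % p, mod_mem_Ico fun hd => ?_, ?_⟩
    · exact ((Nat.Prime.dvd_mul hp.out).1 hd).elim (not_dvd_of_mem_Ico hl) hi'
    · rw [pow_mod_p hxo, pow_mul, ← h, conj_pow, hi]
  -- the inner products
  have hcount : ∀ t' ∈ I, ∑ t ∈ I,
      (Finset.univ.filter fun u : G => u * val t' * u⁻¹ = val t).card ≤ Nz.card := by
    rintro ⟨l', v'⟩ ht'
    have hl' : l' ∈ Finset.Ico 1 p := (Finset.mem_product.1 ht').1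
    rw [← Finset.card_sigma]
    refine Finset.card_le_card_of_injOn (fun tu => tu.2) ?_ ?_
    · rintro ⟨⟨l, v⟩, u⟩ htu
      simp only [Finset.mem_coe, Finset.mem_sigma, Finset.mem_filter] at htu
      have hl : l ∈ Finset.Ico 1 p := (Finset.mem_product.1 htu.1).1
      have h1 := IsPPart.conj (hsec l' hl' v') u
      rw [show u * (x ^ l' * ((v' : C) : G)) * u⁻¹ = x ^ l * ((v : C) : G) from htu.2.2] at h1
      exact hNzmem u l l' hl hl' (isPPart_unique hp.out h1 (hsec l hl v))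
    · rintro ⟨⟨l, v⟩, u⟩ h1 ⟨⟨l₂, v₂⟩, u₂⟩ h2 (rfl : u = u₂)
      simp only [Finset.mem_coe, Finset.mem_sigma, Finset.mem_filter] at h1 h2
      have hl : l ∈ Finset.Ico 1 p := (Finset.mem_product.1 h1.1).1
      have hl₂ : l₂ ∈ Finset.Ico 1 p := (Finset.mem_product.1 h2.1).1
      have he : x ^ l * ((v : C) : G) = x ^ l₂ * ((v₂ : C) : G) := h1.2.2.symm.trans h2.2.2
      have hxl := isPPart_unique hp.out (hsec l hl v) (he ▸ hsec l₂ hl₂ v₂)
      have hll : l = l₂ := pow_injOn_Iio_orderOf (x := x)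
        (by rw [Set.mem_Iio, hxo]; exact (Finset.mem_Ico.1 hl).2)
        (by rw [Set.mem_Iio, hxo]; exact (Finset.mem_Ico.1 hl₂).2) hxl
      subst hll
      obtain rfl : v = v₂ := Subtype.ext (Subtype.ext (mul_left_cancel he))
      rfl
  have hPar : ∑ χ : IrrCharacter G, Complex.normSq (A χ) ≤
      (((p - 1) * Nat.card Nc * Nz.card : ℕ) : ℝ) := by
    have e : (∑ χ : IrrCharacter G, Complex.normSq (A χ)) = ((∑ t' ∈ I, ∑ t ∈ I,
        (Finset.univ.filter fun u : G => u * val t' * u⁻¹ = val t).card : ℕ) : ℝ) := by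
      apply Complex.ofReal_injective
      push_cast
      simp only [← Complex.mul_conj, ← column_orth_count]
      have e1 : ∀ χ : IrrCharacter G, A χ * conj (A χ) =
          ∑ t' ∈ I, ∑ t ∈ I, (χ : G → ℂ) (val t) * conj ((χ : G → ℂ) (val t')) := fun χ => by
        rw [map_sum, Finset.mul_sum]
        exact Finset.sum_congr rfl fun w _ => Finset.sum_mul _ _ _
      simp only [e1]
      rw [Finset.sum_comm]
      exact Finset.sum_congr rfl fun t' _ => Finset.sum_comm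
    rw [e, Nat.cast_le]
    calc _ ≤ ∑ _t' ∈ I, Nz.card := Finset.sum_le_sum hcount
      _ = _ := by rw [Finset.sum_const, hIcard, smul_eq_mul]
  have hAout : ∀ χ, χ ∉ B → A χ = 0 := by
    intro χ hχ
    have h2 : ∑ ψ ∈ B, Complex.normSq (A ψ) = (((p - 1) * Nat.card Nc * Nz.card : ℕ) : ℝ) := by
      rw [Finset.sum_congr rfl fun ψ hψ => by rw [hAin ψ hψ, Complex.normSq_mul, Complex.normSq_mul,
        Complex.normSq_natCast, Complex.normSq_natCast, Complex.normSq_ofReal]]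
      rw [← Finset.mul_sum, ← Finset.mul_sum, Nat.cast_mul, Nat.cast_mul, ← hsum]
      simp only [sq]
      ring
    rw [← Finset.sum_add_sum_compl B, h2] at hPar
    have h3 : ∑ ψ ∈ Bᶜ, Complex.normSq (A ψ) = 0 := le_antisymm (by linarith)
      (Finset.sum_nonneg fun ψ _ => Complex.normSq_nonneg _)
    exact Complex.normSq_eq_zero.1
      ((Finset.sum_eq_zero_iff_of_nonneg fun ψ _ => Complex.normSq_nonneg _).1 h3 χ
        (Finset.mem_compl.2 hχ))
  -- the weights of the products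
  let W : G → ℕ := fun h =>
    ∑ t ∈ I, (Finset.univ.filter fun u : G => u * val t * u⁻¹ = h).card
  have hW : ∀ a ∈ K, ∀ b ∈ K, p ∣ orderOf (a * b) → Nz.card ≤ W (a * b) := by
    intro a ha b hb hd
    obtain ⟨y, hy, u₀, l₀, hl₀, hu₀⟩ := hsing a ha b hb hd
    show _ ≤ ∑ t ∈ I, _
    rw [← Finset.card_sigma]
    refine Finset.card_le_card_of_surjOn (fun tu => tu.2⁻¹ * u₀) ?_
    intro w hw
    obtain ⟨j, hj, hwx⟩ := (hNz w).1 hw
    set u := u₀ * w⁻¹ with hu
    set l := (j * l₀) % p with hl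
    have hlI : l ∈ Finset.Ico 1 p := mod_mem_Ico fun hd =>
      ((Nat.Prime.dvd_mul hp.out).1 hd).elim (not_dvd_of_mem_Ico hj) (not_dvd_of_mem_Ico hl₀)
    have hxl : w * x ^ l₀ * w⁻¹ = x ^ l := by
      rw [hl, pow_mod_p hxo, pow_mul, ← hwx, conj_pow]
    have huy : u⁻¹ * y * u = x ^ l := by
      rw [← hu₀, ← hxl, hu]; group
    obtain ⟨z, hz, hzc, -, hzr⟩ := IsPPart.conj hy u⁻¹
    rw [inv_inv, huy] at hz hzc
    have hzC : z ∈ C := (hcent l hlI).ge (Subgroup.mem_centralizer_singleton_iff.2 hzc.eq.symm)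
    let v : Nc := ⟨⟨z, hzC⟩, hreg _ (by rw [← Subgroup.orderOf_coe]; exact hzr)⟩
    refine ⟨⟨(l, v), u⟩, ?_, ?_⟩
    · simp only [Finset.mem_coe, Finset.mem_sigma, Finset.mem_filter, Finset.mem_univ, true_and]
      refine ⟨Finset.mem_product.2 ⟨hlI, Finset.mem_univ _⟩, ?_⟩
      show u * (x ^ l * z) * u⁻¹ = a * b
      rw [hz]; group
    · show u⁻¹ * u₀ = w
      rw [hu]; group
  set T := (K ×ˢ K).filter fun ab : G × G => p ∣ orderOf (ab.1 * ab.2) with hT
  have hlow : Nz.card * T.card ≤ ∑ ab ∈ K ×ˢ K, W (ab.1 * ab.2) := by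
    calc Nz.card * T.card = ∑ _ab ∈ T, Nz.card := by rw [Finset.sum_const, smul_eq_mul, mul_comm]
      _ ≤ ∑ ab ∈ T, W (ab.1 * ab.2) := Finset.sum_le_sum fun ab hab => by
          obtain ⟨h1, h2⟩ := Finset.mem_filter.1 hab
          exact hW _ (Finset.mem_product.1 h1).1 _ (Finset.mem_product.1 h1).2 h2
      _ ≤ _ := Finset.sum_le_sum_of_subset (Finset.filter_subset _ _)
  have hid : ((∑ ab ∈ K ×ˢ K, W (ab.1 * ab.2) : ℕ) : ℝ) =
      (Nat.card Nc : ℝ) * ((p - 1 : ℕ) : ℝ) * ((K.card : ℝ) ^ 2 *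
        ∑ χ ∈ B, c χ ^ 3 / (charDegree (χ : G → ℂ) : ℝ)) := by
    apply Complex.ofReal_injective
    simp only [W]
    push_cast
    simp only [← column_orth_count]
    have e1 : ∀ χ : IrrCharacter G,
        ∑ ab ∈ K ×ˢ K, ∑ t ∈ I, (χ : G → ℂ) (ab.1 * ab.2) * conj ((χ : G → ℂ) (val t)) =
        conj (A χ) * ((∑ a ∈ K, (χ : G → ℂ) a) ^ 2 / (χ : G → ℂ) 1) := fun χ => by
      rw [← sum_invariant_pairs χ K hK, map_sum, Finset.sum_mul_sum]
      rw [Finset.sum_comm]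
      exact Finset.sum_congr rfl fun t _ => Finset.sum_congr rfl fun ab _ => mul_comm _ _
    rw [Finset.sum_congr rfl fun ab _ => Finset.sum_comm, Finset.sum_comm]
    simp only [e1]
    rw [← Finset.sum_add_sum_compl B, Finset.sum_eq_zero (s := Bᶜ) (fun χ hχ => by
      rw [hAout χ (Finset.mem_compl.1 hχ), map_zero, zero_mul]), add_zero, Finset.mul_sum,
      Finset.mul_sum]
    refine Finset.sum_congr rfl fun χ hχ => ?_
    rw [hAin χ hχ, hKsum χ hχ, irr_one_eq_charDegree, map_mul, map_mul, map_natCast, map_natCast,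
      Complex.conj_ofReal]
    ring
  rw [← hid]
  exact_mod_cast hlow

/-- A simple group with a cyclic Sylow `p`-subgroup, `p`-solvable centralizers of elements of order
`p` and `p`-solvable pairs of such elements does not exist for odd `p` dividing the order. -/
theorem main [IsSimpleGroup G] (hG : ¬ ∀ a b : G, a * b = b * a) (hp2 : p ≠ 2)
    (hpG : p ∣ Nat.card G) (P : Sylow p G) (hP : IsCyclic (P : Subgroup G))
    (hcent : ∀ y : G, orderOf y = p → IsPSolvable p ↥(Subgroup.centralizer ({y} : Set G)))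
    (hpairs : ∀ a b : G, orderOf a = p → orderOf b = p →
      IsPSolvable p ↥(Subgroup.closure ({a, b} : Set G))) : False := by
  classical
  haveI := hP
  haveI : IsMulCommutative (P : Subgroup G) := inferInstance
  have hPab : ∀ u ∈ (P : Subgroup G), ∀ v ∈ (P : Subgroup G), u * v = v * u := fun u hu v hv =>
    congrArg Subtype.val (IsMulCommutative.is_comm.comm (⟨u, hu⟩ : (P : Subgroup G)) ⟨v, hv⟩)
  have hab : ∀ Q : Subgroup G, IsPGroup p Q → ∀ u ∈ Q, ∀ v ∈ Q, u * v = v * u := by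
    intro Q hQ u hu v hv
    obtain ⟨R, hR⟩ := hQ.exists_le_sylow
    obtain ⟨g, rfl⟩ := MulAction.exists_smul_eq G P R
    obtain ⟨u', hu', rfl⟩ := hR hu
    obtain ⟨v', hv', rfl⟩ := hR hv
    show MulAut.conj g u' * MulAut.conj g v' = MulAut.conj g v' * MulAut.conj g u'
    rw [← map_mul, ← map_mul, hPab u' hu' v' hv']
  -- the Sylow subgroup
  obtain ⟨n', hn'⟩ := IsPGroup.iff_card.1 P.2
  obtain ⟨n, rfl⟩ : ∃ n, n' = n + 1 := Nat.exists_eq_succ_of_ne_zero fun h => by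
    have h1 := P.pow_dvd_card_of_pow_dvd_card (n := 1) (by rwa [pow_one])
    rw [hn', h, pow_zero, pow_one, Nat.dvd_one] at h1
    exact hp.out.ne_one h1
  haveI : NeZero (p ^ (n + 1)) := ⟨pow_ne_zero _ hp.out.ne_zero⟩
  obtain ⟨e⟩ : Nonempty (Multiplicative (ZMod (p ^ (n + 1))) ≃* (P : Subgroup G)) :=
    hn' ▸ ⟨zmodCyclicMulEquiv hP⟩
  let φ : ZMod (p ^ (n + 1)) → G := fun i => (e (Multiplicative.ofAdd i) : G)
  have hφmem : ∀ i, φ i ∈ (P : Subgroup G) := fun i => (e (Multiplicative.ofAdd i)).2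
  have hφsurj : ∀ g ∈ (P : Subgroup G), ∃ i, φ i = g := fun g hg =>
    ⟨Multiplicative.toAdd (e.symm ⟨g, hg⟩), by simp [φ]⟩
  have hφinj : Function.Injective φ := fun i j h =>
    Multiplicative.ofAdd.injective (e.injective (Subtype.ext h))
  have hφ0 : φ 0 = 1 := by simp [φ]
  have hφpow : ∀ (i : ZMod (p ^ (n + 1))) (k : ℕ), φ i ^ k = φ ((k : ZMod (p ^ (n + 1))) * i) := by
    intro i k
    simp [φ, ← nsmul_eq_mul, ofAdd_nsmul, map_pow]
  set x₀ := ((p ^ n : ℕ) : ZMod (p ^ (n + 1))) with hx₀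
  set x := φ x₀ with hx
  have hx₀0 : x₀ ≠ 0 := fun h => by
    have := mul_top_inj (p := p) (n := n) hp.out.one_lt hp.out.pos
      (by rw [← hx₀, h, mul_zero, mul_zero])
    exact one_ne_zero this
  have hxo : orderOf x = p := orderOf_eq_prime
    (by rw [hx, hφpow, hx₀, top_mul_prime, hφ0]) fun h => hx₀0 (hφinj (h.trans hφ0.symm))
  have hxl : ∀ l : ℕ, x ^ l = φ ((l : ZMod (p ^ (n + 1))) * x₀) := fun l => hφpow x₀ l
  have hpord : ∀ g : G, orderOf g = p → ∃ u, ∃ l ∈ Finset.Ico 1 p, u * x ^ l * u⁻¹ = g := by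
    intro g hg
    have hQ : IsPGroup p (Subgroup.zpowers g) :=
      IsPGroup.of_card (n := 1) (by rw [Nat.card_zpowers, hg, pow_one])
    obtain ⟨R, hR⟩ := hQ.exists_le_sylow
    obtain ⟨u, rfl⟩ := MulAction.exists_smul_eq G P R
    obtain ⟨g', hg', hgu⟩ := hR (Subgroup.mem_zpowers g)
    change u * g' * u⁻¹ = g at hgu
    obtain ⟨i, rfl⟩ := hφsurj g' hg'
    have hpi : (p : ZMod (p ^ (n + 1))) * i = 0 := hφinj (by
      have h1 : (u * φ i * u⁻¹) ^ p = 1 := by rw [hgu, ← hg, pow_orderOf_eq_one]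
      rw [conj_pow, hφpow, conj_eq_one_iff] at h1
      rw [h1, hφ0])
    obtain ⟨j, hj, rfl⟩ := exists_top_of_torsion hpi
    refine ⟨u, j, Finset.mem_Ico.2 ⟨Nat.one_le_iff_ne_zero.2 fun h => ?_, hj⟩, by rw [hxl, hgu]⟩
    subst h
    rw [Nat.cast_zero, zero_mul, hφ0, mul_one, mul_inv_cancel] at hgu
    rw [← hgu, orderOf_one] at hg
    exact hp.out.ne_one hg.symm
  -- the centralizer
  set C := Subgroup.centralizer ({x} : Set G) with hC
  have hPC : ∀ i, (P : Subgroup G) ≤ Subgroup.centralizer ({φ i} : Set G) := fun i u hu =>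
    Subgroup.mem_centralizer_singleton_iff.2 (hPab u hu _ (hφmem i))
  haveI : Fintype C := Fintype.ofFinite _
  obtain ⟨Nc, hNn, hNp, k, hidx⟩ := exists_complement hp2 (hcent x hxo) (P.subtype (hPC x₀))
    (by
      rw [Sylow.coe_subtype]
      exact (Subgroup.subgroupOfEquivOfLe (hPC x₀)).isCyclic.2 hP)
    (z := (⟨x, hPC x₀ (hφmem x₀)⟩ : C)) (by rw [← Subgroup.orderOf_coe, hxo])
    (Subgroup.mem_center_iff.2 fun g =>
      Subtype.ext (Subgroup.mem_centralizer_singleton_iff.1 g.2))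
  haveI := hNn
  have hCcard : Nat.card C = p ^ k * Nat.card Nc := by rw [← Nc.index_mul_card, hidx]
  have hk : p ^ k = p ^ (n + 1) := by
    refine Nat.dvd_antisymm ?_ ?_
    · rw [← hn']
      exact P.pow_dvd_card_of_pow_dvd_card
        ((hCcard ▸ dvd_mul_right _ _ : p ^ k ∣ Nat.card C).trans (Subgroup.card_subgroup_dvd_card C))
    · have h1 : p ^ (n + 1) ∣ p ^ k * Nat.card Nc :=
        hCcard ▸ hn' ▸ Subgroup.card_dvd_of_le (hPC x₀)
      exact (Nat.Coprime.pow_left _ ((hp.out.coprime_iff_not_dvd).2 hNp)).dvd_of_dvd_mul_right h1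
  have hreg : ∀ v : C, ¬ p ∣ orderOf v → v ∈ Nc := fun v hv => by
    rw [← QuotientGroup.eq_one_iff, ← orderOf_eq_one_iff]
    exact Nat.eq_one_of_dvd_coprimes
      (Nat.Coprime.pow_right k ((hp.out.coprime_iff_not_dvd).2 hv).symm)
      (orderOf_map_dvd (QuotientGroup.mk' Nc) v) (hidx ▸ orderOf_dvd_natCard _)
  have hNcP : ∀ v ∈ Nc, (v : G) ∈ (P : Subgroup G) → v = 1 := fun v hv hvP => by
    obtain ⟨i, hi⟩ := P.2 ⟨(v : G), hvP⟩
    obtain ⟨i', -, hi'⟩ := (Nat.dvd_prime_pow hp.out).1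
      (orderOf_dvd_of_pow_eq_one (congrArg Subtype.val hi : (v : G) ^ p ^ i = 1))
    rw [← orderOf_eq_one_iff]
    refine Nat.eq_one_of_dvd_coprimes ((hp.out.coprime_iff_not_dvd.2 hNp).pow_left i') ?_
      (Subgroup.orderOf_dvd_natCard Nc hv)
    rw [← Subgroup.orderOf_coe, hi']
  -- an element of the normaliser fixing `x` fixes the Sylow subgroup
  let f : (P : Subgroup G) →* C ⧸ Nc :=
    (QuotientGroup.mk' Nc).comp (Subgroup.inclusion (hPC x₀))
  have hfi : Function.Injective f := (injective_iff_map_eq_one f).2 fun a ha =>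
    Subtype.ext (congrArg Subtype.val (hNcP _ ((QuotientGroup.eq_one_iff _).1 ha) a.2) :)
  have hfs : Function.Surjective f := by
    haveI : Fintype (C ⧸ Nc) := Fintype.ofFinite _
    haveI : Fintype (P : Subgroup G) := Fintype.ofFinite _
    refine ((Fintype.bijective_iff_injective_and_card f).2 ⟨hfi, ?_⟩).2
    rw [← Nat.card_eq_fintype_card, ← Nat.card_eq_fintype_card, hn', ← hk, ← hidx, Subgroup.index]
  have hfix : ∀ g ∈ Subgroup.normalizer ((P : Subgroup G) : Set G), g * x * g⁻¹ = x →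
      g * φ 1 * g⁻¹ = φ 1 := by
    intro g hg hgx
    have hgC : g ∈ C := Subgroup.mem_centralizer_singleton_iff.2 (mul_inv_eq_iff_eq_mul.1 hgx)
    have hmem : g * φ 1 * g⁻¹ ∈ (P : Subgroup G) :=
      (Subgroup.mem_normalizer_iff.1 hg _).1 (hφmem 1)
    have key : f ⟨g * φ 1 * g⁻¹, hmem⟩ = f ⟨φ 1, hφmem 1⟩ := by
      obtain ⟨q, hq⟩ := hfs (QuotientGroup.mk (⟨g, hgC⟩ : C))
      have e1 : f ⟨g * φ 1 * g⁻¹, hmem⟩ = f q * f ⟨φ 1, hφmem 1⟩ * (f q)⁻¹ := by
        rw [hq]; rfl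
      rw [e1, ← map_mul, ← map_inv, ← map_mul]
      congr 1
      rw [mul_comm' q ⟨φ 1, hφmem 1⟩, mul_inv_cancel_right]
    exact congrArg Subtype.val (hfi key)
  -- fusion
  set E : Finset (ZMod (p ^ (n + 1))) := Finset.univ.filter fun σ =>
    ∃ g ∈ Subgroup.normalizer ((P : Subgroup G) : Set G), g * φ 1 * g⁻¹ = φ σ with hEdef
  have hact : ∀ (g : G) σ, g * φ 1 * g⁻¹ = φ σ → ∀ i, g * φ i * g⁻¹ = φ (σ * i) := by
    intro g σ hg i
    have h1 : φ i = φ 1 ^ i.val := by rw [hφpow, mul_one, ZMod.natCast_zmod_val]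
    rw [h1, ← conj_pow, hg, hφpow, ZMod.natCast_zmod_val, mul_comm]
  have hEne : ∀ σ ∈ E, ∀ i, σ * i = 0 → i = 0 := by
    intro σ hσ i hi
    obtain ⟨g, -, hg⟩ := (Finset.mem_filter.1 hσ).2
    have := hact g σ hg i
    rw [hi, hφ0, conj_eq_one_iff, ← hφ0] at this
    exact hφinj this
  have hinjx : ∀ σ ∈ E, ∀ τ ∈ E, σ * x₀ = τ * x₀ → σ = τ := by
    intro σ hσ τ hτ h
    obtain ⟨g, hgN, hg⟩ := (Finset.mem_filter.1 hσ).2
    obtain ⟨g', hgN', hg'⟩ := (Finset.mem_filter.1 hτ).2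
    have hxx : g'⁻¹ * g * x * (g'⁻¹ * g)⁻¹ = x := by
      calc g'⁻¹ * g * x * (g'⁻¹ * g)⁻¹ = g'⁻¹ * (g * x * g⁻¹) * g' := by group
        _ = x := by rw [hx, hact g σ hg, h, ← hact g' τ hg']; group
    have h1 := hfix _ (mul_mem (inv_mem hgN') hgN) hxx
    apply hφinj
    rw [← hg, ← hg']
    calc g * φ 1 * g⁻¹ = g' * (g'⁻¹ * g * φ 1 * (g'⁻¹ * g)⁻¹) * g'⁻¹ := by group
      _ = g' * φ 1 * g'⁻¹ := by rw [h1]
  have hinj : ∀ k : ZMod (p ^ (n + 1)), k ≠ 0 → ∀ σ ∈ E, ∀ τ ∈ E, σ * k = τ * k → σ = τ := by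
    intro k hk σ hσ τ hτ h
    obtain ⟨j, hj⟩ := exists_mul_eq_top hk
    refine hinjx σ hσ τ hτ ?_
    rw [hx₀, ← hj, mul_left_comm, h, mul_left_comm]
  have hone : (1 : ZMod (p ^ (n + 1))) ∈ E :=
    Finset.mem_filter.2 ⟨Finset.mem_univ _, 1, one_mem _, by rw [one_mul, inv_one, mul_one]⟩
  have hfus : ∀ i j, IsConj (φ i) (φ j) → ∃ σ ∈ E, σ * i = j := by
    intro i j h
    obtain ⟨g, hg⟩ := isConj_iff.1 h
    obtain ⟨m, hmN, hm⟩ := P.conj_eq_normalizer_conj_of_mem (φ i) g⁻¹ (hφmem i)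
      (by rw [inv_inv, hg]; exact hφmem j)
    rw [inv_inv, hg] at hm
    have hmN' : m⁻¹ ∈ Subgroup.normalizer ((P : Subgroup G) : Set G) := inv_mem hmN
    obtain ⟨σ, hσ⟩ := hφsurj _ ((Subgroup.mem_normalizer_iff.1 hmN' (φ 1)).1 (hφmem 1))
    refine ⟨σ, Finset.mem_filter.2 ⟨Finset.mem_univ _, m⁻¹, hmN', hσ.symm⟩, hφinj ?_⟩
    rw [hm, ← hact m⁻¹ σ hσ.symm i, inv_inv]
  have hEconj : ∀ σ ∈ E, ∀ i, IsConj (φ i) (φ (σ * i)) := fun σ hσ i => by
    obtain ⟨g, -, hg⟩ := (Finset.mem_filter.1 hσ).2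
    exact isConj_iff.2 ⟨g, hact g σ hg i⟩
  -- the powers of `x` conjugate to `x`
  set L := (Finset.Ico 1 p).filter fun l => IsConj x (x ^ l) with hL
  have hEL : E.card = L.card := by
    refine Finset.card_bij (fun σ _ => σ.val % p) ?_ ?_ ?_
    · intro σ hσ
      have e1 : x ^ (σ.val % p) = φ (σ * x₀) := by
        rw [hxl, hx₀, ← mul_top_eq, ZMod.natCast_zmod_val]
      refine Finset.mem_filter.2 ⟨Finset.mem_Ico.2 ⟨Nat.one_le_iff_ne_zero.2 fun h => ?_,
        Nat.mod_lt _ hp.out.pos⟩, e1 ▸ hEconj σ hσ x₀⟩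
      rw [h, pow_zero, ← hφ0] at e1
      exact hx₀0 (hEne σ hσ x₀ (hφinj e1).symm)
    · intro σ hσ τ hτ h
      refine hinjx σ hσ τ hτ ?_
      rw [← ZMod.natCast_zmod_val σ, ← ZMod.natCast_zmod_val τ, hx₀, mul_top_eq, h, ← mul_top_eq]
    · intro l hl
      obtain ⟨hl, hc⟩ := Finset.mem_filter.1 hl
      rw [hxl] at hc
      obtain ⟨σ, hσ, hσl⟩ := hfus _ _ hc
      refine ⟨σ, hσ, mul_top_inj (n := n) (Nat.mod_lt _ hp.out.pos) (Finset.mem_Ico.1 hl).2 ?_⟩
      rw [← mul_top_eq, ZMod.natCast_zmod_val, ← hx₀, hσl]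
  have hEp : E.card ≤ p - 1 := by
    rw [hEL, ← Nat.card_Ico 1 p]
    exact Finset.card_filter_le _ _
  have hE2 : 2 ≤ E.card := by
    by_contra hlt
    have hall : ∀ σ ∈ E, σ = 1 := fun σ hσ =>
      Finset.card_le_one.1 (by omega) σ hσ 1 hone
    have hNC : Subgroup.normalizer ((P : Subgroup G) : Set G) ≤
        Subgroup.centralizer ((P : Subgroup G) : Set G) := by
      intro g hg
      obtain ⟨σ, hσ⟩ := hφsurj _ ((Subgroup.mem_normalizer_iff.1 hg (φ 1)).1 (hφmem 1))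
      have hσ1 := hall σ (Finset.mem_filter.2 ⟨Finset.mem_univ _, g, hg, hσ.symm⟩)
      refine Subgroup.mem_centralizer_iff.2 fun a ha => ?_
      obtain ⟨i, rfl⟩ := hφsurj a ha
      have := hact g σ hσ.symm i
      rw [hσ1, one_mul] at this
      exact (mul_inv_eq_iff_eq_mul.1 this).symm
    have hc := MonoidHom.ker_transferSylow_isComplement' P hNC
    rcases (MonoidHom.normal_ker (MonoidHom.transferSylow P hNC)).eq_bot_or_eq_top with hb | ht
    · rw [hb] at hc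
      have := Subgroup.isComplement'_bot_left.1 hc
      exact hG fun a b => hPab a (this ▸ Subgroup.mem_top a) b (this ▸ Subgroup.mem_top b)
    · rw [ht] at hc
      have := Subgroup.isComplement'_top_left.1 hc
      exact hx₀0 (hφinj ((Subgroup.mem_bot.1 (this ▸ hφmem x₀)).trans hφ0.symm))
  -- the principal block
  obtain ⟨M, hM⟩ := GlaubermanMod.exists_isPModular p
  haveI : M.IsPrime := hM.2.1.isPrime
  set B := Finset.univ.filter (· ∈ principalBlock M G) with hB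
  have hmemB : ∀ χ, χ ∈ B ↔ χ ∈ principalBlock M G := fun χ => by simp [hB]
  have hppart : ∀ i, ∃ k, orderOf (φ i) = p ^ k := fun i => by
    obtain ⟨j, hj⟩ := P.2 ⟨φ i, hφmem i⟩
    obtain ⟨j', -, hj'⟩ := (Nat.dvd_prime_pow hp.out).1
      (orderOf_dvd_of_pow_eq_one (congrArg Subtype.val hj : φ i ^ p ^ j = 1))
    exact ⟨j', hj'⟩
  have hpairB : ∀ i j : ZMod (p ^ (n + 1)), i ≠ 0 → j ≠ 0 →
      ∑ χ ∈ B, (χ : G → ℂ) (φ i) * conj ((χ : G → ℂ) (φ j)) =
        ((p ^ (n + 1) : ℕ) : ℂ) * ((E.filter fun σ => σ * i = j).card : ℂ) := by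
    intro i j hi hj
    by_cases hc : IsConj (φ i) (φ j)
    swap
    · rw [show E.filter (fun σ => σ * i = j) = ∅ from Finset.filter_eq_empty_iff.2 fun σ hσ h =>
        hc (h ▸ hEconj σ hσ i), Finset.card_empty,
        Nat.cast_zero, mul_zero,
        ← blockPair_eq_zero_of_pPart hM (isPBlock_principalBlock M G)
          (⟨1, mul_one _, Commute.one_right _, hppart i, by simpa using hp.out.ne_one⟩ :
            IsPPart p (φ i) (φ i))
          (⟨1, mul_one _, Commute.one_right _, hppart j, by simpa using hp.out.ne_one⟩ :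
            IsPPart p (φ j) (φ j)) hc]
      unfold blockPair
      exact Finset.sum_congr (by ext; simp [hB]) fun _ _ => rfl
    obtain ⟨σ, hσ, hσi⟩ := hfus i j hc
    have hfil : E.filter (fun τ => τ * i = j) = {σ} := by
      ext τ
      simp only [Finset.mem_filter, Finset.mem_singleton]
      exact ⟨fun h => hinj i hi τ h.1 σ hσ (h.2.trans hσi.symm), fun h => h ▸ ⟨hσ, hσi⟩⟩
    rw [hfil, Finset.card_singleton, Nat.cast_one, mul_one]
    set D := Subgroup.centralizer ({φ i} : Set G) with hD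
    haveI : Fintype D := Fintype.ofFinite _
    have hDC : D ≤ C := fun g hg => by
      obtain ⟨q, hq⟩ := exists_mul_eq_top hi
      have hh : Commute g (φ i) := Subgroup.mem_centralizer_singleton_iff.1 hg
      have := hh.pow_right q.val
      rw [hφpow, ZMod.natCast_zmod_val, hq, ← hx₀] at this
      exact Subgroup.mem_centralizer_singleton_iff.2 this.eq
    let ι := (QuotientGroup.mk' Nc).comp (Subgroup.inclusion hDC)
    have hker : ¬ p ∣ Nat.card ι.ker := fun h => hNp (h.trans (by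
      have e : ι.ker = Nc.comap (Subgroup.inclusion hDC) := by
        rw [← MonoidHom.comap_ker, QuotientGroup.ker_mk']
      rw [e]
      exact Subgroup.card_comap_dvd_of_injective _ _ (Subgroup.inclusion_injective hDC)))
    have hkidx : ∃ m, ι.ker.index = p ^ m := by
      rw [Subgroup.index_ker]
      obtain ⟨m, -, hm⟩ := (Nat.dvd_prime_pow hp.out).1
        ((Subgroup.card_subgroup_dvd_card ι.range).trans (dvd_of_eq (show Nat.card (C ⧸ Nc) = p ^ k
          from hidx)))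
      exact ⟨m, hm⟩
    have hfacD : (Nat.card D).factorization p = n + 1 := by
      refine le_antisymm ?_ ?_
      · refine ((Nat.factorization_le_iff_dvd Nat.card_pos.ne' Nat.card_pos.ne').2
          (Subgroup.card_subgroup_dvd_card D) p).trans (le_of_eq ?_)
        exact Nat.pow_right_injective hp.out.two_le (P.card_eq_multiplicity.symm.trans hn')
      · exact (hp.out.pow_dvd_iff_le_factorization Nat.card_pos.ne').1
          (hn' ▸ Subgroup.card_dvd_of_le (hPC i))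
    have h := sum_normSq_section_principal (C := D) hM (hppart i) rfl
      (y := (1 : D)) (by simpa using hp.out.ne_one)
    rw [blockPair_principal_of_pComplement hM ι.ker hker hkidx (by simpa using hp.out.ne_one),
      OneMemClass.coe_one, mul_one, hfacD, blockPair] at h
    rw [← h]
    refine Finset.sum_congr (by ext; simp [hB]) fun χ _ => ?_
    rw [irr_isConj χ hc]
  -- multiplicities
  choose m hm hminv using fun χ : IrrCharacter G => exists_mult (P : Subgroup G) e χ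
  have hmE : ∀ χ, ∀ σ ∈ E, ∀ k, m χ (σ * k) = m χ k := by
    intro χ σ hσ k
    have hN : ((p ^ (n + 1) : ℕ) : ℂ) ≠ 0 := Nat.cast_ne_zero.2 (NeZero.ne _)
    have key : ((p ^ (n + 1) : ℕ) : ℂ) * (m χ (σ * k) : ℂ) =
        ((p ^ (n + 1) : ℕ) : ℂ) * (m χ k : ℂ) := by
      rw [hm, hm]
      have hbij : Function.Bijective (fun i : ZMod (p ^ (n + 1)) => σ * i) :=
        Finite.injective_iff_bijective.1 fun i j h =>
          sub_eq_zero.1 (hEne σ hσ _ (by rw [mul_sub, h, sub_self]))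
      refine Fintype.sum_bijective _ hbij _ _ fun i => ?_
      show (χ : G → ℂ) (φ i) * _ = (χ : G → ℂ) (φ (σ * i)) * _
      rw [irr_isConj χ (hEconj σ hσ i)]
      congr 2
      ring
    exact_mod_cast mul_left_cancel₀ hN key
  set χ₁ := Char.principal G with hχ₁
  have h1B : χ₁ ∈ B := (hmemB _).2 principal_mem_principalBlock
  have hm1 : ∀ k, m χ₁ k = if k = 0 then 1 else 0 := by
    intro k
    have h := hm χ₁ k
    have e1 : ∀ i : ZMod (p ^ (n + 1)),
        (χ₁ : G → ℂ) (e (Multiplicative.ofAdd i) : G) * ZMod.stdAddChar (-(k * i)) =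
          ZMod.stdAddChar (i * -k) := fun i => by
      rw [show (χ₁ : G → ℂ) (e (Multiplicative.ofAdd i) : G) = 1 from rfl, one_mul]; ring_nf
    rw [Finset.sum_congr rfl fun i _ => e1 i,
      AddChar.sum_mulShift _ (ZMod.isPrimitive_stdAddChar _), ZMod.card] at h
    have hN : ((p ^ (n + 1) : ℕ) : ℂ) ≠ 0 := Nat.cast_ne_zero.2 (NeZero.ne _)
    by_cases hk : k = 0
    · rw [if_pos (neg_eq_zero.2 hk)] at h
      rw [if_pos hk]
      exact_mod_cast (mul_eq_left₀ hN).1 h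
    · rw [if_neg (fun h' => hk (neg_eq_zero.1 h')), Nat.cast_zero] at h
      rw [if_neg hk]
      exact_mod_cast (mul_eq_zero.1 h).resolve_left hN
  have hGram : ∀ k l : ZMod (p ^ (n + 1)), k ≠ 0 → l ≠ 0 →
      ∑ χ ∈ B.erase χ₁, ((m χ 0 : ℝ) - m χ k) * ((m χ 0 : ℝ) - m χ l) =
        (E.card : ℝ) - 1 + ((E.filter fun σ => σ * l = k).card : ℝ) := by
    intro k l hk hl
    have h := gram B (fun χ i => (χ : G → ℂ) (φ i)) m hm E hpairB hEne hk hl
    rw [← Finset.add_sum_erase _ _ h1B, hm1, hm1, hm1, if_pos rfl, if_neg hk, if_neg hl] at h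
    push_cast at h
    linarith
  set Din : IrrCharacter G → ℕ := fun χ =>
    ∑ k ∈ Finset.univ.filter (fun k : ZMod (p ^ (n + 1)) => k * x₀ = 0), m χ k with hDin
  set Dout : IrrCharacter G → ℕ := fun χ =>
    ∑ k ∈ Finset.univ.filter (fun k : ZMod (p ^ (n + 1)) => ¬ k * x₀ = 0), m χ k with hDout
  set c : IrrCharacter G → ℝ := fun χ => (Din χ : ℝ) - (Dout χ : ℝ) / ((p : ℝ) - 1) with hc
  have hp1 : (0 : ℝ) < (p : ℝ) - 1 := by
    have : (2 : ℝ) ≤ p := by exact_mod_cast hp.out.two_le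
    linarith
  have hp1' : ((p - 1 : ℕ) : ℝ) = (p : ℝ) - 1 := by rw [Nat.cast_sub hp.out.one_le, Nat.cast_one]
  have hS : ∀ χ : IrrCharacter G, ∑ l ∈ Finset.Ico 1 p, (χ : G → ℂ) (x ^ l) =
      ((p - 1 : ℕ) : ℂ) * (c χ : ℂ) := by
    intro χ
    have h := sum_powers (m χ) (fun l => (χ : G → ℂ) (φ l)) (hminv χ)
    simp only [hxl]
    refine h.trans ?_
    have hne : ((p : ℂ) - 1) ≠ 0 := by exact_mod_cast hp1.ne'
    simp only [hc, hDin, hDout]
    rw [Nat.cast_sub hp.out.one_le, Nat.cast_one]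
    rw [hx₀]
    push_cast
    rw [mul_sub ((p : ℂ) - 1), mul_div_cancel₀ _ hne]
  have hdeg : ∀ χ : IrrCharacter G, charDegree (χ : G → ℂ) = ∑ k, m χ k := by
    intro χ
    have h := hminv χ 0
    rw [show (e (Multiplicative.ofAdd 0) : G) = 1 from hφ0, irr_one_eq_charDegree] at h
    simp only [mul_zero, AddChar.map_zero_eq_one, mul_one] at h
    exact_mod_cast h
  have hc1 : c χ₁ = 1 := by
    have h := hS χ₁
    have e1 : ∑ l ∈ Finset.Ico 1 p, (χ₁ : G → ℂ) (x ^ l) = ∑ l ∈ Finset.Ico 1 p, (1 : ℂ) :=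
      Finset.sum_congr rfl fun l _ => rfl
    rw [e1, Finset.sum_const,
      Nat.card_Ico, nsmul_eq_mul, mul_one, eq_comm] at h
    have := mul_eq_left₀ (Nat.cast_ne_zero.2 (show p - 1 ≠ 0 by have := hp.out.two_le; omega)) |>.1 h
    exact_mod_cast this
  set ρ : ℝ := (E.card : ℝ) * ((p ^ (n + 1) : ℕ) : ℝ) / ((p : ℝ) - 1) with hρ
  have hc2 : ∑ χ ∈ B, c χ ^ 2 = ρ := by
    have h : ∑ χ ∈ B, ((((p - 1 : ℕ) : ℝ) * c χ) ^ 2) =
        ((p - 1 : ℕ) : ℝ) * ((E.card : ℝ) * ((p ^ (n + 1) : ℕ) : ℝ)) := by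
      apply Complex.ofReal_injective
      rw [Complex.ofReal_sum]
      have e1 : ∀ χ : IrrCharacter G, (((((p - 1 : ℕ) : ℝ) * c χ) ^ 2 : ℝ) : ℂ) =
          (∑ l ∈ Finset.Ico 1 p, (χ : G → ℂ) (x ^ l)) *
            conj (∑ l ∈ Finset.Ico 1 p, (χ : G → ℂ) (x ^ l)) := fun χ => by
        rw [hS, map_mul, map_natCast, Complex.conj_ofReal]; push_cast; ring
      simp only [e1, map_sum, Finset.sum_mul_sum]
      rw [Finset.sum_comm]
      simp only [Finset.sum_comm (s := B)]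
      have hne : ∀ l ∈ Finset.Ico 1 p, (l : ZMod (p ^ (n + 1))) * x₀ ≠ 0 := fun l hl h => by
        have := mul_top_inj (j := 0) (n := n) (Finset.mem_Ico.1 hl).2 hp.out.pos
          (by rw [← hx₀, h, Nat.cast_zero, zero_mul])
        have := (Finset.mem_Ico.1 hl).1
        omega
      have e2 : ∀ l ∈ Finset.Ico 1 p, ∑ l' ∈ Finset.Ico 1 p,
          ∑ χ ∈ B, (χ : G → ℂ) (x ^ l) * conj ((χ : G → ℂ) (x ^ l')) =
          ((p ^ (n + 1) : ℕ) : ℂ) * (E.card : ℂ) := by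
        intro l hl
        rw [Finset.sum_congr rfl fun l' hl' => by
          rw [hxl, hxl, hpairB _ _ (hne l hl) (hne l' hl')], ← Finset.mul_sum]
        congr 1
        rw [← Nat.cast_sum, Nat.cast_inj]
        simp only [Finset.card_filter]
        rw [Finset.sum_comm, Finset.card_eq_sum_ones]
        refine Finset.sum_congr rfl fun σ hσ => ?_
        have hσl : σ * ((l : ZMod (p ^ (n + 1))) * x₀) =
            (((σ.val * l) % p : ℕ) : ZMod (p ^ (n + 1))) * x₀ := by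
          rw [hx₀, ← mul_top_eq, Nat.cast_mul, ZMod.natCast_zmod_val, mul_assoc]
        rw [Finset.sum_eq_single ((σ.val * l) % p)]
        · exact if_pos hσl
        · intro l' hl' hne'
          exact if_neg fun h => hne' (mul_top_inj (n := n) (Finset.mem_Ico.1 hl').2
            (Nat.mod_lt _ hp.out.pos) (by rw [← hx₀, ← h, hσl]))
        · intro hnot
          refine absurd (mod_mem_Ico fun hd => hne l hl (hEne σ hσ _ ?_)) hnot
          rw [hσl, Nat.mod_eq_zero_of_dvd hd, Nat.cast_zero, zero_mul]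
      rw [Finset.sum_congr rfl e2, Finset.sum_const, Nat.card_Ico, nsmul_eq_mul]
      push_cast
      ring
    simp only [mul_pow, ← Finset.mul_sum, hp1'] at h
    rw [hρ, eq_div_iff hp1.ne']
    apply mul_left_cancel₀ hp1.ne'
    linear_combination h
  -- the normaliser of `⟨x⟩`
  set Nz := Finset.univ.filter fun u : G => ∃ l ∈ Finset.Ico 1 p, u * x * u⁻¹ = x ^ l with hNzdef
  have hNzmem : ∀ u : G, u ∈ Nz ↔ ∃ l ∈ Finset.Ico 1 p, u * x * u⁻¹ = x ^ l := fun u => by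
    simp only [hNzdef, Finset.mem_filter, Finset.mem_univ, true_and]
  have hNzcard : Nz.card = E.card * Nat.card C := by
    have e1 : Nz = L.biUnion fun l => Finset.univ.filter fun u : G => u * x * u⁻¹ = x ^ l := by
      ext u
      simp only [hNzdef, hL, Finset.mem_biUnion, Finset.mem_filter, Finset.mem_univ, true_and]
      exact ⟨fun ⟨l, hl, h⟩ => ⟨l, ⟨hl, isConj_iff.2 ⟨u, h⟩⟩, h⟩, fun ⟨l, hl, h⟩ => ⟨l, hl.1, h⟩⟩
    rw [e1, Finset.card_biUnion]
    · rw [hEL, ← smul_eq_mul, ← Finset.sum_const]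
      refine Finset.sum_congr rfl fun l hl => ?_
      obtain ⟨u₀, hu₀⟩ := isConj_iff.1 (Finset.mem_filter.1 hl).2
      rw [← Fintype.card_subtype, ← Nat.card_eq_fintype_card]
      refine Nat.card_congr ((Equiv.mulLeft u₀⁻¹).subtypeEquiv fun u => ?_)
      show u * x * u⁻¹ = x ^ l ↔ u₀⁻¹ * u ∈ C
      rw [hC, Subgroup.mem_centralizer_singleton_iff, ← mul_inv_eq_iff_eq_mul, ← hu₀]
      constructor
      · intro h
        calc u₀⁻¹ * u * x * (u₀⁻¹ * u)⁻¹ = u₀⁻¹ * (u * x * u⁻¹) * u₀ := by group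
          _ = x := by rw [h]; group
      · intro h
        calc u * x * u⁻¹ = u₀ * (u₀⁻¹ * u * x * (u₀⁻¹ * u)⁻¹) * u₀⁻¹ := by group
          _ = _ := by rw [h]
    · intro l hl l' hl' hne
      refine Finset.disjoint_left.2 fun u hu hu' => hne ?_
      exact pow_injOn_Iio_orderOf (x := x)
        (by rw [Set.mem_Iio, hxo]; exact (Finset.mem_Ico.1 (Finset.mem_filter.1 hl).1).2)
        (by rw [Set.mem_Iio, hxo]; exact (Finset.mem_Ico.1 (Finset.mem_filter.1 hl').1).2)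
        ((Finset.mem_filter.1 hu).2.symm.trans (Finset.mem_filter.1 hu').2)
  -- the elements of order `p`
  set K := Finset.univ.filter fun g : G => orderOf g = p with hKdef
  have hKo : ∀ g ∈ K, orderOf g = p := fun g hg => (Finset.mem_filter.1 hg).2
  have hKpow : ∀ g ∈ K, ∀ l ∈ Finset.Ico 1 p, g ^ l ∈ K := fun g hg l hl => by
    refine Finset.mem_filter.2 ⟨Finset.mem_univ _, ?_⟩
    rw [Nat.Coprime.orderOf_pow, hKo g hg]
    rw [hKo g hg]
    exact (hp.out.coprime_iff_not_dvd).2 (not_dvd_of_mem_Ico hl)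
  have hKconj : ∀ g h : G, h ∈ K → g * h * g⁻¹ ∈ K := fun g h hh =>
    Finset.mem_filter.2 ⟨Finset.mem_univ _, by
      rw [← hKo h hh]; exact orderOf_injective (MulAut.conj g).toMonoidHom (MulAut.conj g).injective h⟩
  have hKsum : ∀ χ : IrrCharacter G, ∑ a ∈ K, (χ : G → ℂ) a = (K.card : ℂ) * (c χ : ℂ) := by
    intro χ
    have hp0 : ((p - 1 : ℕ) : ℂ) ≠ 0 :=
      Nat.cast_ne_zero.2 (by have := hp.out.two_le; omega)
    apply mul_left_cancel₀ hp0
    have h1 : ∀ l ∈ Finset.Ico 1 p, ∑ a ∈ K, (χ : G → ℂ) (a ^ l) = ∑ a ∈ K, (χ : G → ℂ) a := by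
      intro l hl
      obtain ⟨i, hip, hi⟩ := exists_inv_exp hxo hl
      have hinv : ∀ a ∈ K, (a ^ l) ^ i = a := fun a ha => by
        obtain ⟨u, j, -, rfl⟩ := hpord a (hKo a ha)
        rw [conj_pow, conj_pow, ← pow_mul, ← pow_mul, show j * (l * i) = l * i * j by ring,
          pow_mul x, pow_mul x, hi]
      refine Finset.sum_bij' (fun a _ => a ^ l) (fun a _ => a ^ i)
        (fun a ha => hKpow a ha l hl) (fun a ha => ?_) hinv (fun a ha => ?_) fun a _ => rfl
      · obtain ⟨i', hi', e'⟩ : ∃ i' ∈ Finset.Ico 1 p, a ^ i' = a ^ i := ⟨i % p, mod_mem_Ico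
          hip, pow_mod_p (hKo a ha) i⟩
        exact e' ▸ hKpow a ha i' hi'
      · rw [← pow_mul, mul_comm, pow_mul]; exact hinv a ha
    calc ((p - 1 : ℕ) : ℂ) * ∑ a ∈ K, (χ : G → ℂ) a
        = ∑ l ∈ Finset.Ico 1 p, ∑ a ∈ K, (χ : G → ℂ) (a ^ l) := by
          rw [Finset.sum_congr rfl h1, Finset.sum_const, Nat.card_Ico, nsmul_eq_mul]
      _ = ∑ a ∈ K, ((p - 1 : ℕ) : ℂ) * (c χ : ℂ) := by
          rw [Finset.sum_comm]
          refine Finset.sum_congr rfl fun a ha => ?_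
          obtain ⟨u, j, hj, rfl⟩ := hpord a (hKo a ha)
          rw [← hS χ]
          obtain ⟨j', hj'n, hj'⟩ := exists_inv_exp hxo hj
          refine Finset.sum_bij' (fun l _ => (j * l) % p) (fun l _ => (j' * l) % p)
            (fun l hl => mod_mem_Ico fun hd => ((Nat.Prime.dvd_mul hp.out).1 hd).elim
              (not_dvd_of_mem_Ico hj) (not_dvd_of_mem_Ico hl))
            (fun l hl => mod_mem_Ico fun hd => ((Nat.Prime.dvd_mul hp.out).1 hd).elim
              hj'n (not_dvd_of_mem_Ico hl))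
            (fun l hl => ?_) (fun l hl => ?_) fun l _ => ?_
          · apply pow_injOn_Iio_orderOf (x := x) (by rw [Set.mem_Iio, hxo]; exact Nat.mod_lt _ hp.out.pos)
              (by rw [Set.mem_Iio, hxo]; exact (Finset.mem_Ico.1 hl).2)
            show x ^ ((j' * ((j * l) % p)) % p) = x ^ l
            rw [pow_mod_p hxo, mul_comm j', pow_mul, pow_mod_p hxo, ← pow_mul,
              show j * l * j' = j * j' * l by ring, pow_mul, pow_mul, hj']
          · apply pow_injOn_Iio_orderOf (x := x) (by rw [Set.mem_Iio, hxo]; exact Nat.mod_lt _ hp.out.pos)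
              (by rw [Set.mem_Iio, hxo]; exact (Finset.mem_Ico.1 hl).2)
            show x ^ ((j * ((j' * l) % p)) % p) = x ^ l
            rw [pow_mod_p hxo, mul_comm j, pow_mul, pow_mod_p hxo, ← pow_mul,
              show j' * l * j = j * j' * l by ring, pow_mul, pow_mul, hj']
          · rw [conj_pow, irr_conj_invariant, ← pow_mul, pow_mod_p hxo]
      _ = ((p - 1 : ℕ) : ℂ) * ((K.card : ℂ) * (c χ : ℂ)) := by
          rw [Finset.sum_const, nsmul_eq_mul]; ring
  have hsing : ∀ a ∈ K, ∀ b ∈ K, p ∣ orderOf (a * b) → ∃ y, IsPPart p (a * b) y ∧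
      ∃ u, ∃ l ∈ Finset.Ico 1 p, u * x ^ l * u⁻¹ = y := by
    intro a ha b hb hd
    obtain ⟨y, hy⟩ := exists_isPPart hp.out (a * b)
    refine ⟨y, hy, hpord y (orderOf_eq_prime
      ((PairSing.pair_facts hpairs hab (hKo a ha) (hKo b hb)).1 y hy) fun e => ?_)⟩
    exact (isPPart_one_iff hp.out).1 (e ▸ hy) hd
  have hcountle := count hM hxo hC Nc hNp hreg K hKconj B hmemB c (fun χ _ => hS χ)
    (fun χ _ => hKsum χ) Nz hNzmem (by
      rw [hc2, hNzcard, hρ, hp1', hCcard, hk, mul_div_cancel₀ _ hp1.ne']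
      push_cast
      ring) hsing
  set T := (K ×ˢ K).filter fun ab : G × G => p ∣ orderOf (ab.1 * ab.2) with hT
  set R := (K ×ˢ K).filter fun ab : G × G => ¬ p ∣ orderOf (ab.1 * ab.2) with hR
  have hsplit : T.card + R.card = K.card * K.card := by
    rw [hT, hR, Finset.card_filter_add_card_filter_not, Finset.card_product]
  have hRle : R.card * (p - 1) ≤ K.card * K.card := by
    rw [← Finset.card_product, ← Nat.card_Ico 1 p, ← Finset.card_product]
    refine Finset.card_le_card_of_injOn (fun t => (t.1.1, t.1.2 ^ t.2)) ?_ ?_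
    · rintro ⟨⟨a, b⟩, i⟩ ht
      simp only [hR, Finset.mem_coe, Finset.mem_product, Finset.mem_filter] at ht ⊢
      exact ⟨ht.1.1.1, hKpow b ht.1.1.2 i ht.2⟩
    · rintro ⟨⟨a, b⟩, i⟩ h1 ⟨⟨a', b'⟩, j⟩ h2 heq
      simp only [hR, Finset.mem_coe, Finset.mem_product, Finset.mem_filter,
        Finset.mem_Ico] at h1 h2
      simp only [Prod.mk.injEq] at heq
      obtain ⟨rfl, hpow⟩ := heq
      obtain ⟨rfl, rfl⟩ := (PairSing.pair_facts hpairs hab (hKo a h1.1.1.1) (hKo b h1.1.1.2)).2 b' i j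
        (hKo b' h2.1.1.2) h1.2.1 h1.2.2 h2.2.1 h2.2.2 h1.1.2 h2.1.2 hpow
      rfl
  -- the bound on the values
  have hdpos : ∀ χ : IrrCharacter G, (0 : ℝ) < (charDegree (χ : G → ℂ) : ℝ) := fun χ =>
    Nat.cast_pos.2 (charDegree_pos χ)
  have h2c : ∀ χ ∈ B.erase χ₁, 2 * c χ ≤ (charDegree (χ : G → ℂ) : ℝ) := by
    intro χ hχ
    rw [hdeg χ]
    refine CycCount.value_le hp.out hp2 ⟨n + 1, rfl⟩ (B.erase χ₁) m E x₀ hone hEp hinj ?_ ?_
      (fun ψ _ => hmE ψ) hGram hχ ?_ (c χ) rfl ?_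
    · intro σ hσ k hk h
      exact hk (hEne σ hσ _ (by rw [← mul_assoc]; exact h))
    · exact card_annihilator
    · intro h0
      have hall : ∀ k : ZMod (p ^ (n + 1)), ¬ k * x₀ = 0 → m χ k = 0 := fun k hk =>
        Finset.sum_eq_zero_iff.1 h0 k (Finset.mem_filter.2 ⟨Finset.mem_univ _, hk⟩)
      have hxd : (χ : G → ℂ) x = (χ : G → ℂ) 1 := by
        rw [irr_one_eq_charDegree, hdeg χ, Nat.cast_sum]
        refine (hminv χ x₀).trans (Finset.sum_congr rfl fun k _ => ?_)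
        by_cases hk : k * x₀ = 0
        · rw [hk, AddChar.map_zero_eq_one, mul_one]
        · rw [hall k hk, Nat.cast_zero, zero_mul]
      obtain ⟨W, hWn, hWmem, -⟩ := IsCharacter.exists_kernel (irr_isCharacter χ)
      have hxW : x ∈ W := (hWmem x).2 hxd
      have htop : W = ⊤ := by
        refine (hWn.eq_bot_or_eq_top).resolve_left fun h => ?_
        rw [h, Subgroup.mem_bot] at hxW
        rw [hxW, orderOf_one] at hxo
        exact hp.out.ne_one hxo.symm
      have hconst : ∀ g, (χ : G → ℂ) g = (χ : G → ℂ) 1 := fun g =>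
        (hWmem g).1 (htop ▸ Subgroup.mem_top g)
      have hne : χ ≠ χ₁ := (Finset.mem_erase.1 hχ).1
      have h0' := classInner_irr_of_ne χ.2 χ₁.2 (fun h => hne (Subtype.ext h))
      rw [classInner] at h0'
      simp only [hconst, hχ₁, Char.principal, map_one, mul_one, Finset.sum_const,
        Finset.card_univ, nsmul_eq_mul, ← Nat.card_eq_fintype_card] at h0'
      rw [← mul_assoc, inv_mul_cancel₀ (Nat.cast_ne_zero.2 Nat.card_pos.ne'), one_mul] at h0'
      exact irr_one_ne_zero χ h0'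
    · have h1 := Finset.single_le_sum (f := fun ψ => c ψ ^ 2) (fun ψ _ => sq_nonneg _)
        (Finset.mem_of_mem_erase hχ)
      rw [hc2] at h1
      exact h1
  -- the estimate
  have hK0 : (0 : ℝ) < (K.card : ℝ) ^ 2 := by
    have : x ∈ K := Finset.mem_filter.2 ⟨Finset.mem_univ _, hxo⟩
    have : 0 < K.card := Finset.card_pos.2 ⟨x, this⟩
    exact pow_pos (Nat.cast_pos.2 this) 2
  have hsum3 : ∑ χ ∈ B, c χ ^ 3 / (charDegree (χ : G → ℂ) : ℝ) =
      1 + ∑ χ ∈ B.erase χ₁, c χ ^ 3 / (charDegree (χ : G → ℂ) : ℝ) := by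
    rw [← Finset.add_sum_erase _ _ h1B, hc1]
    have : charDegree (χ₁ : G → ℂ) = 1 := by
      have h : (χ₁ : G → ℂ) 1 = (1 : ℂ) := rfl
      rw [irr_one_eq_charDegree] at h
      exact_mod_cast h
    rw [this]
    simp
  have hρT : ρ * (T.card : ℝ) ≤ (K.card : ℝ) ^ 2 *
      (1 + ∑ χ ∈ B.erase χ₁, c χ ^ 3 / (charDegree (χ : G → ℂ) : ℝ)) := by
    rw [← hsum3]
    refine le_of_mul_le_mul_left ?_ (show (0 : ℝ) < (Nat.card Nc : ℝ) * ((p - 1 : ℕ) : ℝ) by
      rw [hp1']; exact mul_pos (Nat.cast_pos.2 Nat.card_pos) hp1)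
    refine le_trans (le_of_eq ?_) hcountle
    rw [hNzcard, hρ, hp1', hCcard, hk, mul_assoc, ← mul_assoc ((p : ℝ) - 1),
      mul_div_cancel₀ _ hp1.ne']
    push_cast
    ring
  have hEs : (2 : ℝ) ≤ E.card := by exact_mod_cast hE2
  have hρ0 : 0 ≤ ρ := by
    rw [hρ]; exact div_nonneg (mul_nonneg (Nat.cast_nonneg _) (Nat.cast_nonneg _)) hp1.le
  obtain ⟨hest, hest3⟩ := estimate (B.erase χ₁) c (fun χ => (charDegree (χ : G → ℂ) : ℝ))
    (fun χ _ => hdpos χ) h2c ρ (T.card : ℝ) (R.card : ℝ) ((K.card : ℝ) ^ 2) ((p : ℝ) - 1) hp1 hρ0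
    (by
      have h := hc2
      rw [← Finset.add_sum_erase _ _ h1B, hc1] at h
      linarith)
    hρT (by rw [sq]; exact_mod_cast hsplit)
    (by rw [← hp1', sq]; exact_mod_cast hRle) hK0
  by_cases hp3 : p = 3
  swap
  · have hp5 : (5 : ℝ) ≤ p := by
      have h2 := hp.out.two_le
      have h4 : p ≠ 4 := fun h => absurd (h ▸ hp.out) (by decide)
      exact_mod_cast (show 5 ≤ p by omega)
    have hNp' : (p : ℝ) ≤ ((p ^ (n + 1) : ℕ) : ℝ) := by
      exact_mod_cast Nat.le_self_pow (Nat.succ_ne_zero n) p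
    have hρp : 2 * (p : ℝ) ≤ ρ * ((p : ℝ) - 1) := by
      rw [hρ, div_mul_cancel₀ _ hp1.ne']
      exact mul_le_mul hEs hNp' (Nat.cast_nonneg _) (Nat.cast_nonneg _)
    nlinarith
  -- `p = 3`
  subst hp3
  have hEcard : E.card = 2 := by omega
  have h2L : 2 ∈ L := by
    have : L = Finset.Ico 1 3 := Finset.eq_of_subset_of_card_le (Finset.filter_subset _ _)
      (by rw [← hEL, hEcard, Nat.card_Ico])
    rw [this]
    simp
  have hint : ∀ χ : IrrCharacter G, ∃ z : ℤ, c χ = z := by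
    intro χ
    have h := hS χ
    rw [show Finset.Ico 1 3 = ({1, 2} : Finset ℕ) from rfl, Finset.sum_pair (by decide), pow_one,
      irr_isConj χ (Finset.mem_filter.1 h2L).2] at h
    have hcx : (χ : G → ℂ) x = (c χ : ℂ) := by
      push_cast at h
      linear_combination h / 2
    set q : ℚ := (Din χ : ℚ) - (Dout χ : ℚ) / 2 with hq
    have hcq : c χ = (q : ℝ) := by
      simp only [hc, hq]
      push_cast
      ring
    obtain ⟨z, hz⟩ := exists_int_of_isIntegral (q := q) (by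
      have := irr_isIntegral χ x
      rw [hcx, hcq, Complex.ofReal_ratCast] at this
      exact this)
    exact ⟨z, by rw [hcq, hz, Rat.cast_intCast]⟩
  have hsumdc : ∑ χ ∈ B, (charDegree (χ : G → ℂ) : ℝ) * c χ = 0 := by
    have hx1 : ∀ l ∈ Finset.Ico 1 3,
        ∑ χ ∈ B, (χ : G → ℂ) 1 * conj ((χ : G → ℂ) (x ^ l)) = 0 := by
      intro l hl
      rw [← blockPair_regular_singular hM (isPBlock_principalBlock M G)
        (u := (1 : G)) (w := x ^ l) (by simp)]
      · unfold blockPair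
        exact Finset.sum_congr (by ext; simp [hB]) fun _ _ => rfl
      · rw [hKo _ (hKpow x (Finset.mem_filter.2 ⟨Finset.mem_univ _, hxo⟩) l hl)]
    have h0 : ∑ χ ∈ B, (χ : G → ℂ) 1 * conj (∑ l ∈ Finset.Ico 1 3, (χ : G → ℂ) (x ^ l)) = 0 := by
      simp only [map_sum, Finset.mul_sum]
      rw [Finset.sum_comm]
      exact Finset.sum_eq_zero hx1
    simp only [hS, map_mul, map_natCast, Complex.conj_ofReal, irr_one_eq_charDegree] at h0
    apply Complex.ofReal_injective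
    push_cast
    have h2 : (2 : ℂ) * ∑ χ ∈ B, (charDegree (χ : G → ℂ) : ℂ) * (c χ : ℂ) = 0 := by
      rw [Finset.mul_sum, ← h0]
      refine Finset.sum_congr rfl fun χ _ => ?_
      push_cast
      ring
    simpa using h2
  obtain ⟨χ₀, hχ₀, hneg⟩ : ∃ χ ∈ B.erase χ₁, c χ < 0 := by
    by_contra hh
    push Not at hh
    rw [← Finset.add_sum_erase _ _ h1B, hc1] at hsumdc
    have : 0 ≤ ∑ χ ∈ B.erase χ₁, (charDegree (χ : G → ℂ) : ℝ) * c χ :=
      Finset.sum_nonneg fun χ hχ => mul_nonneg (Nat.cast_nonneg _) (hh χ hχ)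
    nlinarith [hdpos χ₁]
  refine hest3 (by norm_num) χ₀ hχ₀ ?_
  obtain ⟨z, hz⟩ := hint χ₀
  rw [hz] at hneg ⊢
  exact_mod_cast (show z ≤ -1 by
    have : z < 0 := by exact_mod_cast hneg
    omega)

end Cfsg.Agent.Blocks.PairCyc
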