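import Cfsg.Agent.Lib.Blocks.PairCyclicBase

/-!
# Cyclic Sylow subgroups: residues, Gram matrix of the multiplicities, and the counting
-/

set_option autoImplicit false
set_option linter.style.haveILetI false
set_option linter.unusedSectionVars false

namespace Cfsg.Agent.Blocks.PairCyc

open Cfsg Cfsg.Agent.Char Cfsg.Agent.Blocks
open scoped ComplexConjugate

universe u

section Residues

variable {p : ℕ} [hp : Fact p.Prime] {n : ℕ}

theorem top_mul_prime : (p : ZMod (p ^ (n + 1))) * ((p ^ n : ℕ) : ZMod (p ^ (n + 1))) = 0 := by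
  rw [← Nat.cast_mul, ← pow_succ', ZMod.natCast_self]

theorem mul_top_eq (a : ℕ) : (a : ZMod (p ^ (n + 1))) * ((p ^ n : ℕ) : ZMod (p ^ (n + 1))) =
    ((a % p : ℕ) : ZMod (p ^ (n + 1))) * ((p ^ n : ℕ) : ZMod (p ^ (n + 1))) := by
  conv_lhs => rw [← Nat.mod_add_div a p]
  rw [Nat.cast_add, Nat.cast_mul, add_mul, mul_comm (p : ZMod (p ^ (n + 1))), mul_assoc,
    top_mul_prime, mul_zero, add_zero]

theorem mul_top_inj {i j : ℕ} (hi : i < p) (hj : j < p)
    (h : (i : ZMod (p ^ (n + 1))) * ((p ^ n : ℕ) : ZMod (p ^ (n + 1))) =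
      (j : ZMod (p ^ (n + 1))) * ((p ^ n : ℕ) : ZMod (p ^ (n + 1)))) : i = j := by
  have hpos : 0 < p ^ n := pow_pos hp.out.pos n
  rw [← Nat.cast_mul, ← Nat.cast_mul, ZMod.natCast_eq_natCast_iff'] at h
  have hlt : ∀ k < p, k * p ^ n < p ^ (n + 1) := fun k hk => by
    rw [pow_succ']
    exact (Nat.mul_lt_mul_right hpos).2 hk
  rw [Nat.mod_eq_of_lt (hlt i hi), Nat.mod_eq_of_lt (hlt j hj)] at h
  exact Nat.eq_of_mul_eq_mul_right hpos h

theorem exists_mul_eq_top {k : ZMod (p ^ (n + 1))} (hk : k ≠ 0) :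
    ∃ j : ZMod (p ^ (n + 1)), j * k = ((p ^ n : ℕ) : ZMod (p ^ (n + 1))) := by
  have : NeZero (p ^ (n + 1)) := ⟨pow_ne_zero _ hp.out.ne_zero⟩
  have hv : k.val ≠ 0 := (ZMod.val_ne_zero k).2 hk
  obtain ⟨a, u, hu, he⟩ := Nat.exists_eq_pow_mul_and_not_dvd hv p hp.out.ne_one
  have han : a ≤ n := by
    by_contra h
    have h1 : p ^ (n + 1) ∣ k.val := he ▸ dvd_mul_of_dvd_left (pow_dvd_pow p (by omega)) _
    have h2 := Nat.le_of_dvd (Nat.pos_of_ne_zero hv) h1
    have h3 := ZMod.val_lt k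
    omega
  have hc : Nat.Coprime u (p ^ (n + 1)) :=
    Nat.Coprime.pow_right _ ((hp.out.coprime_iff_not_dvd).2 hu).symm
  refine ⟨((p ^ (n - a) : ℕ) : ZMod (p ^ (n + 1))) * (u : ZMod (p ^ (n + 1)))⁻¹, ?_⟩
  have hk' : k = ((p ^ a : ℕ) : ZMod (p ^ (n + 1))) * (u : ZMod (p ^ (n + 1))) := by
    rw [← Nat.cast_mul, ← he, ZMod.natCast_zmod_val]
  have hpp : ((p ^ (n - a) : ℕ) : ZMod (p ^ (n + 1))) * ((p ^ a : ℕ) : ZMod (p ^ (n + 1))) =
      ((p ^ n : ℕ) : ZMod (p ^ (n + 1))) := by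
    rw [← Nat.cast_mul, ← pow_add, Nat.sub_add_cancel han]
  conv_lhs => arg 2; rw [hk']
  linear_combination ((p ^ n : ℕ) : ZMod (p ^ (n + 1))) * ZMod.coe_mul_inv_eq_one u hc +
    ((u : ZMod (p ^ (n + 1))) * (u : ZMod (p ^ (n + 1)))⁻¹) * hpp

theorem exists_top_of_torsion {k : ZMod (p ^ (n + 1))} (hk : (p : ZMod (p ^ (n + 1))) * k = 0) :
    ∃ j < p, k = (j : ZMod (p ^ (n + 1))) * ((p ^ n : ℕ) : ZMod (p ^ (n + 1))) := by
  have : NeZero (p ^ (n + 1)) := ⟨pow_ne_zero _ hp.out.ne_zero⟩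
  rw [← ZMod.natCast_zmod_val k, ← Nat.cast_mul, ZMod.natCast_eq_zero_iff] at hk
  have hd : p ^ n ∣ k.val :=
    Nat.dvd_of_mul_dvd_mul_left hp.out.pos ((pow_succ' p n).symm.dvd.trans hk)
  obtain ⟨j, hj⟩ := hd
  refine ⟨j, ?_, ?_⟩
  · have h3 := ZMod.val_lt k
    rw [hj, pow_succ] at h3
    exact Nat.lt_of_mul_lt_mul_left h3
  · rw [← ZMod.natCast_zmod_val k, hj, Nat.cast_mul, mul_comm]

/-- The kernel of multiplication by the top element has index `p`. -/
theorem card_annihilator [NeZero (p ^ (n + 1))] :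
    p * (Finset.univ.filter fun k : ZMod (p ^ (n + 1)) =>
      k * ((p ^ n : ℕ) : ZMod (p ^ (n + 1))) = 0).card = p ^ (n + 1) := by
  classical
  set x₀ := ((p ^ n : ℕ) : ZMod (p ^ (n + 1))) with hx₀
  set A := Finset.univ.filter fun k : ZMod (p ^ (n + 1)) => k * x₀ = 0 with hA
  have h : ((Finset.range p) ×ˢ A).card = (Finset.univ : Finset (ZMod (p ^ (n + 1)))).card := by
    refine Finset.card_bij (fun t _ => (t.1 : ZMod (p ^ (n + 1))) + t.2) (fun _ _ => Finset.mem_univ _)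
      ?_ ?_
    · rintro ⟨i, a⟩ ha ⟨j, b⟩ hb h
      simp only [hA, Finset.mem_product, Finset.mem_range, Finset.mem_filter, Finset.mem_univ,
        true_and] at ha hb
      have := congrArg (· * x₀) h
      simp only [add_mul, ha.2, hb.2, add_zero] at this
      obtain rfl := mul_top_inj ha.1 hb.1 this
      simpa using h
    · intro k _
      refine ⟨(k.val % p, k - ((k.val % p : ℕ) : ZMod (p ^ (n + 1)))), ?_, by simp⟩
      simp only [hA, Finset.mem_product, Finset.mem_range, Finset.mem_filter, Finset.mem_univ,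
        true_and]
      refine ⟨Nat.mod_lt _ hp.out.pos, ?_⟩
      rw [sub_mul, hx₀, ← mul_top_eq, ZMod.natCast_zmod_val, sub_self]
  rwa [Finset.card_product, Finset.card_range, Finset.card_univ, ZMod.card] at h

/-- The sum over the elements of order `p` of the powers of a character. -/
theorem sum_powers [NeZero (p ^ (n + 1))] (m : ZMod (p ^ (n + 1)) → ℕ)
    (v : ZMod (p ^ (n + 1)) → ℂ)
    (hv : ∀ l, v l = ∑ k, (m k : ℂ) * ZMod.stdAddChar (k * l)) :
    ∑ l ∈ Finset.Ico 1 p, v ((l : ZMod (p ^ (n + 1))) * ((p ^ n : ℕ) : ZMod (p ^ (n + 1)))) =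
      ((p - 1 : ℕ) : ℂ) * ((∑ k ∈ Finset.univ.filter (fun k : ZMod (p ^ (n + 1)) =>
          k * ((p ^ n : ℕ) : ZMod (p ^ (n + 1))) = 0), m k : ℕ) : ℂ) -
        ((∑ k ∈ Finset.univ.filter (fun k : ZMod (p ^ (n + 1)) =>
          ¬ k * ((p ^ n : ℕ) : ZMod (p ^ (n + 1))) = 0), m k : ℕ) : ℂ) := by
  classical
  set x₀ := ((p ^ n : ℕ) : ZMod (p ^ (n + 1))) with hx₀
  simp only [hv]
  rw [Finset.sum_comm]
  simp only [← Finset.mul_sum]
  rw [← Finset.sum_filter_add_sum_filter_not Finset.univ (fun k => k * x₀ = 0)]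
  push_cast
  rw [Finset.mul_sum, sub_eq_add_neg, ← Finset.sum_neg_distrib]
  congr 1
  · refine Finset.sum_congr rfl fun k hk => ?_
    have hk' := (Finset.mem_filter.1 hk).2
    rw [Finset.sum_congr rfl (g := fun _ => (1 : ℂ)) fun l _ => by
      rw [← mul_assoc, mul_comm k, mul_assoc, hk', mul_zero, AddChar.map_zero_eq_one],
      Finset.sum_const, Nat.card_Ico, nsmul_eq_mul, mul_one, mul_comm]
  · refine Finset.sum_congr rfl fun k hk => ?_
    have hk' := (Finset.mem_filter.1 hk).2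
    set z := ZMod.stdAddChar (k * x₀) with hz
    have hz1 : z ≠ 1 := fun h => hk' (ZMod.injective_stdAddChar (h.trans
      (AddChar.map_zero_eq_one _).symm))
    have hzp : z ^ p = 1 := by
      rw [hz, ← AddChar.map_nsmul_eq_pow, nsmul_eq_mul, ← mul_assoc, mul_comm _ k, mul_assoc,
        top_mul_prime, mul_zero, AddChar.map_zero_eq_one]
    have hsum : ∑ l ∈ Finset.range p, z ^ l = 0 := by
      rw [geom_sum_eq hz1, hzp, sub_self, zero_div]
    rw [Finset.range_eq_Ico, Finset.sum_eq_sum_Ico_succ_bot hp.out.pos, pow_zero] at hsum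
    rw [Finset.sum_congr rfl (g := fun l => z ^ l) fun l _ => by
      rw [hz, ← AddChar.map_nsmul_eq_pow, nsmul_eq_mul]; ring_nf,
      eq_neg_of_add_eq_zero_right hsum]
    ring

end Residues

/-- The inner products of the differences of multiplicities. -/
theorem gram {N : ℕ} [NeZero N] {ι : Type*} (s : Finset ι) (v : ι → ZMod N → ℂ)
    (m : ι → ZMod N → ℕ)
    (hm : ∀ ψ k, (N : ℂ) * (m ψ k : ℂ) = ∑ i, v ψ i * ZMod.stdAddChar (-(k * i)))
    (E : Finset (ZMod N))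
    (hpair : ∀ i j : ZMod N, i ≠ 0 → j ≠ 0 →
      ∑ ψ ∈ s, v ψ i * conj (v ψ j) = (N : ℂ) * ((E.filter fun σ => σ * i = j).card : ℂ))
    (hne : ∀ σ ∈ E, ∀ i : ZMod N, σ * i = 0 → i = 0) {k l : ZMod N} (hk : k ≠ 0) (hl : l ≠ 0) :
    ∑ ψ ∈ s, ((m ψ 0 : ℝ) - m ψ k) * ((m ψ 0 : ℝ) - m ψ l) =
      (E.card : ℝ) + ((E.filter fun σ => σ * l = k).card : ℝ) := by
  classical
  have hN : (N : ℂ) ≠ 0 := Nat.cast_ne_zero.2 (NeZero.ne N)
  have ha : ∀ ψ (k : ZMod N), (N : ℂ) * ((m ψ 0 : ℂ) - m ψ k) =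
      ∑ i, v ψ i * (1 - ZMod.stdAddChar (-(k * i))) := fun ψ k => by
    simp only [mul_sub, hm, zero_mul, neg_zero, AddChar.map_zero_eq_one, mul_one,
      Finset.sum_sub_distrib]
  apply Complex.ofReal_injective
  push_cast
  apply mul_left_cancel₀ (mul_ne_zero hN hN)
  have e1 : ∀ ψ, (N : ℂ) * N * (((m ψ 0 : ℂ) - m ψ k) * ((m ψ 0 : ℂ) - m ψ l)) =
      ∑ i, ∑ j, (1 - ZMod.stdAddChar (-(k * i))) * conj (1 - ZMod.stdAddChar (-(l * j))) *
        (v ψ i * conj (v ψ j)) := by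
    intro ψ
    have h2 : conj ((N : ℂ) * ((m ψ 0 : ℂ) - m ψ l)) = (N : ℂ) * ((m ψ 0 : ℂ) - m ψ l) := by
      simp
    calc (N : ℂ) * N * (((m ψ 0 : ℂ) - m ψ k) * ((m ψ 0 : ℂ) - m ψ l))
        = (N : ℂ) * ((m ψ 0 : ℂ) - m ψ k) * conj ((N : ℂ) * ((m ψ 0 : ℂ) - m ψ l)) := by
          rw [h2]; ring
      _ = _ := by
          rw [ha, ha, map_sum, Finset.sum_mul_sum]
          refine Finset.sum_congr rfl fun i _ => Finset.sum_congr rfl fun j _ => ?_
          rw [map_mul]; ring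
  rw [Finset.mul_sum]
  simp only [e1]
  rw [Finset.sum_comm]
  simp only [Finset.sum_comm (s := s), ← Finset.mul_sum]
  have e2 : ∀ i j : ZMod N,
      (1 - ZMod.stdAddChar (-(k * i))) * conj (1 - ZMod.stdAddChar (-(l * j))) *
        (∑ ψ ∈ s, v ψ i * conj (v ψ j)) =
      (N : ℂ) * ∑ σ ∈ E, if σ * i = j then
        (1 - ZMod.stdAddChar (-(k * i))) * (1 - ZMod.stdAddChar (l * (σ * i))) else 0 := by
    intro i j
    by_cases hi : i = 0
    · subst hi; simp
    by_cases hj : j = 0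
    · subst hj
      rw [Finset.sum_eq_zero (s := E) fun σ hσ => if_neg fun h => hi (hne σ hσ i h)]
      simp
    rw [hpair i j hi hj, Finset.natCast_card_filter, Finset.mul_sum, Finset.mul_sum, Finset.mul_sum]
    refine Finset.sum_congr rfl fun σ _ => ?_
    split_ifs with h
    · rw [h, map_sub, map_one, ← AddChar.map_neg_eq_conj, neg_neg]; ring
    · ring
  simp only [e2, ← Finset.mul_sum]
  rw [mul_assoc]
  congr 1
  simp only [Finset.sum_comm (s := (Finset.univ : Finset (ZMod N))) (t := E), Finset.sum_ite_eq,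
    Finset.mem_univ, if_true]
  rw [Finset.natCast_card_filter, Finset.card_eq_sum_ones, Nat.cast_sum, ← Finset.sum_add_distrib,
    Finset.mul_sum]
  refine Finset.sum_congr rfl fun σ hσ => ?_
  have e3 : ∀ i : ZMod N, (1 - ZMod.stdAddChar (-(k * i))) * (1 - ZMod.stdAddChar (l * (σ * i))) =
      1 - ZMod.stdAddChar (i * -k) - ZMod.stdAddChar (i * (l * σ)) +
        ZMod.stdAddChar (i * (l * σ - k)) := by
    intro i
    have : ZMod.stdAddChar (i * (l * σ - k)) =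
        ZMod.stdAddChar (i * (l * σ)) * ZMod.stdAddChar (i * -k) := by
      rw [← AddChar.map_add_eq_mul]; ring_nf
    rw [this, show -(k * i) = i * -k by ring, show l * (σ * i) = i * (l * σ) by ring]
    ring
  simp only [e3, Finset.sum_add_distrib, Finset.sum_sub_distrib, Finset.sum_const, Finset.card_univ,
    ZMod.card, nsmul_eq_mul, mul_one, AddChar.sum_mulShift _ (ZMod.isPrimitive_stdAddChar N)]
  have h1 : -k ≠ 0 := neg_ne_zero.2 hk
  have h2 : l * σ ≠ 0 := fun h => hl (hne σ hσ l (by rw [mul_comm]; exact h))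
  rw [if_neg h1, if_neg h2]
  by_cases h : σ * l = k
  · rw [if_pos (by rw [← h]; ring), if_pos h]; push_cast; ring
  · rw [if_neg (fun h' => h (by linear_combination h')), if_neg h]; push_cast; ring

/-- The estimate of the number of singular products. -/
theorem estimate {ι : Type*} (s : Finset ι) (c d : ι → ℝ) (hd : ∀ i ∈ s, 0 < d i)
    (h2c : ∀ i ∈ s, 2 * c i ≤ d i) (ρ T R K : ℝ) (q : ℝ) (hq : 0 < q)
    (hρ0 : 0 ≤ ρ) (hρ : ∑ i ∈ s, c i ^ 2 = ρ - 1)
    (hT : ρ * T ≤ K * (1 + ∑ i ∈ s, c i ^ 3 / d i)) (hsplit : T + R = K) (hR : R * q ≤ K)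
    (hK : 0 < K) :
    ρ * (q - 2) ≤ q ∧ (q = 2 → ∀ i ∈ s, c i ≤ -1 → False) := by
  set F : ι → ℝ := fun i => c i ^ 2 - 2 * (c i ^ 3 / d i) with hF
  have hF0 : ∀ i ∈ s, 0 ≤ F i := fun i hi => by
    have e : F i = c i ^ 2 * ((d i - 2 * c i) / d i) := by
      simp only [hF]
      field_simp [(hd i hi).ne']
    rw [e]
    exact mul_nonneg (sq_nonneg _) (div_nonneg (by linarith [h2c i hi]) (hd i hi).le)
  have hsumF : ∑ i ∈ s, F i = (ρ - 1) - 2 * ∑ i ∈ s, c i ^ 3 / d i := by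
    simp only [hF, Finset.sum_sub_distrib, ← Finset.mul_sum, hρ]
  set SF := ∑ i ∈ s, F i with hSF
  have hTlow : K * (q - 1) ≤ T * q := by nlinarith
  have h1 : ρ * (K * (q - 1)) ≤ q * (K * ((ρ + 1 - SF) / 2)) := by
    calc ρ * (K * (q - 1)) ≤ ρ * (T * q) := mul_le_mul_of_nonneg_left hTlow hρ0
      _ = q * (ρ * T) := by ring
      _ ≤ q * (K * (1 + ∑ i ∈ s, c i ^ 3 / d i)) := mul_le_mul_of_nonneg_left hT hq.le
      _ = _ := by rw [hsumF]; ring
  have h2 : ρ * (q - 1) ≤ q * ((ρ + 1 - SF) / 2) := by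
    have : K * (ρ * (q - 1)) ≤ K * (q * ((ρ + 1 - SF) / 2)) := by linarith
    exact le_of_mul_le_mul_left this hK
  have hSF0 : 0 ≤ SF := Finset.sum_nonneg hF0
  refine ⟨by nlinarith, fun hq2 i hi hci => ?_⟩
  have h3 : 1 < F i := by
    have a1 : c i ^ 3 < 0 := Odd.pow_neg (by decide) (by linarith)
    have a2 : c i ^ 3 / d i < 0 := div_neg_of_neg_of_pos a1 (hd i hi)
    simp only [hF]
    nlinarith
  have h4 : F i ≤ SF := Finset.single_le_sum hF0 hi
  subst hq2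
  linarith

end Cfsg.Agent.Blocks.PairCyc
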