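import Cfsg.Agent.Lib.Blocks.SecondMain
import Cfsg.Agent.Lib.Char.GlaubermanMod
import Cfsg.Agent.Lib.Char.Integral
import Cfsg.Agent.Lib.Char.Complete
import Cfsg.Agent.Lib.Blocks.Degree
import Cfsg.Agent.Lib.PLocal.PSolvable
import Cfsg.Agent.Lib.Solvable.Fitting
import Cfsg.Agent.Lib.CharP.AxB
import Cfsg.Prelude.Def_Transfer

/-!
# Pairs of elements of order `p` generating `p`-solvable subgroups

If a simple group has one class of elements of order `p` (`p` odd), with an elementary abelian Sylow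
`p`-subgroup and a `p`-nilpotent centralizer, then a pair of them generating a `p`-solvable subgroup
has `p`-regular product with proportion at most `1 / (p - 1)`, while the principal block makes the
proportion of singular products less than one half.
-/

set_option autoImplicit false
set_option linter.style.haveILetI false
set_option linter.unusedSectionVars false

namespace Cfsg.Agent.Blocks.PairSing

open Cfsg Cfsg.Agent.Char Cfsg.Agent.Blocks
open scoped ComplexConjugate

universe u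

variable {G : Type u} [Group G] [Fintype G] {p : ℕ} [hp : Fact p.Prime]

/-- In a `p`-solvable group with abelian Sylow subgroups the `p`-elements commute modulo `O_{p'}`. -/
theorem exists_core {L : Type u} [Group L] [Finite L] (hL : IsPSolvable p L)
    (hab : ∀ Q : Subgroup L, IsPGroup p Q → ∀ u ∈ Q, ∀ v ∈ Q, u * v = v * u) :
    ∃ O : Subgroup L, O.Normal ∧ (Nat.card O).Coprime p ∧
      ∀ u v : L, (∃ k, orderOf u = p ^ k) → (∃ k, orderOf v = p ^ k) → u * v * (v * u)⁻¹ ∈ O := by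
  set O := Cfsg.pPrimeCore p L with hO
  haveI : O.Normal := FittingCores.pPrimeCore_normal p
  refine ⟨O, inferInstance, FittingCores.pPrimeCore_coprime p, fun u v hu hv => ?_⟩
  set π := QuotientGroup.mk' O with hπ
  have hπs : Function.Surjective π := QuotientGroup.mk'_surjective O
  set U := Cfsg.pCore p (L ⧸ O) with hU
  haveI : U.Normal := FittingCores.pCore_normal p
  have hUp : IsPGroup p U := AxB.isPGroup_pCore p
  have hCU := PSolvable.centralizer_pCore_le (PSolvable.quotient O hL)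
    (FittingCores.pPrimeCore_quotient_eq_bot p O hO)
  obtain ⟨Q⟩ : Nonempty (Sylow p L) := inferInstance
  obtain ⟨Q', hQ'⟩ : ∃ Q' : Sylow p (L ⧸ O), (Q' : Subgroup (L ⧸ O)) = (Q : Subgroup L).map π :=
    ⟨Q.mapSurjective hπs, Sylow.coe_mapSurjective hπs Q⟩
  have hQab : ∀ s ∈ (Q' : Subgroup (L ⧸ O)), ∀ t ∈ (Q' : Subgroup (L ⧸ O)), s * t = t * s := by
    rw [hQ']
    rintro _ ⟨s, hs, rfl⟩ _ ⟨t, ht, rfl⟩
    rw [← map_mul, ← map_mul, hab _ Q.2 s hs t ht]
  have hUQ : ∀ R : Sylow p (L ⧸ O), U ≤ R := fun R => by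
    obtain ⟨R₀, hR₀⟩ := hUp.exists_le_sylow
    obtain ⟨g, rfl⟩ := MulAction.exists_smul_eq (L ⧸ O) R₀ R
    intro z hz
    rw [Sylow.coe_subgroup_smul, Subgroup.mem_pointwise_smul_iff_inv_smul_mem]
    refine hR₀ ?_
    simp only [MulAut.smul_def, MulAut.inv_def, MulAut.conj_symm_apply]
    simpa using ‹U.Normal›.conj_mem z hz g⁻¹
  have hQU : (Q' : Subgroup (L ⧸ O)) = U := by
    refine le_antisymm (le_trans ?_ hCU) (hUQ Q')
    exact fun s hs => Subgroup.mem_centralizer_iff.2 fun t ht => hQab t (hUQ Q' ht) s hs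
  have hall : ∀ w : L, (∃ k, orderOf w = p ^ k) → π w ∈ (Q' : Subgroup (L ⧸ O)) := by
    rintro w ⟨k, hk⟩
    have hw : IsPGroup p (Subgroup.zpowers (π w)) := by
      obtain ⟨i, -, hi⟩ := (Nat.dvd_prime_pow hp.out).1 (hk ▸ orderOf_map_dvd π w)
      exact IsPGroup.of_card (n := i) (by rw [Nat.card_zpowers, hi])
    obtain ⟨R, hR⟩ := hw.exists_le_sylow
    obtain ⟨g, rfl⟩ := MulAction.exists_smul_eq (L ⧸ O) Q' R
    have h := hR (Subgroup.mem_zpowers (π w))
    rw [Sylow.coe_subgroup_smul, Subgroup.mem_pointwise_smul_iff_inv_smul_mem, hQU] at h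
    rw [hQU]
    simp only [MulAut.smul_def, MulAut.inv_def, MulAut.conj_symm_apply] at h
    have := ‹U.Normal›.conj_mem _ h g
    simpa [mul_assoc] using this
  rw [← QuotientGroup.eq_one_iff]
  show π (u * v * (v * u)⁻¹) = 1
  rw [map_mul, map_inv, map_mul, map_mul, hQab _ (hall u hu) _ (hall v hv), mul_inv_cancel]

/-- The facts about a pair of elements of order `p`. -/
theorem pair_facts (hpairs : ∀ a b : G, orderOf a = p → orderOf b = p →
      IsPSolvable p ↥(Subgroup.closure ({a, b} : Set G)))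
    (hab : ∀ Q : Subgroup G, IsPGroup p Q → ∀ u ∈ Q, ∀ v ∈ Q, u * v = v * u)
    {a b : G} (ha : orderOf a = p) (hb : orderOf b = p) :
    (∀ y, IsPPart p (a * b) y → y ^ p = 1) ∧
    ∀ (b' : G) (i j : ℕ), orderOf b' = p → 1 ≤ i → i < p → 1 ≤ j → j < p →
      ¬ p ∣ orderOf (a * b) → ¬ p ∣ orderOf (a * b') → b ^ i = b' ^ j → b = b' ∧ i = j := by
  set L := Subgroup.closure ({a, b} : Set G) with hLdef
  obtain ⟨O, hOn, hOc, hcomm⟩ := exists_core (hpairs a b ha hb) (fun Q hQ u hu v hv =>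
    Subtype.ext (hab _ (hQ.map L.subtype) _ ⟨u, hu, rfl⟩ _ ⟨v, hv, rfl⟩))
  haveI := hOn
  let aL : L := ⟨a, Subgroup.subset_closure (Set.mem_insert _ _)⟩
  let bL : L := ⟨b, Subgroup.subset_closure (Set.mem_insert_of_mem _ rfl)⟩
  set π := QuotientGroup.mk' O with hπ
  have hord : ∀ w : L, orderOf (w : G) = p → orderOf w = p := fun w h => by
    rw [← Subgroup.orderOf_coe, h]
  have hπp : ∀ w : L, orderOf (w : G) = p → π w ^ p = 1 := fun w h => by
    rw [← map_pow, ← hord w h, pow_orderOf_eq_one, map_one]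
  have hcomm' : ∀ w : L, orderOf (w : G) = p → Commute (π aL) (π w) := fun w h => by
    have := (QuotientGroup.eq_one_iff _).2
      (hcomm aL w ⟨1, (hord aL ha).trans (pow_one p).symm⟩ ⟨1, (hord w h).trans (pow_one p).symm⟩)
    change π (aL * w * (w * aL)⁻¹) = 1 at this
    rw [map_mul, map_inv, map_mul, map_mul, mul_inv_eq_one] at this
    exact this
  have hprod : ∀ w : L, orderOf (w : G) = p → (π (aL * w)) ^ p = 1 := fun w h => by
    rw [map_mul, (hcomm' w h).mul_pow, hπp aL ha, hπp w h, one_mul]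
  have hker : ∀ w : L, (∃ k, orderOf (w : G) = p ^ k) → π w = 1 → w = 1 := fun w hw h => by
    obtain ⟨k, hk⟩ := hw
    rw [← orderOf_eq_one_iff]
    refine Nat.eq_one_of_dvd_coprimes (hOc.pow_right k)
      (Subgroup.orderOf_dvd_natCard O ((QuotientGroup.eq_one_iff w).1 h)) ?_
    rw [← Subgroup.orderOf_coe, hk]
  refine ⟨fun y hy => ?_, fun b' i j hb' hi hi' hj hj' hr hr' hpow => ?_⟩
  · obtain ⟨w, hyw, hc, ⟨k, hk⟩, hwreg⟩ := hy
    obtain ⟨m, hm⟩ : ∃ m : ℕ, (aL * bL : L) ^ m = (aL * bL) ^ m ∧ (a * b) ^ m = y := by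
      have hco : Nat.Coprime (orderOf y) (orderOf w) := by
        rw [hk]
        exact Nat.Coprime.pow_left k ((Nat.Prime.coprime_iff_not_dvd hp.out).2 hwreg)
      obtain ⟨m, hm⟩ := Nat.chineseRemainder hco 1 0
      refine ⟨m, rfl, ?_⟩
      rw [← hyw, hc.mul_pow, (pow_eq_pow_iff_modEq.2 hm.1 : y ^ m = y ^ 1),
        (pow_eq_pow_iff_modEq.2 hm.2 : w ^ m = w ^ 0), pow_one, pow_zero, mul_one]
    have hyL : (((aL * bL) ^ m) ^ p : L) = 1 := by
      refine hker _ ?_ ?_
      · obtain ⟨i, -, hi⟩ := (Nat.dvd_prime_pow hp.out).1 (hk ▸ orderOf_pow_dvd p)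
        refine ⟨i, ?_⟩
        show orderOf ((((a * b) ^ m) ^ p : G)) = p ^ i
        rw [hm.2, hi]
      · rw [map_pow, map_pow, ← pow_mul, mul_comm, pow_mul, hprod bL hb, one_pow]
    rw [← hm.2]
    exact congrArg Subtype.val hyL
  · have hb'L : b' ∈ L := by
      obtain ⟨j', hj''⟩ : ∃ j' : ℕ, (b' ^ j) ^ j' = b' := by
        have hco : Nat.Coprime j (orderOf b') := by
          rw [hb']
          exact ((Nat.Prime.coprime_iff_not_dvd hp.out).2
            (Nat.not_dvd_of_pos_of_lt hj hj')).symm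
        obtain ⟨m, -, hm⟩ := Nat.exists_mul_mod_eq_one_of_coprime hco (by rw [hb']; exact hp.out.one_lt)
        refine ⟨m, ?_⟩
        rw [← pow_mul, ← pow_mod_orderOf, hm, pow_one]
      rw [← hj'', ← hpow]
      exact L.pow_mem (L.pow_mem bL.2 i) j'
    have hinv : ∀ w : L, orderOf (w : G) = p → ¬ p ∣ orderOf (a * (w : G)) → π w = (π aL)⁻¹ := by
      intro w hw hwr
      have h1 : π (aL * w) ^ p = 1 := hprod w hw
      have h2 : π (aL * w) ^ orderOf (a * (w : G)) = 1 := by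
        have e : (aL * w) ^ orderOf (a * (w : G)) = 1 := Subtype.ext (by
          show (a * (w : G)) ^ orderOf (a * (w : G)) = 1
          exact pow_orderOf_eq_one _)
        rw [← map_pow, e, map_one]
      have h3 : π (aL * w) = 1 := orderOf_eq_one_iff.1 (Nat.eq_one_of_dvd_coprimes
        ((Nat.Prime.coprime_iff_not_dvd hp.out).2 hwr) (orderOf_dvd_of_pow_eq_one h1)
        (orderOf_dvd_of_pow_eq_one h2))
      rw [map_mul] at h3
      exact eq_inv_of_mul_eq_one_right h3
    have e1 := hinv bL hb hr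
    have e2 := hinv ⟨b', hb'L⟩ hb' hr'
    have hbo : orderOf (π bL) = p := orderOf_eq_prime (hπp bL hb) fun h => by
      have := hker bL ⟨1, hb.trans (pow_one p).symm⟩ h
      rw [show b = 1 from congrArg Subtype.val this, orderOf_one] at hb
      exact hp.out.ne_one hb.symm
    have hij : i = j := by
      have h : π bL ^ i = π bL ^ j := by
        conv_rhs => rw [e1, ← e2]
        rw [← map_pow, ← map_pow]
        exact congrArg π (Subtype.ext hpow)
      have := pow_injOn_Iio_orderOf (x := π bL) (by rw [Set.mem_Iio, hbo]; exact hi')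
        (by rw [Set.mem_Iio, hbo]; exact hj') h
      exact this
    subst hij
    refine ⟨?_, rfl⟩
    have hco : Nat.Coprime i (orderOf b) := by
      rw [hb]
      exact ((Nat.Prime.coprime_iff_not_dvd hp.out).2 (Nat.not_dvd_of_pos_of_lt hi hi')).symm
    obtain ⟨m, -, hm⟩ := Nat.exists_mul_mod_eq_one_of_coprime hco (by rw [hb]; exact hp.out.one_lt)
    have h1 : (b ^ i) ^ m = b := by rw [← pow_mul, ← pow_mod_orderOf, hm, pow_one]
    have h2 : (b' ^ i) ^ m = b' := by
      rw [← pow_mul, ← pow_mod_orderOf, hb', ← hb, hm, pow_one]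
    rw [← h1, hpow, h2]

/-- The sum of a character over the products of two conjugates of `x`. -/
theorem sum_class_pairs (χ : IrrCharacter G) (x : G) :
    ∑ ab ∈ classFinset x ×ˢ classFinset x, (χ : G → ℂ) (ab.1 * ab.2) =
      (((Subgroup.centralizer ({x} : Set G)).index : ℂ) * (χ : G → ℂ) x) ^ 2 / (χ : G → ℂ) 1 := by
  obtain ⟨n, ρ, hρ, hχ⟩ := χ.2
  haveI := hρ
  have h := Cfsg.Agent.Char.classSum_scalar ρ x
  have hmul := congrArg₂ (fun A B => LinearMap.trace ℂ _ (A * B)) h h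
  simp only [Finset.sum_mul, Finset.mul_sum, ← map_mul, map_sum, smul_mul_smul_comm,
    map_smul, smul_eq_mul] at hmul
  rw [Finset.sum_product, ← hχ]
  rw [Finset.sum_comm]
  refine hmul.trans ?_
  rw [show (LinearMap.id : Module.End ℂ (Fin n → ℂ)) * LinearMap.id = LinearMap.id from rfl,
    LinearMap.trace_id, Representation.char_one]
  have hn : (Module.finrank ℂ (Fin n → ℂ) : ℂ) ≠ 0 :=
    Nat.cast_ne_zero.2 (finrank_pos_of_irreducible ρ).ne'
  field_simp

open scoped Classical in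
/-- The pairs, counted by a conjugation invariant set of products. -/
theorem count_pairs (x : G) (S : Finset G) (hS : ∀ g h : G, h ∈ S → g * h * g⁻¹ ∈ S) :
    (Nat.card G : ℂ) * (((classFinset x ×ˢ classFinset x).filter
        fun ab : G × G => ab.1 * ab.2 ∈ S).card : ℂ) =
      ∑ χ : IrrCharacter G, (∑ g ∈ S, conj ((χ : G → ℂ) g)) *
        ((((Subgroup.centralizer ({x} : Set G)).index : ℂ) * (χ : G → ℂ) x) ^ 2 /
          (χ : G → ℂ) 1) := by
  classical
  simp only [← sum_class_pairs, Finset.mul_sum]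
  rw [Finset.sum_comm, Finset.natCast_card_filter, Finset.mul_sum]
  refine Finset.sum_congr rfl fun ab _ => ?_
  have e : ∀ χ : IrrCharacter G, (∑ g ∈ S, conj ((χ : G → ℂ) g)) * (χ : G → ℂ) (ab.1 * ab.2) =
      ∑ g ∈ S, (χ : G → ℂ) (ab.1 * ab.2) * conj ((χ : G → ℂ) g) := fun χ => by
    rw [Finset.sum_mul]
    exact Finset.sum_congr rfl fun g _ => mul_comm _ _
  simp only [e]
  rw [Finset.sum_comm]
  simp only [column_orth_count]
  set h := ab.1 * ab.2
  simp only [Finset.natCast_card_filter]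
  rw [Finset.sum_comm]
  have e2 : ∀ u : G, (∑ g ∈ S, if u * g * u⁻¹ = h then (1 : ℂ) else 0) = if h ∈ S then 1 else 0 := by
    intro u
    have e3 : ∀ g, (u * g * u⁻¹ = h) ↔ g = u⁻¹ * h * u := fun g => by
      constructor
      · intro e4; rw [← e4]; group
      · intro e4; rw [e4]; group
    simp only [e3, Finset.sum_ite_eq']
    refine if_congr ⟨fun hh => ?_, fun hh => ?_⟩ rfl rfl
    · have := hS u _ hh
      simpa [mul_assoc] using this
    · simpa using hS u⁻¹ _ hh
  rw [Finset.sum_congr rfl fun u _ => e2 u, Finset.sum_const, Finset.card_univ,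
    ← Nat.card_eq_fintype_card, nsmul_eq_mul]

/-- The main counting contradiction. -/
theorem main [IsSimpleGroup G] (hp2 : p ≠ 2) (P : Sylow p G)
    (habel : ∀ u ∈ (P : Subgroup G), ∀ v ∈ (P : Subgroup G), u * v = v * u)
    (hexp : ∀ u ∈ (P : Subgroup G), u ^ p = 1) (x : G) (hxo : orderOf x = p)
    (hone : ∀ y : G, orderOf y = p → IsConj x y)
    (hnc : HasNormalPComplement p ↥(Subgroup.centralizer ({x} : Set G)))
    (hpairs : ∀ a b : G, orderOf a = p → orderOf b = p →
      IsPSolvable p ↥(Subgroup.closure ({a, b} : Set G))) : False := by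
  classical
  have hab : ∀ Q : Subgroup G, IsPGroup p Q → ∀ u ∈ Q, ∀ v ∈ Q, u * v = v * u := by
    intro Q hQ u hu v hv
    obtain ⟨R, hR⟩ := hQ.exists_le_sylow
    obtain ⟨g, rfl⟩ := MulAction.exists_smul_eq G P R
    obtain ⟨u', hu', rfl⟩ := hR hu
    obtain ⟨v', hv', rfl⟩ := hR hv
    show MulAut.conj g u' * MulAut.conj g v' = MulAut.conj g v' * MulAut.conj g u'
    rw [← map_mul, ← map_mul, habel u' hu' v' hv']
  set C := Subgroup.centralizer ({x} : Set G) with hC
  obtain ⟨Q, N, hNn, hNQ⟩ := hnc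
  haveI := hNn
  obtain ⟨k, hk⟩ := IsPGroup.iff_card.1 Q.2
  have hidx : N.index = p ^ k := by rw [Subgroup.IsComplement'.index_eq_card hNQ.symm, hk]
  have hNp : ¬ p ∣ Nat.card N := by
    intro h
    have h1 := Subgroup.IsComplement'.index_eq_card hNQ
    exact Q.not_dvd_index (h1 ▸ h)
  have hNreg : ∀ v : C, v ∈ N → ¬ p ∣ orderOf v := fun v hv h =>
    hNp (h.trans (Subgroup.orderOf_dvd_natCard N hv))
  have hregN : ∀ v : C, ¬ p ∣ orderOf v → v ∈ N := by
    intro v hv
    rw [← QuotientGroup.eq_one_iff, ← orderOf_eq_one_iff]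
    have hd : orderOf (v : C ⧸ N) ∣ p ^ k := hidx ▸ orderOf_dvd_natCard _
    exact Nat.eq_one_of_dvd_coprimes
      (Nat.Coprime.pow_right k ((Nat.Prime.coprime_iff_not_dvd hp.out).2 hv).symm)
      (orderOf_map_dvd (QuotientGroup.mk' N) v) hd
  have hqC : Nat.card C = p ^ k * Nat.card N := by rw [← N.index_mul_card, hidx]
  have hxp : ∃ i, orderOf x = p ^ i := ⟨1, by rw [hxo, pow_one]⟩
  have hfac : (Nat.card C).factorization p = k := by
    rw [hqC, Nat.factorization_mul (pow_ne_zero _ hp.out.ne_zero) Nat.card_pos.ne']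
    simp [hp.out.factorization_pow, Nat.factorization_eq_zero_of_not_dvd hNp,
      -Nat.card_eq_fintype_card]
  -- the section of `x`
  have hsec : ∀ v : C, v ∈ N → IsPPart p (x * (v : G)) x := fun v hv =>
    ⟨(v : G), rfl, (Subgroup.mem_centralizer_singleton_iff.1 v.2).symm, hxp, by
      rw [Subgroup.orderOf_coe]; exact hNreg v hv⟩
  have hfix : ∀ (u : G) (v w : C), v ∈ N → w ∈ N → u * (x * (v : G)) * u⁻¹ = x * (w : G) →
      u * x * u⁻¹ = x := fun u v w hv hw h =>
    isPPart_unique hp.out (IsPPart.conj (hsec v hv) u) (h ▸ hsec w hw)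
  set S : Finset G :=
    (Finset.univ : Finset (G × N)).image fun cv => cv.1 * (x * ((cv.2 : C) : G)) * cv.1⁻¹ with hSdef
  have hSconj : ∀ g h : G, h ∈ S → g * h * g⁻¹ ∈ S := by
    intro g h hh
    obtain ⟨⟨c, v⟩, -, rfl⟩ := Finset.mem_image.1 hh
    exact Finset.mem_image.2 ⟨(g * c, v), Finset.mem_univ _, by group⟩
  set idx := C.index with hidx'
  have hKcard : (classFinset x).card = idx := card_classFinset x
  have hKo : ∀ a ∈ classFinset x, orderOf a = p := fun a ha => by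
    obtain ⟨c, rfl⟩ := isConj_iff.1 (mem_classFinset.1 ha)
    rw [← MulAut.conj_apply, MulEquiv.orderOf_eq, hxo]
  -- singular products lie in `S`
  have hsing : ∀ a b : G, orderOf a = p → orderOf b = p → a * b ∉ S → ¬ p ∣ orderOf (a * b) := by
    intro a b ha hb hS h
    obtain ⟨y, hy⟩ := exists_isPPart hp.out (a * b)
    have hy1 : y ≠ 1 := fun e => (isPPart_one_iff hp.out).1 (e ▸ hy) h
    have hyo : orderOf y = p := orderOf_eq_prime ((pair_facts hpairs hab ha hb).1 y hy) hy1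
    obtain ⟨c, rfl⟩ := isConj_iff.1 (hone y hyo)
    have hy' := IsPPart.conj hy c⁻¹
    rw [show c⁻¹ * (c * x * c⁻¹) * c⁻¹⁻¹ = x by group] at hy'
    obtain ⟨w, hw, hwc, -, hwr⟩ := hy'
    have hwC : w ∈ C := Subgroup.mem_centralizer_singleton_iff.2 hwc.eq.symm
    refine hS (Finset.mem_image.2 ⟨(c, ⟨⟨w, hwC⟩, hregN _ (by rwa [← Subgroup.orderOf_coe])⟩),
      Finset.mem_univ _, ?_⟩)
    show c * (x * w) * c⁻¹ = a * b
    rw [hw]; group
  -- at most one product in `p - 1` is regular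
  set KK := classFinset x ×ˢ classFinset x with hKK
  set T := KK.filter fun ab => ab.1 * ab.2 ∈ S with hT
  set R := KK.filter fun ab => ¬ ab.1 * ab.2 ∈ S with hR
  have hsplit : T.card + R.card = idx * idx := by
    rw [hT, hR, Finset.card_filter_add_card_filter_not, hKK, Finset.card_product, hKcard]
  have hRle : R.card * (p - 1) ≤ idx * idx := by
    rw [← hKcard, ← Finset.card_product, ← hKK, ← Nat.card_Ico 1 p, ← Finset.card_product]
    refine Finset.card_le_card_of_injOn (fun t => (t.1.1, t.1.2 ^ t.2)) ?_ ?_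
    · rintro ⟨⟨a, b⟩, i⟩ ht
      simp only [hR, hKK, Finset.mem_coe, Finset.mem_product, Finset.mem_filter,
        Finset.mem_Ico] at ht ⊢
      refine ⟨ht.1.1.1, mem_classFinset.2 (hone _ ?_)⟩
      rw [Nat.Coprime.orderOf_pow, hKo b ht.1.1.2]
      rw [hKo b ht.1.1.2]
      exact (Nat.Prime.coprime_iff_not_dvd hp.out).2 (Nat.not_dvd_of_pos_of_lt ht.2.1 ht.2.2)
    · rintro ⟨⟨a, b⟩, i⟩ h1 ⟨⟨a', b'⟩, j⟩ h2 heq
      simp only [hR, hKK, Finset.mem_coe, Finset.mem_product, Finset.mem_filter,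
        Finset.mem_Ico] at h1 h2
      simp only [Prod.mk.injEq] at heq
      obtain ⟨rfl, hpow⟩ := heq
      have ha := hKo a h1.1.1.1
      have hb := hKo b h1.1.1.2
      have hb' := hKo b' h2.1.1.2
      obtain ⟨rfl, rfl⟩ := (pair_facts hpairs hab ha hb).2 b' i j hb' h1.2.1 h1.2.2 h2.2.1 h2.2.2
        (hsing a b ha hb h1.1.2) (hsing a b' ha hb' h2.1.2) hpow
      rfl
  have hhalf : idx * idx ≤ 2 * T.card := by
    have h3 : 2 ≤ p - 1 := by have := hp.out.two_le; omega
    have := (Nat.mul_le_mul_left R.card h3).trans hRle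
    omega
  -- the principal block
  obtain ⟨M, hM⟩ := GlaubermanMod.exists_isPModular p
  haveI : M.IsPrime := hM.2.1.isPrime
  set B := Finset.univ.filter (· ∈ principalBlock M G) with hB
  have hmemB : ∀ χ, χ ∈ B ↔ χ ∈ principalBlock M G := fun χ => by simp [hB]
  let A : IrrCharacter G → ℂ := fun χ => ∑ v : N, (χ : G → ℂ) (x * ((v : C) : G))
  have hAin : ∀ χ ∈ B, A χ = (Nat.card N : ℂ) * (χ : G → ℂ) x := fun χ hχ => by
    show ∑ v : N, (χ : G → ℂ) (x * ((v : C) : G)) = _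
    rw [Finset.sum_congr rfl fun (v : N) _ =>
      irr_section_of_kernel hM hxp rfl ((hmemB χ).1 hχ) N hNp v.2, Finset.sum_const,
      Finset.card_univ, ← Nat.card_eq_fintype_card, nsmul_eq_mul]
  have hPar : ∑ χ : IrrCharacter G, A χ * conj (A χ) = (Nat.card N : ℂ) * Nat.card C := by
    have e : ∀ χ : IrrCharacter G, A χ * conj (A χ) = ∑ w : N, ∑ v : N,
        (χ : G → ℂ) (x * ((v : C) : G)) * conj ((χ : G → ℂ) (x * ((w : C) : G))) := fun χ => by
      rw [map_sum, Finset.mul_sum]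
      exact Finset.sum_congr rfl fun w _ => Finset.sum_mul _ _ _
    simp only [e]
    rw [Finset.sum_comm]
    simp only [Finset.sum_comm (γ := IrrCharacter G)]
    simp only [column_orth_count, Finset.natCast_card_filter]
    have e2 : ∀ w : N, ∑ v : N, ∑ u : G,
        (if u * (x * ((w : C) : G)) * u⁻¹ = x * ((v : C) : G) then (1 : ℂ) else 0) =
          Nat.card C := by
      intro w
      rw [Finset.sum_comm]
      have e3 : ∀ u : G, (∑ v : N, if u * (x * ((w : C) : G)) * u⁻¹ = x * ((v : C) : G)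
          then (1 : ℂ) else 0) = if u ∈ C then 1 else 0 := by
        intro u
        by_cases hu : u ∈ C
        · rw [if_pos hu]
          let v₀ : N := ⟨⟨u, hu⟩ * (w : C) * ⟨u, hu⟩⁻¹, hNn.conj_mem _ w.2 _⟩
          have hux : u * x = x * u := (Subgroup.mem_centralizer_singleton_iff.1 hu)
          have he : u * (x * ((w : C) : G)) * u⁻¹ = x * ((v₀ : C) : G) := by
            show _ = x * (u * ((w : C) : G) * u⁻¹)
            rw [← mul_assoc u x, hux]; group
          rw [Finset.sum_eq_single v₀, if_pos he]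
          · intro v _ hv
            rw [if_neg]
            intro h
            exact hv (Subtype.ext (Subtype.ext (mul_left_cancel (h.symm.trans he))))
          · simp
        · rw [if_neg hu]
          refine Finset.sum_eq_zero fun v _ => if_neg fun h => hu ?_
          have := hfix u w v w.2 v.2 h
          rw [Subgroup.mem_centralizer_singleton_iff]
          exact mul_inv_eq_iff_eq_mul.1 this
      simp only [e3, ← Finset.natCast_card_filter, Nat.cast_inj]
      rw [Nat.card_eq_fintype_card]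
      exact (Fintype.card_subtype _).symm
    rw [Finset.sum_congr rfl fun w _ => e2 w, Finset.sum_const, Finset.card_univ,
      ← Nat.card_eq_fintype_card, nsmul_eq_mul]
  have hsumB : ∑ χ ∈ B, Complex.normSq ((χ : G → ℂ) x) = ((p ^ k : ℕ) : ℝ) := by
    have h := sum_normSq_section_principal (C := C) hM hxp rfl
      (y := (1 : C)) (by simpa using hp.out.ne_one)
    rw [blockPair_principal_of_pComplement hM N hNp ⟨k, hidx⟩ (by simpa using hp.out.ne_one),
      OneMemClass.coe_one, mul_one, hfac, blockPair] at h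
    apply Complex.ofReal_injective
    rw [Complex.ofReal_sum, Complex.ofReal_natCast, ← h]
    refine Finset.sum_congr (by ext; simp [hB]) fun χ _ => ?_
    rw [Complex.mul_conj]
  have hAout : ∀ χ, χ ∉ B → A χ = 0 := by
    intro χ hχ
    have h1 : ∑ ψ : IrrCharacter G, Complex.normSq (A ψ) = (Nat.card N : ℝ) * Nat.card C := by
      apply Complex.ofReal_injective
      rw [Complex.ofReal_sum, Complex.ofReal_mul, Complex.ofReal_natCast, Complex.ofReal_natCast,
        ← hPar]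
      exact Finset.sum_congr rfl fun ψ _ => (Complex.mul_conj _).symm
    have h2 : ∑ ψ ∈ B, Complex.normSq (A ψ) = (Nat.card N : ℝ) * Nat.card C := by
      rw [Finset.sum_congr rfl fun ψ hψ => by rw [hAin ψ hψ, Complex.normSq_mul,
        Complex.normSq_natCast], ← Finset.mul_sum, hsumB, hqC]
      push_cast
      ring
    rw [← Finset.sum_add_sum_compl B, h2] at h1
    have h3 : ∑ ψ ∈ Bᶜ, Complex.normSq (A ψ) = 0 := by linarith
    exact Complex.normSq_eq_zero.1
      ((Finset.sum_eq_zero_iff_of_nonneg fun ψ _ => Complex.normSq_nonneg _).1 h3 χ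
        (Finset.mem_compl.2 hχ))
  -- the values at `x` are integers
  set Q' := Nat.card (P : Subgroup G) with hQ'
  have hqP : p ^ k ≤ Q' := by
    refine Nat.le_of_dvd Nat.card_pos (P.pow_dvd_card_of_pow_dvd_card ?_)
    exact (hqC ▸ dvd_mul_right _ _ : p ^ k ∣ Nat.card C).trans (Subgroup.card_subgroup_dvd_card C)
  have hpQ : p ∣ Q' := by
    have := P.pow_dvd_card_of_pow_dvd_card (n := 1)
      (by rw [pow_one, ← hxo]; exact orderOf_dvd_natCard x)
    rwa [pow_one] at this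
  have hQ1 : 1 < Q' := lt_of_lt_of_le hp.out.one_lt (Nat.le_of_dvd Nat.card_pos hpQ)
  have hval : ∀ χ : IrrCharacter G, ∃ c : ℤ, (χ : G → ℂ) x = c ∧
      (Q' : ℤ) ∣ (charDegree (χ : G → ℂ) : ℤ) - c := by
    intro χ
    haveI : Fintype (P : Subgroup G) := Fintype.ofFinite _
    obtain ⟨m, hm⟩ := exists_sum_subgroup_eq (P : Subgroup G) χ
    have hsum : (χ : G → ℂ) 1 + ((Q' - 1 : ℕ) : ℂ) * (χ : G → ℂ) x = (Q' : ℂ) * m := by
      rw [← hm, ← Finset.add_sum_erase _ _ (Finset.mem_univ (1 : (P : Subgroup G)))]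
      congr 1
      rw [Finset.sum_congr rfl (g := fun _ => (χ : G → ℂ) x) fun u hu => ?_, Finset.sum_const,
        Finset.card_erase_of_mem (Finset.mem_univ _), Finset.card_univ,
        ← Nat.card_eq_fintype_card, nsmul_eq_mul]
      exact irr_isConj χ (hone _ (orderOf_eq_prime (hexp _ u.2)
        fun h => (Finset.mem_erase.1 hu).1 (Subtype.ext h)))
    rw [irr_one_eq_charDegree] at hsum
    set d := charDegree (χ : G → ℂ)
    have hQc : ((Q' - 1 : ℕ) : ℂ) ≠ 0 := Nat.cast_ne_zero.2 (by omega)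
    have hq : (χ : G → ℂ) x = ((((Q' : ℚ) * m - d) / ((Q' - 1 : ℕ) : ℚ) : ℚ) : ℂ) := by
      push_cast
      rw [eq_div_iff hQc]
      linear_combination hsum
    obtain ⟨c, hc⟩ := exists_int_of_isIntegral (hq ▸ irr_isIntegral χ x)
    have hxc : (χ : G → ℂ) x = (c : ℂ) := by rw [hq, hc, Rat.cast_intCast]
    refine ⟨c, hxc, (m : ℤ) - c, ?_⟩
    rw [hxc] at hsum
    have hcast : (((Q' - 1 : ℕ) : ℤ)) = (Q' : ℤ) - 1 := by omega
    have hz : (d : ℤ) + ((Q' - 1 : ℕ) : ℤ) * c = (Q' : ℤ) * m := by exact_mod_cast hsum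
    rw [hcast] at hz
    linear_combination hz
  choose c hc hdvd using hval
  have hc2 : ∑ χ ∈ B, ((c χ : ℝ)) ^ 2 = ((p ^ k : ℕ) : ℝ) := by
    rw [← hsumB]
    refine Finset.sum_congr rfl fun χ _ => ?_
    rw [hc, ← Complex.ofReal_intCast, Complex.normSq_ofReal]
    ring
  have hdeg : ∑ χ ∈ B, (charDegree (χ : G → ℂ) : ℝ) * c χ = 0 := by
    have h0 : ∑ χ : IrrCharacter G, (χ : G → ℂ) 1 * conj (A χ) = 0 := by
      simp only [A, map_sum, Finset.mul_sum]
      rw [Finset.sum_comm]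
      refine Finset.sum_eq_zero fun v _ => column_orth_of_not_isConj fun h => ?_
      have := hsec v v.2
      rw [isConj_one_right.1 h] at this
      have h1 := isPPart_unique hp.out this ((isPPart_one_iff hp.out).2 (by simpa using hp.out.ne_one))
      rw [h1, orderOf_one] at hxo
      exact hp.out.ne_one hxo.symm
    rw [← Finset.sum_add_sum_compl B, Finset.sum_eq_zero (s := Bᶜ) (fun χ hχ => by
      rw [hAout χ (Finset.mem_compl.1 hχ), map_zero, mul_zero]), add_zero] at h0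
    have h1 : (Nat.card N : ℂ) * ∑ χ ∈ B, (charDegree (χ : G → ℂ) : ℂ) * (c χ : ℂ) = 0 := by
      rw [← h0, Finset.mul_sum]
      refine Finset.sum_congr rfl fun χ hχ => ?_
      rw [hAin χ hχ, hc, irr_one_eq_charDegree, map_mul, map_natCast, map_intCast]
      ring
    have h2 := (mul_eq_zero.1 h1).resolve_left (Nat.cast_ne_zero.2 Nat.card_pos.ne')
    apply Complex.ofReal_injective
    push_cast
    exact h2
  -- the number of singular products
  have hSsum : ∀ χ : IrrCharacter G, (Nat.card C : ℂ) * ∑ g ∈ S, conj ((χ : G → ℂ) g) =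
      (Nat.card G : ℂ) * conj (A χ) := by
    intro χ
    have h : ∑ cv : G × N, conj ((χ : G → ℂ) (cv.1 * (x * ((cv.2 : C) : G)) * cv.1⁻¹)) =
        (Nat.card G : ℂ) * conj (A χ) := by
      rw [Fintype.sum_prod_type]
      simp only [irr_conj_invariant, A, map_sum]
      rw [Finset.sum_const, Finset.card_univ, ← Nat.card_eq_fintype_card, nsmul_eq_mul]
    rw [← h, Finset.mul_sum,
      ← Finset.sum_fiberwise_of_maps_to (t := S)
        (g := fun cv : G × N => cv.1 * (x * ((cv.2 : C) : G)) * cv.1⁻¹)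
        (fun cv hcv => Finset.mem_image_of_mem _ hcv)]
    refine Finset.sum_congr rfl fun g hg => ?_
    rw [Finset.sum_congr rfl (g := fun _ => conj ((χ : G → ℂ) g)) fun cv hcv => by
      rw [(Finset.mem_filter.1 hcv).2], Finset.sum_const, nsmul_eq_mul]
    congr 2
    obtain ⟨⟨c₀, v₀⟩, -, hg₀⟩ := Finset.mem_image.1 hg
    rw [← Fintype.card_subtype, ← Nat.card_eq_fintype_card]
    refine Nat.card_congr (Equiv.ofBijective (fun u : C =>
      ⟨(c₀ * (u : G), (⟨u⁻¹ * (v₀ : C) * u, by simpa using hNn.conj_mem _ v₀.2 u⁻¹⟩ : N)), ?_⟩)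
      ⟨?_, ?_⟩)
    · show c₀ * (u : G) * (x * ((u : G)⁻¹ * ((v₀ : C) : G) * (u : G))) * (c₀ * (u : G))⁻¹ = g
      rw [← hg₀]
      have hux : (u : G) * x = x * (u : G) := Subgroup.mem_centralizer_singleton_iff.1 u.2
      calc c₀ * (u : G) * (x * ((u : G)⁻¹ * ((v₀ : C) : G) * (u : G))) * (c₀ * (u : G))⁻¹
          = c₀ * ((u : G) * x) * (u : G)⁻¹ * ((v₀ : C) : G) * c₀⁻¹ := by group
        _ = c₀ * (x * ((v₀ : C) : G)) * c₀⁻¹ := by rw [hux]; group
    · intro u u' h
      simp only [Subtype.mk.injEq, Prod.mk.injEq, mul_right_inj] at h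
      exact Subtype.ext h.1
    · rintro ⟨⟨c₁, v₁⟩, h1⟩
      have hu : c₀⁻¹ * c₁ ∈ C := by
        rw [Subgroup.mem_centralizer_singleton_iff]
        refine mul_inv_eq_iff_eq_mul.1 (hfix (c₀⁻¹ * c₁) v₁ v₀ v₁.2 v₀.2 ?_)
        rw [← hg₀] at h1
        calc c₀⁻¹ * c₁ * (x * ((v₁ : C) : G)) * (c₀⁻¹ * c₁)⁻¹
            = c₀⁻¹ * (c₁ * (x * ((v₁ : C) : G)) * c₁⁻¹) * c₀ := by group
          _ = x * ((v₀ : C) : G) := by rw [h1]; group
      refine ⟨⟨c₀⁻¹ * c₁, hu⟩, Subtype.ext (Prod.ext (by simp) (Subtype.ext (Subtype.ext ?_)))⟩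
      show (c₀⁻¹ * c₁)⁻¹ * ((v₀ : C) : G) * (c₀⁻¹ * c₁) = ((v₁ : C) : G)
      have hux : c₀⁻¹ * c₁ * x = x * (c₀⁻¹ * c₁) := Subgroup.mem_centralizer_singleton_iff.1 hu
      rw [← hg₀] at h1
      apply mul_left_cancel (a := x)
      calc x * ((c₀⁻¹ * c₁)⁻¹ * ((v₀ : C) : G) * (c₀⁻¹ * c₁))
          = (c₀⁻¹ * c₁)⁻¹ * ((c₀⁻¹ * c₁ * x) * (c₀⁻¹ * c₁)⁻¹ * ((v₀ : C) : G)) * (c₀⁻¹ * c₁) := by
            group
        _ = c₁⁻¹ * (c₀ * (x * ((v₀ : C) : G)) * c₀⁻¹) * c₁ := by rw [hux]; group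
        _ = x * ((v₁ : C) : G) := by rw [← h1]; group
  have hcount := count_pairs x S hSconj
  have hid : ((p ^ k : ℕ) : ℝ) * T.card =
      (idx : ℝ) ^ 2 * ∑ χ ∈ B, (c χ : ℝ) ^ 3 / charDegree (χ : G → ℂ) := by
    have hCne : (Nat.card C : ℂ) ≠ 0 := Nat.cast_ne_zero.2 Nat.card_pos.ne'
    have h1 : (Nat.card C : ℂ) * ((Nat.card G : ℂ) * T.card) = (Nat.card G : ℂ) * (Nat.card N : ℂ) *
        ((idx : ℂ) ^ 2 * ∑ χ ∈ B, (c χ : ℂ) ^ 3 / charDegree (χ : G → ℂ)) := by
      rw [hT, hKK, hcount, Finset.mul_sum, ← Finset.sum_add_sum_compl B,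
        Finset.sum_eq_zero (s := Bᶜ) (fun χ hχ => by
          rw [← mul_assoc, hSsum, hAout χ (Finset.mem_compl.1 hχ), map_zero, mul_zero, zero_mul]),
        add_zero, Finset.mul_sum, Finset.mul_sum]
      refine Finset.sum_congr rfl fun χ hχ => ?_
      rw [← mul_assoc, hSsum, hAin χ hχ, hc, irr_one_eq_charDegree, map_mul, map_natCast,
        map_intCast]
      ring
    have hGne : (Nat.card G : ℂ) ≠ 0 := Nat.cast_ne_zero.2 Nat.card_pos.ne'
    have hNne : (Nat.card N : ℂ) ≠ 0 := Nat.cast_ne_zero.2 Nat.card_pos.ne'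
    rw [hqC, Nat.cast_mul] at h1
    apply Complex.ofReal_injective
    push_cast
    apply mul_left_cancel₀ (mul_ne_zero hGne hNne)
    push_cast at h1
    linear_combination h1
  -- the estimate
  set χ₁ := Char.principal G with hχ₁
  have h1B : χ₁ ∈ B := (hmemB _).2 principal_mem_principalBlock
  have hc1 : c χ₁ = 1 := by
    have h : (χ₁ : G → ℂ) x = (1 : ℂ) := rfl
    rw [hc] at h
    exact_mod_cast h
  have hd1 : charDegree (χ₁ : G → ℂ) = 1 := by
    have h : (χ₁ : G → ℂ) 1 = (1 : ℂ) := rfl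
    rw [irr_one_eq_charDegree] at h
    exact_mod_cast h
  set F : IrrCharacter G → ℝ := fun χ => (c χ : ℝ) ^ 2 - 2 * ((c χ : ℝ) ^ 3 / charDegree (χ : G → ℂ))
    with hF
  have hterm : ∀ χ ∈ B.erase χ₁, 0 ≤ F χ ∧ (c χ < 0 → 1 < F χ) := by
    intro χ hχ
    obtain ⟨hne, hχB⟩ := Finset.mem_erase.1 hχ
    set d := charDegree (χ : G → ℂ) with hd
    have hd0 : (0 : ℝ) < d := Nat.cast_pos.2 (charDegree_pos χ)
    have hneg : c χ < 0 → 1 < F χ := by
      intro hlt
      have h1 : (c χ : ℝ) ≤ -1 := by exact_mod_cast (show c χ ≤ -1 by omega)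
      have h3 : 1 ≤ (c χ : ℝ) ^ 2 := by nlinarith
      have h4 : (c χ : ℝ) ^ 3 < 0 := by
        have e : (c χ : ℝ) ^ 3 = c χ * (c χ : ℝ) ^ 2 := by ring
        nlinarith
      have h2 : (c χ : ℝ) ^ 3 / d < 0 := div_neg_of_neg_of_pos h4 hd0
      simp only [hF]
      rw [← hd]
      nlinarith
    refine ⟨?_, hneg⟩
    rcases lt_trichotomy (c χ) 0 with hlt | h0 | hpos
    · linarith [hneg hlt]
    · simp [hF, h0]
    -- positive values
    have hle : (c χ : ℝ) ^ 2 ≤ ((p ^ k : ℕ) : ℝ) - 1 := by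
      have h2 := Finset.sum_le_sum_of_subset_of_nonneg (f := fun ψ => (c ψ : ℝ) ^ 2)
        (show ({χ₁, χ} : Finset (IrrCharacter G)) ⊆ B by
          simp [Finset.insert_subset_iff, h1B, hχB]) (fun ψ _ _ => sq_nonneg _)
      rw [Finset.sum_pair (Ne.symm hne), hc2, hc1] at h2
      push_cast at h2 ⊢
      linarith
    have hcQ : c χ < (Q' : ℤ) := by
      have h1 : (c χ : ℝ) ≤ (c χ : ℝ) ^ 2 := by
        have : (1 : ℝ) ≤ c χ := by exact_mod_cast hpos
        nlinarith
      have h2 : ((p ^ k : ℕ) : ℝ) ≤ Q' := by exact_mod_cast hqP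
      have h3 : (c χ : ℝ) < (Q' : ℝ) := by linarith
      exact_mod_cast h3
    have hne' : (d : ℤ) ≠ c χ := by
      intro he
      obtain ⟨W, hWn, hWmem, -⟩ := IsCharacter.exists_kernel (irr_isCharacter χ)
      have hxW : x ∈ W := (hWmem x).2 (by
        rw [hc, irr_one_eq_charDegree, ← he, ← hd, Int.cast_natCast])
      have htop : W = ⊤ := by
        refine (hWn.eq_bot_or_eq_top).resolve_left fun h => ?_
        rw [h, Subgroup.mem_bot] at hxW
        rw [hxW, orderOf_one] at hxo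
        exact hp.out.ne_one hxo.symm
      have hconst : ∀ g, (χ : G → ℂ) g = (χ : G → ℂ) 1 := fun g =>
        (hWmem g).1 (htop ▸ Subgroup.mem_top g)
      have h0 := classInner_irr_of_ne χ.2 χ₁.2 (fun h => hne (Subtype.ext h))
      rw [classInner] at h0
      simp only [hconst, hχ₁, Char.principal, map_one, mul_one, Finset.sum_const,
        Finset.card_univ, nsmul_eq_mul, ← Nat.card_eq_fintype_card] at h0
      rw [← mul_assoc, inv_mul_cancel₀ (Nat.cast_ne_zero.2 Nat.card_pos.ne'), one_mul] at h0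
      exact irr_one_ne_zero χ h0
    have hle' : c χ ≤ (d : ℤ) := by
      obtain ⟨n, ρ, hρ, hρχ⟩ := χ.2
      have h := norm_char_le ρ x
      rw [hρχ, hc, Module.finrank_pi, Fintype.card_fin, Complex.norm_intCast] at h
      have hdn : d = n := by
        have h' : (χ : G → ℂ) 1 = n := by rw [← hρχ, Representation.char_one]; simp
        rw [irr_one_eq_charDegree] at h'
        exact_mod_cast h'
      have : (c χ : ℝ) ≤ (d : ℝ) := (le_abs_self _).trans (hdn ▸ h)
      exact_mod_cast this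
    have hgap : (Q' : ℤ) ≤ (d : ℤ) - c χ := Int.le_of_dvd (by omega) (hdvd χ)
    have h2c : 2 * (c χ : ℝ) ≤ d := by exact_mod_cast (show 2 * c χ ≤ (d : ℤ) by omega)
    simp only [hF]
    rw [← hd, sub_nonneg, ← mul_div_assoc, div_le_iff₀ hd0]
    nlinarith [sq_nonneg (c χ : ℝ)]
  obtain ⟨χ₀, hχ₀, hneg⟩ : ∃ χ ∈ B.erase χ₁, c χ < 0 := by
    by_contra hh
    push Not at hh
    have h := Finset.add_sum_erase B (fun χ => (charDegree (χ : G → ℂ) : ℝ) * c χ) h1B
    rw [hdeg, hc1, hd1] at h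
    have : 0 ≤ ∑ χ ∈ B.erase χ₁, (charDegree (χ : G → ℂ) : ℝ) * c χ :=
      Finset.sum_nonneg fun χ hχ => mul_nonneg (Nat.cast_nonneg _) (by exact_mod_cast hh χ hχ)
    push_cast at h
    linarith
  have hsumF : 1 < ∑ χ ∈ B.erase χ₁, F χ :=
    ((hterm χ₀ hχ₀).2 hneg).trans_le
      (Finset.single_le_sum (fun χ hχ => (hterm χ hχ).1) hχ₀)
  have htot : 2 * ∑ χ ∈ B, (c χ : ℝ) ^ 3 / charDegree (χ : G → ℂ) < ((p ^ k : ℕ) : ℝ) := by
    have h := Finset.add_sum_erase B F h1B
    have h' : ∑ χ ∈ B, F χ = ((p ^ k : ℕ) : ℝ) -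
        2 * ∑ χ ∈ B, (c χ : ℝ) ^ 3 / charDegree (χ : G → ℂ) := by
      rw [← hc2, Finset.mul_sum, ← Finset.sum_sub_distrib]
    rw [h'] at h
    have : F χ₁ = -1 := by simp only [hF, hc1, hd1]; norm_num
    linarith
  have hidx0 : (0 : ℝ) < (idx : ℝ) ^ 2 := by
    have : idx ≠ 0 := Subgroup.index_ne_zero_of_finite
    positivity
  have hh : ((idx : ℝ)) ^ 2 ≤ 2 * (T.card : ℝ) := by
    rw [sq]; exact_mod_cast hhalf
  nlinarith [mul_le_mul_of_nonneg_left hh (Nat.cast_nonneg (α := ℝ) (p ^ k)),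
    mul_lt_mul_of_pos_left htot hidx0]

end Cfsg.Agent.Blocks.PairSing
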