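/-
Groups all of whose non-linear irreducible degrees are primes are solvable.
-/
import Cfsg.Agent.Lib.DefOne.Order7920
import Cfsg.Agent.Lib.Char.CoprimeConstituent
import Cfsg.Agent.Lib.Char.Burnside
import Cfsg.Agent.Lib.Char.Clifford
import Cfsg.Agent.Lib.Char.Degree
import Cfsg.Agent.Lib.Char.DegreeCenter

set_option linter.unusedSectionVars false
set_option linter.style.haveILetI false

namespace Cfsg.Agent.PrimeDegrees

open Cfsg Cfsg.Agent.Char Cfsg.Agent.Blocks Cfsg.Agent.DefOne Cfsg.Agent.DefOne.Order7920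
  Cfsg.Agent.CCSylow

open scoped ComplexConjugate

universe u

section Simple

variable {G : Type u} [Group G] [Fintype G] [IsSimpleGroup G]

/-- The value at a central element of a Sylow subgroup, for a degree prime to the index. -/
theorem value_zero (hnp : ¬ (Nat.card G).Prime) {p : ℕ} [Fact p.Prime] (P : Sylow p G)
    {χ : IrrCharacter G} (hne : χ ≠ principal G) (hdeg : charDegree (χ : G → ℂ) = p)
    (z : (P : Subgroup G)) (hz : z ∈ Subgroup.center (P : Subgroup G)) (hz1 : z ≠ 1) :
    (χ : G → ℂ) (z : G) = 0 := by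
  have hp : p.Prime := Fact.out
  have hle : (P : Subgroup G) ≤ Subgroup.centralizer ({(z : G)} : Set G) := by
    intro w hw
    rw [Subgroup.mem_centralizer_singleton_iff]
    exact congrArg Subtype.val (Subgroup.mem_center_iff.mp hz ⟨w, hw⟩)
  have hcop : Nat.Coprime p (Subgroup.centralizer ({(z : G)} : Set G)).index :=
    hp.coprime_iff_not_dvd.2 fun h => P.not_dvd_index (h.trans (Subgroup.index_dvd_of_le hle))
  obtain ⟨n, ρ, hρ, hρχ⟩ := χ.2
  have hrank : Module.finrank ℂ (Fin n → ℂ) = p := by
    have h2 := irr_one_eq_charDegree χ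
    rw [hdeg, ← hρχ, Representation.char_one] at h2
    exact_mod_cast h2
  rcases eq_zero_or_norm_eq ρ (z : G) (hrank ▸ hcop) with hv | hv
  · rwa [hρχ] at hv
  · rw [hρχ, hrank] at hv
    refine absurd ?_ (norm_ne hnp hne (g := (z : G)) fun h => hz1 (Subtype.ext h))
    rw [hv, hdeg]

/-- A prime which is a degree divides the order of a simple group exactly once. -/
theorem factorization_eq_one (hnp : ¬ (Nat.card G).Prime) {p : ℕ} [Fact p.Prime]
    {χ : IrrCharacter G} (hne : χ ≠ principal G) (hdeg : charDegree (χ : G → ℂ) = p) :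
    (Nat.card G).factorization p = 1 := by
  classical
  have hp : p.Prime := Fact.out
  have hpd : p ∣ Nat.card G := hdeg ▸ charDegree_dvd_card χ
  obtain ⟨P⟩ : Nonempty (Sylow p G) := inferInstance
  haveI : Fintype (P : Subgroup G) := Fintype.ofFinite _
  have hpos := hp.factorization_pos_of_dvd Nat.card_pos.ne' hpd
  haveI : Nontrivial (P : Subgroup G) := by
    rw [← Finite.one_lt_card_iff_nontrivial, Sylow.card_eq_multiplicity]
    exact Nat.one_lt_pow hpos.ne' hp.one_lt
  haveI := P.2.center_nontrivial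
  obtain ⟨z, hz⟩ := exists_ne (1 : Subgroup.center (P : Subgroup G))
  have hres := IsCharacter.restrict (irr_isCharacter χ) (P : Subgroup G)
  -- every constituent on the Sylow subgroup is linear
  have hlin : ∀ ψ : IrrCharacter (P : Subgroup G),
      classInner (fun h : (P : Subgroup G) => (χ : G → ℂ) h) (ψ : ↥(P : Subgroup G) → ℂ) ≠ 0 →
      charDegree (ψ : ↥(P : Subgroup G) → ℂ) = 1 := by
    intro ψ hψ
    obtain ⟨k, hk⟩ := P.2.exists_card_eq
    obtain ⟨j, -, hj⟩ := (Nat.dvd_prime_pow hp).1 (hk ▸ charDegree_dvd_card ψ)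
    rcases Nat.eq_zero_or_pos j with rfl | hj0
    · simpa using hj
    exfalso
    have hle : charDegree (ψ : ↥(P : Subgroup G) → ℂ) ≤ p :=
      degree_le_of_constituent hres ψ.2 hψ
        (by rw [OneMemClass.coe_one, irr_one_eq_charDegree, hdeg]) (irr_one_eq_charDegree ψ)
    have hj1 : charDegree (ψ : ↥(P : Subgroup G) → ℂ) = p :=
      le_antisymm hle (hj ▸ Nat.le_self_pow hj0.ne' p)
    have heq := eq_of_constituent_degree hres ψ.2 hψ
      (by rw [OneMemClass.coe_one, irr_one_eq_charDegree, irr_one_eq_charDegree, hdeg, hj1])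
    have h0 : (ψ : ↥(P : Subgroup G) → ℂ) (z : (P : Subgroup G)) = 0 := by
      rw [← congrFun heq (z : (P : Subgroup G))]
      exact value_zero hnp P hne hdeg _ z.2 fun h => hz (Subtype.ext h)
    obtain ⟨c, hc, hmul, -⟩ := IsIrrCharacter.exists_central_scalar ψ.2 z.2
    have h1 := hmul 1
    rw [mul_one, h0, irr_one_eq_charDegree, hj1] at h1
    rcases mul_eq_zero.1 h1.symm with h2 | h2
    · rw [h2, norm_zero] at hc; exact zero_ne_one hc
    · exact hp.ne_zero (by exact_mod_cast h2)
  -- so the Sylow subgroup is abelian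
  have hcomm : ∀ a b : (P : Subgroup G), a * b = b * a := by
    intro a b
    have h1 : (χ : G → ℂ) ((a * b * a⁻¹ * b⁻¹ : (P : Subgroup G)) : G) = (χ : G → ℂ) 1 := by
      have hs := IsCharacter.eq_sum hres
      have ha := congrFun hs (a * b * a⁻¹ * b⁻¹)
      have hb := congrFun hs 1
      rw [← show ((1 : (P : Subgroup G)) : G) = 1 from OneMemClass.coe_one _]
      rw [ha, hb, Finset.sum_apply, Finset.sum_apply]
      refine Finset.sum_congr rfl fun ψ _ => ?_
      simp only [Pi.smul_apply, smul_eq_mul]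
      by_cases hψ : classInner (fun h : (P : Subgroup G) => (χ : G → ℂ) h)
          (ψ : ↥(P : Subgroup G) → ℂ) = 0
      · rw [hψ, zero_mul, zero_mul]
      · obtain ⟨f, hf⟩ := exists_hom_of_degree_one (irr_isCharacter ψ)
          (by rw [irr_one_eq_charDegree, hlin ψ hψ, Nat.cast_one])
        rw [hf]
        simp [mul_comm]
    have h2 := faithful hne _ h1
    have h3 : a * b * a⁻¹ * b⁻¹ = 1 := Subtype.ext (by rw [h2, OneMemClass.coe_one])
    rwa [mul_inv_eq_one, mul_inv_eq_iff_eq_mul] at h3
  -- the sum over the Sylow subgroup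
  obtain ⟨m, hm⟩ := exists_sum_subgroup_eq (P : Subgroup G) χ
  rw [Finset.sum_eq_single (1 : (P : Subgroup G))
    (fun x _ hx => value_zero hnp P hne hdeg x
      (Subgroup.mem_center_iff.2 fun w => hcomm w x) hx) (by simp),
    OneMemClass.coe_one, irr_one_eq_charDegree, hdeg, ← Nat.cast_mul, Nat.cast_inj,
    Sylow.card_eq_multiplicity] at hm
  have hle := Nat.le_of_dvd hp.pos ⟨m, hm⟩
  by_contra h
  have : p ^ 2 ≤ p := (Nat.pow_le_pow_right hp.pos (by omega)).trans hle
  nlinarith [hp.two_le]

/-- A non-abelian simple group has order divisible by four or odd order. -/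
theorem two_fac_ne_one (hnp : ¬ (Nat.card G).Prime) : (Nat.card G).factorization 2 ≠ 1 := by
  intro h
  obtain ⟨P⟩ : Nonempty (Sylow 2 G) := inferInstance
  have hP : Nat.card (P : Subgroup G) = 2 := by rw [Sylow.card_eq_multiplicity, h, pow_one]
  haveI hcy : IsCyclic (P : Subgroup G) := isCyclic_of_prime_card hP
  have h2 : 2 ∣ Nat.card G := hP ▸ Subgroup.card_subgroup_dvd_card (P : Subgroup G)
  have hmin : (Nat.card G).minFac = 2 := (Nat.minFac_eq_two_iff _).2 h2
  have hc := IsCyclic.isComplement' hmin (P := P) hcy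
  rcases IsSimpleGroup.eq_bot_or_eq_top_of_normal
      (MonoidHom.transferSylow P (IsCyclic.normalizer_le_centralizer hmin hcy)).ker
      inferInstance with e | e
  · rw [e] at hc
    rw [Subgroup.isComplement'_bot_left] at hc
    exact hnp (by rw [← Subgroup.card_top, ← hc, hP]; exact Nat.prime_two)
  · rw [e] at hc
    rw [Subgroup.isComplement'_top_left] at hc
    rw [hc, Subgroup.card_bot] at hP
    exact absurd hP (by norm_num)

/-- No simple group has all non-linear degrees prime. -/
theorem not_all_prime (hnp : ¬ (Nat.card G).Prime)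
    (h : ∀ χ : IrrCharacter G, charDegree (χ : G → ℂ) ≠ 1 → (charDegree (χ : G → ℂ)).Prime) :
    False := by
  classical
  -- a non-principal character of the largest degree
  have hexne : ∃ χ : IrrCharacter G, χ ≠ principal G := by
    by_contra hcon
    push Not at hcon
    have hs := Cfsg.Agent.CharX.sum_deg_sq (G := G)
    rw [Fintype.sum_eq_single (principal G) (fun χ hχ => absurd (hcon χ) hχ),
      show charDegree (principal G : G → ℂ) = 1 from Cfsg.Agent.CharX.charDegree_one] at hs
    have := Finite.one_lt_card (α := G)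
    omega
  obtain ⟨χ₀, hχ₀⟩ := hexne
  obtain ⟨χm, -, hmax⟩ := Finset.exists_max_image Finset.univ
    (fun χ : IrrCharacter G => charDegree (χ : G → ℂ)) ⟨χ₀, Finset.mem_univ _⟩
  set p := charDegree (χm : G → ℂ) with hpdef
  have hp : p.Prime := by
    refine h χm fun h1 => ?_
    have h2 := hmax χ₀ (Finset.mem_univ _)
    have h3 : 0 < charDegree (χ₀ : G → ℂ) := charDegree_pos χ₀
    exact hχ₀ (eq_principal_of_deg_one hnp (by omega))
  haveI := Fact.mk hp
  have hmne : χm ≠ principal G := fun e => hp.ne_one (by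
    rw [hpdef, e]; exact Cfsg.Agent.CharX.charDegree_one)
  have hfac := factorization_eq_one hnp hmne rfl
  obtain ⟨P⟩ : Nonempty (Sylow p G) := inferInstance
  have hP : Nat.card P = p := by rw [Sylow.card_eq_multiplicity, hfac, pow_one]
  obtain ⟨V, e, K0, -⟩ := exists_conf hp P hP
  have K : Conf p (P : Subgroup G) V (Subgroup.normalizer ((P : Subgroup G) : Set G)) e := K0
  haveI : Fintype (P : Subgroup G) := Fintype.ofFinite _
  haveI : Fintype V := Fintype.ofFinite _
  haveI : Fintype (Subgroup.normalizer ((P : Subgroup G) : Set G)) := Fintype.ofFinite _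
  haveI : Fintype ((P : Subgroup G) →* ℂˣ) := Fintype.ofFinite _
  obtain ⟨M, hM⟩ := exists_isPModular_witness p
  haveI := IsPModular.isPrime hM
  obtain ⟨eb, X, Y, δ, sg, F⟩ := exists_families K hM (trivB V)
  have hB := principal_eq K hM F
  -- no non-principal character lies in the first family
  have hX : ∀ χ ∈ X, χ = principal G := by
    intro χ hχ
    by_contra hne
    have h1 : charDegree (χ : G → ℂ) ≠ 1 := fun h1 => hne (eq_principal_of_deg_one hnp h1)
    have hdp := h χ h1
    have hle := hmax χ (Finset.mem_univ _)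
    have hd2 : charDegree (χ : G → ℂ) ≠ 2 := by
      intro h2
      have h2fac := factorization_eq_one (p := 2) hnp hne h2
      exact two_fac_ne_one hnp h2fac
    have hc := degree_congr K hM (χ := χ) (by rw [hB]; exact Or.inl hχ)
    rw [Families.sum_X K F hχ] at hc
    have hc' : (p : ℤ) ∣ (charDegree (χ : G → ℂ) : ℤ) - sg χ := by
      have h3 := Int.modEq_iff_dvd.1 hc.symm
      have h4 : (p : ℤ) ∣ (p : ℤ) * sg χ := dvd_mul_right _ _
      have h5 := h3.sub h4
      obtain ⟨k, hk⟩ := h5
      exact ⟨k, by rw [← hk]; ring⟩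
    have hd3 : 3 ≤ charDegree (χ : G → ℂ) := by have := hdp.two_le; omega
    rcases eq_or_lt_of_le hle with heq | hlt
    · rw [heq] at hc'
      have : (p : ℤ) ∣ sg χ := by
        have := (dvd_refl (p : ℤ)).sub hc'
        simpa using this
      rcases F.signX χ hχ with e1 | e1 <;> rw [e1] at this <;>
        have h6 := Int.le_of_dvd one_pos (by simpa using this) <;> have := hp.two_le <;> omega
    · rcases F.signX χ hχ with e1 | e1 <;> rw [e1] at hc'
      · have := Int.le_of_dvd (by omega) hc'
        omega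
      · have h6 : (p : ℤ) ≤ (charDegree (χ : G → ℂ) : ℤ) - -1 := Int.le_of_dvd (by omega) hc'
        have hpe : p = charDegree (χ : G → ℂ) + 1 := by omega
        rcases hp.eq_two_or_odd with h7 | h7 <;> rcases hdp.eq_two_or_odd with h8 | h8 <;> omega
  obtain ⟨θ, hθ⟩ := F.nonempty
  have hXeq : X = {principal G} := by
    have hne : X.Nonempty := Finset.card_pos.1 (by rw [F.cardX]; exact Families.eb_pos K F)
    obtain ⟨a, ha⟩ := hne
    exact Finset.eq_singleton_iff_unique_mem.2 ⟨hX a ha ▸ ha, hX⟩
  have hr := Families.relation K F hθ (g := (1 : G)) (by simpa using hp.ne_one)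
  rw [hXeq] at hr
  simp only [Finset.sum_singleton, irr_one_eq_charDegree,
    show charDegree (principal G : G → ℂ) = 1 from Cfsg.Agent.CharX.charDegree_one] at hr
  have hr' : sg (principal G) * ((1 : ℕ) : ℤ) + δ * (charDegree (θ : G → ℂ) : ℤ) = 0 := by
    exact_mod_cast hr
  have hmem : principal G ∈ X := hXeq ▸ Finset.mem_singleton_self _
  have hθ1 : charDegree (θ : G → ℂ) = 1 := by
    rcases F.sign with e1 | e1 <;> rcases F.signX _ hmem with e2 | e2 <;>
      rw [e1, e2] at hr' <;> omega
  exact Finset.disjoint_left.1 F.disj hmem (eq_principal_of_deg_one hnp hθ1 ▸ hθ)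

end Simple

/-- Groups with all non-linear degrees prime are solvable. -/
theorem isSolvable : ∀ (n : ℕ) (G : Type u) [Group G] [Finite G], Nat.card G = n →
    (∀ χ : IrrCharacter G, charDegree (χ : G → ℂ) ≠ 1 → (charDegree (χ : G → ℂ)).Prime) →
    Group.IsSolvable G := by
  intro n
  induction n using Nat.strong_induction_on with
  | _ n ih =>
    intro G _ _ hn h
    haveI : Fintype G := Fintype.ofFinite G
    by_cases hcomm : ∀ a b : G, a * b = b * a
    · exact Group.isSolvable_of_comm hcomm
    haveI : Nontrivial G := by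
      by_contra hnt
      rw [not_nontrivial_iff_subsingleton] at hnt
      exact hcomm fun a b => Subsingleton.elim _ _
    by_cases hsimple : ∀ H : Subgroup G, H.Normal → H = ⊥ ∨ H = ⊤
    · haveI : IsSimpleGroup G := ⟨hsimple⟩
      refine (not_all_prime (fun hp => hcomm fun a b => ?_) h).elim
      haveI : Fact (Nat.card G).Prime := ⟨hp⟩
      haveI : IsCyclic G := isCyclic_of_prime_card (p := Nat.card G) rfl
      haveI := IsCyclic.isMulCommutative (α := G)
      exact mul_comm' a b
    push Not at hsimple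
    obtain ⟨N, hN, hN0, hN1⟩ := hsimple
    haveI : Fintype N := Fintype.ofFinite _
    have hNcard : Nat.card N < n := hn ▸ lt_of_le_of_ne (Subgroup.card_le_card_group N)
      (fun h => hN1 (N.eq_top_of_card_eq h))
    have hQcard : Nat.card (G ⧸ N) < n := by
      rw [← hn, Subgroup.card_eq_card_quotient_mul_card_subgroup N]
      exact lt_mul_of_one_lt_right Nat.card_pos (N.one_lt_card_iff_ne_bot.mpr hN0)
    haveI hsN : Group.IsSolvable N := by
      refine ih _ hNcard N rfl fun θ hθ => ?_
      obtain ⟨χ, hχ⟩ := Cfsg.Agent.CoprimeConst.exists_over_irr N θ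
      have hd := clifford_degree N χ.2 θ.2 hχ
      obtain ⟨m, hm⟩ := IsCharacter.exists_classInner_nat
        (IsCharacter.restrict (irr_isCharacter χ) N) (irr_isCharacter θ)
      rw [hm, irr_one_eq_charDegree, irr_one_eq_charDegree, ← Nat.cast_mul, ← Nat.cast_mul,
        Nat.cast_inj] at hd
      have hdvd : charDegree (θ : N → ℂ) ∣ charDegree (χ : G → ℂ) := hd ▸ dvd_mul_left _ _
      by_cases h1 : charDegree (χ : G → ℂ) = 1
      · exact absurd (Nat.dvd_one.1 (h1 ▸ hdvd)) hθ
      · exact ((h χ h1).eq_one_or_self_of_dvd _ hdvd).resolve_left hθ ▸ h χ h1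
    haveI hsQ : Group.IsSolvable (G ⧸ N) := by
      refine ih _ hQcard (G ⧸ N) rfl fun θ hθ => ?_
      have hd : charDegree (Cfsg.Agent.CharX.infl N θ : G → ℂ) = charDegree (θ : G ⧸ N → ℂ) := by
        simp [charDegree]
      rw [← hd] at hθ ⊢
      exact h _ hθ
    exact Group.isSolvable_of_ker_le_range N.subtype (QuotientGroup.mk' N)
      (le_of_eq (by rw [QuotientGroup.ker_mk', Subgroup.range_subtype]))

end Cfsg.Agent.PrimeDegrees
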