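/-
Groups with prime non-linear degrees have at most three degrees.
-/
import Cfsg.Agent.Lib.Blocks.MinNonAbelianQuot
import Cfsg.Agent.Lib.Blocks.PrimeDegrees

set_option linter.unusedSectionVars false
set_option linter.style.haveILetI false

namespace Cfsg.Agent.PrimeThree

open Cfsg Cfsg.Agent.Char Cfsg.Agent.Blocks Cfsg.Agent.MinQuot

universe u

variable {G : Type u} [Group G] [Fintype G]

theorem not_prime_mul {a b : ℕ} (ha : a.Prime) (hb : b.Prime) : ¬ (a * b = 1 ∨ (a * b).Prime) := by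
  rintro (h | h)
  · exact ha.ne_one (Nat.eq_one_of_mul_eq_one_right h)
  · exact Nat.not_prime_mul ha.ne_one hb.ne_one h

/-- The degrees lie in a set with three elements. -/
theorem exists_three
    (h : ∀ χ : IrrCharacter G, charDegree (χ : G → ℂ) = 1 ∨ (charDegree (χ : G → ℂ)).Prime) :
    ∃ a b : ℕ, ∀ χ : IrrCharacter G, charDegree (χ : G → ℂ) = 1 ∨ charDegree (χ : G → ℂ) = a ∨
      charDegree (χ : G → ℂ) = b := by
  classical
  by_cases hna : ∃ a b : G, a * b ≠ b * a
  swap
  · push Not at hna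
    refine ⟨1, 1, fun χ => Or.inl ?_⟩
    have h1 := degree_one_of_comm hna χ.2
    rw [irr_one_eq_charDegree] at h1
    exact_mod_cast h1
  haveI : Group.IsSolvable G :=
    PrimeDegrees.isSolvable (Nat.card G) G rfl fun χ hχ => (h χ).resolve_left hχ
  rcases dichotomy hna with ⟨K, hK, p, hp, hpg, β, hβK, hβ1⟩ | ⟨K, N, hK, hN, q, D⟩
  · refine ⟨p, p, fun χ => or_iff_not_imp_left.2 fun hχ1 => Or.inl ?_⟩
    have hβp : charDegree (β : G → ℂ) = p := by
      obtain ⟨β', -, he, hirr⟩ := IsCharacter.deflate (irr_isCharacter β) K hβK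
      have hd : charDegree (β : G → ℂ) ∣ Nat.card (G ⧸ K) :=
        degree_dvd_card (hirr β.2) (by rw [← QuotientGroup.mk_one, he, irr_one_eq_charDegree])
      haveI := Fact.mk hp
      obtain ⟨k, hk⟩ := hpg.exists_card_eq
      rw [hk] at hd
      have hpr := (h β).resolve_left hβ1
      exact (Nat.prime_dvd_prime_iff_eq hpr hp).1 (hpr.dvd_of_dvd_pow hd)
    by_contra hne
    have hr := (h χ).resolve_left hχ1
    haveI : Fintype K := Fintype.ofFinite K
    obtain ⟨θ, hθ⟩ := exists_restrict_constituent χ.2 K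
    obtain ⟨e, he, hed⟩ := exists_ratio_dvd_index K χ.2 θ.2 hθ
    rw [irr_one_eq_charDegree, irr_one_eq_charDegree, ← Nat.cast_mul, Nat.cast_inj] at he
    have he1 : e = 1 := by
      haveI := Fact.mk hp
      obtain ⟨k, hk⟩ := hpg.exists_card_eq
      rw [Subgroup.index_eq_card, hk] at hed
      refine Nat.eq_one_of_dvd_coprimes ?_ hed (⟨_, he⟩ : e ∣ charDegree (χ : G → ℂ))
      exact Nat.Coprime.pow_left k ((Nat.coprime_primes hp hr).2 (fun h => hne h.symm))
    have hirr : IsIrrCharacter K (fun n : K => (χ : G → ℂ) n) := by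
      rw [eq_of_constituent_degree (IsCharacter.restrict (irr_isCharacter χ) K) θ.2 hθ (by
        rw [OneMemClass.coe_one, irr_one_eq_charDegree, irr_one_eq_charDegree, he, he1, one_mul])]
      exact θ.2
    have hprod := (gallagher_one K (irr_isCharacter χ) hirr).1 β fun n => hβK n n.2
    refine not_prime_mul hp hr ?_
    have hd := h ⟨_, hprod⟩
    rwa [show charDegree (((⟨_, hprod⟩ : IrrCharacter G)) : G → ℂ) =
      p * charDegree (χ : G → ℂ) from Nat.cast_injective (R := ℂ) (by
        rw [← irr_one_eq_charDegree, Nat.cast_mul, ← hβp]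
        show (β : G → ℂ) 1 * (χ : G → ℂ) 1 = _
        rw [irr_one_eq_charDegree, irr_one_eq_charDegree])] at hd
  · haveI : Fintype N := Fintype.ofFinite N
    have hprin : charDegree (principal N : N → ℂ) = 1 := Cfsg.Agent.CharX.charDegree_one
    obtain ⟨χ₀, hχ₀⟩ := D.exists_mul_degree (principal N)
      (by rw [hprin]; exact fun hd => D.prime.ne_one (Nat.dvd_one.1 hd))
    rw [hprin, mul_one] at hχ₀
    have hf : N.index.Prime := hχ₀ ▸ (h χ₀).resolve_left (hχ₀ ▸ D.index_ne)
    refine ⟨N.index, q, fun χ => or_iff_not_imp_left.2 fun hχ1 => or_iff_not_imp_left.2 fun hne => ?_⟩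
    have hr := (h χ).resolve_left hχ1
    obtain ⟨θ, hθ⟩ := exists_restrict_constituent χ.2 N
    obtain ⟨e, he, hed⟩ := exists_ratio_dvd_index N χ.2 θ.2 hθ
    rw [irr_one_eq_charDegree, irr_one_eq_charDegree, ← Nat.cast_mul, Nat.cast_inj] at he
    have he1 : e = 1 := Nat.eq_one_of_dvd_coprimes
      ((Nat.coprime_primes hf hr).2 fun h => hne h.symm) hed ⟨_, he⟩
    rw [he1, one_mul] at he
    by_contra hq
    obtain ⟨χ', hχ'⟩ := D.exists_mul_degree θ fun hd => hq (by
      rw [← he] at hd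
      exact ((Nat.prime_dvd_prime_iff_eq D.prime hr).1 hd).symm)
    refine not_prime_mul hf hr ?_
    rw [← he] at hχ'
    exact hχ' ▸ h χ'

end Cfsg.Agent.PrimeThree
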