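/-
Primitive linear groups of degree two: the order of the central quotient.
-/
import Cfsg.Agent.Lib.Blocks.NonnormalSylowDegree

set_option linter.unusedSectionVars false
set_option linter.style.haveILetI false

namespace Cfsg.Agent.PrimitiveTwo

open Cfsg Cfsg.Agent.Char Cfsg.Agent.Blocks

open scoped ComplexConjugate

universe u

/-! ### The arithmetic -/

/-- The share of a class of maximal abelian subgroups. -/
def share (t : ℕ × ℕ) : ℚ := (1 - 1 / (t.1 : ℚ)) / (t.2 : ℚ)

/-- The conditions on a class. -/
def Ok (n : ℕ) (t : ℕ × ℕ) : Prop := (t.2 = 1 ∨ t.2 = 2) ∧ 2 ≤ t.1 ∧ 2 * (t.2 * t.1) ≤ n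

theorem arith_three {n a b c : ℕ} (hab : a ≤ b) (hbc : b ≤ c) (ha : 2 ≤ a) (hcn : 4 * c ≤ n)
    (h : 1 / (a : ℚ) + 1 / b + 1 / c = 1 + 2 / n) : n = 12 ∨ n = 24 ∨ n = 60 := by
  have hn : (0 : ℚ) < n := by exact_mod_cast (show 0 < n by omega)
  have h2n : (0 : ℚ) < 2 / n := by positivity
  have mono : ∀ {x y : ℕ}, 0 < x → x ≤ y → 1 / (y : ℚ) ≤ 1 / (x : ℚ) := fun hx hxy =>
    one_div_le_one_div_of_le (by exact_mod_cast hx) (by exact_mod_cast hxy)
  have hb1 := mono (by omega : 0 < a) hab
  have hc1 := mono (by omega : 0 < b) hbc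
  have ha2 : a = 2 := by
    by_contra hne
    have h1 := mono (by norm_num : 0 < 3) (by omega : 3 ≤ a)
    norm_num at h1 hb1 hc1 h
    linarith
  subst ha2
  have hb3 : b = 3 := by
    by_contra hne
    rcases Nat.lt_or_ge b 3 with hlt | hge
    · have : b = 2 := by omega
      subst this
      have hc0 : (0 : ℚ) < c := by exact_mod_cast (show 0 < c by omega)
      have h4 : 2 / (n : ℚ) ≤ 2 / (4 * c) := by
        refine div_le_div_of_nonneg_left (by norm_num) (by positivity) ?_
        exact_mod_cast hcn
      have h5 : 2 / (4 * (c : ℚ)) = (1 / c) / 2 := by field_simp; norm_num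
      have h6 : (0 : ℚ) < 1 / c := by positivity
      push_cast at h
      rw [h5] at h4
      linarith [h, h4, h6]
    · have h1 := mono (by norm_num : 0 < 4) (by omega : 4 ≤ b)
      norm_num at h1 hc1 h
      linarith
  subst hb3
  have hc : c ≤ 5 := by
    by_contra hne
    have h1 := mono (by norm_num : 0 < 6) (by omega : 6 ≤ c)
    norm_num at h1 h
    linarith
  have key : 2 / (n : ℚ) = 1 / 2 + 1 / 3 + 1 / c - 1 := by push_cast at h; linarith
  interval_cases c
  · left
    norm_num at key
    field_simp at key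
    exact_mod_cast (show (n : ℚ) = 12 by linarith)
  · right; left
    norm_num at key
    field_simp at key
    exact_mod_cast (show (n : ℚ) = 24 by linarith)
  · right; right
    norm_num at key
    field_simp at key
    exact_mod_cast (show (n : ℚ) = 60 by linarith)

theorem arith {ι : Type*} (S : Finset ι) (t : ι → ℕ × ℕ) (n : ℕ) (hn : 0 < n)
    (hok : ∀ i ∈ S, Ok n (t i)) (hsum : ∑ i ∈ S, share (t i) = 1 - 1 / (n : ℚ)) :
    n = 12 ∨ n = 24 ∨ n = 60 ∨ n = 1 := by
  classical
  have hn0 : (0 : ℚ) < n := by exact_mod_cast hn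
  have hinv : (0 : ℚ) < 1 / n := by positivity
  have hlow : ∀ i ∈ S, 1 / 4 ≤ share (t i) := by
    intro i hi
    obtain ⟨hs, hc, -⟩ := hok i hi
    have h1 : 1 / ((t i).1 : ℚ) ≤ 1 / 2 :=
      one_div_le_one_div_of_le (by norm_num) (by exact_mod_cast hc)
    unfold share
    rcases hs with h | h <;> rw [h] <;> norm_num <;> norm_num at h1 <;> linarith
  have hcard : S.card ≤ 3 := by
    by_contra hne
    have h1 := Finset.card_nsmul_le_sum S _ _ hlow
    rw [hsum, nsmul_eq_mul] at h1
    have h2 : (4 : ℚ) ≤ S.card := by exact_mod_cast (show 4 ≤ S.card by omega)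
    nlinarith
  -- the share bound for an element
  have hup : ∀ i ∈ S, share (t i) ≤ 1 / ((t i).2 : ℚ) - 2 / n := by
    intro i hi
    obtain ⟨hs, hc, hle⟩ := hok i hi
    have hc0 : (0 : ℚ) < ((t i).1 : ℚ) := by exact_mod_cast (show 0 < (t i).1 by omega)
    have hs0 : (0 : ℚ) < ((t i).2 : ℚ) := by rcases hs with h | h <;> rw [h] <;> norm_num
    have h1 : 2 / (n : ℚ) ≤ 1 / (((t i).1 : ℚ) * (t i).2) := by
      rw [div_le_div_iff₀ hn0 (by positivity)]
      rw [one_mul]
      have : ((2 * ((t i).2 * (t i).1) : ℕ) : ℚ) ≤ n := by exact_mod_cast hle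
      push_cast at this
      linarith
    have h2 : share (t i) = 1 / ((t i).2 : ℚ) - 1 / (((t i).1 : ℚ) * (t i).2) := by
      unfold share
      field_simp
    linarith
  rcases Nat.lt_or_ge S.card 1 with h0 | h1
  · rw [Finset.card_eq_zero.1 (by omega : S.card = 0), Finset.sum_empty] at hsum
    refine Or.inr (Or.inr (Or.inr ?_))
    have h3 : (1 : ℚ) / n = 1 := by linarith
    rw [div_eq_one_iff_eq hn0.ne'] at h3
    exact_mod_cast h3.symm
  rcases Nat.lt_or_ge S.card 2 with h1' | h2
  · obtain ⟨i, rfl⟩ := Finset.card_eq_one.1 (by omega : S.card = 1)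
    rw [Finset.sum_singleton] at hsum
    have h3 := hup i (Finset.mem_singleton_self i)
    rcases (hok i (Finset.mem_singleton_self i)).1 with h | h <;> rw [h] at h3 <;> norm_num at h3
    · exfalso; linarith [show (2 : ℚ) / n = 2 * (1 / n) by ring]
    · have hle : (2 : ℚ) ≤ n := by
        obtain ⟨-, h4, h5⟩ := hok i (Finset.mem_singleton_self i)
        rw [h] at h5
        exact_mod_cast (show 2 ≤ n by omega)
      have h6 : (1 : ℚ) / n ≤ 1 / 2 := one_div_le_one_div_of_le (by norm_num) hle
      exfalso
      linarith [show (2 : ℚ) / n = 2 * (1 / n) by ring]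
  rcases Nat.lt_or_ge S.card 3 with h2' | h3
  · obtain ⟨i, j, hij, rfl⟩ := Finset.card_eq_two.1 (by omega : S.card = 2)
    rw [Finset.sum_pair hij] at hsum
    have hi := hok i (by simp)
    have hj := hok j (by simp)
    have main : ∀ a b : ℕ × ℕ, Ok n a → Ok n b → a.2 = 1 → share a + share b = 1 - 1 / (n : ℚ) →
        n = 12 := by
      intro a b ha hb ha1 hab
      have hb2 : b.2 = 2 := by
        refine hb.1.resolve_left fun hb1 => ?_
        have e1 : 1 / (a.1 : ℚ) ≤ 1 / 2 :=
          one_div_le_one_div_of_le (by norm_num) (by exact_mod_cast ha.2.1)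
        have e2 : 1 / (b.1 : ℚ) ≤ 1 / 2 :=
          one_div_le_one_div_of_le (by norm_num) (by exact_mod_cast hb.2.1)
        simp only [share, ha1, hb1, Nat.cast_one, div_one] at hab
        linarith
      simp only [share, ha1, hb2, Nat.cast_one, div_one, Nat.cast_ofNat] at hab
      have hbn := hb.2.2
      rw [hb2] at hbn
      have hA : 1 / (b.1 : ℚ) ≤ 1 / 2 :=
        one_div_le_one_div_of_le (by norm_num) (by exact_mod_cast hb.2.1)
      have hac : a.1 = 2 ∨ a.1 = 3 := by
        by_contra hne
        have e1 : 1 / (a.1 : ℚ) ≤ 1 / 4 :=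
          one_div_le_one_div_of_le (by norm_num) (by exact_mod_cast (show 4 ≤ a.1 by
            have := ha.2.1; omega))
        linarith
      have hb0 : (0 : ℚ) < b.1 := by exact_mod_cast (show 0 < b.1 by have := hb.2.1; omega)
      rcases hac with e | e <;> rw [e] at hab <;> push_cast at hab
      · exfalso
        have e3 : (1 : ℚ) / n = (1 / b.1) / 2 := by linarith
        field_simp at e3
        have e4 : n = 2 * b.1 := by exact_mod_cast (show (n : ℚ) = 2 * b.1 by linarith)
        have := hb.2.1
        omega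
      · have hb2' : b.1 = 2 := by
          by_contra hne
          have e5 : 1 / (b.1 : ℚ) ≤ 1 / 3 :=
            one_div_le_one_div_of_le (by norm_num) (by exact_mod_cast (show 3 ≤ b.1 by
              have := hb.2.1; omega))
          linarith
        rw [hb2'] at hab
        push_cast at hab
        have e3 : (1 : ℚ) / n = 1 / 12 := by linarith
        field_simp at e3
        exact_mod_cast (show (n : ℚ) = 12 by linarith)
    rcases hi.1 with h | h
    · exact Or.inl (main _ _ hi hj h hsum)
    rcases hj.1 with h' | h'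
    · exact Or.inl (main _ _ hj hi h' (by rw [add_comm]; exact hsum))
    exfalso
    have e1 := hup i (by simp)
    have e2 := hup j (by simp)
    rw [h] at e1
    rw [h'] at e2
    norm_num at e1 e2
    linarith [show (2 : ℚ) / n = 2 * (1 / n) by ring]
  obtain ⟨i, j, k, hij, hik, hjk, rfl⟩ := Finset.card_eq_three.1 (by omega : S.card = 3)
  rw [Finset.sum_insert (by simp [hij, hik]), Finset.sum_pair hjk] at hsum
  have l1 := hlow i (by simp)
  have l2 := hlow j (by simp)
  have l3 := hlow k (by simp)
  have htwo : ∀ x ∈ ({i, j, k} : Finset ι), (t x).2 = 2 := by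
    intro x hx
    refine (hok x hx).1.resolve_left fun h => ?_
    have h1 : 1 / ((t x).1 : ℚ) ≤ 1 / 2 :=
      one_div_le_one_div_of_le (by norm_num) (by exact_mod_cast (hok x hx).2.1)
    have hx2 : (1 : ℚ) / 2 ≤ share (t x) := by
      rw [share, h, Nat.cast_one, div_one]; linarith
    simp only [Finset.mem_insert, Finset.mem_singleton] at hx
    rcases hx with rfl | rfl | rfl <;> linarith
  obtain ⟨-, ci, ni⟩ := hok i (by simp)
  obtain ⟨-, cj, nj⟩ := hok j (by simp)
  obtain ⟨-, ck, nk⟩ := hok k (by simp)
  rw [htwo i (by simp)] at ni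
  rw [htwo j (by simp)] at nj
  rw [htwo k (by simp)] at nk
  simp only [share, htwo i (by simp), htwo j (by simp), htwo k (by simp), Nat.cast_ofNat] at hsum
  set a := (t i).1
  set b := (t j).1
  set c := (t k).1
  have h : 1 / (a : ℚ) + 1 / b + 1 / c = 1 + 2 / n := by
    linarith [show (2 : ℚ) / n = 2 * (1 / n) by ring]
  have hfin : n = 12 ∨ n = 24 ∨ n = 60 := by
    rcases le_total a b with e1 | e1 <;> rcases le_total b c with e2 | e2 <;>
      rcases le_total a c with e3 | e3
    all_goals first
      | exact arith_three (a := a) (b := b) (c := c) (by omega) (by omega) ci (by omega) (by linarith)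
      | exact arith_three (a := a) (b := c) (c := b) (by omega) (by omega) ci (by omega) (by linarith)
      | exact arith_three (a := b) (b := a) (c := c) (by omega) (by omega) cj (by omega) (by linarith)
      | exact arith_three (a := b) (b := c) (c := a) (by omega) (by omega) cj (by omega) (by linarith)
      | exact arith_three (a := c) (b := a) (c := b) (by omega) (by omega) ck (by omega) (by linarith)
      | exact arith_three (a := c) (b := b) (c := a) (by omega) (by omega) ck (by omega) (by linarith)
  rcases hfin with h | h | h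
  · exact Or.inl h
  · exact Or.inr (Or.inl h)
  · exact Or.inr (Or.inr (Or.inl h))

/-! ### The group -/

variable {G : Type u} [Group G] [Fintype G]

/-- A character of degree two which is not irreducible is a sum of two linear characters. -/
theorem split_two {α : G → ℂ} (hα : IsCharacter G α) (h2 : α 1 = 2)
    (hni : ¬ IsIrrCharacter G α) :
    ∃ a b : G →* ℂˣ, ∀ g, α g = (a g : ℂ) + (b g : ℂ) := by
  classical
  obtain ⟨e, he⟩ := IsCharacter.exists_decomp hα
  obtain ⟨ψ, hψ⟩ := IsCharacter.exists_constituent hα fun h => by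
    rw [h] at h2; norm_num at h2
  have hdeg : ∀ x : IrrCharacter G, classInner α (x : G → ℂ) ≠ 0 → (x : G → ℂ) 1 = 1 := by
    intro x hx
    have hle := degree_le_of_constituent hα x.2 hx (a := 2) (by exact_mod_cast h2)
      (irr_one_eq_charDegree x)
    have hpos := charDegree_pos x
    rcases Nat.lt_or_ge (charDegree (x : G → ℂ)) 2 with h | h
    · rw [irr_one_eq_charDegree, show charDegree (x : G → ℂ) = 1 by omega, Nat.cast_one]
    · refine absurd ((eq_of_constituent_degree hα x.2 hx ?_) ▸ x.2) hni
      rw [h2, irr_one_eq_charDegree, show charDegree (x : G → ℂ) = 2 by omega, Nat.cast_ofNat]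
  obtain ⟨a, ha⟩ := exists_hom_of_degree_one (irr_isCharacter ψ) (hdeg ψ hψ)
  have heψ : e ψ ≠ 0 := fun h => hψ (by rw [he, classInner_combination, h, Nat.cast_zero])
  let β : G → ℂ := ∑ x : IrrCharacter G, ((if x = ψ then e x - 1 else e x : ℕ) : ℂ) • (x : G → ℂ)
  have hβc : IsCharacter G β := isCharacter_sum _ fun x _ =>
    IsCharacter.nsmul (irr_isCharacter x) _
  have hαβ : ∀ g, α g = (ψ : G → ℂ) g + β g := by
    intro g
    simp only [he, β, Finset.sum_apply, Pi.smul_apply, smul_eq_mul]
    rw [← Finset.add_sum_erase _ _ (Finset.mem_univ ψ), ← Finset.add_sum_erase _ _ (Finset.mem_univ ψ),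
      if_pos rfl, Nat.cast_sub (by omega : 1 ≤ e ψ), Nat.cast_one,
      Finset.sum_congr rfl (g := fun x : IrrCharacter G => (e x : ℂ) * (x : G → ℂ) g)
        (f := fun x : IrrCharacter G => ((if x = ψ then e x - 1 else e x : ℕ) : ℂ) * (x : G → ℂ) g)
        fun x hx => by rw [if_neg (Finset.ne_of_mem_erase hx)]]
    ring
  have hβ1 : β 1 = 1 := by
    have h1 := hαβ 1
    rw [h2, hdeg ψ hψ] at h1
    linear_combination -h1
  obtain ⟨b, hb⟩ := exists_hom_of_degree_one hβc hβ1
  refine ⟨a, b, fun g => ?_⟩
  rw [hαβ g, ha, hb]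

variable {χ : G → ℂ} (hχ : IsIrrCharacter G χ) (hfaith : ∀ g, χ g = χ 1 → g = 1) (h2 : χ 1 = 2)

include hχ hfaith h2

/-- The two linear constituents on a centraliser. -/
theorem centralizer_split {g : G} (hg : g ∉ Subgroup.center G) :
    ∃ a b : Subgroup.centralizer ({g} : Set G) →* ℂˣ, a ≠ b ∧
      ∀ x : Subgroup.centralizer ({g} : Set G), χ (x : G) = (a x : ℂ) + (b x : ℂ) := by
  classical
  set C := Subgroup.centralizer ({g} : Set G)
  haveI : Fintype C := Fintype.ofFinite C
  have hgC : g ∈ C := Subgroup.mem_centralizer_singleton_iff.2 rfl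
  obtain ⟨a, b, hab⟩ := split_two (IsCharacter.restrict (IsIrrCharacter.isCharacter hχ) C)
    (by rw [OneMemClass.coe_one, h2]) fun hirr => hg (NonnormalSylow.central_of_centralizes hχ hfaith C
      hirr fun l hl => (Subgroup.mem_centralizer_singleton_iff.1 hl).symm)
  refine ⟨a, b, fun h => hg ?_, hab⟩
  have hn : ‖χ g‖ = 2 := by
    rw [show χ g = (a ⟨g, hgC⟩ : ℂ) + (b ⟨g, hgC⟩ : ℂ) from hab ⟨g, hgC⟩, ← h, ← two_mul, norm_mul,
      Complex.norm_two, norm_eq_one_of_pow (Nat.card_pos (α := C)).ne' (by
        rw [← Units.val_pow_eq_pow_val, ← map_pow, pow_card_eq_one', map_one, Units.val_one]),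
      mul_one]
  obtain ⟨m, ρ, hρ, rfl⟩ := hχ
  have hm : (Module.finrank ℂ (Fin m → ℂ) : ℂ) = 2 := by rw [← h2, Representation.char_one]
  obtain ⟨c, hc⟩ := (norm_char_eq_iff ρ g).1 (by
    rw [hn, show Module.finrank ℂ (Fin m → ℂ) = 2 by exact_mod_cast hm, Nat.cast_ofNat])
  rw [Subgroup.mem_center_iff]
  intro x
  have h1 : ρ (x * g * x⁻¹ * g⁻¹) = 1 := by
    have hcomm : ρ (x * g) = ρ (g * x) := by
      rw [map_mul, map_mul, hc]
      ext v
      simp
    rw [map_mul, map_mul (f := ρ) (x := x * g), hcomm, ← map_mul, ← map_mul,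
      show g * x * x⁻¹ * g⁻¹ = 1 by group, map_one]
  have h3 : x * g * x⁻¹ * g⁻¹ = 1 := hfaith _ (by
    show LinearMap.trace ℂ _ (ρ (x * g * x⁻¹ * g⁻¹)) = LinearMap.trace ℂ _ (ρ 1)
    rw [h1, map_one ρ])
  rwa [mul_inv_eq_one, mul_inv_eq_iff_eq_mul] at h3

/-- Centralisers of non-central elements are abelian. -/
theorem centralizer_comm {g : G} (hg : g ∉ Subgroup.center G) {x y : G}
    (hx : x ∈ Subgroup.centralizer ({g} : Set G)) (hy : y ∈ Subgroup.centralizer ({g} : Set G)) :
    x * y = y * x := by
  obtain ⟨a, b, -, hab⟩ := centralizer_split hχ hfaith h2 hg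
  have h1 : χ (x * y * x⁻¹ * y⁻¹) = χ 1 := by
    rw [show χ (x * y * x⁻¹ * y⁻¹) = _ from hab (⟨x, hx⟩ * ⟨y, hy⟩ * ⟨x, hx⟩⁻¹ * ⟨y, hy⟩⁻¹), h2]
    simp only [map_mul, map_inv, mul_inv_cancel_comm, mul_inv_cancel, Units.val_one]
    norm_num
  have h3 := hfaith _ h1
  rwa [mul_inv_eq_one, mul_inv_eq_iff_eq_mul] at h3

theorem centralizer_eq {g x : G} (hg : g ∉ Subgroup.center G) (hx : x ∉ Subgroup.center G)
    (hxg : x ∈ Subgroup.centralizer ({g} : Set G)) :
    Subgroup.centralizer ({x} : Set G) = Subgroup.centralizer ({g} : Set G) := by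
  refine le_antisymm (fun y hy => ?_) fun y hy => ?_
  · rw [Subgroup.mem_centralizer_singleton_iff]
    refine centralizer_comm hχ hfaith h2 hx hy ?_
    rw [Subgroup.mem_centralizer_singleton_iff]
    exact (Subgroup.mem_centralizer_singleton_iff.1 hxg).symm
  · rw [Subgroup.mem_centralizer_singleton_iff]
    exact centralizer_comm hχ hfaith h2 hg hy hxg

/-- The normaliser of a centraliser is at most twice as big. -/
theorem relIndex_normalizer {g : G} (hg : g ∉ Subgroup.center G) :
    (Subgroup.centralizer ({g} : Set G)).relIndex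
      (Subgroup.normalizer (Subgroup.centralizer ({g} : Set G) : Set G)) = 1 ∨
    (Subgroup.centralizer ({g} : Set G)).relIndex
      (Subgroup.normalizer (Subgroup.centralizer ({g} : Set G) : Set G)) = 2 := by
  classical
  set C := Subgroup.centralizer ({g} : Set G) with hC
  obtain ⟨a, b, hne, hab⟩ : ∃ a b : C →* ℂˣ, a ≠ b ∧
      ∀ x : C, χ (x : G) = (a x : ℂ) + (b x : ℂ) := centralizer_split hχ hfaith h2 hg
  set N := Subgroup.normalizer (C : Set G) with hN
  haveI : Fintype C := Fintype.ofFinite C
  let cj : N → C →* C := fun t =>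
    { toFun := fun c => ⟨(t : G) * (c : G) * (t : G)⁻¹,
        (Subgroup.mem_normalizer_iff.1 t.2 _).1 c.2⟩
      map_one' := Subtype.ext (by simp)
      map_mul' := fun c d => Subtype.ext (by simp [mul_assoc]) }
  have hperm : ∀ t : N, a.comp (cj t) = a ∨ a.comp (cj t) = b := by
    intro t
    by_contra hcon
    push Not at hcon
    have hfun : (fun c : C => ((a.comp (cj t)) c : ℂ)) + (fun c : C => ((b.comp (cj t)) c : ℂ)) =
        (fun c : C => (a c : ℂ)) + (fun c : C => (b c : ℂ)) := by
      funext c
      simp only [Pi.add_apply, MonoidHom.comp_apply]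
      rw [← hab, ← hab]
      exact IsCharacter.isClassFunction (IsIrrCharacter.isCharacter hχ) (c : G) (t : G)
    have h := congrArg (fun f => classInner f (fun c : C => ((a.comp (cj t)) c : ℂ))) hfun
    simp only [classInner_add_left] at h
    have hlin : ∀ f f' : C →* ℂˣ, f ≠ f' →
        classInner (fun c : C => (f c : ℂ)) (fun c : C => (f' c : ℂ)) = 0 := fun f f' hff =>
      classInner_irr_of_ne (isIrrCharacter_linear f) (isIrrCharacter_linear f') fun e =>
        hff (MonoidHom.ext fun c => Units.ext (congrFun e c))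
    rw [classInner_self_irr (isIrrCharacter_linear (a.comp (cj t))), hlin a _ hcon.1.symm,
      hlin b _ hcon.2.symm, add_zero] at h
    obtain ⟨k, hk⟩ := IsCharacter.exists_classInner_nat
      (IsIrrCharacter.isCharacter (isIrrCharacter_linear (b.comp (cj t))))
      (IsIrrCharacter.isCharacter (isIrrCharacter_linear (a.comp (cj t))))
    rw [hk, ← Nat.cast_one, ← Nat.cast_add, ← Nat.cast_zero, Nat.cast_inj] at h
    omega
  have hfix : ∀ t : N, a.comp (cj t) = a → (t : G) ∈ C := by
    intro t ht
    have hgC : g ∈ C := Subgroup.mem_centralizer_singleton_iff.2 rfl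
    have e1 : (a (cj t ⟨g, hgC⟩) : ℂ) = (a ⟨g, hgC⟩ : ℂ) :=
      congrArg Units.val (DFunLike.congr_fun ht ⟨g, hgC⟩)
    have e2 : (b (cj t ⟨g, hgC⟩) : ℂ) = (b ⟨g, hgC⟩ : ℂ) := by
      have h := IsCharacter.isClassFunction (IsIrrCharacter.isCharacter hχ) g (t : G)
      rw [show χ ((t : G) * g * (t : G)⁻¹) = _ from hab (cj t ⟨g, hgC⟩),
        show χ g = _ from hab ⟨g, hgC⟩, e1] at h
      exact add_left_cancel h
    have h1 : χ (((cj t ⟨g, hgC⟩ * ⟨g, hgC⟩⁻¹ : C)) : G) = χ 1 := by
      rw [hab, h2, map_mul, map_mul, map_inv, map_inv, Units.val_mul, Units.val_mul, e1, e2,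
        Units.mul_inv, Units.mul_inv]
      norm_num
    have h3 := hfaith _ h1
    rw [Subgroup.coe_mul, Subgroup.coe_inv, mul_inv_eq_one] at h3
    exact Subgroup.mem_centralizer_singleton_iff.2 (mul_inv_eq_iff_eq_mul.1 h3)
  have hle : Nat.card (↥N ⧸ C.subgroupOf N) ≤ 2 := by
    let f : ↥N ⧸ C.subgroupOf N → Bool := fun q =>
      decide (a.comp (cj q.out) = a)
    refine (Nat.card_le_card_of_injective f ?_).trans (by simp)
    intro p q hpq
    simp only [f, decide_eq_decide] at hpq
    rw [← QuotientGroup.out_eq' p, ← QuotientGroup.out_eq' q]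
    refine QuotientGroup.eq.2 (Subgroup.mem_subgroupOf.2 ?_)
    by_cases hp : a.comp (cj p.out) = a
    · exact mul_mem (inv_mem (hfix _ hp)) (hfix _ (hpq.1 hp))
    · have hp' := (hperm p.out).resolve_left hp
      have hq' := (hperm q.out).resolve_left fun h => hp (hpq.2 h)
      have h5 : (((q.out) * (p.out)⁻¹ : N) : G) ∈ C := by
        refine hfix _ (MonoidHom.ext fun c => ?_)
        obtain ⟨d, rfl⟩ : ∃ d, cj p.out d = c := ⟨cj p.out⁻¹ c, Subtype.ext (by simp [cj, mul_assoc])⟩
        have e4 : cj (q.out * p.out⁻¹) (cj p.out d) = cj q.out d :=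
          Subtype.ext (by simp [cj, mul_assoc])
        rw [MonoidHom.comp_apply, e4, ← MonoidHom.comp_apply, hq', ← hp', MonoidHom.comp_apply]
      have h6 := (Subgroup.mem_normalizer_iff.1 (inv_mem (p.out).2) _).1 h5
      simpa [mul_assoc] using h6
  have hpos : 0 < Nat.card (↥N ⧸ C.subgroupOf N) := Nat.card_pos
  show (C.subgroupOf N).index = 1 ∨ (C.subgroupOf N).index = 2
  rw [Subgroup.index_eq_card]
  omega

/-- The order of the central quotient of a primitive group. -/
theorem center_index (hprim : ∀ H : Subgroup G, H ≠ ⊤ → ∀ θ : H → ℂ, IsCharacter H θ →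
    χ ≠ indFun H θ) :
    (Subgroup.center G).index = 12 ∨ (Subgroup.center G).index = 24 ∨
      (Subgroup.center G).index = 60 := by
  classical
  haveI : Fintype (Subgroup G) := Fintype.ofFinite _
  set Z := Subgroup.center G with hZ
  set n := Z.index with hn
  have hn0 : 0 < n := Nat.pos_of_ne_zero Subgroup.index_ne_zero_of_finite
  have hZle : ∀ g : G, Z ≤ Subgroup.centralizer ({g} : Set G) := fun g z hz =>
    Subgroup.mem_centralizer_singleton_iff.2 (Subgroup.mem_center_iff.1 hz g).symm
  -- the non-central elements and their centralisers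
  set S : Finset G := Finset.univ.filter (fun g => g ∉ Z) with hS
  let cent : G → Subgroup G := fun g => Subgroup.centralizer ({g} : Set G)
  let orb : G → Finset (Subgroup G) := fun g =>
    (Finset.univ : Finset G).image fun x => (cent g).map (MulAut.conj x).toMonoidHom
  let c : G → ℕ := fun g => Z.relIndex (cent g)
  let s : G → ℕ := fun g => (cent g).relIndex (Subgroup.normalizer (cent g : Set G))
  have hmapcent : ∀ g x : G, (cent g).map (MulAut.conj x).toMonoidHom = cent (x * g * x⁻¹) := by
    intro g x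
    ext y
    rw [Subgroup.mem_map_equiv, Subgroup.mem_centralizer_singleton_iff,
      Subgroup.mem_centralizer_singleton_iff, MulAut.conj_symm_apply]
    constructor
    · intro h
      calc y * (x * g * x⁻¹) = x * (x⁻¹ * y * x * g) * x⁻¹ := by group
        _ = x * (g * (x⁻¹ * y * x)) * x⁻¹ := by rw [h]
        _ = _ := by group
    · intro h
      calc x⁻¹ * y * x * g = x⁻¹ * (y * (x * g * x⁻¹)) * x := by group
        _ = x⁻¹ * (x * g * x⁻¹ * y) * x := by rw [h]
        _ = _ := by group
  have hconjZ : ∀ g x : G, g ∈ S → x * g * x⁻¹ ∈ S := by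
    intro g x hg
    simp only [hS, Finset.mem_filter, Finset.mem_univ, true_and] at hg ⊢
    intro h
    refine hg ?_
    have := (inferInstance : Z.Normal).conj_mem _ h x⁻¹
    simpa [mul_assoc] using this
  -- a class
  have hclass : ∀ g ∈ S, Ok n (c g, s g) ∧
      ((S.filter fun h => orb h = orb g).card : ℚ) = (Nat.card G : ℚ) * share (c g, s g) := by
    intro g hg
    have hg' : g ∉ Z := (Finset.mem_filter.1 hg).2
    have hs12 := relIndex_normalizer hχ hfaith h2 hg'
    have hmul1 : c g * (cent g).index = n := Subgroup.relIndex_mul_index (hZle g)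
    have hmul2 : s g * (Subgroup.normalizer (cent g : Set G)).index = (cent g).index :=
      Subgroup.relIndex_mul_index Subgroup.le_normalizer
    have hc2 : 2 ≤ c g := by
      have h0 : c g ≠ 0 := fun h => by rw [h, zero_mul] at hmul1; omega
      have h1 : c g ≠ 1 := fun h => hg' (Subgroup.relIndex_eq_one.1 h
        (Subgroup.mem_centralizer_singleton_iff.2 rfl))
      omega
    have hNtop : (Subgroup.normalizer (cent g : Set G)) ≠ ⊤ := by
      intro htop
      haveI hCn : (cent g).Normal := Subgroup.normalizer_eq_top_iff.1 htop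
      have hidx : (cent g).index = s g := by
        rw [← hmul2, htop, Subgroup.index_top, mul_one]
      have hCtop : cent g ≠ ⊤ := fun h => hg' (Subgroup.mem_center_iff.2 fun y =>
        (Subgroup.mem_centralizer_singleton_iff.1 (h ▸ Subgroup.mem_top y : y ∈ cent g)))
      have hidx2 : (cent g).index = 2 := by
        rcases hs12 with h | h
        · exact absurd (Subgroup.index_eq_one.1 (hidx.trans h)) hCtop
        · exact hidx.trans h
      obtain ⟨a, b, hne, hab⟩ := centralizer_split hχ hfaith h2 hg'
      haveI : Fintype (cent g) := Fintype.ofFinite _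
      refine hprim (cent g) hCtop (fun x => (a x : ℂ))
        (IsIrrCharacter.isCharacter (isIrrCharacter_linear a)) ?_
      refine (eq_of_constituent_degree (isCharacter_indFun (cent g)
        (IsIrrCharacter.isCharacter (isIrrCharacter_linear a))) hχ ?_ ?_).symm
      · rw [← classInner_conj_symm, classInner_indFun_right _ _
          (IsCharacter.isClassFunction (IsIrrCharacter.isCharacter hχ))]
        rw [show (fun h : cent g => χ h) =
          (fun x : cent g => (a x : ℂ)) + (fun x : cent g => (b x : ℂ)) from funext hab,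
          classInner_add_left, classInner_self_irr (isIrrCharacter_linear a),
          classInner_irr_of_ne (isIrrCharacter_linear b) (isIrrCharacter_linear a) fun e =>
            hne (MonoidHom.ext fun x => Units.ext (congrFun e x).symm)]
        simp
      · rw [indFun_one_apply, hidx2, h2]
        simp
    refine ⟨⟨hs12, hc2, ?_⟩, ?_⟩
    · show 2 * (s g * c g) ≤ n
      have h3 : 2 ≤ (Subgroup.normalizer (cent g : Set G)).index :=
        Subgroup.one_lt_index_of_ne_top hNtop
      rw [← hmul1, ← hmul2]
      calc 2 * (s g * c g) = c g * (s g * 2) := by ring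
        _ ≤ _ := Nat.mul_le_mul_left _ (Nat.mul_le_mul_left _ h3)
    -- the elements of the class
    have hset : (S.filter fun h => orb h = orb g) =
        (orb g).biUnion fun D => S.filter fun h => h ∈ D := by
      ext h
      simp only [Finset.mem_filter, Finset.mem_biUnion]
      constructor
      · rintro ⟨hh, he⟩
        refine ⟨cent h, ?_, hh, Subgroup.mem_centralizer_singleton_iff.2 rfl⟩
        rw [← he]
        exact Finset.mem_image.2 ⟨1, Finset.mem_univ _, by rw [hmapcent]; simp⟩
      · rintro ⟨D, hD, hh, hhD⟩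
        obtain ⟨x, -, rfl⟩ := Finset.mem_image.1 hD
        rw [hmapcent] at hhD
        have he : cent h = cent (x * g * x⁻¹) := centralizer_eq hχ hfaith h2
          (Finset.mem_filter.1 (hconjZ g x hg)).2 (Finset.mem_filter.1 hh).2 hhD
        refine ⟨hh, ?_⟩
        ext D
        simp only [orb, Finset.mem_image, Finset.mem_univ, true_and, he]
        simp only [hmapcent]
        constructor
        · rintro ⟨y, rfl⟩
          exact ⟨y * x, by congr 1; group⟩
        · rintro ⟨y, rfl⟩
          exact ⟨y * x⁻¹, by congr 1; group⟩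
    have hdis : Set.PairwiseDisjoint (orb g : Set (Subgroup G))
        fun D => S.filter fun h => h ∈ D := by
      intro D hD E hE hne
      obtain ⟨x, -, rfl⟩ := Finset.mem_image.1 (Finset.mem_coe.1 hD)
      obtain ⟨y, -, rfl⟩ := Finset.mem_image.1 (Finset.mem_coe.1 hE)
      refine Finset.disjoint_left.2 fun h hh1 hh2 => hne ?_
      obtain ⟨hhS, hhD⟩ := Finset.mem_filter.1 hh1
      have hhE := (Finset.mem_filter.1 hh2).2
      rw [hmapcent] at hhD hhE
      rw [hmapcent, hmapcent]
      exact (centralizer_eq hχ hfaith h2 (Finset.mem_filter.1 (hconjZ g x hg)).2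
          (Finset.mem_filter.1 hhS).2 hhD).symm.trans
        (centralizer_eq hχ hfaith h2 (Finset.mem_filter.1 (hconjZ g y hg)).2
          (Finset.mem_filter.1 hhS).2 hhE)
    have hzc : ∀ D ∈ orb g, ((S.filter fun h => h ∈ D).card : ℚ) =
        (Nat.card Z : ℚ) * ((c g : ℚ) - 1) := by
      intro D hD
      obtain ⟨x, -, rfl⟩ := Finset.mem_image.1 hD
      set D := (cent g).map (MulAut.conj x).toMonoidHom with hDdef
      have hZD : Z ≤ D := by rw [hDdef, hmapcent]; exact hZle _
      have hDc : Nat.card D = Nat.card Z * c g := by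
        rw [hDdef, Subgroup.card_map_of_injective (MulAut.conj x).injective,
          ← Subgroup.card_mul_index (Z.subgroupOf (cent g)),
          Nat.card_congr (Subgroup.subgroupOfEquivOfLe (hZle g)).toEquiv]
        rfl
      have hsplit := Finset.card_filter_add_card_filter_not
        (s := Finset.univ.filter fun h => h ∈ D) (fun h => h ∈ Z)
      rw [Finset.filter_filter, Finset.filter_filter] at hsplit
      have e1 : (Finset.univ.filter fun h => h ∈ D ∧ h ∈ Z).card = Nat.card Z := by
        rw [Nat.card_eq_fintype_card]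
        refine (Fintype.card_of_subtype _ fun h => ?_).symm
        simp only [Finset.mem_filter, Finset.mem_univ, true_and]
        exact ⟨fun h' => h'.2, fun h' => ⟨hZD h', h'⟩⟩
      have e2 : (Finset.univ.filter fun h => h ∈ D).card = Nat.card D := by
        rw [Nat.card_eq_fintype_card]
        refine (Fintype.card_of_subtype _ fun h => ?_).symm
        simp
      have e3 : (S.filter fun h => h ∈ D) = Finset.univ.filter fun h => h ∈ D ∧ h ∉ Z := by
        ext h
        simp [hS, and_comm]
      rw [e1, e2, hDc, ← e3] at hsplit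
      have hq : (Nat.card Z : ℚ) + ((S.filter fun h => h ∈ D).card : ℚ) =
          (Nat.card Z : ℚ) * (c g : ℚ) := by exact_mod_cast hsplit
      linear_combination hq
    have horb : (orb g).card = (Subgroup.normalizer (cent g : Set G)).index := by
      rw [Subgroup.index_eq_card, ← Nat.card_eq_finsetCard]
      refine (Nat.card_eq_of_bijective
        (fun q : G ⧸ Subgroup.normalizer (cent g : Set G) =>
          (⟨(cent g).map (MulAut.conj q.out).toMonoidHom,
            Finset.mem_image.2 ⟨q.out, Finset.mem_univ _, rfl⟩⟩ : orb g)) ⟨?_, ?_⟩).symm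
      · intro p q hpq
        rw [← QuotientGroup.out_eq' p, ← QuotientGroup.out_eq' q]
        refine QuotientGroup.eq.2 ?_
        have h1 := congrArg Subtype.val hpq
        rw [Subgroup.mem_normalizer_iff]
        intro y
        have h3 := SetLike.ext_iff.1 h1 (q.out * y * q.out⁻¹)
        simp only [Subgroup.mem_map_equiv, MulAut.conj_symm_apply] at h3
        have e4 : (p.out⁻¹ * q.out) * y * (p.out⁻¹ * q.out)⁻¹ =
            p.out⁻¹ * (q.out * y * q.out⁻¹) * p.out := by group
        rw [e4, h3, show q.out⁻¹ * (q.out * y * q.out⁻¹) * q.out = y by group]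
      · rintro ⟨D, hD⟩
        obtain ⟨x, -, rfl⟩ := Finset.mem_image.1 hD
        refine ⟨(x : G ⧸ Subgroup.normalizer (cent g : Set G)), Subtype.ext ?_⟩
        show (cent g).map (MulAut.conj _).toMonoidHom = _
        obtain ⟨⟨t, ht⟩, he⟩ := QuotientGroup.mk_out_eq_mul (Subgroup.normalizer (cent g : Set G)) x
        ext y
        simp only [Subgroup.mem_map_equiv, MulAut.conj_symm_apply]
        rw [he]
        have h4 := Subgroup.mem_normalizer_iff.1 (inv_mem ht) (x⁻¹ * y * x)
        rw [h4]
        simp [mul_assoc]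
    rw [hset, Finset.card_biUnion hdis, Nat.cast_sum, Finset.sum_congr rfl hzc, Finset.sum_const,
      nsmul_eq_mul, horb]
    have hcard : (Nat.card G : ℚ) = (Nat.card Z : ℚ) * ((c g : ℚ) * ((s g : ℚ) *
        ((Subgroup.normalizer (cent g : Set G)).index : ℚ))) := by
      exact_mod_cast (show Nat.card G = Nat.card Z * (c g * (s g *
        (Subgroup.normalizer (cent g : Set G)).index)) by
          rw [hmul2, hmul1, hn, Subgroup.card_mul_index])
    have hc0 : (c g : ℚ) ≠ 0 := by exact_mod_cast (show c g ≠ 0 by omega)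
    have hs0 : (s g : ℚ) ≠ 0 := by
      rcases hs12 with h | h <;> (show ((s g : ℕ) : ℚ) ≠ 0) <;> rw [show s g = _ from h] <;> norm_num
    rw [hcard]
    simp only [share]
    field_simp
  -- representatives of the classes
  set T := S.image orb with hT
  have hrep : ∀ O : Finset (Subgroup G), ∃ g : G, O ∈ T → g ∈ S ∧ orb g = O := by
    intro O
    by_cases h : O ∈ T
    · obtain ⟨g, hg, rfl⟩ := Finset.mem_image.1 h
      exact ⟨g, fun _ => ⟨hg, rfl⟩⟩
    · exact ⟨1, fun h' => absurd h' h⟩
  choose r hr using hrep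
  have hsum : ∑ O ∈ T, share (c (r O), s (r O)) = 1 - 1 / (n : ℚ) := by
    have h1 : (S.card : ℚ) = ∑ O ∈ T, (Nat.card G : ℚ) * share (c (r O), s (r O)) := by
      rw [Finset.card_eq_sum_card_fiberwise (f := orb) (t := T)
        (fun g hg => Finset.mem_image_of_mem orb hg), Nat.cast_sum]
      refine Finset.sum_congr rfl fun O hO => ?_
      obtain ⟨h3, h4⟩ := hr O hO
      conv_lhs => rw [← h4]
      exact (hclass _ h3).2
    have h2' : (S.card : ℚ) = (Nat.card G : ℚ) - (Nat.card Z : ℚ) := by
      have h := Finset.card_filter_add_card_filter_not (s := (Finset.univ : Finset G))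
        (fun g => g ∈ Z)
      rw [Finset.card_univ, ← Nat.card_eq_fintype_card (α := G),
        show (Finset.univ.filter fun g => g ∈ Z).card = Nat.card Z by
          rw [Nat.card_eq_fintype_card]
          exact (Fintype.card_of_subtype _ fun h => by simp).symm] at h
      rw [← h]
      push_cast
      ring
    rw [← Finset.mul_sum, h2', ← Subgroup.card_mul_index Z, Nat.cast_mul, ← hn] at h1
    have hz0 : (Nat.card Z : ℚ) ≠ 0 := Nat.cast_ne_zero.2 Nat.card_pos.ne'
    have hnq : (n : ℚ) ≠ 0 := Nat.cast_ne_zero.2 hn0.ne'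
    field_simp at h1 ⊢
    linear_combination -h1
  have harith := arith T (fun O => (c (r O), s (r O))) n hn0
    (fun O hO => (hclass _ (hr O hO).1).1) hsum
  rcases harith with h | h | h | h
  · exact Or.inl h
  · exact Or.inr (Or.inl h)
  · exact Or.inr (Or.inr h)
  · exfalso
    have htop : Z = ⊤ := Subgroup.index_eq_one.1 h
    have hcomm : ∀ x y : G, x * y = y * x := fun x y =>
      Subgroup.mem_center_iff.1 (htop ▸ Subgroup.mem_top y : y ∈ Z) x
    have := degree_one_of_comm hcomm hχ
    rw [h2] at this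
    norm_num at this

end Cfsg.Agent.PrimitiveTwo
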