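import Cfsg.Agent.Lib.Blocks.Block
import Cfsg.Agent.Lib.Blocks.PermTrace
import Cfsg.Agent.Lib.Blocks.GroupRing
import Cfsg.Agent.Lib.Char.Degree
import Cfsg.Agent.Lib.Char.Clifford
import Mathlib.GroupTheory.GroupAction.Quotient
import Mathlib.GroupTheory.GroupAction.ConjAct
import Mathlib.GroupTheory.Sylow

/-!
# Extensions of principal-block characters into principal blocks

If `θ` lies in the principal block of a normal subgroup `N` and extends to `ψ`, the scalars by which
`N`-invariant elements of `ℤ[G]` act are, modulo `M`, a multiplicative function of the coset times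
the augmentation.
-/

set_option autoImplicit false
set_option linter.style.haveILetI false
set_option linter.unusedSectionVars false

namespace Cfsg.Agent.PrincExt

open Cfsg Cfsg.Agent.Char Cfsg.Agent.CharX Cfsg.Agent.Blocks MonoidAlgebra

universe u

variable {G : Type u} [Group G]

theorem isCharacter_of_hom (f : G →* ℂ) : Cfsg.IsCharacter G (fun g => f g) := by
  let ρ : Representation ℂ G ℂ := (algebraMap ℂ (Module.End ℂ ℂ)).toMonoidHom.comp f
  have h : ρ.character = fun g => f g := funext fun g => by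
    show LinearMap.trace ℂ ℂ (algebraMap ℂ (Module.End ℂ ℂ) (f g)) = f g
    rw [Algebra.algebraMap_eq_smul_one, map_smul, Module.End.one_eq_id, LinearMap.trace_id,
      Module.finrank_self, Nat.cast_one, smul_eq_mul, mul_one]
  exact h ▸ isCharacter_of_rep ρ

variable [Fintype G] (N : Subgroup G) [Fintype N]

/-- Invariance under conjugation by `N`. -/
def Inv {R : Type*} (w : G → R) : Prop := ∀ n ∈ N, ∀ g : G, w (n * g * n⁻¹) = w g

/-- The scalar of a weighted sum, as a function of the weights. -/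
noncomputable def gval (χ : G → ℂ) (w : G → ℤ) : ℂ := ∑ g : G, (w g : ℂ) * χ g / χ 1

/-- The augmentation. -/
def aug (w : G → ℤ) : ℤ := ∑ g : G, w g

theorem gval_comb (χ : G → ℂ) (a b : ℤ) (w v : G → ℤ) :
    gval χ (fun g => a * w g - b * v g) = a * gval χ w - b * gval χ v := by
  simp only [gval, Finset.mul_sum, ← Finset.sum_sub_distrib]
  refine Finset.sum_congr rfl fun g _ => ?_
  push_cast; ring

theorem aug_comb (a b : ℤ) (w v : G → ℤ) :
    aug (fun g => a * w g - b * v g) = a * aug w - b * aug v := by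
  simp only [aug, Finset.mul_sum, ← Finset.sum_sub_distrib]

theorem exists_gval_scalar {n : ℕ} (ρ : Representation ℂ G (Fin n → ℂ))
    (hres : Cfsg.classInner (fun x : N => ρ.character x) (fun x : N => ρ.character x) = 1)
    (hpos : n ≠ 0) (w : G → ℤ) (hw : Inv N w) :
    MonoidAlgebra.lift ℤ (Module.End ℂ (Fin n → ℂ)) G ρ (gaOfFun w) =
      gval ρ.character w • LinearMap.id := by
  classical
  set T := MonoidAlgebra.lift ℤ (Module.End ℂ (Fin n → ℂ)) G ρ (gaOfFun w) with hT
  have hTsum : T = ∑ g : G, (w g : ℂ) • ρ g := by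
    rw [hT, MonoidAlgebra.lift_apply, Finsupp.sum_fintype _ _ (by simp)]
    exact Finset.sum_congr rfl fun g _ => by rw [coeff_gaOfFun]; exact (Int.cast_smul_eq_zsmul ℂ _ _).symm
  set σ : Representation ℂ N (Fin n → ℂ) := ρ.comp N.subtype with hσ
  have hcomm : ∀ (a : N) (v : Fin n → ℂ), T (σ a v) = σ a (T v) := by
    intro a v
    show T (ρ (a : G) v) = ρ (a : G) (T v)
    simp only [hTsum, LinearMap.sum_apply, LinearMap.smul_apply, map_sum, map_smul]
    refine Fintype.sum_equiv (MulAut.conj (a : G)⁻¹).toEquiv _ _ fun g => ?_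
    simp only [MulEquiv.toEquiv_eq_coe, MulEquiv.coe_toEquiv, MulAut.conj_apply, inv_inv]
    have h1 := hw (a : G)⁻¹ (inv_mem a.2) g
    rw [inv_inv] at h1
    rw [h1, ← Module.End.mul_apply, ← Module.End.mul_apply, ← map_mul, ← map_mul]
    congr 3
    group
  have hfin : Module.finrank ℂ (Representation.IntertwiningMap σ σ) = 1 := by
    have h := classInner_char σ σ
    rw [show σ.character = fun x : N => ρ.character x from rfl, hres] at h
    exact_mod_cast h.symm
  have hne : (LinearMap.id : (Fin n → ℂ) →ₗ[ℂ] Fin n → ℂ).intertwiningMap_of_isIntertwiningMap σ σ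
      (fun _ _ => rfl) ≠ 0 := by
    intro h
    have h1 := congrArg Representation.IntertwiningMap.toLinearMap h
    obtain ⟨i⟩ : Nonempty (Fin n) := ⟨⟨0, Nat.pos_of_ne_zero hpos⟩⟩
    have h2 := congrFun (LinearMap.congr_fun h1 (fun _ => 1)) i
    simp at h2
  obtain ⟨c, hc⟩ := (finrank_eq_one_iff_of_nonzero' _ hne).1 hfin
    (T.intertwiningMap_of_isIntertwiningMap σ σ hcomm)
  have hTc : T = c • LinearMap.id := (congrArg Representation.IntertwiningMap.toLinearMap hc).symm
  rw [hTc]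
  congr 1
  have htr := congrArg (LinearMap.trace ℂ (Fin n → ℂ)) hTc
  rw [hTsum, map_sum, map_smul, LinearMap.trace_id, smul_eq_mul] at htr
  simp only [map_smul, smul_eq_mul] at htr
  rw [gval, ← Finset.sum_div, Representation.char_one, eq_div_iff (by simpa using hpos)]
  exact htr.symm

theorem isIntegral_gval {ψ : Cfsg.IrrCharacter G} {θ : N → ℂ} (hθ : Cfsg.IsIrrCharacter N θ)
    (hres : ∀ x : N, (ψ : G → ℂ) x = θ x) {w : G → ℤ} (hw : Inv N w) :
    IsIntegral ℤ (gval (ψ : G → ℂ) w) := by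
  obtain ⟨n, ρ, hρ, hψ⟩ := ψ.2
  have hn : n ≠ 0 := by
    rintro rfl
    have := IsIrrCharacter.one_ne_zero ψ.2
    rw [← hψ, Representation.char_one] at this
    simp at this
  have h1 : Cfsg.classInner (fun x : N => ρ.character x) (fun x : N => ρ.character x) = 1 := by
    rw [show (fun x : N => ρ.character x) = θ from funext fun x => by rw [hψ, hres]]
    exact classInner_self_irr hθ
  haveI : Nontrivial (Fin n → ℂ) := by
    haveI : Nonempty (Fin n) := ⟨⟨0, Nat.pos_of_ne_zero hn⟩⟩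
    infer_instance
  have h2 := (IsIntegral.of_finite ℤ (gaOfFun w)).map
    (MonoidAlgebra.lift ℤ (Module.End ℂ (Fin n → ℂ)) G ρ)
  rw [exists_gval_scalar N ρ h1 hn w hw, hψ, ← Module.End.one_eq_id,
    ← Algebra.algebraMap_eq_smul_one] at h2
  exact (isIntegral_algHom_iff ((Algebra.ofId ℂ (Module.End ℂ (Fin n → ℂ))).restrictScalars ℤ)
    (algebraMap ℂ (Module.End ℂ (Fin n → ℂ))).injective).mp h2

theorem inv_mul {w v : G → ℤ} (hw : Inv N w) (hv : Inv N v) :
    Inv N (fun g => (gaOfFun w * gaOfFun v).coeff g) := by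
  intro n hn g
  simp only [coeff_mul_univ, coeff_gaOfFun]
  refine Fintype.sum_equiv (MulAut.conj n⁻¹).toEquiv _ _ fun a => ?_
  simp only [MulEquiv.toEquiv_eq_coe, MulEquiv.coe_toEquiv, MulAut.conj_apply, inv_inv]
  have h1 := hw n⁻¹ (inv_mem hn) a
  rw [inv_inv] at h1
  have h2 := hv n⁻¹ (inv_mem hn) (a⁻¹ * (n * g * n⁻¹))
  rw [inv_inv] at h2
  rw [h1, ← h2]
  congr 2
  group

theorem gaOfFun_coeff (x : MonoidAlgebra ℤ G) : gaOfFun (fun g => x.coeff g) = x :=
  gaExt fun _ => rfl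

theorem gval_mul {ψ : Cfsg.IrrCharacter G} {θ : N → ℂ} (hθ : Cfsg.IsIrrCharacter N θ)
    (hres : ∀ x : N, (ψ : G → ℂ) x = θ x) {w v : G → ℤ} (hw : Inv N w) (hv : Inv N v) :
    gval (ψ : G → ℂ) (fun g => (gaOfFun w * gaOfFun v).coeff g) =
      gval (ψ : G → ℂ) w * gval (ψ : G → ℂ) v := by
  obtain ⟨n, ρ, hρ, hψ⟩ := ψ.2
  have hn : n ≠ 0 := by
    rintro rfl
    have := IsIrrCharacter.one_ne_zero ψ.2
    rw [← hψ, Representation.char_one] at this
    simp at this
  have h1 : Cfsg.classInner (fun x : N => ρ.character x) (fun x : N => ρ.character x) = 1 := by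
    rw [show (fun x : N => ρ.character x) = θ from funext fun x => by rw [hψ, hres]]
    exact classInner_self_irr hθ
  have h2 := map_mul (MonoidAlgebra.lift ℤ (Module.End ℂ (Fin n → ℂ)) G ρ) (gaOfFun w) (gaOfFun v)
  conv_lhs at h2 => rw [← gaOfFun_coeff (gaOfFun w * gaOfFun v)]
  rw [exists_gval_scalar N ρ h1 hn _ (inv_mul N hw hv), exists_gval_scalar N ρ h1 hn w hw,
    exists_gval_scalar N ρ h1 hn v hv, hψ, ← Module.End.one_eq_id, smul_mul_smul_comm, one_mul] at h2
  obtain ⟨i⟩ : Nonempty (Fin n) := ⟨⟨0, Nat.pos_of_ne_zero hn⟩⟩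
  have h3 := congrFun (LinearMap.congr_fun h2 (fun _ => 1)) i
  simpa using h3

theorem aug_mul (w v : G → ℤ) :
    aug (fun g => (gaOfFun w * gaOfFun v).coeff g) = aug w * aug v := by
  simp only [aug, coeff_mul_univ, coeff_gaOfFun]
  rw [Finset.sum_comm, Finset.sum_mul]
  refine Finset.sum_congr rfl fun a _ => ?_
  rw [← Finset.mul_sum]
  congr 1
  exact Fintype.sum_equiv (Equiv.mulLeft a⁻¹) _ _ fun g => rfl

variable [N.Normal]

/-- Supported in one coset. -/
def Supp (c : G ⧸ N) (w : G → ℤ) : Prop := ∀ g : G, w g ≠ 0 → (g : G ⧸ N) = c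

theorem supp_mul {c d : G ⧸ N} {w v : G → ℤ} (hw : Supp N c w) (hv : Supp N d v) :
    Supp N (c * d) (fun g => (gaOfFun w * gaOfFun v).coeff g) := by
  intro g hg
  simp only [coeff_mul_univ, coeff_gaOfFun] at hg
  obtain ⟨a, -, ha⟩ := Finset.exists_ne_zero_of_sum_ne_zero hg
  rw [← hw a (left_ne_zero_of_mul ha), ← hv _ (right_ne_zero_of_mul ha), ← QuotientGroup.mk_mul,
    mul_inv_cancel_left]

variable {p : ℕ} [Fact p.Prime] {M : Ideal Cfsg.AlgInt} [M.IsPrime]

/-- On `N` itself the scalar is congruent to the augmentation. -/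
theorem gval_sub_aug_mem {ψ : Cfsg.IrrCharacter G} (θ : Cfsg.IrrCharacter N)
    (hres : ∀ x : N, (ψ : G → ℂ) x = (θ : N → ℂ) x)
    (hθ : θ ∈ Cfsg.principalBlock M N) {w : G → ℤ} (hw : Inv N w) (hsupp : Supp N 1 w) :
    MemLocalIdeal M (gval (ψ : G → ℂ) w - (aug w : ℂ)) := by
  classical
  haveI : Finite (ConjClasses N) := Finite.of_surjective _ ConjClasses.mk_surjective
  haveI : Fintype (ConjClasses N) := Fintype.ofFinite _
  have hθ1 : (θ : N → ℂ) 1 ≠ 0 := IsIrrCharacter.one_ne_zero θ.2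
  have h1 : gval (ψ : G → ℂ) w - (aug w : ℂ) =
      ∑ x : N, (w x : ℂ) * ((θ : N → ℂ) x / (θ : N → ℂ) 1 - 1) := by
    rw [gval, aug, Int.cast_sum, ← Finset.sum_sub_distrib,
      ← Finset.sum_subset (Finset.subset_univ (Finset.univ.filter fun g => g ∈ N)) (fun g _ hg => by
        have : w g = 0 := by
          by_contra h
          exact hg (Finset.mem_filter.2 ⟨Finset.mem_univ _, (QuotientGroup.eq_one_iff g).1 (hsupp g h)⟩)
        rw [this]; simp),
      ← Finset.sum_subtype_eq_sum_filter, Finset.subtype_univ]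
    refine Finset.sum_congr rfl fun x _ => ?_
    rw [hres, show (ψ : G → ℂ) 1 = (θ : N → ℂ) 1 by rw [← hres 1]; rfl]
    ring
  rw [h1, ← Finset.sum_fiberwise Finset.univ ConjClasses.mk]
  refine memLocalIdeal_sum _ _ fun C _ => ?_
  obtain ⟨g, rfl⟩ := ConjClasses.mk_surjective C
  rw [show Finset.univ.filter (fun x => ConjClasses.mk x = ConjClasses.mk g) = classFinset g by
      ext x
      simp only [Finset.mem_filter, Finset.mem_univ, true_and, mem_classFinset,
        ConjClasses.mk_eq_mk_iff_isConj]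
      exact isConj_comm,
    sum_char_class (χ := fun x : N => (w x : ℂ) * ((θ : N → ℂ) x / (θ : N → ℂ) 1 - 1)) (fun a b => by
      show (w ↑(b * a * b⁻¹) : ℂ) * _ = _
      rw [Subgroup.coe_mul, Subgroup.coe_mul, Subgroup.coe_inv, hw b b.2 a,
        IsCharacter.isClassFunction (IsIrrCharacter.isCharacter θ.2) a b]) g]
  have h2 : MemLocalIdeal M (Cfsg.centralChar (fun _ : N => (1 : ℂ)) g -
      Cfsg.centralChar (θ : N → ℂ) g) := hθ g
  have h3 := MemLocalIdeal.mul_left (intCast_mem (locRing M) (w g)) (MemLocalIdeal.neg h2)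
  convert h3 using 1
  rw [Cfsg.centralChar, Cfsg.centralChar]
  ring

variable (ψ : Cfsg.IrrCharacter G) (θ : Cfsg.IrrCharacter N)
  (hres : ∀ x : N, (ψ : G → ℂ) x = (θ : N → ℂ) x) (hθ : θ ∈ Cfsg.principalBlock M N)

include hres hθ

/-- Elements of augmentation divisible by `p` in a coset act as zero modulo `M`. -/
theorem gval_pow_sub_mem {c : G ⧸ N} {w : G → ℤ} (hw : Inv N w) (hsupp : Supp N c w) {m : ℕ}
    (hm : c ^ m = 1) :
    MemLocalIdeal M (gval (ψ : G → ℂ) w ^ m - (aug w : ℂ) ^ m) := by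
  classical
  have key : ∀ i : ℕ, ∃ v : G → ℤ, Inv N v ∧ Supp N (c ^ i) v ∧
      gval (ψ : G → ℂ) v = gval (ψ : G → ℂ) w ^ i ∧ aug v = aug w ^ i := by
    intro i
    induction i with
    | zero =>
      refine ⟨fun g => if g = 1 then 1 else 0, fun n _ g => ?_, fun g hg => ?_, ?_, ?_⟩
      · exact if_congr conj_eq_one_iff rfl rfl
      · have : g = 1 := by by_contra h; exact hg (if_neg h)
        rw [this, pow_zero, QuotientGroup.mk_one]
      · rw [gval, Finset.sum_eq_single 1 (fun g _ hg => by simp [hg]) (by simp)]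
        simp [IsIrrCharacter.one_ne_zero ψ.2]
      · simp [aug]
    | succ i ih =>
      obtain ⟨v, hv, hvs, hvg, hva⟩ := ih
      exact ⟨_, inv_mul N hv hw, by rw [pow_succ]; exact supp_mul N hvs hsupp,
        by rw [gval_mul N θ.2 hres hv hw, hvg, pow_succ], by rw [aug_mul, hva, pow_succ]⟩
  obtain ⟨v, hv, hvs, hvg, hva⟩ := key m
  have := gval_sub_aug_mem N θ hres hθ hv (hm ▸ hvs)
  rwa [hvg, hva, Int.cast_pow] at this

theorem gval_mem_of_aug_eq_zero {c : G ⧸ N} {w : G → ℤ} (hw : Inv N w) (hsupp : Supp N c w)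
    (h0 : aug w = 0) : MemLocalIdeal M (gval (ψ : G → ℂ) w) := by
  have h := gval_pow_sub_mem N ψ θ hres hθ hw hsupp (pow_card_eq_one' (x := c))
  rw [h0, Int.cast_zero, zero_pow Nat.card_pos.ne', sub_zero] at h
  obtain ⟨a, ha⟩ : ∃ a : AlgInt, (a : ℂ) = gval (ψ : G → ℂ) w :=
    ⟨⟨_, isIntegral_gval N θ.2 hres hw⟩, rfl⟩
  rw [← ha] at h ⊢
  rw [show ((a : ℂ)) ^ Nat.card (G ⧸ N) = ((a ^ Nat.card (G ⧸ N) : AlgInt) : ℂ) by push_cast; rfl,
    memLocalIdeal_coe_iff] at h
  exact (memLocalIdeal_coe_iff a).2 ((inferInstance : M.IsPrime).mem_of_pow_mem _ h)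

omit hres hθ

/-- The indicator of an orbit. -/
theorem exists_orbit (hM : IsPModular p M) (P : Sylow p N) (y : G)
    (hy : y ∈ Subgroup.centralizer (((P : Subgroup N).map N.subtype : Subgroup G) : Set G)) :
    ∃ w : G → ℤ, Inv N w ∧ Supp N (y : G ⧸ N) w ∧ ∃ a : ℕ, ¬ p ∣ a ∧ aug w = a := by
  classical
  let φ : N →* ConjAct G := ConjAct.toConjAct.toMonoidHom.comp N.subtype
  letI : MulAction N G := MulAction.compHom G φ
  have hsmul : ∀ (n : N) (g : G), n • g = (n : G) * g * (n : G)⁻¹ := fun n g => rfl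
  set O := MulAction.orbit N y
  refine ⟨fun g => if g ∈ O then 1 else 0, fun n hn g => ?_, fun g hg => ?_, Nat.card O, ?_, ?_⟩
  · have h : (n * g * n⁻¹ ∈ O) ↔ g ∈ O := by
      rw [show n * g * n⁻¹ = (⟨n, hn⟩ : N) • g from rfl]
      constructor
      · rintro ⟨k, hk⟩
        exact ⟨(⟨n, hn⟩ : N)⁻¹ * k, by simp only [mul_smul]; rw [show k • y = _ from hk, inv_smul_smul]⟩
      · rintro ⟨k, hk⟩
        exact ⟨(⟨n, hn⟩ : N) * k, by simp only [mul_smul]; rw [show k • y = _ from hk]⟩
    exact if_congr h rfl rfl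
  · obtain ⟨n, rfl⟩ : g ∈ O := by by_contra h; exact hg (if_neg h)
    show ((n • y : G) : G ⧸ N) = _
    rw [hsmul, QuotientGroup.mk_mul, QuotientGroup.mk_mul, QuotientGroup.mk_inv,
      (QuotientGroup.eq_one_iff (n : G)).2 n.2]
    group
  · rw [Nat.card_coe_set_eq, ← MulAction.index_stabilizer N y]
    intro hd
    refine Sylow.not_dvd_index P (hd.trans (Subgroup.index_dvd_of_le fun x hx => ?_))
    rw [MulAction.mem_stabilizer_iff, hsmul,
      Subgroup.mem_centralizer_iff.1 hy (x : G) ⟨x, hx, rfl⟩]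
    group
  · rw [aug, Nat.card_eq_fintype_card, Fintype.card_subtype, Finset.natCast_card_filter]

include hres hθ

theorem exists_lift (hM : IsPModular p M) (P : Sylow p N)
    (hcov : N ⊔ Subgroup.centralizer (((P : Subgroup N).map N.subtype : Subgroup G) : Set G) = ⊤) :
    ∃ Λ : G ⧸ N →* ℂ, (∀ c, ∃ m : ℕ, m ≠ 0 ∧ Λ c ^ m = 1) ∧
      ∀ (c : G ⧸ N) (w : G → ℤ), Inv N w → Supp N c w →
        MemLocalIdeal M (Λ c⁻¹ * gval (ψ : G → ℂ) w - (aug w : ℂ)) := by
  classical
  have hp : p.Prime := Fact.out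
  haveI : CharP (resField M) p := resField_charP hM
  haveI : ExpChar (resField M) p := ExpChar.prime hp
  haveI : Fintype (G ⧸ N) := Fintype.ofFinite _
  -- coset representatives centralising `P`
  have hrep : ∀ c : G ⧸ N, ∃ y ∈ Subgroup.centralizer
      (((P : Subgroup N).map N.subtype : Subgroup G) : Set G), (y : G ⧸ N) = c := by
    intro c
    obtain ⟨g, rfl⟩ := QuotientGroup.mk_surjective c
    have hg : g ∈ N ⊔ Subgroup.centralizer (((P : Subgroup N).map N.subtype : Subgroup G) : Set G) :=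
      hcov ▸ Subgroup.mem_top g
    rw [← SetLike.mem_coe, Subgroup.normal_mul] at hg
    obtain ⟨n, hn, y, hy, rfl⟩ := hg
    exact ⟨y, hy, by rw [QuotientGroup.mk_mul, (QuotientGroup.eq_one_iff n).2 hn, one_mul]⟩
  choose y hy hyc using hrep
  choose w₀ hw₀ hs₀ a ha haug using fun c => exists_orbit N hM P (y c) (hy c)
  replace hs₀ : ∀ c, Supp N c (w₀ c) := fun c => by
    have := hs₀ c
    rwa [hyc] at this
  have hint : ∀ {w : G → ℤ}, Inv N w → gval (ψ : G → ℂ) w ∈ locRing M := fun hw =>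
    mem_locRing_of_isIntegral (isIntegral_gval N θ.2 hres hw)
  let g : {w : G → ℤ // Inv N w} → resField M := fun w => res M ⟨_, hint w.2⟩
  have ha0 : ∀ c, ((a c : ℕ) : resField M) ≠ 0 := fun c h => ha c ((CharP.cast_eq_zero_iff _ p _).1 h)
  let u : G ⧸ N → resField M := fun c => g ⟨w₀ c, hw₀ c⟩ / (a c : resField M)
  have hlin : ∀ c w, ∀ hw : Inv N w, Supp N c w → g ⟨w, hw⟩ = u c * (aug w : resField M) := by
    intro c w hw hs
    set v : G → ℤ := fun x => (a c : ℤ) * w x - aug w * w₀ c x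
    have hv : Inv N v := fun n hn x => by simp only [v, hw n hn x, hw₀ c n hn x]
    have hvs : Supp N c v := fun x hx => by
      by_contra hne
      have h1 : w x = 0 := by by_contra h; exact hne (hs x h)
      have h2 : w₀ c x = 0 := by by_contra h; exact hne (hs₀ c x h)
      exact hx (by simp [v, h1, h2])
    have h0 : aug v = 0 := by
      rw [show v = fun x => (a c : ℤ) * w x - aug w * w₀ c x from rfl, aug_comb, haug]; ring
    have h1 := gval_mem_of_aug_eq_zero N ψ θ hres hθ hv hvs h0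
    rw [show v = fun x => (a c : ℤ) * w x - aug w * w₀ c x from rfl, gval_comb] at h1
    have h2 : (a c : resField M) * g ⟨w, hw⟩ = (aug w : resField M) * g ⟨w₀ c, hw₀ c⟩ := by
      simp only [g, ← map_intCast (res M), ← map_natCast (res M), ← map_mul]
      rw [res_eq_res_iff]
      simpa using h1
    rw [show u c = g ⟨w₀ c, hw₀ c⟩ / (a c : resField M) from rfl, div_mul_eq_mul_div,
      eq_div_iff (ha0 c)]
    linear_combination h2
  have hu1 : u 1 = 1 := by
    have hw : Inv N (fun x : G => if x = 1 then (1 : ℤ) else 0) := fun n _ x =>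
      if_congr conj_eq_one_iff rfl rfl
    have h := hlin 1 _ hw fun x hx => by
      have : x = 1 := by by_contra h; exact hx (if_neg h)
      rw [this]; rfl
    have e1 : g ⟨_, hw⟩ = 1 := by
      rw [← map_one (res M)]
      refine congrArg (res M) (Subtype.ext ?_)
      show gval _ _ = (1 : ℂ)
      rw [gval, Finset.sum_eq_single 1 (fun x _ hx => by simp [hx]) (by simp)]
      simp [IsIrrCharacter.one_ne_zero ψ.2]
    rw [e1, show aug (fun x : G => if x = 1 then (1 : ℤ) else 0) = 1 by simp [aug], Int.cast_one,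
      mul_one] at h
    exact h.symm
  have humul : ∀ c d, u (c * d) = u c * u d := by
    intro c d
    have h := hlin (c * d) _ (inv_mul N (hw₀ c) (hw₀ d)) (supp_mul N (hs₀ c) (hs₀ d))
    have e : g ⟨_, inv_mul N (hw₀ c) (hw₀ d)⟩ = g ⟨w₀ c, hw₀ c⟩ * g ⟨w₀ d, hw₀ d⟩ := by
      simp only [g, ← map_mul]
      exact congrArg (res M) (Subtype.ext (gval_mul N θ.2 hres (hw₀ c) (hw₀ d)))
    rw [e, hlin c _ (hw₀ c) (hs₀ c), hlin d _ (hw₀ d) (hs₀ d), aug_mul, haug, haug] at h
    push_cast at h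
    refine mul_right_cancel₀ (mul_ne_zero (ha0 c) (ha0 d)) ?_
    linear_combination -h
  -- lift to roots of unity of order prime to `p`
  set m := Nat.card (G ⧸ N) with hm
  set m' := m / p ^ m.factorization p with hm'
  have hm0 : m ≠ 0 := Nat.card_pos.ne'
  have hm'p : ¬ p ∣ m' := Nat.not_dvd_ordCompl hp hm0
  have hm'0 : 0 < m' := Nat.ordCompl_pos p hm0
  haveI : NeZero m' := ⟨hm'0.ne'⟩
  obtain ⟨η, hη⟩ := exists_primitiveRoot (M := M) m' hm'0
  have hηi : IsIntegral ℤ (η : ℂ) :=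
    IsIntegral.of_pow hm'0 (by rw [← SubmonoidClass.coe_pow, hη.pow_eq_one]; exact isIntegral_one)
  have hinj : ∀ x : locRing M, x ^ m' = 1 → res M x = 1 → x = 1 := by
    intro x hx h1
    have hxi : IsIntegral ℤ (x : ℂ) :=
      IsIntegral.of_pow hm'0 (by rw [← SubmonoidClass.coe_pow, hx]; exact isIntegral_one)
    rw [← map_one (res M), res_eq_res_iff] at h1
    have h2 : (⟨x, hxi⟩ - 1 : AlgInt) ∈ M := (memLocalIdeal_coe_iff _).1 (by simpa using h1)
    have h3 : (⟨x, hxi⟩ : AlgInt) ^ m' = 1 := Subtype.ext (by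
      simpa using congrArg Subtype.val hx)
    have h4 := eq_of_sub_mem_of_pow_eq_one hM hm'p h3 (one_pow m') h2
    exact Subtype.ext (show (x : ℂ) = 1 by simpa using congrArg Subtype.val h4)
  have hpow : ∀ c, u c ^ m' = 1 := by
    intro c
    let U : G ⧸ N →* resField M := { toFun := u, map_one' := hu1, map_mul' := humul }
    have hc : u c ^ m = 1 := by
      show U c ^ m = 1
      rw [← map_pow, hm, pow_card_eq_one', map_one]
    rw [← sub_eq_zero]
    refine IsReduced.eq_zero _ ⟨p ^ m.factorization p, ?_⟩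
    rw [sub_pow_char_pow, one_pow, ← pow_mul, mul_comm, hm',
      Nat.ordProj_mul_ordCompl_eq_self, hc, sub_self]
  have hprim : IsPrimitiveRoot (res M η) m' := by
    refine ⟨by rw [← map_pow, hη.pow_eq_one, map_one], fun l hl => hη.dvd_of_pow_eq_one l ?_⟩
    refine hinj _ ?_ (by rw [map_pow, hl])
    rw [← pow_mul, mul_comm, pow_mul, hη.pow_eq_one, one_pow]
  choose i hi hiu using fun c => hprim.eq_pow_of_pow_eq_one (hpow c)
  let L : G ⧸ N → locRing M := fun c => η ^ i c
  have hLm : ∀ c, L c ^ m' = 1 := fun c => by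
    show (η ^ i c) ^ m' = 1
    rw [← pow_mul, mul_comm, pow_mul, hη.pow_eq_one, one_pow]
  have hL : ∀ c, res M (L c) = u c := fun c => by rw [map_pow]; exact hiu c
  have heq : ∀ x z : locRing M, x ^ m' = 1 → z ^ m' = 1 → res M x = res M z → x = z := by
    intro x z hx hz h
    have hz1 : z * z ^ (m' - 1) = 1 := by
      rw [← pow_succ', Nat.sub_add_cancel hm'0, hz]
    have h1 : x * z ^ (m' - 1) = 1 := hinj _ (by
      rw [mul_pow, hx, one_mul, ← pow_mul, mul_comm, pow_mul, hz, one_pow])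
      (by rw [map_mul, h, ← map_mul, hz1, map_one])
    calc x = x * (z * z ^ (m' - 1)) := by rw [hz1, mul_one]
      _ = z * (x * z ^ (m' - 1)) := by ring
      _ = z := by rw [h1, mul_one]
  refine ⟨{ toFun := fun c => (L c : ℂ), map_one' := ?_, map_mul' := fun c d => ?_ }, fun c => ?_, ?_⟩
  · rw [heq (L 1) 1 (hLm 1) (one_pow _) (by rw [hL, hu1, map_one])]; rfl
  · rw [heq (L (c * d)) (L c * L d) (hLm _) (by rw [mul_pow, hLm, hLm, one_mul])
      (by rw [map_mul, hL, hL, hL, humul])]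
    rfl
  · exact ⟨m', hm'0.ne', by
      show (L c : ℂ) ^ m' = 1
      rw [← SubmonoidClass.coe_pow, hLm]; rfl⟩
  · intro c w hw hs
    show MemLocalIdeal M ((L c⁻¹ : ℂ) * gval (ψ : G → ℂ) w - (aug w : ℂ))
    have h : res M (L c⁻¹ * ⟨_, hint hw⟩) = res M ((aug w : ℤ) : locRing M) := by
      rw [map_mul, hL, map_intCast, show res M ⟨_, hint hw⟩ = g ⟨w, hw⟩ from rfl, hlin c w hw hs,
        ← mul_assoc, ← humul, inv_mul_cancel, hu1, one_mul]
    rw [res_eq_res_iff] at h
    simpa using h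

end Cfsg.Agent.PrincExt
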