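import Cfsg.Agent.Lib.BrauerSuzuki.Sylow
import Cfsg.Agent.Lib.BrauerPairs.RankQuotient
import Cfsg.Agent.Lib.Blocks.KleinPrincipal

/-!
The principal 2-block of a group with a quaternion Sylow 2-subgroup of order eight has seven
members.
-/

set_option linter.style.haveILetI false
set_option linter.unusedSectionVars false

namespace Cfsg.Agent.QuatEight

open Cfsg Cfsg.Agent.Char Cfsg.Agent.Blocks
open scoped ComplexConjugate

universe u

theorem q8_invol : ∀ a b : QuaternionGroup 2, a * a = 1 → b * b = 1 → a ≠ 1 → b ≠ 1 → a = b := by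
  decide +kernel

theorem q8_pow_four : ∀ a : QuaternionGroup 2, a ^ 4 = 1 := by decide +kernel

theorem q8_centralizer : ∀ a x : QuaternionGroup 2, a * a ≠ 1 → a * x = x * a →
    x = 1 ∨ x = a ∨ x = a * a ∨ x = a * a * a := by
  decide +kernel

variable {G : Type u} [Group G] [Fintype G]

/-- An element of two-power order lies in a copy of the quaternion group. -/
theorem exists_sylow_iso (S : Sylow 2 G) (e : (S : Subgroup G) ≃* QuaternionGroup 2)
    {H : Subgroup G} (hH : IsPGroup 2 H) :
    ∃ (T : Subgroup G) (f : T ≃* QuaternionGroup 2), H ≤ T := by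
  haveI : Fact (Nat.Prime 2) := ⟨Nat.prime_two⟩
  obtain ⟨T, hT⟩ := hH.exists_le_sylow
  exact ⟨T, (T.equiv S).trans e, hT⟩

theorem pow_four_eq_one (S : Sylow 2 G) (e : (S : Subgroup G) ≃* QuaternionGroup 2) {a : G}
    (ha : ∃ k, orderOf a = 2 ^ k) : a ^ 4 = 1 := by
  obtain ⟨k, hk⟩ := ha
  obtain ⟨T, f, hT⟩ := exists_sylow_iso S e
    (IsPGroup.of_card (n := k) (by rw [Nat.card_zpowers, hk]) : IsPGroup 2 (Subgroup.zpowers a))
  have h : (⟨a, hT (Subgroup.mem_zpowers a)⟩ : T) ^ 4 = 1 := f.injective (by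
    rw [map_pow, map_one]; exact q8_pow_four _)
  exact congrArg Subtype.val h

theorem factorization_card (S : Sylow 2 G) (e : (S : Subgroup G) ≃* QuaternionGroup 2) :
    (Nat.card G).factorization 2 = 3 := by
  haveI : Fact (Nat.Prime 2) := ⟨Nat.prime_two⟩
  have h := S.card_eq_multiplicity
  rw [Nat.card_congr e.toEquiv, Nat.card_eq_fintype_card, QuaternionGroup.card] at h
  exact (Nat.pow_right_injective le_rfl (show (2 : ℕ) ^ 3 = _ from h)).symm

/-- The centralizer of an element of order four has a normal complement to its Sylow subgroup of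
order four. -/
theorem centralizer_complement (S : Sylow 2 G) (e : (S : Subgroup G) ≃* QuaternionGroup 2) {a : G}
    (ha : orderOf a = 4) {C : Subgroup G} (hC : C = Subgroup.centralizer ({a} : Set G)) :
    (Nat.card C).factorization 2 = 2 ∧
      ∃ N : Subgroup C, N.Normal ∧ ¬ 2 ∣ Nat.card N ∧ ∃ k, N.index = 2 ^ k := by
  classical
  haveI : Fact (Nat.Prime 2) := ⟨Nat.prime_two⟩
  have haC : a ∈ C := by rw [hC, Subgroup.mem_centralizer_singleton_iff]
  set w : C := ⟨a, haC⟩ with hw
  have hwc : ∀ x : C, x * w = w * x := fun x => Subtype.ext (by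
    have h1 : (x : G) ∈ Subgroup.centralizer ({a} : Set G) := hC ▸ x.2
    exact Subgroup.mem_centralizer_singleton_iff.1 h1)
  have hwo : orderOf w = 4 := by rw [← Subgroup.orderOf_coe]; exact ha
  haveI : (Subgroup.zpowers w).Normal := ⟨fun x hx g => by
    obtain ⟨i, rfl⟩ := Subgroup.mem_zpowers_iff.1 hx
    rw [(Commute.zpow_right (show Commute g w from hwc g) i).eq, mul_inv_cancel_right]
    exact Subgroup.zpow_mem_zpowers w i⟩
  obtain ⟨P⟩ : Nonempty (Sylow 2 C) := inferInstance
  have hwP : Subgroup.zpowers w ≤ (P : Subgroup C) := by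
    have h1 := P.is_maximal' (IsPGroup.to_sup_of_normal_left
      (IsPGroup.of_card (n := 2) (by rw [Nat.card_zpowers, hwo]; norm_num)) P.2) le_sup_right
    exact le_sup_left.trans h1.le
  obtain ⟨T, f, hT⟩ := exists_sylow_iso S e (P.2.map C.subtype)
  have haT : a ∈ T := hT ⟨w, hwP (Subgroup.mem_zpowers w), rfl⟩
  have hane : f ⟨a, haT⟩ * f ⟨a, haT⟩ ≠ 1 := by
    intro h
    rw [← map_mul, EmbeddingLike.map_eq_one_iff] at h
    have h1 : a ^ 2 = 1 := by rw [pow_two]; exact congrArg Subtype.val h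
    have h2 := orderOf_dvd_of_pow_eq_one h1
    rw [ha] at h2
    norm_num at h2
  have hPeq : (P : Subgroup C) = Subgroup.zpowers w := by
    refine le_antisymm (fun x hx => ?_) hwP
    have hxT : (x : G) ∈ T := hT ⟨x, hx, rfl⟩
    have hcomm : f ⟨a, haT⟩ * f ⟨(x : G), hxT⟩ = f ⟨(x : G), hxT⟩ * f ⟨a, haT⟩ := by
      rw [← map_mul, ← map_mul]
      exact congrArg f (Subtype.ext (congrArg Subtype.val (hwc x)).symm)
    have key : ∀ n : ℕ, f ⟨(x : G), hxT⟩ = f (⟨a, haT⟩ ^ n) → x ∈ Subgroup.zpowers w := by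
      intro n hn
      have hh : (x : G) = a ^ n := congrArg Subtype.val (f.injective hn)
      rw [show x = w ^ n from Subtype.ext hh]
      exact Subgroup.npow_mem_zpowers w n
    rcases q8_centralizer _ _ hane hcomm with h | h | h | h
    · exact key 0 (by rw [h, pow_zero, map_one])
    · exact key 1 (by rw [h, pow_one])
    · exact key 2 (by rw [h, pow_two, map_mul])
    · exact key 3 (by rw [h, pow_three', map_mul, map_mul])
  have hcard : Nat.card (P : Subgroup C) = 4 := by rw [hPeq, Nat.card_zpowers, hwo]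
  have hfac : (Nat.card C).factorization 2 = 2 := by
    have h := P.card_eq_multiplicity
    rw [hcard] at h
    exact (Nat.pow_right_injective le_rfl (show (2 : ℕ) ^ 2 = _ from h)).symm
  have hle : Subgroup.normalizer ((P : Subgroup C) : Set C) ≤
      Subgroup.centralizer ((P : Subgroup C) : Set C) := fun g _ => by
    rw [Subgroup.mem_centralizer_iff]
    intro x hx
    rw [SetLike.mem_coe, hPeq] at hx
    obtain ⟨i, rfl⟩ := Subgroup.mem_zpowers_iff.1 hx
    exact (Commute.zpow_right (show Commute g w from hwc g) i).eq.symm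
  have hc := MonoidHom.ker_transferSylow_isComplement' P hle
  set N := (MonoidHom.transferSylow P hle).ker
  have hmul : Nat.card N * 4 = Nat.card C := hcard ▸ hc.card_mul
  refine ⟨hfac, N, inferInstance, fun h2 => ?_, 2, ?_⟩
  · have h8 : 2 ^ 3 ∣ Nat.card C := by
      rw [← hmul]
      obtain ⟨m, hm⟩ := h2
      exact ⟨m, by rw [hm]; ring⟩
    have := (Nat.Prime.pow_dvd_iff_le_factorization Nat.prime_two Nat.card_pos.ne').1 h8
    omega
  · have h := N.index_mul_card
    rw [← hmul, mul_comm (Nat.card N)] at h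
    exact Nat.eq_of_mul_eq_mul_right Nat.card_pos h

theorem sum_irr (χ : IrrCharacter G) :
    ∑ g : G, (χ : G → ℂ) g = if χ = principal G then (Nat.card G : ℂ) else 0 := by
  classical
  split_ifs with h
  · subst h
    simp [principal, Nat.card_eq_fintype_card]
  · have h1 := classInner_irr_of_ne χ.2 (principal G).2 (fun he => h (Subtype.ext he))
    simp only [classInner] at h1
    rcases mul_eq_zero.1 h1 with h2 | h2
    · exact absurd h2 (inv_ne_zero (Nat.cast_ne_zero.2 Nat.card_pos.ne'))
    · refine Eq.trans (Finset.sum_congr rfl fun g _ => ?_) h2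
      show (χ : G → ℂ) g = (χ : G → ℂ) g * conj (1 : ℂ)
      rw [map_one, mul_one]

theorem sum_normSq_irr (χ : IrrCharacter G) :
    ∑ g : G, (χ : G → ℂ) g * conj ((χ : G → ℂ) g) = (Nat.card G : ℂ) := by
  have h := classInner_self_irr (G := G) χ.2
  simp only [classInner] at h
  rw [inv_mul_eq_one₀ (Nat.cast_ne_zero.2 Nat.card_pos.ne')] at h
  exact h.symm

/-- No normal 2-complement modulo the centre. -/
theorem no_complement_quotient (hO : ∀ N : Subgroup G, N.Normal → Odd (Nat.card N) → N = ⊥)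
    (S : Sylow 2 G) (e : (S : Subgroup G) ≃* QuaternionGroup 2) (hG : (S : Subgroup G) ≠ ⊤)
    {z : G} (hz : orderOf z = 2) [(Subgroup.zpowers z).Normal] :
    ¬ Cfsg.HasNormalPComplement 2 (G ⧸ Subgroup.zpowers z) := by
  classical
  haveI : Fact (Nat.Prime 2) := ⟨Nat.prime_two⟩
  set Z := Subgroup.zpowers z with hZ
  rintro ⟨P, Nb, hNb, hc⟩
  haveI := hNb
  have hcardG : Nat.card G = Nat.card (G ⧸ Z) * 2 := by
    rw [Subgroup.card_eq_card_quotient_mul_card_subgroup Z, hZ, Nat.card_zpowers, hz]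
  have hq : (Nat.card (G ⧸ Z)).factorization 2 = 2 := by
    have h := factorization_card S e
    rw [hcardG, Nat.factorization_mul Nat.card_pos.ne' two_ne_zero, Finsupp.add_apply,
      Nat.Prime.factorization_self Nat.prime_two] at h
    omega
  have hP : Nat.card (P : Subgroup (G ⧸ Z)) = 4 := by rw [P.card_eq_multiplicity, hq]; norm_num
  have hmul : Nat.card Nb * 4 = Nat.card (G ⧸ Z) := hP ▸ hc.card_mul
  set N := Nb.comap (QuotientGroup.mk' Z) with hN
  have hNn : N.Normal := hNb.comap _
  have hNcard : Nat.card N = Nat.card Nb * 2 := by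
    have h1 := Subgroup.index_comap_of_surjective (H := Nb) (QuotientGroup.mk'_surjective Z)
    have h2 := N.index_mul_card
    rw [hN, h1, hcardG, ← Nb.index_mul_card, mul_assoc] at h2
    exact Nat.eq_of_mul_eq_mul_left (Nat.pos_of_ne_zero Subgroup.index_ne_zero_of_finite) h2
  have hodd : (Nat.card Nb).factorization 2 = 0 := by
    have h := congrArg (fun n : ℕ => n.factorization 2) hmul
    rw [hq, Nat.factorization_mul Nat.card_pos.ne' (by norm_num), Finsupp.add_apply,
      show (4 : ℕ) = 2 ^ 2 by norm_num, Nat.prime_two.factorization_pow, Finsupp.single_eq_same]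
      at h
    omega
  obtain ⟨Q⟩ : Nonempty (Sylow 2 N) := inferInstance
  have hQ : Nat.card (Q : Subgroup N) = 2 := by
    rw [Q.card_eq_multiplicity, hNcard, Nat.factorization_mul Nat.card_pos.ne' two_ne_zero,
      Finsupp.add_apply, hodd, Nat.Prime.factorization_self Nat.prime_two]
    norm_num
  haveI : IsCyclic (Q : Subgroup N) := isCyclic_of_prime_card (p := 2) hQ
  obtain ⟨Q', K, hK, hKc⟩ := Fusion.hasNormalPComplement_of_normalizer_le_centralizer Q
    (IsCyclic.normalizer_le_centralizer (P := Q)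
      ((Nat.minFac_eq_two_iff _).2 (hQ ▸ Subgroup.card_subgroup_dvd_card _)) inferInstance)
  have hQ' : Nat.card (Q' : Subgroup N) = 2 := by
    exact (Nat.card_congr (Q'.equiv Q).toEquiv).trans hQ
  have hKN : Nat.card K = Nat.card Nb := by
    have h1 := hc.card_mul
    have h2 := hKc.card_mul
    rw [hQ', hNcard] at h2
    omega
  have hKbot : K = ⊥ := by
    have h1 : K ≤ Cfsg.pPrimeCore 2 N := by
      refine le_sSup ⟨hK, ?_⟩
      rw [hKN]
      refine (Nat.prime_two.coprime_iff_not_dvd.2 fun h2 => ?_).symm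
      have := (Nat.Prime.dvd_iff_one_le_factorization Nat.prime_two Nat.card_pos.ne').1 h2
      omega
    have h2 := Cfsg.Agent.FittingCores.pPrimeCore_map_subtype_le 2 hNn
    rw [Cfsg.Agent.BrauerSuzuki.pPrimeCore_two_eq_bot hO, le_bot_iff,
      Subgroup.map_eq_bot_iff_of_injective _ N.subtype_injective] at h2
    exact le_bot_iff.1 (h2 ▸ h1)
  rw [hKbot, Subgroup.card_bot] at hKN
  rw [← hKN, one_mul] at hmul
  refine hG (Subgroup.eq_top_of_card_eq _ ?_)
  rw [hcardG, ← hmul, Nat.card_congr e.toEquiv, Nat.card_eq_fintype_card, QuaternionGroup.card]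

variable {M : Ideal AlgInt} [M.IsPrime]

/-- The principal block has seven members. -/
theorem card_principalBlock (hM : IsPModular 2 M) (S : Sylow 2 G)
    (e : (S : Subgroup G) ≃* QuaternionGroup 2)
    (hO : ∀ N : Subgroup G, N.Normal → Odd (Nat.card N) → N = ⊥) (hG : (S : Subgroup G) ≠ ⊤) :
    Nat.card (principalBlock M G) = 7 := by
  classical
  haveI : Fact (Nat.Prime 2) := ⟨Nat.prime_two⟩
  obtain ⟨hR, D, -, -⟩ := BrauerSuzuki.exists_quaternion_data S le_rfl e
  set z := D.a ^ (2 * D.k) with hzdef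
  have hz : orderOf z = 2 := D.orderOf_z
  have hzc : ∀ g : G, g * z = z * g := by
    intro g
    have h := BrauerSuzuki.inZStar G hR z hz g
    rw [BrauerSuzuki.pPrimeCore_two_eq_bot hO, Subgroup.mem_bot] at h
    exact mul_inv_eq_iff_eq_mul.1 (mul_inv_eq_one.1 h)
  clear_value z
  set Z := Subgroup.zpowers z with hZ
  haveI hZn : Z.Normal := ⟨fun x hx g => by
    obtain ⟨i, rfl⟩ := Subgroup.mem_zpowers_iff.1 hx
    rw [(Commute.zpow_right (show Commute g z from hzc g) i).eq, mul_inv_cancel_right]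
    exact Subgroup.zpow_mem_zpowers z i⟩
  haveI : Fintype (G ⧸ Z) := Fintype.ofFinite _
  have hz1 : z * z = 1 := by rw [← pow_two, ← hz, pow_orderOf_eq_one]
  have hZmem : ∀ x ∈ Z, x = 1 ∨ x = z := by
    intro x hx
    obtain ⟨i, rfl⟩ := Subgroup.mem_zpowers_iff.1 hx
    rcases Int.even_or_odd i with ⟨j, rfl⟩ | ⟨j, rfl⟩
    · left; rw [← two_mul, zpow_mul, zpow_two, hz1, one_zpow]
    · right; rw [zpow_add, zpow_mul, zpow_two, hz1, one_zpow, one_mul, zpow_one]
  have hZp : IsPGroup 2 Z := IsPGroup.of_card (n := 1) (by rw [hZ, Nat.card_zpowers, hz, pow_one])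
  have hsup : Z ⊔ Subgroup.centralizer (Z : Set G) = ⊤ := by
    rw [eq_top_iff]
    refine le_sup_of_le_right fun g _ => Subgroup.mem_centralizer_iff.2 fun x hx => ?_
    rcases hZmem x hx with rfl | rfl
    · rw [one_mul, mul_one]
    · exact (hzc g).symm
  -- the setup of the quotient
  obtain ⟨P⟩ : Nonempty (Sylow 2 (G ⧸ Z)) := inferInstance
  have hP : Nat.card (P : Subgroup (G ⧸ Z)) = 4 := by
    have h := factorization_card S e
    rw [Subgroup.card_eq_card_quotient_mul_card_subgroup Z, hZ, Nat.card_zpowers, hz,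
      Nat.factorization_mul Nat.card_pos.ne' two_ne_zero, Finsupp.add_apply,
      Nat.Prime.factorization_self Nat.prime_two] at h
    rw [P.card_eq_multiplicity, show (Nat.card (G ⧸ Z)).factorization 2 = 2 by rw [hZ]; omega]
    norm_num
  have hS : KleinBlock.Setup (G ⧸ Z) :=
    KleinBlock.setup_of_no_complement P hP (no_complement_quotient hO S e hG hz)
  obtain ⟨J, hJ⟩ := KleinBlock.exists_invol hS
  -- values at the central involution
  have hmulz : ∀ (χ : IrrCharacter G) (g : G),
      (χ : G → ℂ) z * (χ : G → ℂ) g = (χ : G → ℂ) 1 * (χ : G → ℂ) (z * g) := by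
    intro χ g
    refine irr_mul_of_const χ z g fun x y hx hy => ?_
    obtain ⟨c, rfl⟩ := isConj_iff.1 hx
    obtain ⟨d, rfl⟩ := isConj_iff.1 hy
    rw [hzc c, mul_inv_cancel_right]
    refine irr_isConj χ (isConj_iff.2 ⟨d, ?_⟩)
    rw [← mul_assoc d z g, hzc d]
    group
  have hsign : ∀ χ : IrrCharacter G,
      (χ : G → ℂ) z = (χ : G → ℂ) 1 ∨ (χ : G → ℂ) z = -(χ : G → ℂ) 1 := by
    intro χ
    have h := hmulz χ z
    rw [hz1] at h
    exact mul_self_eq_mul_self_iff.1 h
  -- characters of the block trivial at the involution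
  set Bf := Finset.univ.filter (· ∈ principalBlock M G) with hBf
  set Bq := Finset.univ.filter (· ∈ principalBlock M (G ⧸ Z)) with hBq
  set R := Bf.filter (fun χ : IrrCharacter G => (χ : G → ℂ) z = (χ : G → ℂ) 1) with hRdef
  have hR' : ∀ F : IrrCharacter G → ℂ, ∑ χ ∈ R, F χ = ∑ χ ∈ Bq, F (CharX.infl Z χ) := by
    intro F
    refine (Finset.sum_bij (fun χ _ => CharX.infl Z χ) (fun χ hχ => ?_) (fun a _ b _ h => ?_)
      (fun χ hχ => ?_) (fun χ _ => rfl)).symm
    · simp only [hBq, Finset.mem_filter, Finset.mem_univ, true_and] at hχ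
      simp only [hRdef, hBf, Finset.mem_filter, Finset.mem_univ, true_and]
      exact ⟨(BrauerPairs.infl_mem_principal_iff Z hM hZp hsup χ).2 hχ,
        CharX.infl_trivialOn Z χ z (Subgroup.mem_zpowers z)⟩
    · refine (CharX.quotEquiv Z).injective (Subtype.ext ?_)
      exact h
    · simp only [hRdef, hBf, Finset.mem_filter, Finset.mem_univ, true_and] at hχ
      obtain ⟨χ', hχ'⟩ := (CharX.quotEquiv Z).surjective ⟨χ, fun x hx => by
        rcases hZmem x hx with rfl | rfl
        · rfl
        · exact hχ.2⟩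
      have h1 : CharX.infl Z χ' = χ := congrArg Subtype.val hχ'
      refine ⟨χ', ?_, h1⟩
      simp only [hBq, Finset.mem_filter, Finset.mem_univ, true_and]
      exact (BrauerPairs.infl_mem_principal_iff Z hM hZp hsup χ').1 (h1 ▸ hχ.1)
  -- the pairings
  have hpairG : ∀ g h : G, blockPair (principalBlock M G) g h =
      ∑ χ ∈ Bf, (χ : G → ℂ) g * conj ((χ : G → ℂ) h) := fun g h => by
    unfold blockPair
    exact Finset.sum_congr (by ext; simp [hBf]) fun _ _ => rfl
  set T : G → ℂ := fun g => ∑ χ ∈ R, (χ : G → ℂ) g * conj ((χ : G → ℂ) g) with hT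
  set W : G → ℂ := fun g => if 2 ∣ orderOf (g : G ⧸ Z) then 4 else 0 with hW
  have hTW : ∀ g : G, 2 ∣ orderOf (g : G ⧸ Z) → T g = 4 := by
    intro g hg
    rw [← KleinBlock.blockPair_invol hM hS hJ, hT]
    simp only
    rw [hR' fun χ => (χ : G → ℂ) g * conj ((χ : G → ℂ) g)]
    unfold blockPair
    refine Finset.sum_congr (by ext; simp [hBq]) fun χ hχ => ?_
    rw [CharX.infl_apply,
      KleinBlock.value_singular hM hS (Finset.mem_filter.1 hχ).2 hJ hg]
  have hpoint : ∀ g : G, blockPair (principalBlock M G) g g = 2 * T g - W g := by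
    intro g
    obtain ⟨a, b, hab, hc, ⟨k, hk⟩, hb⟩ := exists_isPPart Nat.prime_two g
    have hqb : ¬ 2 ∣ orderOf (b : G ⧸ Z) := BrauerPairs.regular_mk Z Nat.prime_two hb
    by_cases hg : 2 ∣ orderOf (g : G ⧸ Z)
    · rw [hW]
      simp only [if_pos hg, hTW g hg]
      have haZ : a ∉ Z := fun h => hqb (by
        have e1 : (g : G ⧸ Z) = (b : G ⧸ Z) := by
          rw [← hab, QuotientGroup.mk_mul, (QuotientGroup.eq_one_iff a).2 h, one_mul]
        rwa [← e1])
      have ha4 : orderOf a = 4 := by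
        refine orderOf_eq_prime_pow (p := 2) (n := 1) (fun h => haZ ?_)
          (pow_four_eq_one S e ⟨k, hk⟩)
        by_cases h1 : a = 1
        · rw [h1]; exact one_mem _
        · rw [hR a z (orderOf_eq_prime (by simpa using h) h1) hz (hzc a)]
          exact Subgroup.mem_zpowers z
      set C := Subgroup.centralizer ({a} : Set G) with hC
      haveI : Fintype C := Fintype.ofFinite C
      obtain ⟨hfac, N, hNn, hN2, hNi⟩ := centralizer_complement S e ha4 hC
      have hbC : b ∈ C := Subgroup.mem_centralizer_singleton_iff.2 hc.symm.eq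
      have hy : ¬ 2 ∣ orderOf (⟨b, hbC⟩ : C) := by rwa [Subgroup.orderOf_mk]
      have h1 := sum_normSq_section_principal hM (x := a) ⟨k, hk⟩ hC (y := ⟨b, hbC⟩) hy
      rw [blockPair_principal_of_pComplement hM N hN2 hNi hy, hfac] at h1
      rw [← hab]
      exact h1.trans (by norm_num)
    · rw [hW]
      simp only [if_neg hg, sub_zero]
      have haZ : a ∈ Z := by
        rw [← QuotientGroup.eq_one_iff, ← orderOf_eq_one_iff]
        have h1 : Commute (a : G ⧸ Z) (b : G ⧸ Z) := hc.map (QuotientGroup.mk' Z)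
        have h2 : orderOf (a : G ⧸ Z) ∣ 2 ^ k := hk ▸ orderOf_map_dvd (QuotientGroup.mk' Z) a
        obtain ⟨i, -, hi⟩ := (Nat.dvd_prime_pow Nat.prime_two).1 h2
        by_contra h3
        refine hg ?_
        rw [← hab, QuotientGroup.mk_mul, h1.orderOf_mul_eq_mul_orderOf_of_coprime
          (hi ▸ (Nat.prime_two.coprime_iff_not_dvd.2 hqb).pow_left i)]
        refine Dvd.dvd.mul_right ?_ _
        rcases Nat.eq_zero_or_pos i with rfl | hi0
        · exact absurd (by simpa using hi) h3
        · rw [hi]; exact dvd_pow_self 2 hi0.ne'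
      have hval : ∀ χ : IrrCharacter G, (χ : G → ℂ) g * conj ((χ : G → ℂ) g) =
          (χ : G → ℂ) b * conj ((χ : G → ℂ) b) := by
        intro χ
        rcases hZmem a haZ with rfl | rfl
        · rw [← hab, one_mul]
        · have h := hmulz χ b
          have h1 := irr_one_ne_zero χ
          rw [← hab]
          rcases hsign χ with hs | hs <;> rw [hs] at h
          · rw [← mul_left_cancel₀ h1 h]
          · rw [neg_mul, ← mul_neg] at h
            rw [← mul_left_cancel₀ h1 h, map_neg, neg_mul_neg]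
      have h0 : ∑ χ ∈ Bf, (χ : G → ℂ) b * conj ((χ : G → ℂ) (z * b)) = 0 := by
        rw [← hpairG]
        refine blockPair_regular_singular hM (isPBlock_principalBlock M G) hb ?_
        rw [(show Commute z b from (hzc b).symm).orderOf_mul_eq_mul_orderOf_of_coprime
          (by rw [hz]; exact Nat.prime_two.coprime_iff_not_dvd.2 hb), hz]
        exact dvd_mul_right _ _
      rw [← Finset.sum_filter_add_sum_filter_not Bf
        (fun χ : IrrCharacter G => (χ : G → ℂ) z = (χ : G → ℂ) 1)] at h0
      have hpos : ∑ χ ∈ R, (χ : G → ℂ) b * conj ((χ : G → ℂ) (z * b)) = T g := by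
        refine Finset.sum_congr rfl fun χ hχ => ?_
        have h := hmulz χ b
        rw [(Finset.mem_filter.1 hχ).2] at h
        rw [← mul_left_cancel₀ (irr_one_ne_zero χ) h, hval]
      have hneg : ∑ χ ∈ Bf.filter (fun χ : IrrCharacter G => ¬ (χ : G → ℂ) z = (χ : G → ℂ) 1),
          (χ : G → ℂ) b * conj ((χ : G → ℂ) (z * b)) =
          -∑ χ ∈ Bf.filter (fun χ : IrrCharacter G => ¬ (χ : G → ℂ) z = (χ : G → ℂ) 1),
            (χ : G → ℂ) g * conj ((χ : G → ℂ) g) := by
        rw [← Finset.sum_neg_distrib]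
        refine Finset.sum_congr rfl fun χ hχ => ?_
        have h := hmulz χ b
        rw [(hsign χ).resolve_left (Finset.mem_filter.1 hχ).2, neg_mul, ← mul_neg] at h
        rw [← mul_left_cancel₀ (irr_one_ne_zero χ) h, hval, map_neg, mul_neg]
      rw [hpairG, ← Finset.sum_filter_add_sum_filter_not Bf
        (fun χ : IrrCharacter G => (χ : G → ℂ) z = (χ : G → ℂ) 1)]
      rw [hneg, ← hRdef, hpos] at h0
      rw [← hRdef]
      show T g + _ = 2 * T g
      linear_combination -h0
  -- summing over the group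
  have hn : (Nat.card G : ℂ) ≠ 0 := Nat.cast_ne_zero.2 Nat.card_pos.ne'
  have hcard4 : Bq.card = 4 := by
    obtain ⟨χ₁, χ₂, χ₃, hdist, hB, ε₁, ε₂, ε₃, -, hv⟩ := KleinBlock.exists_three hM hS
    have h := KleinBlock.four_sum hM hS χ₁ χ₂ χ₃ ε₁ ε₂ ε₃ hJ hB hdist (hv J hJ) fun _ => (1 : ℂ)
    rw [← hBq, Finset.sum_const, nsmul_one] at h
    have h' : (Bq.card : ℂ) = ((4 : ℕ) : ℂ) := by rw [h]; norm_num
    exact_mod_cast h'
  have hsumT : ∑ g : G, T g = 4 * (Nat.card G : ℂ) := by
    rw [hT]
    simp only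
    rw [Finset.sum_comm, Finset.sum_congr rfl (fun χ _ => sum_normSq_irr χ),
      hR' fun _ => (Nat.card G : ℂ), Finset.sum_const, hcard4, nsmul_eq_mul]
    norm_num
  have hsumW : ∑ g : G, W g = (Nat.card G : ℂ) := by
    rw [hW]
    simp only
    refine (Finset.sum_congr rfl fun (g : G) _ =>
      (KleinBlock.sum_indicator hM hS hJ (g : G ⧸ Z)).symm).trans ?_
    rw [← hBq, Finset.sum_comm]
    have hinfl : ∀ χ : IrrCharacter (G ⧸ Z),
        ∑ g : G, (χ : G ⧸ Z → ℂ) J * (χ : G ⧸ Z → ℂ) (g : G ⧸ Z) =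
          if χ = principal (G ⧸ Z) then (Nat.card G : ℂ) else 0 := by
      intro χ
      rw [← Finset.mul_sum]
      have h1 := sum_irr (CharX.infl Z χ)
      simp only [CharX.infl_apply] at h1
      rw [h1]
      by_cases hχ : χ = principal (G ⧸ Z)
      · subst hχ
        rw [if_pos (show CharX.infl Z (principal (G ⧸ Z)) = principal G from Subtype.ext rfl)]
        simp [principal]
      · rw [if_neg hχ, if_neg, mul_zero]
        intro he
        refine hχ (Subtype.ext (funext fun q => ?_))
        obtain ⟨x, rfl⟩ := QuotientGroup.mk_surjective q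
        exact congrFun (congrArg Subtype.val he) x
    rw [Finset.sum_congr rfl (fun χ _ => hinfl χ), Finset.sum_ite_eq',
      if_pos (by simp [hBq, principal_mem_principalBlock])]
  have hall : (Bf.card : ℂ) * (Nat.card G : ℂ) = 7 * (Nat.card G : ℂ) := by
    calc (Bf.card : ℂ) * (Nat.card G : ℂ)
        = ∑ g : G, blockPair (principalBlock M G) g g := by
          simp only [hpairG]
          rw [Finset.sum_comm, Finset.sum_congr rfl (fun χ _ => sum_normSq_irr χ),
            Finset.sum_const, nsmul_eq_mul]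
      _ = 7 * (Nat.card G : ℂ) := by
          simp only [hpoint]
          rw [Finset.sum_sub_distrib, ← Finset.mul_sum, hsumT, hsumW]
          ring
  have h7 : (Bf.card : ℂ) = ((7 : ℕ) : ℂ) := by rw [mul_right_cancel₀ hn hall]; norm_num
  rw [← show Bf.card = 7 by exact_mod_cast h7, hBf, Nat.card_eq_card_toFinset]
  congr 1
  ext χ
  simp

end Cfsg.Agent.QuatEight
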