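import Cfsg.Agent.Lib.Blocks.RankFourNineCent
import Cfsg.Agent.Lib.BrauerPairs.PrincipalOver

/-!
The columns of the principal block on the section of an involution of a frame.
-/

set_option autoImplicit false
set_option linter.style.haveILetI false
set_option linter.unusedSectionVars false

namespace Cfsg.Agent.RankFourNine

open Cfsg Cfsg.Agent.Blocks Cfsg.Agent.Char
open scoped ComplexConjugate

universe u

variable {C : Type u} [Group C] [Fintype C] {M : Ideal AlgInt} [M.IsPrime] {H : Subgroup C}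
  [Fintype H] {z : H}

theorem sum_regular_eq (hL : Layer H z) (F : C → ℂ) [DecidablePred fun c : C => ¬ 2 ∣ orderOf c]
    [DecidablePred fun h : H => ¬ 2 ∣ orderOf h] :
    ∑ c ∈ Finset.univ.filter (fun c : C => ¬ 2 ∣ orderOf c), F c =
      ∑ h ∈ Finset.univ.filter (fun h : H => ¬ 2 ∣ orderOf h), F (h : C) := by
  symm
  refine Finset.sum_bij (fun (h : H) _ => (h : C)) (fun h hh => ?_)
    (fun h _ h' _ e => Subtype.ext e) (fun c hc => ?_) (fun _ _ => rfl)
  · simp only [Finset.mem_filter, Finset.mem_univ, true_and] at hh ⊢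
    rwa [Subgroup.orderOf_coe]
  · simp only [Finset.mem_filter, Finset.mem_univ, true_and] at hc
    refine ⟨⟨c, hL.regular c hc⟩, Finset.mem_filter.2 ⟨Finset.mem_univ _, ?_⟩, rfl⟩
    rwa [← Subgroup.orderOf_coe]

theorem card_eq (hL : Layer H z) : Nat.card C = 4 * Nat.card H := by
  rw [← H.index_mul_card, hL.index]

theorem factorization_eq (hL : Layer H z) : (Nat.card C).factorization 2 = 4 := by
  haveI : Fact (Nat.Prime 2) := ⟨Nat.prime_two⟩
  obtain ⟨Q, hQ⟩ := hL.klein
  have h := Q.card_eq_multiplicity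
  rw [hQ.card] at h
  have h2 : (Nat.card H).factorization 2 = 2 :=
    (Nat.pow_right_injective le_rfl (h : 2 ^ 2 = _)).symm
  have h4 : (4 : ℕ).factorization 2 = 2 := by
    rw [show (4 : ℕ) = 2 ^ 2 by norm_num, Nat.prime_two.factorization_pow, Finsupp.single_eq_same]
  rw [card_eq hL, Nat.factorization_mul (by norm_num) Nat.card_pos.ne', Finsupp.add_apply, h4, h2]

/-- The four characters of the layer, with their signs and pairings. -/
theorem exists_four (hM : IsPModular 2 M) (hL : Layer H z)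
    [DecidablePred fun h : H => ¬ 2 ∣ orderOf h] :
    ∃ (ψ : Fin 4 → IrrCharacter H) (ε : Fin 4 → ℤ), (∀ i, ψ i ∈ principalBlock M H) ∧
      (∀ i, ε i * ε i = 1) ∧
      (∀ (i : Fin 4) (f : H → ℂ), IsClassFunction H f → ∀ d : ℂ,
        (∀ v : H, Commute v z → ¬ 2 ∣ orderOf v → f (z * v) = d) →
        4 * (Nat.card H : ℂ)⁻¹ * ∑ h ∈ Finset.univ.filter (fun h : H => ¬ 2 ∣ orderOf h),
          f h * conj ((ψ i : H → ℂ) h) = 4 * classInner f (ψ i : H → ℂ) - d * (ε i : ℂ)) ∧
      (∀ i j, 4 * (Nat.card H : ℂ)⁻¹ * ∑ h ∈ Finset.univ.filter (fun h : H => ¬ 2 ∣ orderOf h),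
          (ψ i : H → ℂ) h * conj ((ψ j : H → ℂ) h) =
            (if i = j then 4 else 0) - (ε i : ℂ) * (ε j : ℂ)) ∧
      (∀ h : H, ¬ 2 ∣ orderOf h → ∑ i, (ε i : ℂ) * (ψ i : H → ℂ) h = 0) := by
  classical
  obtain ⟨Q, hQ⟩ := hL.klein
  have hone := hL.one
  have hz := hL.invol
  set Cz := Subgroup.centralizer ({z} : Set H) with hCz
  haveI : Fintype Cz := Fintype.ofFinite _
  have h4 := Klein.card_principal hQ hone hz hM
  set e := (Finite.equivFinOfCardEq h4).symm with he
  have hsign : ∀ i : Fin 4, ∃ s : ℤ, s * s = 1 ∧ ((e i).1 : H → ℂ) z = (s : ℂ) := by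
    intro i
    rcases Klein.value_sq hQ hone hz hM (e i).2 with h | h
    · exact ⟨1, by norm_num, by simpa using h⟩
    · exact ⟨-1, by norm_num, by simpa using h⟩
  choose ε hε hεv using hsign
  have hH : (Nat.card H : ℂ) ≠ 0 := Nat.cast_ne_zero.2 Nat.card_pos.ne'
  have hsing : ∀ (i : Fin 4) (f : H → ℂ), IsClassFunction H f → ∀ d : ℂ,
      (∀ v : H, Commute v z → ¬ 2 ∣ orderOf v → f (z * v) = d) →
      4 * (Nat.card H : ℂ)⁻¹ * ∑ h ∈ Finset.univ.filter (fun h : H => ¬ 2 ∣ orderOf h),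
        f h * conj (((e i).1 : H → ℂ) h) =
          4 * classInner f ((e i).1 : H → ℂ) - d * (ε i : ℂ) := by
    intro i f hf d hd
    have h1 := Klein.sum_split hQ hone hz (C := Cz) hCz
      (F := fun h => f h * conj (((e i).1 : H → ℂ) h)) fun g c => by
        rw [hf g c, irr_conj_invariant (e i).1 g c]
    have h2 : ∀ v ∈ Finset.univ.filter (fun v : Cz => ¬ 2 ∣ orderOf v),
        f (z * (v : H)) * conj (((e i).1 : H → ℂ) (z * (v : H))) = d * (ε i : ℂ) := by
      intro v hv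
      have hv' := (Finset.mem_filter.1 hv).2
      rw [hd (v : H) (Subgroup.mem_centralizer_singleton_iff.1 v.2)
          (by rwa [Subgroup.orderOf_coe]),
        Klein.value_section hQ hone hz hCz hM (e i).2 hv', hεv, map_intCast]
    rw [Finset.sum_congr rfl h2, Finset.sum_const, nsmul_eq_mul] at h1
    have h5 : (4 : ℂ) * ((Finset.univ.filter fun v : Cz => ¬ 2 ∣ orderOf v).card : ℂ) =
        Nat.card Cz := by
      exact_mod_cast Klein.card_regular hQ hone hz hCz
    have hC0 : (Nat.card Cz : ℂ) ≠ 0 := Nat.cast_ne_zero.2 Nat.card_pos.ne'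
    rw [classInner, h1]
    field_simp
    linear_combination -((Nat.card H : ℂ) * d * (ε i : ℂ)) * h5
  refine ⟨fun i => (e i).1, ε, fun i => (e i).2, hε, hsing, fun i j => ?_, fun h hh => ?_⟩
  · rw [hsing j _ (IsCharacter.isClassFunction (irr_isCharacter _)) (ε i : ℂ) fun v hv hv' => by
      rw [← hεv]
      exact Klein.value_section hQ hone hz hCz hM (e i).2
        (v := ⟨v, Subgroup.mem_centralizer_singleton_iff.2 hv.eq⟩)
        (by rwa [← Subgroup.orderOf_coe] ),
      classInner_irr (e i).1.2 (e j).1.2]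
    by_cases hij : i = j
    · rw [if_pos (by rw [hij]), if_pos hij, mul_one]
    · rw [if_neg (fun h => hij (e.injective (Subtype.ext (Subtype.ext h)))), if_neg hij, mul_zero]
  · have h1 := Klein.regular_relation hQ hone hz hM hh
    rw [Finset.sum_subtype (p := (· ∈ principalBlock M H))
      (Finset.univ.filter (· ∈ principalBlock M H)) (by simp)] at h1
    rw [← h1]
    exact Fintype.sum_equiv e _ _ fun i => by rw [hεv, mul_comm]

variable {G : Type u} [Group G] [Fintype G]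

/-- The columns on the section of `a`. -/
theorem exists_side (hM : IsPModular 2 M) {P : Sylow 2 G} {V W : Subgroup G} (hF : Frame P V W)
    {a b : G} (ha : a ∈ V) (ha1 : a ≠ 1) (hb : b ∈ W) (hb1 : b ≠ 1) {C : Subgroup G} [Fintype C]
    (hC : C = Subgroup.centralizer ({a} : Set G)) {d : IrrCharacter G → ℤ}
    {S : Finset (IrrCharacter G)} (hS : ∀ χ, χ ∈ S ↔ χ ∈ principalBlock M G)
    (hd : ∀ χ ∈ S, ∀ u : G, Commute u (a * b) → ¬ 2 ∣ orderOf u →
      (χ : G → ℂ) (a * b * u) = (d χ : ℂ))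
    (hd2 : ∑ χ ∈ S, d χ * d χ = 16)
    (horth : ∀ u : C, ¬ 2 ∣ orderOf u →
      ∑ χ ∈ S, (χ : G → ℂ) (a * (u : G)) * (d χ : ℂ) = 0)
    [DecidablePred fun u : C => ¬ 2 ∣ orderOf u] :
    blockRank 2 (principalBlock M C) = 3 ∧ ∃ x : IrrCharacter G → Fin 4 → ℤ,
      (∀ χ ∈ S, ∑ i, x χ i = d χ) ∧
      (∀ i j, ∑ χ ∈ S, x χ i * x χ j = if i = j then 4 else 0) ∧
      (∀ g : IrrCharacter G → ℂ,
        (∀ u : C, ¬ 2 ∣ orderOf u → ∑ χ ∈ S, (χ : G → ℂ) (a * (u : G)) * g χ = 0) →
        ∀ i, ∑ χ ∈ S, ((4 * x χ i - d χ : ℤ) : ℂ) * g χ = 0) ∧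
      (∀ χ ∈ S, ((4 * (∑ i, x χ i * x χ i) - d χ * d χ : ℤ) : ℝ) ≤
        16 / (Nat.card C : ℝ) * ∑ u ∈ Finset.univ.filter (fun u : C => ¬ 2 ∣ orderOf u),
          Complex.normSq ((χ : G → ℂ) (a * (u : G)))) := by
  classical
  haveI : Fact (Nat.Prime 2) := ⟨Nat.prime_two⟩
  obtain ⟨H, z, hL, hzb⟩ := exists_layer hF ha ha1 hb hb1 hC
  haveI : Fintype H := Fintype.ofFinite _
  refine ⟨rank_three hM hL, ?_⟩
  obtain ⟨ψ, ε, hψ, hε, hpair, hgram, hrel⟩ := exists_four hM hL
  choose θ hθ c hc0 hθψ using fun i => exists_lift_char hM hL (hψ i)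
  have hacomm : ∀ u : C, Commute (u : G) a := fun u =>
    Subgroup.mem_centralizer_singleton_iff.1 (hC.le u.2)
  have ha2 : a * a = 1 := hF.sq a (hF.leV ha)
  have hoa : orderOf a = 2 := orderOf_eq_prime (by rw [pow_two]; exact ha2) ha1
  have hxk : ∃ k, orderOf a = 2 ^ k := ⟨1, hoa⟩
  have haC : a ∈ C := hC ▸ Subgroup.mem_centralizer_singleton_iff.2 rfl
  -- the multiplicities on the layer
  obtain ⟨e, he⟩ := exists_exponents (p := 2) two_ne_zero hC (j := 0) (x := a) (ζ := -1)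
    (by rw [zero_add, pow_one, pow_two, ha2])
    (by simpa using IsPrimitiveRoot.neg_one (R := ℂ) 0 (by norm_num))
  have hmult : ∀ (χ : IrrCharacter G) (i : Fin 4), ∃ m : ℤ,
      classInner (fun h : H => (χ : G → ℂ) (a * ((h : C) : G))) (ψ i : H → ℂ) = (m : ℂ) := by
    intro χ i
    obtain ⟨n, hn, -⟩ := exists_mults C χ
    choose q hq using fun φ : IrrCharacter C => IsCharacter.exists_classInner_nat
      (IsCharacter.restrict (irr_isCharacter φ) H) (irr_isCharacter (ψ i))
    refine ⟨∑ φ, (-1) ^ e φ * (n φ : ℤ) * (q φ : ℤ), ?_⟩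
    have hfun : (fun h : H => (χ : G → ℂ) (a * ((h : C) : G))) =
        ∑ φ : IrrCharacter C, ((-1) ^ e φ * (n φ : ℂ)) • (fun h : H => (φ : C → ℂ) h) := by
      funext h
      rw [show a * ((h : C) : G) = (((⟨a, haC⟩ : C) * (h : C) : C) : G) from rfl, hn,
        Finset.sum_apply]
      refine Finset.sum_congr rfl fun φ _ => ?_
      rw [he φ 1 (h : C) ⟨a, haC⟩ (by simp), one_mul, Pi.smul_apply, smul_eq_mul]
      ring
    rw [hfun, classInner_sum_left, Int.cast_sum]
    refine Finset.sum_congr rfl fun φ _ => ?_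
    rw [classInner_smul_left, hq φ]
    push_cast
    rfl
  choose m hm using hmult
  let x : IrrCharacter G → Fin 4 → ℤ := fun χ i => ε i * m χ i
  have hεC : ∀ i, (ε i : ℂ) * (ε i : ℂ) = 1 := fun i => by exact_mod_cast hε i
  have hreal : ∀ k : ℤ, conj (k : ℂ) = (k : ℂ) := fun k => map_intCast _ k
  have hclass : ∀ χ : IrrCharacter G,
      IsClassFunction H (fun h : H => (χ : G → ℂ) (a * ((h : C) : G))) := by
    intro χ g k
    have hk : a * ((k : C) : G) = ((k : C) : G) * a := (hacomm (k : C)).eq.symm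
    show (χ : G → ℂ) (a * (((k * g * k⁻¹ : H) : C) : G)) = (χ : G → ℂ) (a * ((g : C) : G))
    rw [← irr_conj_invariant χ (a * ((g : C) : G)) ((k : C) : G)]
    congr 1
    simp only [Subgroup.coe_mul, Subgroup.coe_inv, ← mul_assoc, hk]
  -- the pairings with the four characters
  have hA : ∀ χ ∈ S, ∀ i, 4 * (Nat.card H : ℂ)⁻¹ *
      ∑ h ∈ Finset.univ.filter (fun h : H => ¬ 2 ∣ orderOf h),
        (χ : G → ℂ) (a * ((h : C) : G)) * conj ((ψ i : H → ℂ) h) =
      (ε i : ℂ) * ((4 * x χ i - d χ : ℤ) : ℂ) := by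
    intro χ hχ i
    rw [hpair i _ (hclass χ) (d χ : ℂ) fun v hv hv2 => ?_, hm]
    · have h := congrArg (Int.cast (R := ℂ)) (hε i)
      simp only [x]
      push_cast at h ⊢
      linear_combination (-4 * (m χ i : ℂ)) * h
    · show (χ : G → ℂ) (a * (((z * v : H) : C) : G)) = _
      rw [Subgroup.coe_mul, Subgroup.coe_mul, hzb, ← mul_assoc]
      refine hd χ hχ _ ((hacomm _).mul_right ?_) (by
        rwa [Subgroup.orderOf_coe, Subgroup.orderOf_coe])
      have := congrArg (fun t : H => ((t : C) : G)) hv.eq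
      simp only [Subgroup.coe_mul, hzb] at this
      exact this
  have hxd : ∀ χ ∈ S, ∑ i, x χ i = d χ := by
    intro χ hχ
    have h0 : ∑ i, (ε i : ℂ) * (4 * (Nat.card H : ℂ)⁻¹ *
        ∑ h ∈ Finset.univ.filter (fun h : H => ¬ 2 ∣ orderOf h),
          (χ : G → ℂ) (a * ((h : C) : G)) * conj ((ψ i : H → ℂ) h)) = 0 := by
      simp only [Finset.mul_sum]
      rw [Finset.sum_comm]
      refine Finset.sum_eq_zero fun h hh => ?_
      have h2 := congrArg conj (hrel h (Finset.mem_filter.1 hh).2)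
      simp only [map_sum, map_mul, hreal, map_zero] at h2
      rw [← mul_zero (4 * (Nat.card H : ℂ)⁻¹ * (χ : G → ℂ) (a * ((h : C) : G))), ← h2,
        Finset.mul_sum]
      exact Finset.sum_congr rfl fun i _ => by ring
    rw [Finset.sum_congr rfl fun i _ => by rw [hA χ hχ i]] at h0
    have h1 : ∀ i, (ε i : ℂ) * ((ε i : ℂ) * ((4 * x χ i - d χ : ℤ) : ℂ)) =
        ((4 * x χ i - d χ : ℤ) : ℂ) := fun i => by
      rw [← mul_assoc, hεC, one_mul]
    simp only [h1, ← Int.cast_sum, Int.cast_eq_zero, Finset.sum_sub_distrib, ← Finset.mul_sum,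
      Finset.sum_const, Finset.card_univ, Fintype.card_fin, nsmul_eq_mul] at h0
    push_cast at h0
    linarith
  have hcomb : ∀ g : IrrCharacter G → ℂ,
      (∀ u : C, ¬ 2 ∣ orderOf u → ∑ χ ∈ S, (χ : G → ℂ) (a * (u : G)) * g χ = 0) →
      ∀ i, ∑ χ ∈ S, ((4 * x χ i - d χ : ℤ) : ℂ) * g χ = 0 := by
    intro g hg i
    have h1 : ∀ χ ∈ S, ((4 * x χ i - d χ : ℤ) : ℂ) * g χ = (ε i : ℂ) *
        (4 * (Nat.card H : ℂ)⁻¹ * ∑ h ∈ Finset.univ.filter (fun h : H => ¬ 2 ∣ orderOf h),
          (χ : G → ℂ) (a * ((h : C) : G)) * conj ((ψ i : H → ℂ) h)) * g χ := by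
      intro χ hχ
      rw [hA χ hχ i, ← mul_assoc (ε i : ℂ) (ε i : ℂ), hεC, one_mul]
    rw [Finset.sum_congr rfl h1]
    simp only [Finset.mul_sum, Finset.sum_mul]
    rw [Finset.sum_comm]
    refine Finset.sum_eq_zero fun h hh => ?_
    rw [← mul_zero ((ε i : ℂ) * (4 * (Nat.card H : ℂ)⁻¹) * conj ((ψ i : H → ℂ) h)),
      ← hg (h : C) (by rw [Subgroup.orderOf_coe]; exact (Finset.mem_filter.1 hh).2), Finset.mul_sum]
    exact Finset.sum_congr rfl fun χ _ => by ring
  have hcol : ∀ i, ∑ χ ∈ S, x χ i * d χ = 4 := by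
    intro i
    have h := hcomb (fun χ => (d χ : ℂ)) horth i
    simp only [← Int.cast_mul, ← Int.cast_sum, Int.cast_eq_zero, sub_mul, mul_assoc,
      Finset.sum_sub_distrib, ← Finset.mul_sum, hd2] at h
    linarith
  -- Bessel's equation
  have hscale : (blockScale 2 (principalBlock M C) : ℂ) = 4 * (Nat.card H : ℂ)⁻¹ := by
    have hH : (Nat.card H : ℂ) ≠ 0 := Nat.cast_ne_zero.2 Nat.card_pos.ne'
    rw [blockScale, BrauerPairs.blockDefect_principal_eq hM, factorization_eq hL, card_eq hL]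
    push_cast
    field_simp
    ring
  have hscale' : blockScale 2 (principalBlock M C) = 16 / (Nat.card C : ℝ) := by
    rw [blockScale, BrauerPairs.blockDefect_principal_eq hM, factorization_eq hL]
    norm_num
  have hind : IsInducedBlock M C (principalBlock M C) (principalBlock M G) :=
    (mem_unitBlocks_iff_induced' hM hxk hC (isPBlock_principalBlock M G)).1
      (by rw [unitBlocks_principal hM hxk hC]; exact Finset.mem_singleton_self _)
  let co : (Fin 4 → ℤ) → IrrCharacter C → ℂ := fun t φ =>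
    ∑ k, if θ k = φ then (t k : ℂ) * (c k)⁻¹ else 0
  let v : (Fin 4 → ℤ) → C → ℂ := fun t => bcomb (principalBlock M C) (co t)
  have hv : ∀ (t : Fin 4 → ℤ) (h : H), v t (h : C) = ∑ k, (t k : ℂ) * (ψ k : H → ℂ) h := by
    intro t h
    simp only [v, bcomb, co, Finset.sum_mul, ite_mul, zero_mul]
    rw [Finset.sum_comm]
    refine Finset.sum_congr rfl fun k _ => ?_
    rw [Finset.sum_ite_eq, if_pos (by simp [hθ k]), hθψ k h, mul_assoc,
      inv_mul_cancel_left₀ (hc0 k)]
  have hfv : ∀ χ ∈ S, ∀ t : Fin 4 → ℤ,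
      regPair 2 (blockScale 2 (principalBlock M C)) (secFun a C (χ : G → ℂ)) (v t) =
        ((∑ k, t k * (ε k * (4 * x χ k - d χ)) : ℤ) : ℂ) := by
    intro χ hχ t
    rw [regPair_eq_sum, sum_regular_eq hL, hscale, Int.cast_sum]
    simp only [Int.cast_mul (t _), Int.cast_mul (ε _)]
    simp only [← hA χ hχ, hv, map_sum, map_mul, hreal, Finset.mul_sum, secFun]
    rw [Finset.sum_comm]
    exact Finset.sum_congr rfl fun k _ => Finset.sum_congr rfl fun h _ => by ring
  have hvv : ∀ t : Fin 4 → ℤ,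
      regPair 2 (blockScale 2 (principalBlock M C)) (v t) (v t) =
        ((4 * (∑ k, t k * t k) - (∑ k, t k * ε k) * (∑ k, t k * ε k) : ℤ) : ℂ) := by
    intro t
    rw [regPair_eq_sum, sum_regular_eq hL, hscale]
    trans ∑ k, ∑ l, (t l : ℂ) * (t k : ℂ) *
      (4 * (Nat.card H : ℂ)⁻¹ * ∑ h ∈ Finset.univ.filter (fun h : H => ¬ 2 ∣ orderOf h),
        (ψ l : H → ℂ) h * conj ((ψ k : H → ℂ) h))
    · simp only [hv, map_sum, map_mul, hreal, Finset.sum_mul, Finset.mul_sum]
      rw [Finset.sum_comm]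
      refine Finset.sum_congr rfl fun k _ => ?_
      rw [Finset.sum_comm]
      exact Finset.sum_congr rfl fun l _ => Finset.sum_congr rfl fun h _ => by ring
    · simp only [hgram, mul_sub, mul_ite, mul_zero, Finset.sum_sub_distrib, Finset.sum_ite_eq,
        Finset.mem_univ, if_true]
      push_cast
      rw [Finset.sum_mul_sum, Finset.mul_sum]
      congr 1
      · refine Finset.sum_congr rfl fun k _ => ?_
        simp [Finset.sum_ite_eq']; ring
      · exact Finset.sum_congr rfl fun k _ => Finset.sum_congr rfl fun l _ => by ring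
  have hBessel : ∀ s : Fin 4 → ℤ, ∑ χ ∈ S, (∑ k, s k * (4 * x χ k - d χ)) ^ 2 =
      16 * (4 * (∑ k, s k * s k) - (∑ k, s k) * (∑ k, s k)) := by
    intro s
    have h := sum_normSq_regPair hM hxk hC hind (v := v fun k => ε k * s k) (blockPart_bcomb _ _)
    rw [hvv, BrauerPairs.blockDefect_principal_eq hM, factorization_eq hL,
      show Finset.univ.filter (· ∈ principalBlock M G) = S by ext χ; simp [hS]] at h
    rw [Finset.sum_congr rfl fun χ hχ => by rw [hfv χ hχ, Complex.normSq_intCast]] at h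
    push_cast at h
    have e1 : ∀ k, (ε k * s k) * (ε k * s k) = s k * s k := fun k => by
      rw [mul_mul_mul_comm, hε, one_mul]
    have e2 : ∀ k, (ε k * s k) * ε k = s k := fun k => by
      rw [mul_right_comm, hε, one_mul]
    have e3 : ∀ χ : IrrCharacter G, ∀ k, (ε k * s k) * (ε k * (4 * x χ k - d χ)) =
        s k * (4 * x χ k - d χ) := fun χ k => by
      rw [mul_mul_mul_comm, hε, one_mul]
    have h' : ((∑ χ ∈ S, (∑ k, (ε k * s k) * (ε k * (4 * x χ k - d χ))) ^ 2 : ℤ) : ℂ) =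
        ((16 * (4 * (∑ k, (ε k * s k) * (ε k * s k)) -
          (∑ k, (ε k * s k) * ε k) * (∑ k, (ε k * s k) * ε k)) : ℤ) : ℂ) := by
      push_cast
      simp only [pow_two] at h ⊢
      norm_num at h ⊢
      exact h
    have h'' := Int.cast_inj.1 h'
    simp only [e1, e2, e3] at h''
    exact h''
  have hxx : ∀ i j, ∑ χ ∈ S, x χ i * x χ j = if i = j then 4 else 0 := by
    have hsq : ∀ s : Fin 4 → ℤ,
        ∑ χ ∈ S, (∑ k, s k * x χ k) ^ 2 = 4 * ∑ k, s k * s k := by
      intro s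
      have h := hBessel s
      have h1 : ∀ χ, (∑ k, s k * (4 * x χ k - d χ)) ^ 2 = 16 * (∑ k, s k * x χ k) ^ 2 -
          8 * (∑ k, s k) * (∑ k, s k * (x χ k * d χ)) +
          (∑ k, s k) * (∑ k, s k) * (d χ * d χ) := by
        intro χ
        simp only [Fin.sum_univ_four]
        ring
      rw [Finset.sum_congr rfl fun χ _ => h1 χ, Finset.sum_add_distrib, Finset.sum_sub_distrib,
        ← Finset.mul_sum, ← Finset.mul_sum, ← Finset.mul_sum, hd2, Finset.sum_comm (s := S)] at h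
      simp only [← Finset.mul_sum, hcol, ← Finset.sum_mul] at h
      linarith
    have hdiag : ∀ i, ∑ χ ∈ S, x χ i * x χ i = 4 := fun i => by
      simpa [Pi.single_apply, pow_two] using hsq (Pi.single i 1)
    intro i j
    by_cases hij : i = j
    · rw [if_pos hij, hij, hdiag]
    rw [if_neg hij]
    have h := hsq (Pi.single i 1 + Pi.single j 1)
    have hcomm : ∑ χ ∈ S, x χ j * x χ i = ∑ χ ∈ S, x χ i * x χ j :=
      Finset.sum_congr rfl fun χ _ => mul_comm _ _
    simp only [Pi.add_apply, add_mul, mul_add, Finset.sum_add_distrib, Pi.single_apply, ite_mul,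
      mul_ite, one_mul, zero_mul, mul_one, mul_zero, Finset.sum_ite_eq', Finset.mem_univ,
      if_true, hij, Ne.symm hij, if_false, pow_two, hdiag, hcomm]
      at h
    linarith
  refine ⟨x, hxd, hxx, hcomb, fun χ hχ => ?_⟩
  set Q : ℝ := 16 / (Nat.card C : ℝ) * ∑ u ∈ Finset.univ.filter (fun u : C => ¬ 2 ∣ orderOf u),
    Complex.normSq ((χ : G → ℂ) (a * (u : G))) with hQ
  set f := secFun a C (χ : G → ℂ) with hf
  set lam := blockScale 2 (principalBlock M C) with hlam
  have hff : regPair 2 lam f f = (Q : ℂ) := by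
    rw [regPair_eq_sum, hQ, ← hscale']
    simp only [Complex.mul_conj, Complex.ofReal_mul, Complex.ofReal_sum, hf, secFun]
  have hexp : regPair 2 lam (f - v (m χ)) (f - v (m χ)) =
      regPair 2 lam f f - regPair 2 lam f (v (m χ)) - regPair 2 lam (v (m χ)) f +
        regPair 2 lam (v (m χ)) (v (m χ)) := by
    simp only [regPair_eq_sum, Pi.sub_apply, map_sub, mul_sub, sub_mul, Finset.sum_sub_distrib]
    ring
  rw [← regPair_conj lam f (v (m χ)), hfv χ hχ, hvv, hff, ← qn_eq_regPair, hreal] at hexp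
  have hnn : 0 ≤ qn lam (pRegularPart 2 (f - v (m χ))) :=
    mul_nonneg (blockScale_nonneg _) (Finset.sum_nonneg fun _ _ => Complex.normSq_nonneg _)
  have hr := congrArg Complex.re hexp
  simp only [Complex.add_re, Complex.sub_re, Complex.ofReal_re, Complex.intCast_re] at hr
  have e1 : ∑ k, m χ k * (ε k * (4 * x χ k - d χ)) =
      4 * (∑ i, x χ i * x χ i) - d χ * d χ := by
    conv_rhs => arg 2; arg 1; rw [← hxd χ hχ]
    rw [Finset.mul_sum, Finset.sum_mul, ← Finset.sum_sub_distrib]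
    refine Finset.sum_congr rfl fun k _ => ?_
    simp only [x]
    ring
  have e2 : 4 * (∑ k, m χ k * m χ k) - (∑ k, m χ k * ε k) * (∑ k, m χ k * ε k) =
      4 * (∑ i, x χ i * x χ i) - d χ * d χ := by
    rw [← hxd χ hχ]
    simp only [x]
    congr 1
    · congr 1
      exact Finset.sum_congr rfl fun k _ => by rw [mul_mul_mul_comm, hε, one_mul]
    · simp only [mul_comm (ε _)]
  rw [e1, e2] at hr
  linarith

end Cfsg.Agent.RankFourNine
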