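import Cfsg.Agent.Lib.Blocks.RankFourNineRows
import Cfsg.Agent.Lib.Blocks.RankFourNineSide
import Cfsg.Agent.S4646

/-!
The principal 2-block for an elementary abelian Sylow 2-subgroup of order 16 with inertial index 9.
-/

set_option autoImplicit false
set_option linter.style.haveILetI false
set_option linter.unusedSectionVars false

namespace Cfsg.Agent.RankFourNine

open Cfsg Cfsg.Agent.Blocks Cfsg.Agent.Char
open scoped ComplexConjugate

universe u

variable {G : Type u} [Group G] [Fintype G] {M : Ideal AlgInt} [M.IsPrime]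

namespace Frame

variable {P : Sylow 2 G} {V W : Subgroup G}

theorem four (hF : Frame P V W) {x y u : G} (hx : x ∈ V) (hy : y ∈ V) (hu : u ∈ V) (hx1 : x ≠ 1)
    (hy1 : y ≠ 1) (hxy : x ≠ y) (hu1 : u ≠ 1) (hux : u ≠ x) (huy : u ≠ y) : u = x * y := by
  have hK : IsKleinFour V := by
    haveI : Nontrivial V := ⟨⟨x, hx⟩, 1, fun e => hx1 (congrArg Subtype.val e)⟩
    refine ⟨hF.cardV, ?_⟩
    have hd : Monoid.exponent V ∣ 2 := Monoid.exponent_dvd_of_forall_pow_eq_one fun w =>
      Subtype.ext (by rw [pow_two]; exact hF.sq w (hF.leV w.2))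
    rcases (Nat.dvd_prime Nat.prime_two).1 hd with h1 | h1
    · exact absurd (Monoid.exp_eq_one_iff.1 h1) (not_subsingleton _)
    · exact h1
  exact Small.klein_eq_mul hK hx hy hu hx1 hy1 hxy hu1 hux huy

/-- The normalizer is transitive on the nontrivial elements of a part. -/
theorem exists_move (hF : Frame P V W) {a v : G} (ha : a ∈ V) (ha1 : a ≠ 1) (hv : v ∈ V)
    (hv1 : v ≠ 1) :
    ∃ n ∈ Subgroup.normalizer ((P : Subgroup G) : Set G), n * a * n⁻¹ = v ∧
      ∀ w ∈ W, n * w * n⁻¹ = w := by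
  obtain ⟨n, hn, hnW, hnV⟩ := hF.moveV
  set a₁ := n * a * n⁻¹ with ha₁
  have h1V : a₁ ∈ V := hF.invV n hn a ha
  have h11 : a₁ ≠ 1 := fun e => ha1 (conj_eq_one_iff.1 e)
  have h1a : a₁ ≠ a := hnV a ha ha1
  set a₂ := n * a₁ * n⁻¹ with ha₂
  have h2V : a₂ ∈ V := hF.invV n hn a₁ h1V
  have h21 : a₂ ≠ 1 := fun e => h11 (conj_eq_one_iff.1 e)
  have h2a₁ : a₂ ≠ a₁ := hnV a₁ h1V h11
  have h2a : a₂ ≠ a := by
    intro e
    have hu1 : a * a₁ ≠ 1 := fun h => h1a (by
      rw [← inv_eq_of_mul_eq_one_right h, inv_eq_of_mul_eq_one_right (hF.sq a (hF.leV ha))])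
    refine hnV (a * a₁) (mul_mem ha h1V) hu1 ?_
    rw [show n * (a * a₁) * n⁻¹ = (n * a * n⁻¹) * (n * a₁ * n⁻¹) by group, ← ha₁, ← ha₂, e,
      hF.comm (hF.leV h1V) (hF.leV ha)]
  by_cases e0 : v = a
  · exact ⟨1, one_mem _, by simp [e0], fun w _ => by simp⟩
  by_cases e1 : v = a₁
  · exact ⟨n, hn, e1.symm, hnW⟩
  refine ⟨n * n, mul_mem hn hn, ?_, fun w hw => ?_⟩
  · rw [hF.four ha h1V hv ha1 h11 h1a.symm hv1 e0 e1,
      ← hF.four ha h1V h2V ha1 h11 h1a.symm h21 h2a h2a₁, ha₂, ha₁]
    group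
  · rw [show n * n * w * (n * n)⁻¹ = n * (n * w * n⁻¹) * n⁻¹ by group, hnW w hw, hnW w hw]

end Frame

/-- The centralizer of a mixed involution has a normal 2-complement with regular elements. -/
theorem exists_complement {P : Sylow 2 G} {V W : Subgroup G} (hF : Frame P V W) {a b : G}
    (ha : a ∈ V) (ha1 : a ≠ 1) (hb : b ∈ W) (hb1 : b ≠ 1) {C : Subgroup G}
    (hC : C = Subgroup.centralizer ({a * b} : Set G)) :
    HasNormalPComplement 2 C ∧ ∃ N : Subgroup C, N.Normal ∧ ¬ 2 ∣ Nat.card N ∧ N.index = 16 ∧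
      ∀ u : C, ¬ 2 ∣ orderOf u ↔ u ∈ N := by
  classical
  haveI : Fact (Nat.Prime 2) := ⟨Nat.prime_two⟩
  have habP : a * b ∈ (P : Subgroup G) := mul_mem (hF.leV ha) (hF.leW hb)
  have hPC : (P : Subgroup G) ≤ C := fun x hx => hC ▸
    Subgroup.mem_centralizer_singleton_iff.2 (hF.comm hx habP)
  let Pc : Sylow 2 C := P.subtype hPC
  have hab : IsMulCommutative (Pc : Subgroup C) :=
    ⟨⟨fun x y => Subtype.ext (Subtype.ext (hF.comm x.2 y.2))⟩⟩
  have hnc : HasNormalPComplement 2 C := by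
    refine AbelianSylow.hasNormalPComplement_of_abelian Pc hab fun n hn _ => ?_
    have hn' : (n : G) ∈ Subgroup.normalizer ((P : Subgroup G) : Set G) := by
      refine Subgroup.mem_normalizer_iff.2 fun w => ⟨fun hw => ?_, fun hw => ?_⟩
      · exact ((Subgroup.mem_normalizer_iff.1 hn) ⟨w, hPC hw⟩).1 hw
      · have hwC : w ∈ C := by
          have := C.mul_mem (C.mul_mem (C.inv_mem n.2) (hPC hw)) n.2
          simpa [mul_assoc] using this
        exact ((Subgroup.mem_normalizer_iff.1 hn) ⟨w, hwC⟩).2 hw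
    have hcen := hF.stab_prod hn' ha ha1 hb hb1 (mul_inv_eq_iff_eq_mul.2
      (Subgroup.mem_centralizer_singleton_iff.1 (hC.le n.2)))
    exact Subgroup.mem_centralizer_iff.2 fun q hq =>
      Subtype.ext (Subgroup.mem_centralizer_iff.1 hcen q hq)
  refine ⟨hnc, ?_⟩
  obtain ⟨N, hN, hcop, k, hk⟩ := PBasic.hasNormalPComplement_iff.1 hnc
  have hodd : ¬ 2 ∣ Nat.card N := Nat.prime_two.coprime_iff_not_dvd.1 (Nat.coprime_comm.1 hcop)
  have hfac : (Nat.card C).factorization 2 = 4 := by
    have h := Pc.card_eq_multiplicity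
    rw [show Nat.card (Pc : Subgroup C) = 16 from
      (Nat.card_congr (Subgroup.subgroupOfEquivOfLe hPC).toEquiv).trans hF.card] at h
    exact (Nat.pow_right_injective le_rfl (h : 2 ^ 4 = _)).symm
  have hk4 : k = 4 := by
    rw [← hfac, ← N.index_mul_card, hk,
      Nat.factorization_mul (pow_ne_zero _ two_ne_zero) Nat.card_pos.ne', Finsupp.add_apply,
      Nat.prime_two.factorization_pow, Finsupp.single_eq_same,
      Nat.factorization_eq_zero_of_not_dvd hodd, add_zero]
  refine ⟨N, hN, hodd, by rw [hk, hk4]; norm_num, fun u => ⟨fun hu => ?_, fun hu h2 => ?_⟩⟩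
  · have h4 := hk ▸ N.pow_index_mem u
    obtain ⟨m, hm⟩ := exists_pow_eq_self_of_coprime (x := u) (n := 2 ^ k)
      ((Nat.Coprime.pow_left _ ((Nat.prime_two.coprime_iff_not_dvd).2 hu)))
    rw [← hm]
    exact N.pow_mem h4 m
  · exact hodd (h2.trans (Subgroup.orderOf_dvd_natCard N hu))

/-- The block of the centralizer of a `p`-element inducing the principal block. -/
theorem induced_sum (hM : IsPModular 2 M) {x : G} (hx : ∃ k, orderOf x = 2 ^ k) {C : Subgroup G}
    [Fintype C] (hC : C = Subgroup.centralizer ({x} : Set G)) :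
    ∑ᶠ b ∈ {b : Set (IrrCharacter C) | IsInducedBlock M C b (principalBlock M G)}, blockRank 2 b =
      blockRank 2 (principalBlock M C) := by
  rw [show {b : Set (IrrCharacter C) | IsInducedBlock M C b (principalBlock M G)} =
      {principalBlock M C} from ?_, finsum_mem_singleton]
  ext b
  rw [Set.mem_singleton_iff, ← Finset.mem_singleton, ← unitBlocks_principal hM hx hC,
    mem_unitBlocks_iff_induced' hM hx hC (isPBlock_principalBlock M G)]
  rfl

theorem rank_centralizer_one (hM : IsPModular 2 M) {C : Subgroup G} [Fintype C]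
    (hC : C = Subgroup.centralizer ({(1 : G)} : Set G)) :
    blockRank 2 (principalBlock M C) = blockRank 2 (principalBlock M G) := by
  classical
  have hmem : ∀ g : G, g ∈ C := fun g =>
    hC ▸ Subgroup.mem_centralizer_singleton_iff.2 (by simp)
  have hcard : Nat.card C = Nat.card G :=
    Nat.card_congr ⟨Subtype.val, fun g => ⟨g, hmem g⟩, fun _ => rfl, fun _ => rfl⟩
  rw [← Nat.cast_inj (R := ℂ), blockRank_eq hM (isPBlock_principalBlock M C),
    blockRank_eq hM (isPBlock_principalBlock M G), hcard]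
  congr 1
  refine Finset.sum_bij (fun (u : C) _ => (u : G)) (fun u hu => ?_)
    (fun u _ v _ e => Subtype.ext e) (fun g hg => ?_) (fun u hu => ?_)
  · simp only [Finset.mem_filter, Finset.mem_univ, true_and] at hu ⊢
    rwa [Subgroup.orderOf_coe]
  · refine ⟨⟨g, hmem g⟩, Finset.mem_filter.2 ⟨Finset.mem_univ _, ?_⟩, rfl⟩
    rw [← Subgroup.orderOf_coe]
    exact (Finset.mem_filter.1 hg).2
  · have h := sum_normSq_section_principal hM (x := (1 : G)) ⟨0, by simp⟩ hC
      (Finset.mem_filter.1 hu).2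
    rwa [one_mul, eq_comm] at h

/-- The counts. -/
theorem counts (hM : IsPModular 2 M) (P : Sylow 2 G) (hcard : Nat.card P = 16)
    (hel : ∀ x : P, x ^ 2 = 1)
    (he : (Subgroup.centralizer ((P : Subgroup G) : Set G)).relIndex
      (Subgroup.normalizer ((P : Subgroup G) : Set G)) = 9) :
    Nat.card (principalBlock M G) = 16 ∧ blockRank 2 (principalBlock M G) = 9 := by
  classical
  haveI : Fact (Nat.Prime 2) := ⟨Nat.prime_two⟩
  obtain ⟨V, W, hF⟩ := exists_frame P hcard hel he
  obtain ⟨a, ha, ha1⟩ : ∃ a ∈ V, a ≠ 1 := by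
    by_contra hcon
    push Not at hcon
    have := Subgroup.eq_bot_iff_forall V |>.2 hcon
    have h4 := hF.cardV
    rw [this, Subgroup.card_bot] at h4
    omega
  obtain ⟨b, hb, hb1⟩ : ∃ b ∈ W, b ≠ 1 := by
    by_contra hcon
    push Not at hcon
    have := Subgroup.eq_bot_iff_forall W |>.2 hcon
    have h4 := hF.cardW
    rw [this, Subgroup.card_bot] at h4
    omega
  have ha2 : a * a = 1 := hF.sq a (hF.leV ha)
  have hb2 : b * b = 1 := hF.sq b (hF.leW hb)
  have habP : a * b ∈ (P : Subgroup G) := mul_mem (hF.leV ha) (hF.leW hb)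
  have hab1 : a * b ≠ 1 := fun e =>
    ha1 (hF.unique ha (one_mem V) hb (one_mem W) (by rw [e, mul_one])).1
  have hoa : orderOf a = 2 := orderOf_eq_prime (by rw [pow_two]; exact ha2) ha1
  have hob : orderOf b = 2 := orderOf_eq_prime (by rw [pow_two]; exact hb2) hb1
  have hoc : orderOf (a * b) = 2 :=
    orderOf_eq_prime (by rw [pow_two]; exact hF.sq _ habP) hab1
  have hca : Commute a b := hF.comm (hF.leV ha) (hF.leW hb)
  -- fusion
  have hPm : IsMulCommutative (P : Subgroup G) :=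
    ⟨⟨fun x y => Subtype.ext (hF.comm x.2 y.2)⟩⟩
  have hfus : ∀ {v w v' w' : G}, v ∈ V → w ∈ W → v' ∈ V → w' ∈ W → IsConj (v * w) (v' * w') →
      (v = 1 ↔ v' = 1) ∧ (w = 1 ↔ w' = 1) := by
    intro v w v' w' hv hw hv' hw' h
    obtain ⟨g, hg⟩ := isConj_iff.1 h
    obtain ⟨n, hn, hn'⟩ := AbelianSylow.fusion_normalizer P hPm (v * w)
      (mul_mem (hF.leV hv) (hF.leW hw)) g (by rw [hg]; exact mul_mem (hF.leV hv') (hF.leW hw'))
    rw [hg] at hn'
    obtain ⟨e1, e2⟩ := hF.unique (hF.invV n hn v hv) hv' (hF.invW n hn w hw) hw'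
      (by rw [show n * v * n⁻¹ * (n * w * n⁻¹) = n * (v * w) * n⁻¹ by group, hn'])
    exact ⟨by rw [← e1, conj_eq_one_iff], by rw [← e2, conj_eq_one_iff]⟩
  have hn_ab : ¬ IsConj a b := fun h => by
    have := (hfus ha (one_mem W) (one_mem V) hb (by rwa [mul_one, one_mul])).1
    exact ha1 (this.2 rfl)
  have hn_ac : ¬ IsConj a (a * b) := fun h => by
    have := (hfus ha (one_mem W) ha hb (by rwa [mul_one])).2
    exact hb1 (this.1 rfl)
  have hn_bc : ¬ IsConj b (a * b) := fun h => by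
    have := (hfus (one_mem V) hb ha hb (by rwa [one_mul])).1
    exact ha1 (this.1 rfl)
  -- the mixed section
  set B := principalBlock M G with hBdef
  have hB : IsPBlock M B := isPBlock_principalBlock M G
  set S := Finset.univ.filter (· ∈ B) with hSdef
  have hS : ∀ χ, χ ∈ S ↔ χ ∈ B := fun χ => by simp [hSdef]
  set Cc := Subgroup.centralizer ({a * b} : Set G) with hCc
  haveI : Fintype Cc := Fintype.ofFinite _
  obtain ⟨hnc, N, hN, hodd, hidx, hNreg⟩ := exists_complement hF ha ha1 hb hb1 hCc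
  choose d hd0 hdpar using fun χ : IrrCharacter G => char_involution χ hoc
  have hd : ∀ χ ∈ S, ∀ u : G, Commute u (a * b) → ¬ 2 ∣ orderOf u →
      (χ : G → ℂ) (a * b * u) = (d χ : ℂ) := by
    intro χ hχ u hu hu2
    rw [← hd0 χ]
    have huC : u ∈ Cc := Subgroup.mem_centralizer_singleton_iff.2 hu.eq
    exact irr_section_of_kernel hM ⟨1, hoc⟩ hCc ((hS χ).1 hχ) N hodd (v := ⟨u, huC⟩)
      ((hNreg _).1 (by rwa [← Subgroup.orderOf_coe]))
  have hfacC : (Nat.card Cc).factorization 2 = 4 := by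
    rw [← N.index_mul_card, hidx, Nat.factorization_mul (by norm_num) Nat.card_pos.ne',
      Finsupp.add_apply, Nat.factorization_eq_zero_of_not_dvd hodd, show (16 : ℕ) = 2 ^ 4 by norm_num,
      Nat.prime_two.factorization_pow, Finsupp.single_eq_same]
  have hfacG : (Nat.card G).factorization 2 = 4 := by
    have h := P.card_eq_multiplicity
    rw [hcard] at h
    exact (Nat.pow_right_injective le_rfl (h : 2 ^ 4 = _)).symm
  have hd2 : ∑ χ ∈ S, d χ * d χ = 16 := by
    have h1 := sum_normSq_section_principal hM ⟨1, hoc⟩ hCc (y := (1 : Cc)) (by simp)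
    rw [OneMemClass.coe_one, mul_one, blockPair_principal_of_pComplement hM N hodd
      ⟨4, by rw [hidx]; norm_num⟩ (by simp), hfacC] at h1
    unfold blockPair at h1
    have h2 : ((∑ χ ∈ S, d χ * d χ : ℤ) : ℂ) = ((16 : ℤ) : ℂ) := by
      push_cast
      refine Eq.trans (Finset.sum_congr rfl fun χ _ => ?_) (h1.trans (by norm_num))
      rw [hd0 χ, map_intCast]
    exact_mod_cast h2
  -- no row vanishes on the mixed section
  have hregC : (Finset.univ.filter fun u : Cc => ¬ 2 ∣ orderOf u).card = Nat.card N := by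
    rw [Nat.card_eq_fintype_card, Fintype.card_subtype]
    exact congrArg Finset.card (Finset.filter_congr fun u _ => hNreg u)
  have hcardC : (Nat.card Cc : ℝ) = 16 * (Nat.card N : ℝ) := by
    rw [← N.index_mul_card, hidx]; push_cast; ring
  have hdne : ∀ χ ∈ S, d χ ≠ 0 := by
    intro χ hχ hzero
    have hind : IsInducedBlock M Cc (principalBlock M Cc) B :=
      (mem_unitBlocks_iff_induced' hM ⟨1, hoc⟩ hCc hB).1
        (by rw [unitBlocks_principal hM ⟨1, hoc⟩ hCc]; exact Finset.mem_singleton_self _)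
    have hdef : blockDefect 2 (principalBlock M Cc) = blockDefect 2 B := by
      rw [BrauerPairs.blockDefect_principal_eq hM, hBdef, BrauerPairs.blockDefect_principal_eq hM,
        hfacC, hfacG]
    have hval : ∀ φ ∈ S, regPair 2 (blockScale 2 (principalBlock M Cc))
        (secFun (a * b) Cc (φ : G → ℂ)) (fun _ => 1) = (d φ : ℂ) := by
      intro φ hφ
      rw [regPair_eq_sum, Finset.sum_congr rfl (g := fun _ => (d φ : ℂ)) fun u hu => by
        rw [map_one, mul_one]
        exact hd φ hφ u (Subgroup.mem_centralizer_singleton_iff.1 u.2)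
          (by rw [Subgroup.orderOf_coe]; exact (Finset.mem_filter.1 hu).2),
        Finset.sum_const, hregC, nsmul_eq_mul, blockScale,
        BrauerPairs.blockDefect_principal_eq hM, hfacC, hcardC]
      have : (Nat.card N : ℂ) ≠ 0 := Nat.cast_ne_zero.2 Nat.card_pos.ne'
      push_cast
      field_simp
      norm_num
    have h0 : blockHeight 2 B ((principal G : IrrCharacter G) : G → ℂ) = 0 := blockHeight_one hM
    have hmaj := (regPair_major hM ⟨1, hoc⟩ hCc hind hdef ((hS χ).1 hχ)
      (χ₀ := principal G) principal_mem_principalBlock h0 (v := fun _ => 1)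
      (fun _ _ => rfl) (fun u => by rw [map_one]; exact (locRing M).one_mem)).2
    rw [hval χ hχ, hzero, Int.cast_zero, zero_div,
      hval _ ((hS _).2 principal_mem_principalBlock)] at hmaj
    have hp1 : (d (principal G) : ℂ) = 1 := (hd0 (principal G)).symm
    rw [hp1] at hmaj
    exact not_memLocalIdeal_one (M := M) (hmaj.1 memLocalIdeal_zero)
  -- the two sides
  set Ca := Subgroup.centralizer ({a} : Set G) with hCa
  haveI : Fintype Ca := Fintype.ofFinite _
  set Cb := Subgroup.centralizer ({b} : Set G) with hCb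
  haveI : Fintype Cb := Fintype.ofFinite _
  have hpp : ∀ {x : G}, orderOf x = 2 → ∀ u : Subgroup.centralizer ({x} : Set G),
      ¬ 2 ∣ orderOf u → IsPPart 2 (x * (u : G)) x := fun {x} hx u hu =>
    ⟨(u : G), rfl, (Subgroup.mem_centralizer_singleton_iff.1 u.2).symm, ⟨1, hx⟩,
      by rwa [Subgroup.orderOf_coe]⟩
  have horth : ∀ {x : G}, orderOf x = 2 → ¬ IsConj x (a * b) →
      ∀ u : Subgroup.centralizer ({x} : Set G), ¬ 2 ∣ orderOf u →
        ∑ χ ∈ S, (χ : G → ℂ) (x * (u : G)) * (d χ : ℂ) = 0 := by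
    intro x hx hne u hu
    have h := blockPair_eq_zero_of_pPart hM hB (hpp hx u hu)
      (h := a * b) (y := a * b) ⟨1, mul_one _, Commute.one_right _, ⟨1, hoc⟩, by simp⟩ hne
    unfold blockPair at h
    refine Eq.trans (Finset.sum_congr rfl fun χ _ => ?_) h
    rw [hd0 χ, map_intCast]
  obtain ⟨hrka, x, hxd, hxx, hxc, hxb⟩ := exists_side hM hF ha ha1 hb hb1 hCa hS hd hd2
    (horth hoa hn_ac)
  obtain ⟨hrkb, y, hyd, hyy, hyc, hyb⟩ := exists_side hM hF.symm hb hb1 ha ha1 hCb hS
    (fun χ hχ u hu hu2 => by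
      rw [hca.symm.eq]; exact hd χ hχ u (by rwa [hca.symm.eq] at hu) hu2) hd2 (horth hob hn_bc)
  have hxy : ∀ i j, ∑ χ ∈ S, x χ i * y χ j = 1 := by
    intro i j
    have h := hxc (fun χ => ((4 * y χ j - d χ : ℤ) : ℂ)) (fun u hu => by
      have h := hyc (fun χ => (χ : G → ℂ) (a * (u : G))) (fun w hw => by
        have h := blockPair_eq_zero_of_pPart hM hB (hpp hob w hw) (IsPPart.inv (hpp hoa u hu)) fun hc =>
          hn_ab (by rw [inv_eq_of_mul_eq_one_right ha2] at hc; exact hc.symm)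
        unfold blockPair at h
        refine Eq.trans (Finset.sum_congr rfl fun χ _ => ?_) h
        rw [irr_inv, Complex.conj_conj]) j
      refine Eq.trans (Finset.sum_congr rfl fun χ _ => ?_) h
      rw [mul_comm]) i
    have hcol : ∀ {z : IrrCharacter G → Fin 4 → ℤ}, (∀ χ ∈ S, ∑ k, z χ k = d χ) →
        (∀ k l, ∑ χ ∈ S, z χ k * z χ l = if k = l then 4 else 0) →
        ∀ k, ∑ χ ∈ S, z χ k * d χ = 4 := by
      intro z hz hzz k
      rw [Finset.sum_congr rfl fun χ hχ => by rw [← hz χ hχ, Finset.mul_sum], Finset.sum_comm,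
        Finset.sum_congr rfl fun l _ => hzz k l, Finset.sum_ite_eq, if_pos (Finset.mem_univ _)]
    simp only [← Int.cast_mul, ← Int.cast_sum, Int.cast_eq_zero] at h
    have e : ∀ χ, (4 * x χ i - d χ) * (4 * y χ j - d χ) =
        16 * (x χ i * y χ j) - 4 * (x χ i * d χ) - 4 * (y χ j * d χ) + d χ * d χ := fun χ => by ring
    simp only [e, Finset.sum_add_distrib, Finset.sum_sub_distrib, ← Finset.mul_sum, hcol hxd hxx,
      hcol hyd hyy, hd2] at h
    linarith
  -- the bound of a row
  have hbound : ∀ χ ∈ S,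
      4 * (∑ i, x χ i * x χ i) + 4 * (∑ i, y χ i * y χ i) - d χ * d χ < 16 := by
    intro χ hχ
    set f : G → ℝ := fun g => Complex.normSq ((χ : G → ℂ) g) with hf
    have htot : ∑ g, f g = (Nat.card G : ℝ) := by
      have h1 := classInner_self_irr χ.2
      unfold classInner at h1
      have hG : (Nat.card G : ℂ) ≠ 0 := Nat.cast_ne_zero.2 Nat.card_pos.ne'
      rw [inv_mul_eq_one₀ hG] at h1
      apply Complex.ofReal_injective
      push_cast
      rw [h1]
      exact Finset.sum_congr rfl fun g _ => (Complex.mul_conj _).symm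
    let Sx : G → Finset G := fun s =>
      Finset.univ.filter fun g => ∃ t, IsPPart 2 g t ∧ IsConj s t
    have hsec : ∀ {s : G}, orderOf s = 2 → ∀ {C : Subgroup G} [Fintype C],
        C = Subgroup.centralizer ({s} : Set G) →
        ∑ g ∈ Sx s, f g = (Nat.card G : ℝ) * (Nat.card C : ℝ)⁻¹ *
          ∑ u ∈ Finset.univ.filter (fun u : C => ¬ 2 ∣ orderOf u), f (s * (u : G)) := by
      intro s hs C _ hC'
      apply Complex.ofReal_injective
      push_cast
      exact sum_section Nat.prime_two ⟨1, hs⟩ hC' (F := fun g => (f g : ℂ)) fun g c => by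
        simp only [hf, irr_conj_invariant χ g c]
    have hdis : ∀ {s t : G}, ¬ IsConj s t → Disjoint (Sx s) (Sx t) := fun {s t} hst => by
      rw [Finset.disjoint_left]
      intro g hg hg'
      obtain ⟨_, h1, h2⟩ := (Finset.mem_filter.1 hg).2
      obtain ⟨_, h3, h4⟩ := (Finset.mem_filter.1 hg').2
      rw [isPPart_unique Nat.prime_two h3 h1] at h4
      exact hst (h2.trans h4.symm)
    have hone : ∀ {s : G}, orderOf s = 2 → (1 : G) ∉ Sx s := fun {s} hs h => by
      obtain ⟨t, h1, h2⟩ := (Finset.mem_filter.1 h).2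
      rw [isPPart_unique Nat.prime_two h1 ((isPPart_one_iff Nat.prime_two).2 (by simp))] at h2
      rw [isConj_one_left.1 h2] at hs
      simp at hs
    have hlt : ∑ g ∈ (Sx a ∪ Sx b) ∪ Sx (a * b), f g < ∑ g, f g := by
      refine Finset.sum_lt_sum_of_subset (Finset.subset_univ _) (i := 1) (Finset.mem_univ _) ?_ ?_
        fun g _ _ => Complex.normSq_nonneg _
      · simp [hone hoa, hone hob, hone hoc]
      · exact Complex.normSq_pos.2 (irr_one_ne_zero χ)
    rw [Finset.sum_union (Finset.disjoint_union_left.2 ⟨hdis hn_ac, hdis hn_bc⟩),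
      Finset.sum_union (hdis hn_ab), hsec hoa hCa, hsec hob hCb, hsec hoc hCc, htot] at hlt
    have hc : ∑ u ∈ Finset.univ.filter (fun u : Cc => ¬ 2 ∣ orderOf u), f (a * b * (u : G)) =
        (Nat.card N : ℝ) * ((d χ * d χ : ℤ) : ℝ) := by
      rw [Finset.sum_congr rfl (g := fun _ => ((d χ * d χ : ℤ) : ℝ)) fun u hu => ?_,
        Finset.sum_const, hregC, nsmul_eq_mul]
      simp only [hf]
      rw [hd χ hχ u (Subgroup.mem_centralizer_singleton_iff.1 u.2)
        (by rw [Subgroup.orderOf_coe]; exact (Finset.mem_filter.1 hu).2), Complex.normSq_intCast]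
      push_cast
      ring
    rw [hc, hcardC] at hlt
    have hGpos : (0 : ℝ) < Nat.card G := Nat.cast_pos.2 Nat.card_pos
    have hNpos : (0 : ℝ) < Nat.card N := Nat.cast_pos.2 Nat.card_pos
    have hd' : (16 * (Nat.card N : ℝ))⁻¹ * ((Nat.card N : ℝ) * ((d χ * d χ : ℤ) : ℝ)) =
        ((d χ * d χ : ℤ) : ℝ) / 16 := by field_simp
    have h16 : 16 / (Nat.card Ca : ℝ) * ∑ u ∈ Finset.univ.filter (fun u : Ca => ¬ 2 ∣ orderOf u),
          f (a * (u : G)) + 16 / (Nat.card Cb : ℝ) *
          ∑ u ∈ Finset.univ.filter (fun u : Cb => ¬ 2 ∣ orderOf u), f (b * (u : G)) +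
          ((d χ * d χ : ℤ) : ℝ) < 16 := by
      rw [mul_assoc (Nat.card G : ℝ) (Nat.card Ca : ℝ)⁻¹,
        mul_assoc (Nat.card G : ℝ) (Nat.card Cb : ℝ)⁻¹,
        mul_assoc (Nat.card G : ℝ) (16 * (Nat.card N : ℝ))⁻¹, hd', ← mul_add, ← mul_add] at hlt
      have := lt_of_mul_lt_mul_left (lt_of_lt_of_eq hlt (mul_one _).symm) hGpos.le
      simp only [div_eq_mul_inv] at this ⊢
      linarith
    have h1 := hxb χ hχ
    have h2 := hyb χ hχ
    have h3 : (((4 * (∑ i, x χ i * x χ i) + 4 * (∑ i, y χ i * y χ i) - d χ * d χ : ℤ)) : ℝ) <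
        ((16 : ℤ) : ℝ) := by
      push_cast at h1 h2 h16 ⊢
      linarith
    exact_mod_cast h3
  have hk : Nat.card B = S.card := by
    rw [Nat.card_eq_fintype_card, Fintype.card_subtype, hSdef]
  have hcases := card_cases hd2 hxx hyy hxy hxd hyd hdne hbound
  rw [← hk] at hcases
  -- the count by subsections
  have hconj : ∀ g : G, (∃ k : ℕ, orderOf g = 2 ^ k) →
      IsConj g 1 ∨ IsConj g a ∨ IsConj g b ∨ IsConj g (a * b) := by
    rintro g ⟨k, hk'⟩
    obtain ⟨Q, hQ⟩ := Klein.exists_sylow_mem hk'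
    obtain ⟨c, rfl⟩ := MulAction.exists_smul_eq G P Q
    change g ∈ ((c • P : Sylow 2 G) : Subgroup G) at hQ
    rw [Sylow.coe_subgroup_smul] at hQ
    obtain ⟨p, hp, rfl⟩ := hQ
    have hgp : IsConj (MulAut.conj c p) p := (isConj_iff.2 ⟨c, rfl⟩).symm
    obtain ⟨v, hv, w, hw, rfl⟩ := hF.prod p hp
    by_cases hv1 : v = 1
    · by_cases hw1 : w = 1
      · left; simpa [hv1, hw1] using hgp
      · right; right; left
        obtain ⟨n, -, hnb, -⟩ := hF.symm.exists_move hb hb1 hw hw1
        refine hgp.trans ?_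
        rw [hv1, one_mul]
        exact (isConj_iff.2 ⟨n, hnb⟩).symm
    · by_cases hw1 : w = 1
      · right; left
        obtain ⟨n, -, hna, -⟩ := hF.exists_move ha ha1 hv hv1
        refine hgp.trans ?_
        rw [hw1, mul_one]
        exact (isConj_iff.2 ⟨n, hna⟩).symm
      · right; right; right
        obtain ⟨n, -, hna, hnfix⟩ := hF.exists_move ha ha1 hv hv1
        obtain ⟨n', -, hnb, hnfix'⟩ := hF.symm.exists_move hb hb1 hw hw1
        refine hgp.trans (isConj_iff.2 ⟨n * n', ?_⟩).symm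
        rw [show n * n' * (a * b) * (n * n')⁻¹ =
          (n * (n' * a * n'⁻¹) * n⁻¹) * (n * (n' * b * n'⁻¹) * n⁻¹) by group, hnfix' a ha, hna, hnb,
          hnfix w hw]
  have h1a : ¬ IsConj (1 : G) a := fun h => ha1 (isConj_one_right.1 h)
  have h1b : ¬ IsConj (1 : G) b := fun h => hb1 (isConj_one_right.1 h)
  have h1c : ¬ IsConj (1 : G) (a * b) := fun h => hab1 (isConj_one_right.1 h)
  have hcount := card_eq_sum_blockRank hM hB ({1, a, b, a * b} : Finset G) (fun x hx => by
      simp only [Finset.mem_insert, Finset.mem_singleton] at hx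
      rcases hx with rfl | rfl | rfl | rfl
      · exact ⟨0, by simp⟩
      · exact ⟨1, hoa⟩
      · exact ⟨1, hob⟩
      · exact ⟨1, hoc⟩)
    (fun g hg => by
      refine existsUnique_of_exists_of_unique ?_ fun s t hs ht => ?_
      · rcases hconj g hg with h | h | h | h
        · exact ⟨1, by simp, h⟩
        · exact ⟨a, by simp, h⟩
        · exact ⟨b, by simp, h⟩
        · exact ⟨a * b, by simp, h⟩
      · have hst : IsConj s t := hs.2.symm.trans ht.2
        have hs' := hs.1
        have ht' := ht.1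
        simp only [Finset.mem_insert, Finset.mem_singleton] at hs' ht'
        rcases hs' with e | e | e | e <;> rcases ht' with e' | e' | e' | e' <;>
          rw [e, e'] at hst ⊢ <;>
          first
            | rfl
            | exact absurd hst h1a | exact absurd hst.symm h1a
            | exact absurd hst h1b | exact absurd hst.symm h1b
            | exact absurd hst h1c | exact absurd hst.symm h1c
            | exact absurd hst hn_ab | exact absurd hst.symm hn_ab
            | exact absurd hst hn_ac | exact absurd hst.symm hn_ac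
            | exact absurd hst hn_bc | exact absurd hst.symm hn_bc)
  haveI : Fintype (Subgroup.centralizer ({(1 : G)} : Set G)) := Fintype.ofFinite _
  have ne_of : ∀ {s t : G}, ¬ IsConj s t → s ≠ t := fun h e => h (e ▸ IsConj.refl _)
  rw [Finset.sum_insert (by simp [ne_of h1a, ne_of h1b, ne_of h1c]),
    Finset.sum_insert (by simp [ne_of hn_ab, ne_of hn_ac]),
    Finset.sum_insert (by simp [ne_of hn_bc]), Finset.sum_singleton,
    induced_sum hM ⟨0, by simp⟩ rfl, induced_sum hM ⟨1, hoa⟩ rfl, induced_sum hM ⟨1, hob⟩ rfl,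
    induced_sum hM ⟨1, hoc⟩ rfl, rank_centralizer_one hM rfl, hrka, hrkb] at hcount
  have hrkc : blockRank 2 (principalBlock M Cc) = 1 :=
    (Cfsg.Agent.S4646.result 2 M hM).1 ((BrauerPairs.pNilpotent_iff_nilpotent_principal hM).1 hnc)
  have hl : blockRank 2 B ≠ 1 := fun h1 => by
    have hnp := (BrauerPairs.pNilpotent_iff_nilpotent_principal hM).2
      ((Cfsg.Agent.S4646.result 2 M hM).2 h1)
    obtain ⟨K, hK, hcop, k, hk'⟩ := PBasic.hasNormalPComplement_iff.1 hnp
    obtain ⟨n, hn, -, hnV⟩ := hF.moveV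
    have htop := PBasic.sylow_sup_eq_top P (N := K) (IsPGroup.of_card (n := k) hk')
    have hn' : n ∈ ((P : Subgroup G) ⊔ K : Subgroup G) := by rw [htop]; exact Subgroup.mem_top n
    rw [← SetLike.mem_coe, Subgroup.mul_normal] at hn'
    obtain ⟨p, hp, o, ho, hpo⟩ := Set.mem_mul.1 hn'
    apply hnV a ha ha1
    have hA : (n * a * n⁻¹) * a⁻¹ ∈ K ⊓ (P : Subgroup G) := by
      refine ⟨?_, (P : Subgroup G).mul_mem (hF.leV (hF.invV n hn a ha)) ((P : Subgroup G).inv_mem (hF.leV ha))⟩
      have hpa : a⁻¹ = p * a⁻¹ * p⁻¹ :=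
        eq_mul_inv_iff_mul_eq.2 (hF.comm (hF.leV (V.inv_mem ha)) hp)
      rw [hpa, ← hpo, show p * o * a * (p * o)⁻¹ * (p * a⁻¹ * p⁻¹) =
        p * (o * (a * o⁻¹ * a⁻¹)) * p⁻¹ by group]
      exact hK.conj_mem _ (K.mul_mem ho (hK.conj_mem _ (K.inv_mem ho) a)) p
    rw [PBasic.inf_eq_bot_of_coprime hcop P.isPGroup', Subgroup.mem_bot, mul_inv_eq_one] at hA
    exact hA
  change Nat.card B = blockRank 2 B + (3 + (3 + blockRank 2 (principalBlock M Cc))) at hcount
  rw [hrkc] at hcount
  omega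

end Cfsg.Agent.RankFourNine
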