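import Mathlib.GroupTheory.PGroup
import Mathlib.GroupTheory.Sylow
import Mathlib.GroupTheory.QuotientGroup.Basic
import Mathlib.Algebra.Group.Action.End
import Mathlib.Tactic.IntervalCases
import Mathlib.Algebra.Group.End

/-!
A group of order 9 of automorphisms of an elementary abelian group of order 16.
-/

set_option autoImplicit false
set_option linter.style.haveILetI false
set_option linter.unusedSectionVars false

namespace Cfsg.Agent.RankFourNine

section Abstract

variable {P : Type*} [CommGroup P] [Finite P]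

/-- The fixed points of an automorphism. -/
def fixer (g : MulAut P) : Subgroup P := g.toMonoidHom.eqLocus (MonoidHom.id P)

theorem mem_fixer {g : MulAut P} {x : P} : x ∈ fixer g ↔ g x = x := Iff.rfl

variable (hsq : ∀ x : P, x * x = 1)
include hsq

/-- An automorphism of exponent nine that fixes an element of a four-subgroup fixes all of it. -/
theorem fix_all {g : MulAut P} (hg : g ^ 9 = 1) {V : Subgroup P} (hV : Nat.card V = 4)
    (hgV : ∀ x ∈ V, g x ∈ V) {v : P} (hv : v ∈ V) (hv1 : v ≠ 1) (hfix : g v = v) :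
    ∀ u ∈ V, g u = u := by
  classical
  intro u hu
  by_cases hu1 : u = 1
  · rw [hu1, map_one]
  by_cases huv : u = v
  · rw [huv, hfix]
  by_contra hne
  haveI : Fintype V := Fintype.ofFinite _
  have hgu1 : g u ≠ 1 := fun h => hu1 ((EmbeddingLike.map_eq_one_iff (f := g)).1 h)
  have hguv : g u ≠ v := fun h => huv (g.injective (h.trans hfix.symm))
  have hinv : ∀ x : P, x⁻¹ = x := fun x => inv_eq_of_mul_eq_one_right (hsq x)
  have hmu : g u = u * v := by
    by_contra hcon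
    have hsub : ({⟨1, one_mem V⟩, ⟨v, hv⟩, ⟨u, hu⟩, ⟨u * v, mul_mem hu hv⟩, ⟨g u, hgV u hu⟩} :
        Finset V).card = 5 := by
      have h1 : u * v ≠ 1 := fun h => huv (by
        rw [← inv_eq_of_mul_eq_one_left h, hinv])
      have h2 : u * v ≠ v := fun h => hu1 (mul_eq_right.1 h)
      have h3 : u * v ≠ u := fun h => hv1 (mul_eq_left.1 h)
      rw [Finset.card_insert_of_notMem (by
          simp [Subtype.ext_iff, hv1.symm, Ne.symm hu1, h1.symm, hgu1.symm]),
        Finset.card_insert_of_notMem (by simp [Subtype.ext_iff, Ne.symm huv, h2.symm, hguv.symm]),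
        Finset.card_insert_of_notMem (by simp [Subtype.ext_iff, h3.symm, Ne.symm hne]),
        Finset.card_insert_of_notMem (by simp [Subtype.ext_iff, Ne.symm hcon]),
        Finset.card_singleton]
    have hle := Finset.card_le_univ ({⟨1, one_mem V⟩, ⟨v, hv⟩, ⟨u, hu⟩,
      ⟨u * v, mul_mem hu hv⟩, ⟨g u, hgV u hu⟩} : Finset V)
    rw [hsub, ← Nat.card_eq_fintype_card, hV] at hle
    omega
  have h2 : (g * g) u = u := by
    rw [MulAut.mul_apply, hmu, map_mul, hmu, hfix, mul_assoc, hsq, mul_one]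
  have h8 : (g ^ 8) u = u := by
    rw [show 8 = 2 * 4 by norm_num, pow_mul, pow_two]
    simp only [pow_succ, pow_zero, one_mul, MulAut.mul_apply]
    simp only [MulAut.mul_apply] at h2
    simp [h2]
  have h9 : (g ^ 9) u = g u := by rw [pow_succ', MulAut.mul_apply, h8]
  rw [hg, MulAut.one_apply] at h9
  exact hne h9.symm

theorem card_fixer_cases (hcard : Nat.card P = 16) {g : MulAut P} (hg : g ^ 9 = 1) :
    Nat.card (fixer g) = 1 ∨ Nat.card (fixer g) = 4 ∨ Nat.card (fixer g) = 16 := by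
  haveI : Fact (Nat.Prime 3) := ⟨Nat.prime_three⟩
  have hA : IsPGroup 3 (Subgroup.zpowers g) := by
    have h9 : orderOf g ∣ 3 ^ 2 := orderOf_dvd_of_pow_eq_one (by simpa using hg)
    obtain ⟨i, -, hi⟩ := (Nat.dvd_prime_pow Nat.prime_three).1 h9
    exact IsPGroup.of_card (n := i) (by rw [Nat.card_zpowers, hi])
  have hmod := hA.card_modEq_card_fixedPoints P
  have hfix : (MulAction.fixedPoints (Subgroup.zpowers g) P : Set P) = (fixer g : Set P) := by
    ext x
    simp only [MulAction.mem_fixedPoints, SetLike.mem_coe, mem_fixer, Subtype.forall]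
    refine ⟨fun h => h g (Subgroup.mem_zpowers g), fun h k hk => ?_⟩
    have : Subgroup.zpowers g ≤ MulAction.stabilizer (MulAut P) x := Subgroup.zpowers_le.2 h
    exact this hk
  rw [hfix, hcard] at hmod
  have hdvd : Nat.card (fixer g) ∣ 2 ^ 4 := by
    simpa [hcard] using Subgroup.card_subgroup_dvd_card (fixer g)
  obtain ⟨i, hi, hi'⟩ := (Nat.dvd_prime_pow Nat.prime_two).1 hdvd
  change 16 % 3 = Nat.card (fixer g) % 3 at hmod
  rw [hi'] at hmod ⊢
  interval_cases i <;> simp_all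

theorem eq_one_of_card_fixer (hcard : Nat.card P = 16) {g : MulAut P}
    (h : Nat.card (fixer g) = 16) : g = 1 := by
  ext x
  have := Subgroup.eq_top_of_card_eq (fixer g) (h.trans hcard.symm)
  exact mem_fixer.1 (this ▸ Subgroup.mem_top x)

/-- A group of order 9 acting on a set of four elements of a group has a kernel. -/
theorem exists_kernel {A : Subgroup (MulAut P)} (hA : Nat.card A = 9) {Q : Type*} [Group Q]
    [Finite Q] (hQ : Nat.card Q = 4) (f : A →* MulAut Q) : ∃ b : A, b ≠ 1 ∧ f b = 1 := by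
  classical
  by_contra hcon
  push Not at hcon
  have hinj : Function.Injective (((MulAut.toPerm Q).comp f) : A →* Equiv.Perm Q) := by
    refine (injective_iff_map_eq_one _).2 fun b hb => ?_
    by_contra hb1
    refine hcon b hb1 (MulEquiv.ext fun x => ?_)
    exact congrArg (fun σ : Equiv.Perm Q => σ x) hb
  have h := Subgroup.card_dvd_of_injective _ hinj
  haveI : Fintype Q := Fintype.ofFinite Q
  rw [hA, Nat.card_eq_fintype_card, Fintype.card_perm, ← Nat.card_eq_fintype_card, hQ] at h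
  revert h
  decide

/-- The splitting. -/
theorem exists_split_abstract (hcard : Nat.card P = 16) (A : Subgroup (MulAut P))
    (hA : Nat.card A = 9) :
    ∃ V W : Subgroup P, Nat.card V = 4 ∧ Nat.card W = 4 ∧ V ⊓ W = ⊥ ∧
      (∀ x : P, ∃ v ∈ V, ∃ w ∈ W, v * w = x) ∧
      (∀ g ∈ A, (∀ v ∈ V, g v ∈ V) ∧ (∀ w ∈ W, g w ∈ W)) ∧
      (∀ g ∈ A, ∀ v ∈ V, v ≠ 1 → g v = v → ∀ u ∈ V, g u = u) ∧
      (∀ g ∈ A, ∀ w ∈ W, w ≠ 1 → g w = w → ∀ u ∈ W, g u = u) ∧
      (∃ g ∈ A, (∀ v ∈ V, g v = v) ∧ ∀ w ∈ W, w ≠ 1 → g w ≠ w) ∧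
      (∃ g ∈ A, (∀ w ∈ W, g w = w) ∧ ∀ v ∈ V, v ≠ 1 → g v ≠ v) := by
  classical
  haveI : Fact (Nat.Prime 3) := ⟨Nat.prime_three⟩
  haveI : Fintype P := Fintype.ofFinite P
  haveI hAfin : Finite A := Nat.finite_of_card_ne_zero (by omega)
  haveI : Fintype A := Fintype.ofFinite A
  have hcomm : ∀ g ∈ A, ∀ h ∈ A, g * h = h * g := fun g hg h hh => by
    have hc := (IsPGroup.isMulCommutative_of_card_eq_prime_sq (p := 3)
      (G := A) (by rw [hA]; norm_num)).is_comm.comm ⟨g, hg⟩ ⟨h, hh⟩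
    exact congrArg Subtype.val hc
  have h9 : ∀ g ∈ A, g ^ 9 = 1 := fun g hg => by
    have := pow_card_eq_one' (x := (⟨g, hg⟩ : A))
    rw [hA] at this
    exact congrArg Subtype.val this
  have hinvar : ∀ g ∈ A, ∀ h ∈ A, ∀ x ∈ fixer g, h x ∈ fixer g := fun g hg h hh x hx => by
    rw [mem_fixer] at hx ⊢
    rw [← MulAut.mul_apply, hcomm g hg h hh, MulAut.mul_apply, hx]
  -- an element with nontrivial fixed points
  obtain ⟨a, haA, ha1, hFa⟩ : ∃ a ∈ A, a ≠ 1 ∧ Nat.card (fixer a) ≠ 1 := by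
    by_contra hcon
    push Not at hcon
    have hfree : ∀ x : P, x ≠ 1 → Function.Injective (fun g : A => (g : MulAut P) x) := by
      intro x hx g h hgh
      by_contra hne
      have hne' : ((h : MulAut P)⁻¹ * (g : MulAut P)) ≠ 1 := fun e =>
        hne (Subtype.ext (inv_mul_eq_one.1 e).symm)
      have hx' : x ∈ fixer ((h : MulAut P)⁻¹ * (g : MulAut P)) := by
        rw [mem_fixer, MulAut.mul_apply]
        simp only at hgh
        rw [hgh, MulAut.inv_def, MulEquiv.symm_apply_apply]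
      rw [Subgroup.eq_bot_of_card_eq _ (hcon _ (mul_mem (inv_mem h.2) g.2) hne'),
        Subgroup.mem_bot] at hx'
      exact hx hx'
    have h16 : Fintype.card P = 16 := by rw [← Nat.card_eq_fintype_card, hcard]
    haveI : Nontrivial P := Finite.one_lt_card_iff_nontrivial.1 (by omega)
    obtain ⟨x, hx⟩ := exists_ne (1 : P)
    set O : P → Finset P := fun z => Finset.univ.image fun g : A => (g : MulAut P) z with hO
    have hOc : ∀ z : P, z ≠ 1 → (O z).card = 9 := fun z hz => by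
      rw [hO, Finset.card_image_of_injective _ (hfree z hz), Finset.card_univ,
        ← Nat.card_eq_fintype_card, hA]
    obtain ⟨z, hz⟩ : ∃ z, z ∉ insert (1 : P) (O x) := by
      by_contra hall
      push Not at hall
      have := Finset.card_le_card (s := (Finset.univ : Finset P)) (t := insert 1 (O x))
        (fun z _ => hall z)
      have := Finset.card_insert_le (1 : P) (O x)
      rw [hOc x hx] at this
      rw [Finset.card_univ, h16] at *
      omega
    simp only [Finset.mem_insert, not_or] at hz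
    have hdis : Disjoint (O x) (O z) := by
      rw [Finset.disjoint_left]
      intro t ht ht'
      simp only [hO, Finset.mem_image, Finset.mem_univ, true_and] at ht ht'
      obtain ⟨g, rfl⟩ := ht
      obtain ⟨h, hh⟩ := ht'
      refine hz.2 (Finset.mem_image.2 ⟨h⁻¹ * g, Finset.mem_univ _, ?_⟩)
      rw [Subgroup.coe_mul, MulAut.mul_apply, ← hh, Subgroup.coe_inv, MulAut.inv_def,
        MulEquiv.symm_apply_apply]
    have := Finset.card_le_univ (O x ∪ O z)
    rw [Finset.card_union_of_disjoint hdis, hOc x hx, hOc z hz.1, h16] at this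
    omega
  have hV : Nat.card (fixer a) = 4 := by
    rcases card_fixer_cases hsq hcard (h9 a haA) with h | h | h
    · exact absurd h hFa
    · exact h
    · exact absurd (eq_one_of_card_fixer hsq hcard h) ha1
  set V := fixer a with hVdef
  have hVinv : ∀ g ∈ A, ∀ v ∈ V, g v ∈ V := fun g hg => hinvar a haA g hg
  have hQ : Nat.card (P ⧸ V) = 4 := by
    have := Subgroup.card_eq_card_quotient_mul_card_subgroup V
    rw [hV, hcard] at this
    omega
  have hmap : ∀ g : A, V.map ((g : MulAut P) : P →* P) = V := fun g => by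
    refine Subgroup.eq_of_le_of_card_ge (fun y hy => ?_) ?_
    · obtain ⟨x, hx, rfl⟩ := hy
      exact hVinv _ g.2 x hx
    · rw [Subgroup.card_map_of_injective (f := ((g : MulAut P) : P →* P))
        (g : MulAut P).injective]
  let f : A →* MulAut (P ⧸ V) :=
    { toFun := fun g => QuotientGroup.congr V V (g : MulAut P) (hmap g)
      map_one' := MulEquiv.ext fun q => by
        induction q using QuotientGroup.induction_on
        rfl
      map_mul' := fun g h => MulEquiv.ext fun q => by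
        induction q using QuotientGroup.induction_on
        rfl }
  obtain ⟨b, hb1, hbf⟩ := exists_kernel hsq hA hQ f
  have hbA := b.2
  set b' : MulAut P := (b : MulAut P) with hb'
  have hb'1 : b' ≠ 1 := fun h => hb1 (Subtype.ext h)
  have hbd : ∀ x : P, x * b' x ∈ V := fun x => by
    have h := congrArg (fun σ : MulAut (P ⧸ V) => σ (x : P ⧸ V)) hbf
    change ((b' x : P) : P ⧸ V) = (x : P ⧸ V) at h
    have h' := QuotientGroup.eq.1 h.symm
    rwa [inv_eq_of_mul_eq_one_right (hsq x)] at h'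
  let δ : P →* V := MonoidHom.mk' (fun x => ⟨x * b' x, hbd x⟩) fun x z => Subtype.ext (by
    simp only [map_mul, Subgroup.coe_mul]
    exact mul_mul_mul_comm x z (b' x) (b' z))
  have hker : δ.ker = fixer b' := by
    ext x
    rw [MonoidHom.mem_ker, mem_fixer, Subtype.ext_iff]
    change x * b' x = 1 ↔ b' x = x
    rw [mul_eq_one_iff_eq_inv, inv_eq_of_mul_eq_one_right (hsq (b' x)), eq_comm]
  have hW : Nat.card (fixer b') = 4 := by
    have h1 : Nat.card δ.ker * Nat.card δ.range = 16 := by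
      rw [← Subgroup.index_ker, Subgroup.card_mul_index, hcard]
    have h2 := Subgroup.card_le_card_group δ.range
    rw [hV] at h2
    rw [hker] at h1
    rcases card_fixer_cases hsq hcard (h9 b' hbA) with h | h | h
    · rw [h] at h1; omega
    · exact h
    · exact absurd (eq_one_of_card_fixer hsq hcard h) hb'1
  set W := fixer b' with hWdef
  have hWinv : ∀ g ∈ A, ∀ w ∈ W, g w ∈ W := fun g hg => hinvar b' hbA g hg
  have hVb : ∀ v ∈ V, v ≠ 1 → b' v ≠ v := fun v hv hv1 hfix => by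
    have hall := fix_all hsq (h9 b' hbA) hV (hVinv b' hbA) hv hv1 hfix
    apply hb'1
    refine MulEquiv.ext fun x => ?_
    have hu := hbd x
    have hn : ∀ n : ℕ, (b' ^ n) x = x * (x * b' x) ^ n := by
      intro n
      induction n with
      | zero => simp
      | succ n ih =>
        rw [pow_succ', MulAut.mul_apply, ih, map_mul, map_pow, hall _ hu,
          pow_succ' (x * b' x) n, ← mul_assoc x (x * b' x), ← mul_assoc x x, hsq, one_mul]
    have h := hn 9
    rw [h9 b' hbA, MulAut.one_apply, show (9 : ℕ) = 2 * 4 + 1 from rfl, pow_succ, pow_mul, pow_two,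
      hsq, one_pow, one_mul, ← mul_assoc, hsq, one_mul] at h
    exact h.symm
  have hinf : V ⊓ W = ⊥ := by
    rw [Subgroup.eq_bot_iff_forall]
    intro x hx
    by_contra hx1
    exact hVb x hx.1 hx1 hx.2
  have hall : ∀ x : P, ∃ v ∈ V, ∃ w ∈ W, v * w = x := by
    intro x
    let μ : V × W → P := fun q => (q.1 : P) * (q.2 : P)
    have hinj : Function.Injective μ := by
      rintro ⟨v, w⟩ ⟨v', w'⟩ h
      change (v : P) * (w : P) = (v' : P) * (w' : P) at h
      have h1 : (v' : P)⁻¹ * (v : P) = (w' : P) * (w : P)⁻¹ := by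
        rw [eq_mul_inv_iff_mul_eq, mul_assoc, h, inv_mul_cancel_left]
      have h2 : (v' : P)⁻¹ * (v : P) ∈ V ⊓ W :=
        ⟨V.mul_mem (V.inv_mem v'.2) v.2, by rw [h1]; exact W.mul_mem w'.2 (W.inv_mem w.2)⟩
      rw [hinf, Subgroup.mem_bot, inv_mul_eq_one] at h2
      rw [h2] at h
      exact Prod.ext (Subtype.ext h2.symm) (Subtype.ext (mul_left_cancel h))
    have hsurj := (Nat.bijective_iff_injective_and_card μ).2
      ⟨hinj, by rw [Nat.card_prod, hV, hW, hcard]⟩
    obtain ⟨⟨v, w⟩, hvw⟩ := hsurj.2 x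
    exact ⟨v, v.2, w, w.2, hvw⟩
  refine ⟨V, W, hV, hW, hinf, hall, fun g hg => ⟨hVinv g hg, hWinv g hg⟩,
    fun g hg v hv hv1 h => fix_all hsq (h9 g hg) hV (hVinv g hg) hv hv1 h,
    fun g hg w hw hw1 h => fix_all hsq (h9 g hg) hW (hWinv g hg) hw hw1 h,
    ⟨a, haA, fun v hv => hv, fun w hw hw1 h => hw1 ?_⟩,
    ⟨b', hbA, fun w hw => hw, hVb⟩⟩
  have hw' : w ∈ V ⊓ W := ⟨h, hw⟩
  rwa [hinf, Subgroup.mem_bot] at hw'

end Abstract

/-- What the normalizer of the Sylow subgroup induces. -/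
structure Frame {G : Type*} [Group G] (P : Sylow 2 G) (V W : Subgroup G) : Prop where
  cardV : Nat.card V = 4
  cardW : Nat.card W = 4
  leV : V ≤ (P : Subgroup G)
  leW : W ≤ (P : Subgroup G)
  sq : ∀ x ∈ (P : Subgroup G), x * x = 1
  card : Nat.card (P : Subgroup G) = 16
  inf : V ⊓ W = ⊥
  prod : ∀ x ∈ (P : Subgroup G), ∃ v ∈ V, ∃ w ∈ W, v * w = x
  invV : ∀ n ∈ Subgroup.normalizer ((P : Subgroup G) : Set G), ∀ v ∈ V, n * v * n⁻¹ ∈ V
  invW : ∀ n ∈ Subgroup.normalizer ((P : Subgroup G) : Set G), ∀ w ∈ W, n * w * n⁻¹ ∈ W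
  fixV : ∀ n ∈ Subgroup.normalizer ((P : Subgroup G) : Set G), ∀ v ∈ V, v ≠ 1 →
    n * v * n⁻¹ = v → ∀ u ∈ V, n * u * n⁻¹ = u
  fixW : ∀ n ∈ Subgroup.normalizer ((P : Subgroup G) : Set G), ∀ w ∈ W, w ≠ 1 →
    n * w * n⁻¹ = w → ∀ u ∈ W, n * u * n⁻¹ = u
  moveW : ∃ n ∈ Subgroup.normalizer ((P : Subgroup G) : Set G),
    (∀ v ∈ V, n * v * n⁻¹ = v) ∧ ∀ w ∈ W, w ≠ 1 → n * w * n⁻¹ ≠ w
  moveV : ∃ n ∈ Subgroup.normalizer ((P : Subgroup G) : Set G),
    (∀ w ∈ W, n * w * n⁻¹ = w) ∧ ∀ v ∈ V, v ≠ 1 → n * v * n⁻¹ ≠ v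

namespace Frame

variable {G : Type*} [Group G] {P : Sylow 2 G} {V W : Subgroup G}

theorem comm (hF : Frame P V W) {x z : G} (hx : x ∈ (P : Subgroup G)) (hz : z ∈ (P : Subgroup G)) :
    x * z = z * x := by
  calc x * z = x * (x * z * (x * z)) * z := by rw [hF.sq _ (mul_mem hx hz), mul_one]
    _ = x * x * (z * x) * (z * z) := by group
    _ = z * x := by rw [hF.sq x hx, hF.sq z hz, one_mul, mul_one]

theorem symm (hF : Frame P V W) : Frame P W V where
  cardV := hF.cardW
  cardW := hF.cardV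
  leV := hF.leW
  leW := hF.leV
  sq := hF.sq
  card := hF.card
  inf := by rw [inf_comm, hF.inf]
  prod := fun x hx => by
    obtain ⟨v, hv, w, hw, e⟩ := hF.prod x hx
    exact ⟨w, hw, v, hv, by rw [← e, hF.comm (hF.leW hw) (hF.leV hv)]⟩
  invV := hF.invW
  invW := hF.invV
  fixV := hF.fixW
  fixW := hF.fixV
  moveW := hF.moveV
  moveV := hF.moveW

theorem unique (hF : Frame P V W) {v v' w w' : G} (hv : v ∈ V) (hv' : v' ∈ V) (hw : w ∈ W)
    (hw' : w' ∈ W) (h : v * w = v' * w') : v = v' ∧ w = w' := by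
  have h1 : v'⁻¹ * v = w' * w⁻¹ := by
    rw [eq_mul_inv_iff_mul_eq, mul_assoc, h, inv_mul_cancel_left]
  have h2 : v'⁻¹ * v ∈ V ⊓ W :=
    ⟨V.mul_mem (V.inv_mem hv') hv, by rw [h1]; exact W.mul_mem hw' (W.inv_mem hw)⟩
  rw [hF.inf, Subgroup.mem_bot, inv_mul_eq_one] at h2
  rw [h2] at h
  exact ⟨h2.symm, mul_left_cancel h⟩

/-- The stabiliser of a product of two nontrivial parts centralises the Sylow subgroup. -/
theorem stab_prod (hF : Frame P V W) {n v w : G}
    (hn : n ∈ Subgroup.normalizer ((P : Subgroup G) : Set G)) (hv : v ∈ V) (hv1 : v ≠ 1)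
    (hw : w ∈ W) (hw1 : w ≠ 1) (h : n * (v * w) * n⁻¹ = v * w) :
    n ∈ Subgroup.centralizer ((P : Subgroup G) : Set G) := by
  obtain ⟨e1, e2⟩ := hF.unique (hF.invV n hn v hv) hv (hF.invW n hn w hw) hw
    (by rw [show n * v * n⁻¹ * (n * w * n⁻¹) = n * (v * w) * n⁻¹ by group, h])
  refine Subgroup.mem_centralizer_iff.2 fun x hx => ?_
  obtain ⟨s, hs, t, ht, rfl⟩ := hF.prod x hx
  refine (mul_inv_eq_iff_eq_mul.1 ?_).symm
  rw [show n * (s * t) * n⁻¹ = (n * s * n⁻¹) * (n * t * n⁻¹) by group,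
    hF.fixV n hn v hv hv1 e1 s hs, hF.fixW n hn w hw hw1 e2 t ht]

end Frame

/-- The frame of a Sylow 2-subgroup of order 16 with inertial index 9. -/
theorem exists_frame {G : Type*} [Group G] [Finite G] (P : Sylow 2 G) (hcard : Nat.card P = 16)
    (hel : ∀ x : P, x ^ 2 = 1)
    (he : (Subgroup.centralizer ((P : Subgroup G) : Set G)).relIndex
      (Subgroup.normalizer ((P : Subgroup G) : Set G)) = 9) :
    ∃ V W : Subgroup G, Frame P V W := by
  classical
  have hsq : ∀ x : (P : Subgroup G), x * x = 1 := fun x => by rw [← pow_two]; exact hel x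
  letI : CommGroup (P : Subgroup G) :=
    { (inferInstance : Group (P : Subgroup G)) with
      mul_comm := fun x z => by
        calc x * z = x * (x * z * (x * z)) * z := by rw [hsq (x * z), mul_one]
          _ = x * x * (z * x) * (z * z) := by group
          _ = z * x := by rw [hsq x, hsq z, one_mul, mul_one] }
  set φ := (P : Subgroup G).normalizerMonoidHom with hφ
  have hA : Nat.card φ.range = 9 := by
    rw [← Subgroup.index_ker, hφ, Subgroup.normalizerMonoidHom_ker]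
    exact he
  obtain ⟨V, W, hV, hW, hinf, hall, hinv, hfV, hfW, ⟨g, hg, hgV, hgW⟩, ⟨k, hk, hkW, hkV⟩⟩ :=
    exists_split_abstract (P := (P : Subgroup G)) hsq hcard φ.range hA
  have happ : ∀ (n : G) (hn : n ∈ Subgroup.normalizer ((P : Subgroup G) : Set G))
      (x : (P : Subgroup G)), ((φ ⟨n, hn⟩ x : (P : Subgroup G)) : G) = n * (x : G) * n⁻¹ :=
    fun n hn x => rfl
  set i := (P : Subgroup G).subtype with hi
  have hsub : ∀ {U : Subgroup (P : Subgroup G)} {x : G}, x ∈ U.map i →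
      ∃ hx : x ∈ (P : Subgroup G), (⟨x, hx⟩ : (P : Subgroup G)) ∈ U := by
    rintro U x ⟨⟨y, hy⟩, hyU, rfl⟩
    exact ⟨hy, hyU⟩
  have ne1 : ∀ {x : G} {hx : x ∈ (P : Subgroup G)}, x ≠ 1 →
      (⟨x, hx⟩ : (P : Subgroup G)) ≠ 1 := fun h e => h (congrArg Subtype.val e)
  refine ⟨V.map i, W.map i, ?_, ?_, Subgroup.map_subtype_le V, Subgroup.map_subtype_le W,
    fun x hx => congrArg Subtype.val (hsq ⟨x, hx⟩), hcard, ?_, fun x hx => ?_,
    fun n hn v hv => ?_, fun n hn v hv => ?_, fun n hn v hv hv1 h u hu => ?_,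
    fun n hn v hv hv1 h u hu => ?_, ?_, ?_⟩
  · rw [Subgroup.card_map_of_injective Subtype.val_injective, hV]
  · rw [Subgroup.card_map_of_injective Subtype.val_injective, hW]
  · rw [← Subgroup.map_inf _ _ _ Subtype.val_injective, hinf, Subgroup.map_bot]
  · obtain ⟨v, hv, w, hw, e⟩ := hall ⟨x, hx⟩
    exact ⟨v, Subgroup.mem_map_of_mem i hv, w, Subgroup.mem_map_of_mem i hw,
      congrArg Subtype.val e⟩
  · obtain ⟨hvP, hv'⟩ := hsub hv
    exact ⟨φ ⟨n, hn⟩ ⟨v, hvP⟩, (hinv _ ⟨_, rfl⟩).1 _ hv', happ n hn _⟩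
  · obtain ⟨hvP, hv'⟩ := hsub hv
    exact ⟨φ ⟨n, hn⟩ ⟨v, hvP⟩, (hinv _ ⟨_, rfl⟩).2 _ hv', happ n hn _⟩
  · obtain ⟨hvP, hv'⟩ := hsub hv
    obtain ⟨huP, hu'⟩ := hsub hu
    exact congrArg Subtype.val (hfV (φ ⟨n, hn⟩) ⟨_, rfl⟩ _ hv' (ne1 hv1) (Subtype.ext h) _ hu')
  · obtain ⟨hvP, hv'⟩ := hsub hv
    obtain ⟨huP, hu'⟩ := hsub hu
    exact congrArg Subtype.val (hfW (φ ⟨n, hn⟩) ⟨_, rfl⟩ _ hv' (ne1 hv1) (Subtype.ext h) _ hu')
  · obtain ⟨⟨n, hn⟩, rfl⟩ := hg
    refine ⟨n, hn, fun v hv => ?_, fun w hw hw1 h => ?_⟩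
    · obtain ⟨hvP, hv'⟩ := hsub hv
      exact congrArg Subtype.val (hgV _ hv')
    · obtain ⟨hwP, hw'⟩ := hsub hw
      exact hgW _ hw' (ne1 hw1) (Subtype.ext h)
  · obtain ⟨⟨n, hn⟩, rfl⟩ := hk
    refine ⟨n, hn, fun v hv => ?_, fun w hw hw1 h => ?_⟩
    · obtain ⟨hvP, hv'⟩ := hsub hv
      exact congrArg Subtype.val (hkW _ hv')
    · obtain ⟨hwP, hw'⟩ := hsub hw
      exact hkV _ hw' (ne1 hw1) (Subtype.ext h)

end Cfsg.Agent.RankFourNine
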