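import Cfsg.Agent.Lib.Blocks.RankFourNineAction
import Cfsg.Agent.Lib.Blocks.Covering
import Cfsg.Agent.Lib.Blocks.SubsectionRow
import Cfsg.Agent.Lib.Blocks.KleinFour
import Cfsg.Agent.Lib.AbelianSylowAut.Central
import Cfsg.Agent.Lib.Transfer.Abelian

/-!
The centralizer of an involution of a frame: the normal subgroup with four-group Sylow subgroups
and the regular parts of its principal block.
-/

set_option autoImplicit false
set_option linter.style.haveILetI false
set_option linter.unusedSectionVars false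

namespace Cfsg.Agent.RankFourNine

open Cfsg Cfsg.Agent.Blocks Cfsg.Agent.Char
open scoped commutatorElement

universe u

variable {C : Type u} [Group C]

/-- A normal subgroup of index 4 with four-group Sylow subgroups and one class of involutions, all
elements acting on it as inner automorphisms modulo the odd core. -/
structure Layer [Finite C] (H : Subgroup C) (z : H) : Prop where
  normal : H.Normal
  index : H.index = 4
  regular : ∀ c : C, ¬ 2 ∣ orderOf c → c ∈ H
  invol : orderOf z = 2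
  klein : ∃ Q : Sylow 2 H, Klein.IsV4 Q
  one : ∀ s t : H, orderOf s = 2 → orderOf t = 2 → IsConj s t
  inner : ∀ g : C, ∃ v : C, ∃ h : H, g = v * (h : C) ∧
    ∀ m : C, m⁻¹ * (v * m * v⁻¹) ∈ pPrimeCore 2 C

/-- The layer inside the centralizer of an involution of the frame. -/
theorem exists_layer {G : Type u} [Group G] [Finite G] {P : Sylow 2 G} {V W : Subgroup G}
    (hF : Frame P V W) {a b : G} (ha : a ∈ V) (ha1 : a ≠ 1) (hb : b ∈ W) (hb1 : b ≠ 1)
    {C : Subgroup G} (hC : C = Subgroup.centralizer ({a} : Set G)) :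
    ∃ (H : Subgroup C) (z : H), Layer H z ∧ ((z : C) : G) = b := by
  classical
  haveI : Fact (Nat.Prime 2) := ⟨Nat.prime_two⟩
  have hPC : (P : Subgroup G) ≤ C := fun x hx => hC ▸
    Subgroup.mem_centralizer_singleton_iff.2 (hF.comm hx (hF.leV ha))
  have hfixa : ∀ c : C, (c : G) * a * (c : G)⁻¹ = a := fun c => mul_inv_eq_iff_eq_mul.2
    (Subgroup.mem_centralizer_singleton_iff.1 (hC.le c.2))
  let Pc : Sylow 2 C := P.subtype hPC
  have hPc : (Pc : Subgroup C) = (P : Subgroup G).subgroupOf C := rfl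
  haveI hPcm : IsMulCommutative (Pc : Subgroup C) :=
    ⟨⟨fun x y => Subtype.ext (Subtype.ext (hF.comm x.2 y.2))⟩⟩
  have hnorm : ∀ n : C, n ∈ Subgroup.normalizer ((Pc : Subgroup C) : Set C) ↔
      (n : G) ∈ Subgroup.normalizer ((P : Subgroup G) : Set G) := by
    intro n
    refine ⟨fun hn => Subgroup.mem_normalizer_iff.2 fun w => ⟨fun hw => ?_, fun hw => ?_⟩,
      fun hn => Subgroup.mem_normalizer_iff.2 fun w => Subgroup.mem_normalizer_iff.1 hn (w : G)⟩
    · exact ((Subgroup.mem_normalizer_iff.1 hn) ⟨w, hPC hw⟩).1 hw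
    · have hwC : w ∈ C := by
        have := C.mul_mem (C.mul_mem (C.inv_mem n.2) (hPC hw)) n.2
        simpa [mul_assoc] using this
      exact ((Subgroup.mem_normalizer_iff.1 hn) ⟨w, hwC⟩).2 hw
  set H := Cfsg.pResidual 2 C with hH
  haveI hHn : H.Normal := PBasic.pResidual_normal_inst 2 C
  -- the Sylow part of the layer
  have hcomm : ⁅(Pc : Subgroup C), Subgroup.normalizer ((Pc : Subgroup C) : Set C)⁆ =
      W.subgroupOf C := by
    apply le_antisymm
    · rw [Subgroup.commutator_le]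
      intro x hx n hn
      have hn' := (hnorm n).1 hn
      obtain ⟨v, hv, w, hw, e⟩ := hF.prod _ (Subgroup.mem_subgroupOf.1 hx)
      have hvfix : (n : G) * v * (n : G)⁻¹ = v :=
        hF.fixV _ hn' a ha ha1 (hfixa n) v hv
      show (x : G) * (n : G) * (x : G)⁻¹ * (n : G)⁻¹ ∈ W
      have h1 : (n : G) * w⁻¹ * (n : G)⁻¹ ∈ W := hF.invW _ hn' _ (W.inv_mem hw)
      have h2 : (n : G) * v⁻¹ * (n : G)⁻¹ = v⁻¹ := by
        rw [← conj_inv, hvfix]
      rw [← e, show v * w * (n : G) * (v * w)⁻¹ * (n : G)⁻¹ =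
        v * w * ((n : G) * w⁻¹ * (n : G)⁻¹) * ((n : G) * v⁻¹ * (n : G)⁻¹) by group, h2,
        mul_assoc v, hF.comm (hF.leV hv) (hF.leW (W.mul_mem hw h1)), mul_inv_cancel_right]
      exact W.mul_mem hw h1
    · obtain ⟨n, hn, hnV, hnW⟩ := hF.moveW
      have hnC : n ∈ C := hC ▸ Subgroup.mem_centralizer_singleton_iff.2
        (mul_inv_eq_iff_eq_mul.1 (hnV a ha))
      intro y hy
      rw [Subgroup.mem_subgroupOf] at hy
      let f : W → W := fun w => ⟨(w : G) * (n * (w : G)⁻¹ * n⁻¹),
        W.mul_mem w.2 (hF.invW n hn _ (W.inv_mem w.2))⟩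
      have hinj : Function.Injective f := by
        rintro ⟨s, hs⟩ ⟨t, ht⟩ h
        have h' : s * (n * s⁻¹ * n⁻¹) = t * (n * t⁻¹ * n⁻¹) := congrArg Subtype.val h
        apply Subtype.ext
        show s = t
        by_contra hne
        have hu : t⁻¹ * s ≠ 1 := fun e => hne (inv_mul_eq_one.1 e).symm
        refine hnW _ (W.mul_mem (W.inv_mem ht) hs) hu ?_
        have e1 : t⁻¹ * s = (n * t⁻¹ * n⁻¹) * (n * s⁻¹ * n⁻¹)⁻¹ := by
          rw [eq_mul_inv_iff_mul_eq, mul_assoc, h', inv_mul_cancel_left]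
        conv_rhs => rw [e1]
        group
      obtain ⟨⟨w, hw⟩, hw'⟩ := Finite.injective_iff_surjective.1 hinj ⟨y, hy⟩
      have hw'' : w * (n * w⁻¹ * n⁻¹) = (y : G) := congrArg Subtype.val hw'
      have hy' : y = ⁅(⟨w, hPC (hF.leW hw)⟩ : C), (⟨n, hnC⟩ : C)⁆ := by
        apply Subtype.ext
        show (y : G) = w * n * w⁻¹ * n⁻¹
        rw [← hw'']; group
      rw [hy']
      exact Subgroup.commutator_mem_commutator
        (show (⟨w, hPC (hF.leW hw)⟩ : C) ∈ (Pc : Subgroup C) from hF.leW hw)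
        ((hnorm ⟨n, hnC⟩).2 hn)
  have hPH : (Pc : Subgroup C) ⊓ H = W.subgroupOf C := by
    rw [← hcomm]; exact AbelianSylow.inf_pResidual_eq_commutator Pc hPcm
  obtain ⟨Q, hQ⟩ := PBasic.exists_sylow_subgroupOf Pc H
  have hWC : W ≤ C := hF.leW.trans hPC
  have hQmem : ∀ h : H, h ∈ (Q : Subgroup H) ↔ ((h : C) : G) ∈ W := by
    intro h
    rw [hQ, Subgroup.mem_subgroupOf]
    refine ⟨fun hh => Subgroup.mem_subgroupOf.1 (hPH ▸ (⟨hh, h.2⟩ : (h : C) ∈ (Pc : Subgroup C) ⊓ H)),
      fun hh => ?_⟩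
    have h1 : (h : C) ∈ (Pc : Subgroup C) ⊓ H := by
      rw [hPH]; exact Subgroup.mem_subgroupOf.2 hh
    exact h1.1
  have hWH : ∀ w ∈ W, ∀ hwC : w ∈ C, (⟨w, hwC⟩ : C) ∈ H := fun w hw hwC =>
    (hPH.ge (Subgroup.mem_subgroupOf.2 hw)).2
  have hQcard : Nat.card (Q : Subgroup H) = 4 := by
    rw [← hF.cardW]
    exact Nat.card_congr
      { toFun := fun h => ⟨((h.1 : C) : G), (hQmem h.1).1 h.2⟩
        invFun := fun w => ⟨⟨⟨w.1, hWC w.2⟩, hWH w.1 w.2 (hWC w.2)⟩, (hQmem _).2 w.2⟩
        left_inv := fun h => rfl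
        right_inv := fun w => rfl }
  have hV4 : Klein.IsV4 Q := ⟨hQcard, fun x hx =>
    Subtype.ext (Subtype.ext (hF.sq _ (hF.leW ((hQmem x).1 hx))))⟩
  let z : H := ⟨⟨b, hWC hb⟩, hWH b hb (hWC hb)⟩
  have hzQ : z ∈ (Q : Subgroup H) := (hQmem z).2 hb
  have hz1 : z ≠ 1 := fun e => hb1 (congrArg (fun t : H => ((t : C) : G)) e)
  have hz : orderOf z = 2 := orderOf_eq_prime (by rw [pow_two]; exact hV4.sq z hzQ) hz1
  have hidx : H.index = 4 := by
    have h1 : H.relIndex (Pc : Subgroup C) = H.index := by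
      rw [← Subgroup.relIndex_sup_right (K := H) (H := (Pc : Subgroup C)),
        PBasic.sylow_sup_pResidual, Subgroup.relIndex_top_right]
    have h2 := (H.subgroupOf (Pc : Subgroup C)).card_mul_index
    have h3 : Nat.card (H.subgroupOf (Pc : Subgroup C)) = 4 := by
      rw [← Subgroup.card_map_of_injective (f := (Pc : Subgroup C).subtype) Subtype.val_injective,
        Subgroup.subgroupOf_map_subtype, inf_comm, hPH,
        Nat.card_congr (Subgroup.subgroupOfEquivOfLe hWC).toEquiv, hF.cardW]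
    rw [h3, hPc, Nat.card_congr (Subgroup.subgroupOfEquivOfLe hPC).toEquiv, hF.card] at h2
    have h4 : H.relIndex (Pc : Subgroup C) = (H.subgroupOf (Pc : Subgroup C)).index := rfl
    rw [← h1, h4, hPc]
    omega
  have hreg : ∀ c : C, ¬ 2 ∣ orderOf c → c ∈ H := fun c hc =>
    PBasic.mem_pResidual (Nat.coprime_comm.1 (Nat.prime_two.coprime_iff_not_dvd.2 hc))
  have hone : ∀ s t : H, orderOf s = 2 → orderOf t = 2 → IsConj s t := by
    obtain ⟨n, hn, hnV, hnW⟩ := hF.moveW
    have hnC : n ∈ C := hC ▸ Subgroup.mem_centralizer_singleton_iff.2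
      (mul_inv_eq_iff_eq_mul.1 (hnV a ha))
    obtain ⟨t, ht, w, hw, htw⟩ := AbelianSylow.exists_mul_sylow_pResidual Pc ⟨n, hnC⟩
    have htP : (t : G) ∈ (P : Subgroup G) := Subgroup.mem_subgroupOf.1 ht
    have hact : ∀ s ∈ W, (w : G) * s * (w : G)⁻¹ = n * s * n⁻¹ := by
      intro s hs
      have e : (w : G) = (t : G)⁻¹ * n := by
        rw [← show (t : G) * (w : G) = n from congrArg Subtype.val htw, inv_mul_cancel_left]
      rw [e, show (t : G)⁻¹ * n * s * ((t : G)⁻¹ * n)⁻¹ = (t : G)⁻¹ * (n * s * n⁻¹) * (t : G) by group,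
        mul_assoc, hF.comm (hF.leW (hF.invW n hn s hs)) htP, inv_mul_cancel_left]
    have hwn : (⟨w, hw⟩ : H) ∈ Subgroup.normalizer ((Q : Subgroup H) : Set H) := by
      rw [← inv_inv (⟨w, hw⟩ : H)]
      refine inv_mem (Subgroup.mem_normalizer_iff.2 fun s => ?_)
      rw [hQmem, hQmem]
      simp only [Subgroup.coe_mul, Subgroup.coe_inv, inv_inv]
      constructor
      · intro hs
        -- every element of `W` is a conjugate of one of `W`
        let f : W → W := fun r => ⟨n * (r : G) * n⁻¹, hF.invW n hn r r.2⟩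
        have hinj : Function.Injective f := fun r r' h => Subtype.ext
          (mul_left_cancel (mul_right_cancel (congrArg Subtype.val h)))
        obtain ⟨⟨r, hr⟩, hr'⟩ := Finite.injective_iff_surjective.1 hinj ⟨_, hs⟩
        have hr'' : n * r * n⁻¹ = ((s : C) : G) := congrArg Subtype.val hr'
        rw [← hr'', ← hact r hr]
        simpa [mul_assoc] using hr
      · intro hs
        have := hact _ hs
        rw [show (w : G) * ((w : G)⁻¹ * ((s : C) : G) * (w : G)) * (w : G)⁻¹ = ((s : C) : G) by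
          group] at this
        rw [this]
        exact hF.invW n hn _ hs
    have hne : (⟨w, hw⟩ : H) * z * (⟨w, hw⟩ : H)⁻¹ ≠ z := fun e => hnW b hb hb1 (by
      rw [← hact b hb]; exact congrArg (fun t : H => ((t : C) : G)) e)
    have key : ∀ s : H, orderOf s = 2 → IsConj z s := by
      intro s hs
      haveI : Fintype H := Fintype.ofFinite H
      obtain ⟨R, hR⟩ := Klein.exists_sylow_mem (k := 1) hs
      obtain ⟨g, rfl⟩ := MulAction.exists_smul_eq H Q R
      change s ∈ ((g • Q : Sylow 2 H) : Subgroup H) at hR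
      rw [Sylow.coe_subgroup_smul] at hR
      obtain ⟨y, hy, rfl⟩ := hR
      have hy1 : y ≠ 1 := fun e => by
        change orderOf (MulAut.conj g y) = 2 at hs
        rw [e, map_one, orderOf_one] at hs; omega
      exact (Small.transitive_of_moved hV4.klein hwn hzQ hz1 hne hy hy1).trans
        (isConj_iff.2 ⟨g, rfl⟩)
    exact fun s t hs ht => (key s hs).symm.trans (key t ht)
  refine ⟨H, z, ⟨hHn, hidx, hreg, hz, ⟨Q, hV4⟩, hone, fun g => ?_⟩, rfl⟩
  obtain ⟨t, ht, w, hw, rfl⟩ := AbelianSylow.exists_mul_sylow_pResidual Pc g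
  obtain ⟨v, hv, r, hr, e⟩ := hF.prod _ (Subgroup.mem_subgroupOf.1 ht)
  refine ⟨⟨v, hPC (hF.leV hv)⟩,
    ⟨⟨r, hWC hr⟩ * w, H.mul_mem (hWH r hr _) hw⟩, ?_, fun m => ?_⟩
  · apply Subtype.ext
    show (t : G) * (w : G) = v * (r * (w : G))
    rw [← mul_assoc, e]
  · set v' : C := ⟨v, hPC (hF.leV hv)⟩ with hv'
    by_cases hv1 : v' = 1
    · rw [hv1, one_mul, inv_one, mul_one, inv_mul_cancel]; exact one_mem _
    have hvo : orderOf v' = 2 := orderOf_eq_prime (Subtype.ext (by
      rw [pow_two]; exact hF.sq v (hF.leV hv))) hv1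
    have hiso := AbelianSylowAut.isolated_of_fixed Pc hvo
      (Subgroup.mem_subgroupOf.2 (hF.leV hv)) fun n hn => Subtype.ext
        (hF.fixV _ ((hnorm n).1 hn) a ha ha1 (hfixa n) v hv)
    have hz' := BrauerSuzuki.zStar C v' hvo hiso m⁻¹
    rw [inv_inv] at hz'
    have hvinv : v'⁻¹ = v' := inv_eq_of_mul_eq_one_right (Subtype.ext (hF.sq v (hF.leV hv)))
    rw [show m⁻¹ * (v' * m * v'⁻¹) = m⁻¹ * v' * m * v'⁻¹ by group]
    exact hz'

/-! ## The principal block over a layer -/

section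

variable [Fintype C] {M : Ideal AlgInt} [M.IsPrime] {H : Subgroup C} [Fintype H] {z : H}

theorem regular_iff (h : H) : ¬ 2 ∣ orderOf (h : C) ↔ ¬ 2 ∣ orderOf h := by
  rw [Subgroup.orderOf_coe]

/-- The characters of the principal block of the layer are invariant. -/
theorem conj_invariant (hM : IsPModular 2 M) (hL : Layer H z) [H.Normal] {ψ : IrrCharacter H}
    (hψ : ψ ∈ principalBlock M H) (g : C) : conjChar H g (ψ : H → ℂ) = (ψ : H → ℂ) := by
  classical
  haveI : Fact (Nat.Prime 2) := ⟨Nat.prime_two⟩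
  have hO : ∀ o ∈ pPrimeCore 2 C, o ∈ H := fun o ho => hL.regular o fun h2 => by
    have := (PBasic.pPrimeCore_coprime 2 C)
    rw [Nat.coprime_comm, Nat.prime_two.coprime_iff_not_dvd] at this
    exact this (h2.trans (Subgroup.orderOf_dvd_natCard _ ho))
  haveI : (pPrimeCore 2 C).Normal := FittingCores.pPrimeCore_normal 2
  set K := (pPrimeCore 2 C).subgroupOf H with hK
  have hKodd : ¬ 2 ∣ Nat.card K := by
    rw [Nat.card_congr (Subgroup.subgroupOfEquivOfLe hO).toEquiv,
      ← Nat.prime_two.coprime_iff_not_dvd, Nat.coprime_comm]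
    exact PBasic.pPrimeCore_coprime 2 C
  have hker := trivialOn_of_sameBlock hM K hKodd (χ := principal H) (ψ := ψ) hψ (fun _ _ => rfl)
  obtain ⟨N, hN, hmem, htr⟩ := IsCharacter.exists_kernel (irr_isCharacter ψ)
  funext n
  obtain ⟨v, h, rfl, hv⟩ := hL.inner g
  show (ψ : H → ℂ) (conjHom H (v * (h : C)) n) = (ψ : H → ℂ) n
  set m : H := h * n * h⁻¹ with hm
  let k : H := ⟨(m : C)⁻¹ * (v * (m : C) * v⁻¹), hO _ (hv _)⟩
  have e : conjHom H (v * (h : C)) n = (m * k * m⁻¹) * m := by
    apply Subtype.ext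
    simp only [conjHom_coe, Subgroup.coe_mul, Subgroup.coe_inv, k, hm]
    group
  have hkK : m * k * m⁻¹ ∈ K := by
    haveI : K.Normal := Subgroup.normal_subgroupOf
    exact Subgroup.Normal.conj_mem inferInstance k (Subgroup.mem_subgroupOf.2 (hv _)) m
  rw [e, htr _ ((hmem _).2 (hker _ hkK)) m, hm]
  exact irr_conj_invariant ψ n h

/-- Above each character of the principal block of the layer lies one of the principal block. -/
theorem exists_lift_char (hM : IsPModular 2 M) (hL : Layer H z) {ψ : IrrCharacter H}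
    (hψ : ψ ∈ principalBlock M H) :
    ∃ θ ∈ principalBlock M C, ∃ e : ℂ, e ≠ 0 ∧
      ∀ h : H, (θ : C → ℂ) h = e * (ψ : H → ℂ) h := by
  classical
  haveI := hL.normal
  obtain ⟨θ, hθ⟩ := exists_over H ψ
  obtain ⟨B, -, hu⟩ := existsUnique_covering H hM ⟨2, hL.index⟩ (isPBlock_principalBlock M H)
  have e1 := hu _ ⟨isPBlock_blockOf θ, θ, self_mem_blockOf θ, ψ, hψ, hθ⟩
  have e2 := hu _ ⟨isPBlock_principalBlock M C, principal C, principal_mem_principalBlock,
    principal H, principal_mem_principalBlock, by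
      rw [show (fun n : H => ((principal C : IrrCharacter C) : C → ℂ) n) =
        ((principal H : IrrCharacter H) : H → ℂ) from rfl, classInner_self_irr (principal H).2]
      exact one_ne_zero⟩
  refine ⟨θ, e2.trans e1.symm ▸ self_mem_blockOf θ,
    classInner (fun n : H => (θ : C → ℂ) n) (ψ : H → ℂ), hθ, fun h => ?_⟩
  have horb : conjOrbit H (ψ : H → ℂ) = {(ψ : H → ℂ)} := by
    ext φ
    rw [mem_conjOrbit, Finset.mem_singleton]
    exact ⟨fun ⟨g, hg⟩ => hg.trans (conj_invariant hM hL hψ g),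
      fun h => ⟨1, by rw [h, conjChar_one]⟩⟩
  have h1 := congrFun (clifford H θ.2 ψ.2 hθ) h
  rw [horb, Finset.sum_singleton, Pi.smul_apply, smul_eq_mul] at h1
  exact h1

/-- A character of the principal block restricts to a multiple of one of the layer's. -/
theorem exists_below (hM : IsPModular 2 M) (hL : Layer H z) {θ : IrrCharacter C}
    (hθ : θ ∈ principalBlock M C) :
    ∃ ψ ∈ principalBlock M H, ∃ e : ℂ, ∀ h : H, (θ : C → ℂ) h = e * (ψ : H → ℂ) h := by
  classical
  haveI := hL.normal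
  obtain ⟨φ, hφ⟩ := exists_restrict_constituent θ.2 H
  obtain ⟨g, φ', hφ', hg⟩ := constituents_conjugate_blocks H (isPBlock_principalBlock M C)
    (isPBlock_principalBlock M H) principal_mem_principalBlock principal_mem_principalBlock
    (by rw [show (fun n : H => ((principal C : IrrCharacter C) : C → ℂ) n) =
        ((principal H : IrrCharacter H) : H → ℂ) from rfl, classInner_self_irr (principal H).2]
        exact one_ne_zero) hθ hφ
  rw [conj_invariant hM hL hφ' g] at hg
  refine ⟨φ', hφ', classInner (fun n : H => (θ : C → ℂ) n) (φ' : H → ℂ), fun h => ?_⟩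
  rw [hg] at hφ
  have horb : conjOrbit H (φ' : H → ℂ) = {(φ' : H → ℂ)} := by
    ext φ
    rw [mem_conjOrbit, Finset.mem_singleton]
    exact ⟨fun ⟨g, hg⟩ => hg.trans (conj_invariant hM hL hφ' g),
      fun h => ⟨1, by rw [h, conjChar_one]⟩⟩
  have h1 := congrFun (clifford H θ.2 φ'.2 hφ) h
  rw [horb, Finset.sum_singleton, Pi.smul_apply, smul_eq_mul] at h1
  exact h1

/-- Extension by zero. -/
noncomputable def extZero (H : Subgroup C) : (H → ℂ) →ₗ[ℂ] (C → ℂ) where
  toFun f c := by classical exact if hc : c ∈ H then f ⟨c, hc⟩ else 0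
  map_add' f f' := by
    funext c
    by_cases hc : c ∈ H <;> simp [hc]
  map_smul' r f := by
    funext c
    by_cases hc : c ∈ H <;> simp [hc]

theorem extZero_injective : Function.Injective (extZero H) := fun f f' e => by
  funext h
  have := congrFun e (h : C)
  simpa [extZero, h.2] using this

/-- The principal block of the centralizer has rank three. -/
theorem rank_three (hM : IsPModular 2 M) (hL : Layer H z) :
    blockRank 2 (principalBlock M C) = 3 := by
  classical
  obtain ⟨Q, hQ⟩ := hL.klein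
  have h3 := Klein.rank_principal hQ hL.one hL.invol hM
  rw [← h3]
  unfold blockRank
  set SH := Submodule.span ℂ
    ((fun χ : IrrCharacter H => pRegularPart 2 (χ : H → ℂ)) '' principalBlock M H) with hSH
  have hval : ∀ (θ : IrrCharacter C) (ψ : IrrCharacter H) (e : ℂ),
      (∀ h : H, (θ : C → ℂ) h = e * (ψ : H → ℂ) h) →
      pRegularPart 2 (θ : C → ℂ) = e • extZero H (pRegularPart 2 (ψ : H → ℂ)) := by
    intro θ ψ e he
    funext c
    rw [Pi.smul_apply, smul_eq_mul, pRegularPart_apply]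
    by_cases hc : 2 ∣ orderOf c
    · rw [if_pos hc]
      by_cases hcH : c ∈ H <;> simp [extZero, hcH, hc, pRegularPart_apply]
    · have hcH := hL.regular c hc
      rw [if_neg hc]
      simp [extZero, hcH, hc, pRegularPart_apply, ← he]
  have hmap : Submodule.span ℂ ((fun χ : IrrCharacter C => pRegularPart 2 (χ : C → ℂ)) ''
      principalBlock M C) = SH.map (extZero H) := by
    apply le_antisymm
    · rw [Submodule.span_le]
      rintro _ ⟨θ, hθ, rfl⟩
      obtain ⟨ψ, hψ, e, he⟩ := exists_below hM hL hθ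
      exact ⟨e • pRegularPart 2 (ψ : H → ℂ),
        Submodule.smul_mem _ _ (Submodule.subset_span ⟨ψ, hψ, rfl⟩),
        by rw [map_smul]; exact (hval θ ψ e he).symm⟩
    · rw [hSH, Submodule.map_span_le]
      rintro _ ⟨ψ, hψ, rfl⟩
      obtain ⟨θ, hθ, e, he0, he⟩ := exists_lift_char hM hL hψ
      rw [show extZero H (pRegularPart 2 (ψ : H → ℂ)) = e⁻¹ • pRegularPart 2 (θ : C → ℂ) by
        rw [hval θ ψ e he, smul_smul, inv_mul_cancel₀ he0, one_smul]]
      exact Submodule.smul_mem _ _ (Submodule.subset_span ⟨θ, hθ, rfl⟩)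
  rw [hmap]
  exact (Submodule.equivMapOfInjective _ extZero_injective SH).finrank_eq.symm

end

end Cfsg.Agent.RankFourNine
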