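import Mathlib.Algebra.BigOperators.Fin
import Mathlib.Algebra.Order.BigOperators.Ring.Finset
import Mathlib.Data.Fintype.Powerset
import Mathlib.Tactic.Linarith
import Mathlib.Tactic.IntervalCases

/-!
The integral rows of a principal 2-block with elementary abelian defect group of order 16 and
inertial index 9: the count of the rows is 16 or 8.
-/

set_option autoImplicit false
set_option linter.style.haveILetI false

namespace Cfsg.Agent.RankFourNine

variable {ι : Type*} {R : Finset ι}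

/-- An entry of absolute value at most one in a column of norm four meeting a column in one. -/
theorem entry_sq_le_one {x y : ι → ℤ} (hxx : ∑ r ∈ R, x r * x r = 4)
    (hxy : ∑ r ∈ R, x r * y r = 1) {r : ι} (hr : r ∈ R) :
    x r = -1 ∨ x r = 0 ∨ x r = 1 := by
  classical
  have hle : x r * x r ≤ 4 :=
    hxx ▸ Finset.single_le_sum (fun s _ => mul_self_nonneg (x s)) hr
  have h2 : -2 ≤ x r ∧ x r ≤ 2 := ⟨by nlinarith, by nlinarith⟩
  by_contra hcon
  push Not at hcon
  have hval : x r * x r = 4 := by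
    obtain ⟨h1, h0, h3⟩ := hcon
    have : x r = 2 ∨ x r = -2 := by omega
    rcases this with e | e <;> rw [e] <;> norm_num
  rw [← Finset.add_sum_erase R _ hr, hval] at hxx
  have hz : ∀ s ∈ R.erase r, x s = 0 := fun s hs =>
    mul_self_eq_zero.1 ((Finset.sum_eq_zero_iff_of_nonneg fun s _ => mul_self_nonneg (x s)).1
      (by linarith : ∑ s ∈ R.erase r, x s * x s = 0) s hs)
  rw [← Finset.add_sum_erase R _ hr, Finset.sum_eq_zero fun s hs => by rw [hz s hs, zero_mul],
    add_zero] at hxy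
  rcases Int.eq_one_or_neg_one_of_mul_eq_one hxy with e | e
  · exact hcon.2.2 e
  · exact hcon.1 e

theorem key_masks : ∀ S ∈ Finset.powersetCard 3 (Finset.univ : Finset (Fin 4)),
    ∀ S' ∈ Finset.powersetCard 3 (Finset.univ : Finset (Fin 4)),
    ∀ Q ∈ Finset.powersetCard 2 (Finset.univ : Finset (Fin 4)),
    ∀ Q' ∈ Finset.powersetCard 2 (Finset.univ : Finset (Fin 4)),
    (∀ i j : Fin 4, i ≠ j →
      ((if i ∈ S ∧ j ∈ S then 1 else 0) + (if i ∈ S' ∧ j ∈ S' then 1 else 0) +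
        (if i ∈ Q ∧ j ∈ Q then 1 else 0) + (if i ∈ Q' ∧ j ∈ Q' then 1 else 0)) % 2 = 0) →
    ∃ i, i ∈ S ∧ i ∈ S' ∧ i ∈ Q ∧ i ∈ Q' := by
  decide +kernel

/-- The support of a row. -/
def supp (x : ι → Fin 4 → ℤ) (r : ι) : Finset (Fin 4) := Finset.univ.filter fun i => x r i ≠ 0

variable {x : ι → Fin 4 → ℤ}

theorem card_supp (hx1 : ∀ r ∈ R, ∀ i, x r i = -1 ∨ x r i = 0 ∨ x r i = 1) {r : ι} (hr : r ∈ R) :
    ((supp x r).card : ℤ) = ∑ i, x r i * x r i := by
  rw [supp, ← Finset.sum_boole]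
  refine Finset.sum_congr rfl fun i _ => ?_
  rcases hx1 r hr i with e | e | e <;> simp [e]

/-- A row with one entry contributes to no product of two columns. -/
theorem mul_eq_zero_of_card_one (hx1 : ∀ r ∈ R, ∀ i, x r i = -1 ∨ x r i = 0 ∨ x r i = 1)
    {r : ι} (hr : r ∈ R) (hn : ∑ i, x r i * x r i = 1) {i j : Fin 4} (hij : i ≠ j) :
    x r i * x r j = 0 := by
  by_contra h
  obtain ⟨hi, hj⟩ := mul_ne_zero_iff.1 h
  have hc : (supp x r).card = 1 := by
    have := card_supp hx1 hr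
    rw [hn] at this
    exact_mod_cast this
  exact hij (Finset.card_le_one.1 hc.le i (by simp [supp, hi]) j (by simp [supp, hj]))

/-- With two rows of two entries some column is nonzero on all four special rows. -/
theorem exists_full (hxx : ∀ i j, ∑ r ∈ R, x r i * x r j = if i = j then 4 else 0)
    (hx1 : ∀ r ∈ R, ∀ i, x r i = -1 ∨ x r i = 0 ∨ x r i = 1) {t t' e e' : ι}
    (ht : t ∈ R) (ht' : t' ∈ R) (he : e ∈ R) (he' : e' ∈ R)
    (htt : t ≠ t') (hte : t ≠ e) (hte' : t ≠ e') (ht'e : t' ≠ e) (ht'e' : t' ≠ e')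
    (hee : e ≠ e') (hnt : ∑ i, x t i * x t i = 3) (hnt' : ∑ i, x t' i * x t' i = 3)
    (hne : ∑ i, x e i * x e i = 2) (hne' : ∑ i, x e' i * x e' i = 2)
    (hrest : ∀ r ∈ R, r ≠ t → r ≠ t' → r ≠ e → r ≠ e' → ∑ i, x r i * x r i = 1) :
    ∃ i, x t i ≠ 0 ∧ x t' i ≠ 0 ∧ x e i ≠ 0 ∧ x e' i ≠ 0 ∧
      ∀ r ∈ R, r ≠ t → r ≠ t' → r ≠ e → r ≠ e' → x r i = 0 := by
  classical
  have hmem : ∀ {r}, r ∈ R → ∀ {n : ℕ}, ∑ i, x r i * x r i = (n : ℤ) →
      supp x r ∈ Finset.powersetCard n (Finset.univ : Finset (Fin 4)) := fun {r} hr {n} hn =>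
    Finset.mem_powersetCard.2 ⟨Finset.subset_univ _, by
      have := card_supp hx1 hr
      rw [hn] at this
      exact_mod_cast this⟩
  have hsub : ({t, t', e, e'} : Finset ι) ⊆ R := by
    intro r hr
    simp only [Finset.mem_insert, Finset.mem_singleton] at hr
    rcases hr with rfl | rfl | rfl | rfl <;> assumption
  have hsum : ∀ (F : ι → ℤ), (∀ r ∈ R, r ≠ t → r ≠ t' → r ≠ e → r ≠ e' → F r = 0) →
      ∑ r ∈ R, F r = F t + F t' + F e + F e' := by
    intro F hF
    rw [← Finset.sum_subset hsub fun r hr hr' => by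
        simp only [Finset.mem_insert, Finset.mem_singleton, not_or] at hr'
        exact hF r hr hr'.1 hr'.2.1 hr'.2.2.1 hr'.2.2.2,
      Finset.sum_insert (by simp [htt, hte, hte']), Finset.sum_insert (by simp [ht'e, ht'e']),
      Finset.sum_insert (by simp [hee]), Finset.sum_singleton]
    ring
  have hterm : ∀ {r}, r ∈ R → ∀ i j, (if i ∈ supp x r ∧ j ∈ supp x r then 1 else 0) =
      (x r i * x r j).natAbs := by
    intro r hr i j
    rcases hx1 r hr i with a | a | a <;> rcases hx1 r hr j with b | b | b <;> simp [supp, a, b]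
  obtain ⟨i, h1, h2, h3, h4⟩ := key_masks _ (hmem ht (n := 3) (by simpa using hnt)) _
    (hmem ht' (n := 3) (by simpa using hnt')) _ (hmem he (n := 2) (by simpa using hne)) _
    (hmem he' (n := 2) (by simpa using hne')) (fun i j hij => by
      have h := hxx i j
      rw [if_neg hij, hsum _ fun r hr a b c d =>
        mul_eq_zero_of_card_one hx1 hr (hrest r hr a b c d) hij] at h
      rw [hterm ht, hterm ht', hterm he, hterm he']
      omega)
  simp only [supp, Finset.mem_filter, Finset.mem_univ, true_and] at h1 h2 h3 h4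
  refine ⟨i, h1, h2, h3, h4, fun r hr a b c d => ?_⟩
  have hsq : ∀ {s}, s ∈ R → x s i ≠ 0 → x s i * x s i = 1 := fun {s} hs hne => by
    rcases hx1 s hs i with e | e | e <;> simp [e] at hne ⊢
  have h := hxx i i
  rw [if_pos rfl, ← Finset.sum_sdiff hsub, Finset.sum_insert (by simp [htt, hte, hte']),
    Finset.sum_insert (by simp [ht'e, ht'e']), Finset.sum_insert (by simp [hee]),
    Finset.sum_singleton, hsq ht h1, hsq ht' h2, hsq he h3, hsq he' h4] at h
  exact mul_self_eq_zero.1 ((Finset.sum_eq_zero_iff_of_nonneg fun s _ => mul_self_nonneg (x s i)).1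
    (by linarith : ∑ s ∈ R \ {t, t', e, e'}, x s i * x s i = 0) r (Finset.mem_sdiff.2 ⟨hr, by
      simp [a, b, c, d]⟩))

/-- The count of the rows. -/
theorem card_cases {d : ι → ℤ} {y : ι → Fin 4 → ℤ} (hd2 : ∑ r ∈ R, d r * d r = 16)
    (hxx : ∀ i j, ∑ r ∈ R, x r i * x r j = if i = j then 4 else 0)
    (hyy : ∀ i j, ∑ r ∈ R, y r i * y r j = if i = j then 4 else 0)
    (hxy : ∀ i j, ∑ r ∈ R, x r i * y r j = 1)
    (hdx : ∀ r ∈ R, ∑ i, x r i = d r) (hdy : ∀ r ∈ R, ∑ i, y r i = d r)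
    (hd0 : ∀ r ∈ R, d r ≠ 0)
    (hb : ∀ r ∈ R, 4 * (∑ i, x r i * x r i) + 4 * (∑ i, y r i * y r i) - d r * d r < 16) :
    R.card = 16 ∨ R.card = 8 := by
  classical
  have hx1 : ∀ r ∈ R, ∀ i, x r i = -1 ∨ x r i = 0 ∨ x r i = 1 := fun r hr i =>
    entry_sq_le_one (x := fun r => x r i) (y := fun r => y r 0) (by simpa using hxx i i) (hxy i 0) hr
  have hy1 : ∀ r ∈ R, ∀ i, y r i = -1 ∨ y r i = 0 ∨ y r i = 1 := fun r hr i =>
    entry_sq_le_one (x := fun r => y r i) (y := fun r => x r 0) (by simpa using hyy i i)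
      (by rw [← hxy 0 i]; exact Finset.sum_congr rfl fun r _ => mul_comm _ _) hr
  set n : ι → ℤ := fun r => ∑ i, x r i * x r i with hn
  set m : ι → ℤ := fun r => ∑ i, y r i * y r i with hm
  have hshape : ∀ {z : ι → Fin 4 → ℤ}, (∀ r ∈ R, ∀ i, z r i = -1 ∨ z r i = 0 ∨ z r i = 1) →
      (∀ r ∈ R, ∑ i, z r i = d r) → ∀ r ∈ R,
      (∑ i, z r i * z r i) % 2 = d r % 2 ∧ d r ≤ ∑ i, z r i * z r i ∧
        - d r ≤ ∑ i, z r i * z r i ∧ ∑ i, z r i * z r i ≤ 4 := by
    intro z hz hsum r hr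
    simp only [Fin.sum_univ_four]
    have hs := hsum r hr
    simp only [Fin.sum_univ_four] at hs
    rcases hz r hr 0 with a | a | a <;> rcases hz r hr 1 with b | b | b <;>
      rcases hz r hr 2 with c | c | c <;> rcases hz r hr 3 with e | e | e <;>
      rw [a, b, c, e] at hs ⊢ <;> omega
  have htype : ∀ r ∈ R, (n r = 1 ∧ m r = 1 ∧ d r * d r = 1) ∨
      (n r = 3 ∧ m r = 1 ∧ d r * d r = 1) ∨ (n r = 1 ∧ m r = 3 ∧ d r * d r = 1) ∨
      (n r = 2 ∧ m r = 2 ∧ d r * d r = 4) ∨ (n r = 3 ∧ m r = 3 ∧ d r * d r = 9) := by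
    intro r hr
    obtain ⟨a1, a2, a3, a4⟩ := hshape hx1 hdx r hr
    obtain ⟨b1, b2, b3, b4⟩ := hshape hy1 hdy r hr
    have h := hb r hr
    have h0 := hd0 r hr
    simp only [hn, hm]
    generalize ∑ i, x r i * x r i = nr at *
    generalize ∑ i, y r i * y r i = mr at *
    have hd4 : -4 ≤ d r ∧ d r ≤ 4 := by omega
    obtain ⟨hl, hu⟩ := hd4
    interval_cases hdr : d r <;> omega
  set E := R.filter (fun r => d r * d r = 4) with hE
  set F := R.filter (fun r => d r * d r = 9) with hF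
  set T := R.filter (fun r => d r * d r = 1 ∧ n r = 3) with hT
  set T' := R.filter (fun r => d r * d r = 1 ∧ m r = 3) with hT'
  have hnsum : ∑ r ∈ R, n r = 16 := by
    rw [hn, Finset.sum_comm, Finset.sum_congr rfl fun i _ => (hxx i i).trans (if_pos rfl)]
    simp
  have hmsum : ∑ r ∈ R, m r = 16 := by
    rw [hm, Finset.sum_comm, Finset.sum_congr rfl fun i _ => (hyy i i).trans (if_pos rfl)]
    simp
  have c1 : ∑ r ∈ R, n r = (R.card : ℤ) + 2 * T.card + E.card + 2 * F.card := by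
    rw [hT, hE, hF, ← Finset.sum_boole, ← Finset.sum_boole, ← Finset.sum_boole, Finset.mul_sum,
      Finset.mul_sum, Finset.card_eq_sum_ones R, Nat.cast_sum, ← Finset.sum_add_distrib,
      ← Finset.sum_add_distrib, ← Finset.sum_add_distrib]
    refine Finset.sum_congr rfl fun r hr => ?_
    rcases htype r hr with ⟨a, -, c⟩ | ⟨a, -, c⟩ | ⟨a, -, c⟩ | ⟨a, -, c⟩ | ⟨a, -, c⟩ <;>
      simp [a, c]
  have c2 : ∑ r ∈ R, m r = (R.card : ℤ) + 2 * T'.card + E.card + 2 * F.card := by
    rw [hT', hE, hF, ← Finset.sum_boole, ← Finset.sum_boole, ← Finset.sum_boole, Finset.mul_sum,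
      Finset.mul_sum, Finset.card_eq_sum_ones R, Nat.cast_sum, ← Finset.sum_add_distrib,
      ← Finset.sum_add_distrib, ← Finset.sum_add_distrib]
    refine Finset.sum_congr rfl fun r hr => ?_
    rcases htype r hr with ⟨-, a, c⟩ | ⟨-, a, c⟩ | ⟨-, a, c⟩ | ⟨-, a, c⟩ | ⟨-, a, c⟩ <;>
      simp [a, c]
  have c3 : ∑ r ∈ R, d r * d r = (R.card : ℤ) + 3 * E.card + 8 * F.card := by
    rw [hE, hF, ← Finset.sum_boole, ← Finset.sum_boole, Finset.mul_sum,
      Finset.mul_sum, Finset.card_eq_sum_ones R, Nat.cast_sum, ← Finset.sum_add_distrib,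
      ← Finset.sum_add_distrib]
    refine Finset.sum_congr rfl fun r hr => ?_
    rcases htype r hr with ⟨-, -, c⟩ | ⟨-, -, c⟩ | ⟨-, -, c⟩ | ⟨-, -, c⟩ | ⟨-, -, c⟩ <;>
      simp [c]
  have c4 : (T.card : ℤ) + T'.card + E.card + F.card ≤ R.card := by
    rw [hT, hT', hE, hF, ← Finset.sum_boole, ← Finset.sum_boole, ← Finset.sum_boole,
      ← Finset.sum_boole, Finset.card_eq_sum_ones R, Nat.cast_sum, ← Finset.sum_add_distrib,
      ← Finset.sum_add_distrib, ← Finset.sum_add_distrib]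
    refine Finset.sum_le_sum fun r hr => ?_
    rcases htype r hr with ⟨a, b, c⟩ | ⟨a, b, c⟩ | ⟨a, b, c⟩ | ⟨a, b, c⟩ | ⟨a, b, c⟩ <;>
      simp [a, b, c]
  rw [hnsum] at c1
  rw [hmsum] at c2
  rw [hd2] at c3
  have hcases : (E.card = 0 ∧ F.card = 0) ∨ (E.card = 0 ∧ F.card = 1) ∨
      (E.card = 1 ∧ F.card = 0) ∨ (E.card = 2 ∧ F.card = 0) := by omega
  rcases hcases with ⟨e, f⟩ | ⟨e, f⟩ | ⟨e, f⟩ | ⟨e, f⟩
  · left; omega
  · right; omega
  all_goals exfalso
  all_goals
    have hno : ∀ r ∈ R, d r * d r ≠ 9 := fun r hr h => by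
      have : r ∈ F := Finset.mem_filter.2 ⟨hr, h⟩
      rw [Finset.card_eq_zero.1 f] at this
      simp at this
  · obtain ⟨t, ht⟩ := Finset.card_eq_one.1 (show T.card = 1 by omega)
    obtain ⟨q, hq⟩ := Finset.card_eq_one.1 e
    obtain ⟨htR, htd, htn⟩ := by
      simpa [hT] using (ht ▸ Finset.mem_singleton_self t : t ∈ T)
    obtain ⟨hqR, hqd⟩ := by simpa [hE] using (hq ▸ Finset.mem_singleton_self q : q ∈ E)
    have hqn : n q = 2 := by
      rcases htype q hqR with h | h | h | h | h <;> omega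
    have hrest : ∀ r ∈ R, r ≠ t → r ≠ q → n r = 1 := by
      intro r hr h1 h2
      rcases htype r hr with h | h | h | h | h
      · exact h.1
      · exact absurd (Finset.mem_singleton.1 (ht ▸ (by simp [hT, hr, h] : r ∈ T))) h1
      · exact h.1
      · exact absurd (Finset.mem_singleton.1 (hq ▸ (by simp [hE, hr, h] : r ∈ E))) h2
      · exact absurd h.2.2 (hno r hr)
    have htq : t ≠ q := fun h => by rw [h, hqn] at htn; omega
    have hsub : supp x t ⊆ supp x q := by
      intro i hi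
      obtain ⟨j, hj, hji⟩ := Finset.exists_mem_ne (show 1 < (supp x t).card by
        have := card_supp hx1 htR
        rw [show ∑ i, x t i * x t i = 3 from htn] at this
        omega) i
      simp only [supp, Finset.mem_filter, Finset.mem_univ, true_and] at hi hj ⊢
      intro h0
      have h := hxx i j
      rw [if_neg hji.symm, Finset.sum_eq_single t (fun r hr hrt => ?_) (fun h => absurd htR h)] at h
      · exact mul_ne_zero hi hj h
      · by_cases hrq : r = q
        · rw [hrq, h0, zero_mul]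
        · exact mul_eq_zero_of_card_one hx1 hr (hrest r hr hrt hrq) hji.symm
    have h1 := card_supp hx1 htR
    have h2 := card_supp hx1 hqR
    rw [show ∑ i, x t i * x t i = 3 from htn] at h1
    rw [show ∑ i, x q i * x q i = 2 from hqn] at h2
    have := Finset.card_le_card hsub
    omega
  · obtain ⟨q, q', hqq, hq⟩ := Finset.card_eq_two.1 e
    obtain ⟨t, t', htt, ht⟩ := Finset.card_eq_two.1 (show T.card = 2 by omega)
    obtain ⟨u, u', huu, hu⟩ := Finset.card_eq_two.1 (show T'.card = 2 by omega)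
    have hEm : ∀ r, r = q ∨ r = q' → r ∈ R ∧ d r * d r = 4 ∧ n r = 2 ∧ m r = 2 := by
      intro r hr
      obtain ⟨hrR, hrd⟩ := by simpa [hE] using (by rw [hq]; simpa using hr : r ∈ E)
      rcases htype r hrR with h | h | h | h | h <;> exact ⟨hrR, hrd, by omega, by omega⟩
    have hTm : ∀ r, r = t ∨ r = t' → r ∈ R ∧ d r * d r = 1 ∧ n r = 3 ∧ m r = 1 := by
      intro r hr
      obtain ⟨hrR, hrd, hrn⟩ := by simpa [hT] using (by rw [ht]; simpa using hr : r ∈ T)
      rcases htype r hrR with h | h | h | h | h <;> exact ⟨hrR, hrd, hrn, by omega⟩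
    have hT'm : ∀ r, r = u ∨ r = u' → r ∈ R ∧ d r * d r = 1 ∧ m r = 3 ∧ n r = 1 := by
      intro r hr
      obtain ⟨hrR, hrd, hrn⟩ := by simpa [hT'] using (by rw [hu]; simpa using hr : r ∈ T')
      rcases htype r hrR with h | h | h | h | h <;> exact ⟨hrR, hrd, hrn, by omega⟩
    have ne_of : ∀ {r s : ι}, n r ≠ n s → r ≠ s := fun h e => h (congrArg n e)
    have ne_of' : ∀ {r s : ι}, m r ≠ m s → r ≠ s := fun h e => h (congrArg m e)
    obtain ⟨⟨aR, -, an, am⟩, ⟨aR', -, an', am'⟩⟩ := hEm q (.inl rfl), hEm q' (.inr rfl)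
    obtain ⟨⟨bR, -, bn, bm⟩, ⟨bR', -, bn', bm'⟩⟩ := hTm t (.inl rfl), hTm t' (.inr rfl)
    obtain ⟨⟨cR, -, cm, cn⟩, ⟨cR', -, cm', cn'⟩⟩ := hT'm u (.inl rfl), hT'm u' (.inr rfl)
    obtain ⟨i, it, it', iq, iq', irest⟩ := exists_full hxx hx1 bR bR' aR aR' htt
      (ne_of (by omega)) (ne_of (by omega)) (ne_of (by omega)) (ne_of (by omega)) hqq bn bn' an an'
      (fun r hr a b c h => by
        rcases htype r hr with g | g | g | g | g
        · exact g.1
        · exact absurd (show r ∈ T by simp [hT, hr, g]) (by simp [ht, a, b])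
        · exact g.1
        · exact absurd (show r ∈ E by simp [hE, hr, g]) (by simp [hq, c, h])
        · exact absurd g.2.2 (hno r hr))
    obtain ⟨j, ju, ju', jq, jq', jrest⟩ := exists_full hyy hy1 cR cR' aR aR' huu
      (ne_of' (by omega)) (ne_of' (by omega)) (ne_of' (by omega)) (ne_of' (by omega)) hqq cm cm'
      am am' (fun r hr a b c h => by
        rcases htype r hr with g | g | g | g | g
        · exact g.2.1
        · exact g.2.1
        · exact absurd (show r ∈ T' by simp [hT', hr, g]) (by simp [hu, a, b])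
        · exact absurd (show r ∈ E by simp [hE, hr, g]) (by simp [hq, c, h])
        · exact absurd g.2.2 (hno r hr))
    have h := hxy i j
    rw [← Finset.sum_subset (s₁ := {q, q'}) (by simp [Finset.insert_subset_iff, aR, aR'])
      (fun r hr hr' => by
        simp only [Finset.mem_insert, Finset.mem_singleton, not_or] at hr'
        by_cases h1 : r = t ∨ r = t'
        · rw [jrest r hr ?_ ?_ hr'.1 hr'.2, mul_zero]
          · exact ne_of (by rcases h1 with rfl | rfl <;> omega)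
          · exact ne_of (by rcases h1 with rfl | rfl <;> omega)
        · rw [not_or] at h1
          rw [irest r hr h1.1 h1.2 hr'.1 hr'.2, zero_mul]),
      Finset.sum_pair hqq] at h
    have unit : ∀ {v : ℤ}, v = -1 ∨ v = 0 ∨ v = 1 → v ≠ 0 → v % 2 = 1 := fun hv hne => by omega
    have h2 : (x q i * y q j + x q' i * y q' j) % 2 = 1 := by rw [h]; rfl
    rw [Int.add_emod, Int.mul_emod, unit (hx1 q aR i) iq, unit (hy1 q aR j) jq,
      Int.mul_emod (x q' i), unit (hx1 q' aR' i) iq', unit (hy1 q' aR' j) jq'] at h2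
    exact absurd h2 (by decide)

end Cfsg.Agent.RankFourNine
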