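/-
An integral projection up to a prime factor whose entries have rank one modulo the prime: the
norm of a vector fixed by it bounds the rank.
-/
import Mathlib

set_option linter.unusedSectionVars false
set_option linter.style.haveILetI false

namespace Cfsg.Agent.RankOneModP

open Matrix

/-- A matrix of rank one modulo `p` has a determinant divisible by `p ^ (n - 1)`. -/
theorem pow_dvd_det_succ {n : Type*} [Fintype n] [DecidableEq n] {p : ℤ} (_hp : p ≠ 0)
    (A : Matrix n n ℤ) (u : n → ℤ) (h : ∀ i j, p ∣ A i j - u i * u j) :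
    p ^ Fintype.card n ∣ p * A.det := by
  choose N hN using h
  let B : Matrix Unit n ℤ := Matrix.of fun _ j => - u j
  let C : Matrix n Unit ℤ := Matrix.of fun i _ => u i
  let Nm : Matrix n n ℤ := Matrix.of N
  have e1 : (fromBlocks 1 B C (p • Nm)).det = A.det := by
    rw [det_fromBlocks_one₁₁]
    congr 1
    ext i j
    simp [B, C, Nm, Matrix.mul_apply]
    linarith [hN i j]
  have e2 : fromBlocks (p • (1 : Matrix Unit Unit ℤ)) 0 0 (1 : Matrix n n ℤ) *
      fromBlocks 1 B C (p • Nm) =
      fromBlocks (p • (1 : Matrix Unit Unit ℤ)) B C Nm *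
        fromBlocks (1 : Matrix Unit Unit ℤ) 0 0 (p • (1 : Matrix n n ℤ)) := by
    simp only [fromBlocks_multiply, Matrix.smul_mul, Matrix.mul_smul, Matrix.one_mul,
      Matrix.mul_one, Matrix.zero_mul, Matrix.mul_zero, add_zero, zero_add, smul_zero]
  have e3 := congrArg Matrix.det e2
  rw [det_mul, det_mul, det_fromBlocks_zero₁₂, det_fromBlocks_zero₁₂, e1] at e3
  simp only [det_smul, det_one, mul_one, one_mul, Fintype.card_unit, pow_one] at e3
  exact ⟨_, e3.trans (mul_comm _ _)⟩

/-- For a positive semidefinite `X`, the determinant of `1 + X` dominates `1 + tr X`. -/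
theorem one_add_trace_le_det {n : Type*} [Fintype n] [DecidableEq n] {X : Matrix n n ℝ}
    (hX : X.PosSemidef) : 1 + X.trace ≤ (1 + X).det := by
  have hev := hX.eigenvalues_nonneg
  set lam := hX.isHermitian.eigenvalues with hlam
  have hdet : (1 + X).det = ∏ i, (1 + lam i) := by
    have h := congrArg (Polynomial.eval (-1 : ℝ)) hX.isHermitian.charpoly_eq
    rw [Matrix.eval_charpoly, Polynomial.eval_prod] at h
    simp only [Polynomial.eval_sub, Polynomial.eval_X, Polynomial.eval_C, RCLike.ofReal_real_eq_id,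
      id_eq] at h
    rw [show scalar n (-1 : ℝ) - X = -(1 + X) by
        rw [map_neg, map_one]; abel,
      Matrix.det_neg, Finset.prod_congr rfl (fun i _ => show
        (-1 : ℝ) - lam i = -1 * (1 + lam i) by ring),
      Finset.prod_mul_distrib, Finset.prod_const, Finset.card_univ] at h
    exact mul_left_cancel₀ (pow_ne_zero _ (by norm_num)) h
  have htr : X.trace = ∑ i, lam i := by
    have := hX.isHermitian.trace_eq_sum_eigenvalues
    simpa using this
  rw [hdet, htr]
  have key : ∀ s : Finset n, 1 + ∑ i ∈ s, lam i ≤ ∏ i ∈ s, (1 + lam i) := by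
    intro s
    induction s using Finset.induction_on with
    | empty => simp
    | insert i s hi ih =>
      rw [Finset.sum_insert hi, Finset.prod_insert hi]
      nlinarith [hev i, mul_nonneg (hev i) (Finset.sum_nonneg fun j (_ : j ∈ s) => hev j),
        mul_le_mul_of_nonneg_left ih (add_nonneg zero_le_one (hev i))]
  exact key _

/-- A symmetric `T` with `T * T = p T` whose principal minors on a basis of its image are
bounded below, and whose diagonal is less than `p`, has a small rank. -/
theorem rank_succ_le {J : Type*} [Fintype J] [DecidableEq J] {p a : ℝ} (hp : 0 < p)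
    (ha : 0 < a) (T : Matrix J J ℝ) (hsymm : T.IsSymm) (hTT : T * T = p • T)
    (hdiag : ∀ j, T j j < p)
    (hminor : ∀ (κ : Finset J), 0 < (T.submatrix ((↑) : κ → J) (↑)).det →
      p ^ κ.card ≤ a * (T.submatrix ((↑) : κ → J) (↑)).det) :
    ∃ r : ℕ, T.trace = p * r ∧ (r : ℝ) + 1 ≤ a := by
  classical
  obtain ⟨ι, e, he, hspan, hli⟩ := exists_linearIndependent' ℝ T.col
  haveI : Finite ι := Finite.of_injective e he
  haveI : Fintype ι := Fintype.ofFinite ι
  set r := Fintype.card ι with hr
  have hminor' : ∀ f : ι → J, Function.Injective f → 0 < (T.submatrix f f).det →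
      p ^ r ≤ a * (T.submatrix f f).det := by
    intro f hf hpos
    let K : Finset J := Finset.univ.image f
    let g : ι ≃ K := Equiv.ofBijective
      (fun i => ⟨f i, Finset.mem_image_of_mem f (Finset.mem_univ i)⟩)
      ⟨fun i j h => hf (congrArg Subtype.val h), fun ⟨x, hx⟩ => by
        obtain ⟨i, -, rfl⟩ := Finset.mem_image.1 hx
        exact ⟨i, rfl⟩⟩
    have e1 : T.submatrix f f =
        (T.submatrix ((↑) : K → J) (↑)).submatrix g g := rfl
    rw [e1, Matrix.det_submatrix_equiv_self] at hpos ⊢
    have := hminor _ hpos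
    rwa [show K.card = r from Finset.card_image_of_injective _ hf] at this
  set Tk := T.submatrix id e with hTk
  set S := T.submatrix e e with hS
  have hSs : S.IsSymm := hsymm.submatrix e
  have hgram : Tkᵀ * Tk = p • S := by
    ext i j
    have h := congrFun (congrFun hTT (e i)) (e j)
    simp only [Matrix.mul_apply, Tk, S, Matrix.transpose_apply, Matrix.submatrix_apply, id_eq,
      Matrix.smul_apply] at h ⊢
    rw [← h]
    exact Finset.sum_congr rfl fun k _ => by rw [hsymm.apply]
  have hinj : Function.Injective Tk.mulVec := Matrix.mulVec_injective_iff.2 hli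
  have hpd := Matrix.PosDef.conjTranspose_mul_self Tk hinj
  rw [Matrix.conjTranspose_eq_transpose_of_trivial, hgram] at hpd
  have hdetS : 0 < S.det := by
    have h := hpd.det_pos
    rw [Matrix.det_smul] at h
    exact (pos_iff_pos_of_mul_pos h).1 (pow_pos hp _)
  have hSu : IsUnit S.det := isUnit_iff_ne_zero.2 hdetS.ne'
  have hSi : S⁻¹ᵀ = S⁻¹ := by rw [Matrix.transpose_nonsing_inv, hSs]
  set A := Tk * S⁻¹ with hA
  have hAe : A.submatrix e id = 1 := by
    rw [hA]
    have : (Tk * S⁻¹).submatrix e id = S * S⁻¹ := by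
      ext i j; simp [Matrix.mul_apply, Tk, S]
    rw [this, Matrix.mul_nonsing_inv _ hSu]
  have hAA : Aᵀ * A = p • S⁻¹ := by
    rw [hA, Matrix.transpose_mul, hSi, Matrix.mul_assoc, ← Matrix.mul_assoc Tkᵀ, hgram,
      Matrix.smul_mul, Matrix.mul_nonsing_inv _ hSu, Matrix.mul_smul, Matrix.mul_one]
  -- the image of `T` is spanned by the chosen columns
  have hcol : ∀ j, ∃ c : ι → ℝ, T.col j = ∑ k, c k • T.col (e k) := by
    intro j
    have hm : T.col j ∈ Submodule.span ℝ (Set.range (T.col ∘ e)) := by
      rw [hspan]; exact Submodule.subset_span ⟨j, rfl⟩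
    obtain ⟨c, hc⟩ := (Submodule.mem_span_range_iff_exists_fun ℝ).1 hm
    exact ⟨c, hc.symm⟩
  choose c hc using hcol
  let X : Matrix ι J ℝ := Matrix.of fun k j => c j k
  have hTX : T = Tk * X := by
    ext i j
    have := congrFun (hc j) i
    simp only [Matrix.col_apply, Finset.sum_apply, Pi.smul_apply, smul_eq_mul] at this
    rw [this, Matrix.mul_apply]
    exact Finset.sum_congr rfl fun k _ => by simp [Tk, X, mul_comm]
  have hX : Tkᵀ = S * X := by
    ext k j
    have h := congrFun (congrFun hTX (e k)) j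
    simp only [Matrix.mul_apply, Tk, S, Matrix.transpose_apply, Matrix.submatrix_apply,
      id_eq] at h ⊢
    rw [← h, hsymm.apply]
  have hTA : T = A * S * Aᵀ := by
    rw [hA, Matrix.nonsing_inv_mul_cancel_right S Tk hSu, Matrix.transpose_mul, hSi, hX,
      Matrix.nonsing_inv_mul_cancel_left S X hSu]
    exact hTX
  have htrace : T.trace = p * r := by
    rw [hTA, Matrix.trace_mul_cycle, hAA, Matrix.smul_mul, Matrix.nonsing_inv_mul _ hSu,
      Matrix.trace_smul, Matrix.trace_one, smul_eq_mul]
  refine ⟨r, htrace, ?_⟩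
  -- the minors
  have hdetsub : ∀ f : ι → J, (T.submatrix f f).det = (A.submatrix f id).det ^ 2 * S.det := by
    intro f
    have : T.submatrix f f = A.submatrix f id * S * (A.submatrix f id)ᵀ := by
      rw [hTA]; ext i j
      simp [Matrix.mul_apply]
    rw [this, Matrix.det_mul, Matrix.det_mul, Matrix.det_transpose]; ring
  set Z := Finset.univ.image e with hZ
  let Bm : Matrix J ι ℝ := Matrix.of fun j k => if j ∈ Z then 0 else A j k
  have hentry : ∀ j k, p ^ r * (if Bm j k = 0 then 0 else 1) ≤ a * S.det * Bm j k ^ 2 := by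
    intro j k
    by_cases h0 : Bm j k = 0
    · simp [h0]
    rw [if_neg h0, mul_one]
    have hj : j ∉ Z := fun hj => h0 (by simp [Bm, hj])
    have hB : Bm j k = A j k := by simp [Bm, hj]
    rw [hB] at h0 ⊢
    let f := Function.update e k j
    have hf : Function.Injective f := by
      intro x y hxy
      simp only [f, Function.update_apply] at hxy
      by_cases hx : x = k <;> by_cases hy : y = k <;> simp [hx, hy] at hxy
      · rw [hx, hy]
      · exact absurd (hxy ▸ Finset.mem_image_of_mem e (Finset.mem_univ y)) hj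
      · exact absurd (hxy ▸ Finset.mem_image_of_mem e (Finset.mem_univ x)) hj
      · exact he hxy
    have hAf : (A.submatrix f id).det = A j k := by
      have : A.submatrix f id = ((1 : Matrix ι ι ℝ).updateCol k (A j))ᵀ := by
        ext x y
        by_cases hx : x = k
        · subst hx; simp [f]
        · have := congrFun (congrFun hAe x) y
          simp only [Matrix.submatrix_apply, id_eq] at this
          simp [f, hx, this, Matrix.one_apply, eq_comm]
      rw [this, Matrix.det_transpose, ← Matrix.cramer_apply, Matrix.cramer_one]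
      rfl
    have hpos : 0 < (T.submatrix f f).det := by
      rw [hdetsub, hAf]; positivity
    have := hminor' f hf hpos
    rw [hdetsub, hAf] at this
    linarith [this, mul_comm (A j k ^ 2) S.det]
  have hbase : p ^ r ≤ a * S.det := hminor' e he hdetS
  -- every basis column can be exchanged
  have hex : ∀ k, ∃ j, Bm j k ≠ 0 := by
    intro k
    by_contra hnone
    push Not at hnone
    have hcolk : ∀ i, (Aᵀ * A) i k = (1 : Matrix ι ι ℝ) i k := by
      intro i
      rw [Matrix.mul_apply, ← Finset.sum_subset (Finset.subset_univ Z) (fun j _ hj => by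
        have := hnone j
        simp only [Bm, Matrix.of_apply, if_neg hj] at this
        rw [this, mul_zero]),
        Finset.sum_image fun x _ y _ h => he h]
      have h2 := fun x y => congrFun (congrFun hAe x) y
      simp only [Matrix.submatrix_apply, id_eq] at h2
      simp only [Matrix.transpose_apply, h2, Matrix.one_apply]
      simp [eq_comm]
    have h1 : (S * (Aᵀ * A)) k k = S k k := by
      rw [Matrix.mul_apply]; simp [hcolk, Matrix.one_apply]
    rw [hAA, Matrix.mul_smul, Matrix.mul_nonsing_inv _ hSu] at h1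
    simp only [Matrix.smul_apply, Matrix.one_apply_eq, smul_eq_mul, mul_one] at h1
    exact absurd (hdiag (e k)) (by simp [S] at h1; linarith)
  have hsplit : Aᵀ * A = 1 + Bmᵀ * Bm := by
    ext i k
    rw [Matrix.add_apply, Matrix.mul_apply, Matrix.mul_apply,
      ← Finset.sum_add_sum_compl Z (fun j => Aᵀ i j * A j k)]
    congr 1
    · rw [Finset.sum_image fun x _ y _ h => he h]
      have h2 := fun x y => congrFun (congrFun hAe x) y
      simp only [Matrix.submatrix_apply, id_eq] at h2
      simp only [Matrix.transpose_apply, h2, Matrix.one_apply]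
      simp [eq_comm]
    · rw [← Finset.sum_add_sum_compl Z (fun j => Bmᵀ i j * Bm j k),
        Finset.sum_eq_zero (s := Z) (fun j hj => by simp [Bm, hj]), zero_add]
      exact Finset.sum_congr rfl fun j hj => by simp [Bm, Finset.mem_compl.1 hj]
  have hpsd : (Bmᵀ * Bm).PosSemidef := by
    rw [← Matrix.conjTranspose_eq_transpose_of_trivial]
    exact Matrix.posSemidef_conjTranspose_mul_self Bm
  have hdet := one_add_trace_le_det hpsd
  rw [← hsplit, hAA, Matrix.det_smul, Matrix.det_nonsing_inv, Ring.inverse_eq_inv'] at hdet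
  have htr2 : (Bmᵀ * Bm).trace = ∑ k, ∑ j, Bm j k ^ 2 := by
    simp [Matrix.trace, Matrix.mul_apply, sq]
  rw [htr2] at hdet
  have h3 : p ^ r * (r : ℝ) ≤ a * S.det * ∑ k, ∑ j, Bm j k ^ 2 := by
    rw [Finset.mul_sum]
    calc p ^ r * (r : ℝ) = ∑ _k : ι, p ^ r := by
          rw [Finset.sum_const, Finset.card_univ, nsmul_eq_mul, mul_comm]
      _ ≤ _ := Finset.sum_le_sum fun k _ => by
          obtain ⟨j, hj⟩ := hex k
          have h := hentry j k
          rw [if_neg hj, mul_one] at h
          exact h.trans (mul_le_mul_of_nonneg_left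
            (Finset.single_le_sum (f := fun j => Bm j k ^ 2) (fun _ _ => sq_nonneg _)
              (Finset.mem_univ j)) (mul_nonneg ha.le hdetS.le))
  have h4 : a * S.det * (1 + ∑ k, ∑ j, Bm j k ^ 2) ≤ a * p ^ r := by
    refine (mul_le_mul_of_nonneg_left hdet (mul_nonneg ha.le hdetS.le)).trans (le_of_eq ?_)
    field_simp
    rfl
  have h5 : p ^ r * ((r : ℝ) + 1) ≤ p ^ r * a := by nlinarith
  exact le_of_mul_le_mul_left h5 (pow_pos hp r)

/-- The norm of a vector fixed by an integral projection of rank one modulo `p` bounds the rank. -/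
theorem le_norm_of_rank_one {J : Type*} [Fintype J] [DecidableEq J] {p a l : ℕ} (hp : p.Prime)
    (R : Matrix J J ℤ) (v : J → ℤ) (hsymm : R.IsSymm) (hR : R * R = (p : ℤ) • R)
    (htr : R.trace = p * l) (hv : R *ᵥ v = (p : ℤ) • v) (hvv : v ⬝ᵥ v = p * a) (ha : 0 < a)
    (hdiag : ∀ j, R j j < p) (w u₀ : ℤ) (u : J → ℤ) (hw : ¬ (p : ℤ) ∣ w)
    (h00 : (p : ℤ) ∣ w * a - u₀ * u₀) (h0j : ∀ j, (p : ℤ) ∣ w * v j - u₀ * u j)
    (hij : ∀ i j, (p : ℤ) ∣ w * R i j - u i * u j) : l ≤ a := by
  classical
  have hpr : (0 : ℝ) < p := Nat.cast_pos.2 hp.pos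
  have har : (0 : ℝ) < a := Nat.cast_pos.2 ha
  set Rr : Matrix J J ℝ := R.map ((↑) : ℤ → ℝ) with hRr
  set vr : J → ℝ := fun j => (v j : ℝ) with hvr
  have hRs : ∀ i j, R i j = R j i := fun i j => hsymm.apply j i
  have hRR : ∀ i j, ∑ k, (R i k : ℝ) * R k j = p * R i j := fun i j => by
    have := congrFun (congrFun hR i) j
    simp only [Matrix.mul_apply, Matrix.smul_apply, smul_eq_mul] at this
    exact_mod_cast this
  have hRv : ∀ i, ∑ k, (R i k : ℝ) * v k = p * v i := fun i => by
    have := congrFun hv i
    simp only [Matrix.mulVec, dotProduct, Pi.smul_apply, smul_eq_mul] at this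
    exact_mod_cast this
  have hvv' : ∑ k, (v k : ℝ) * v k = p * a := by
    simp only [dotProduct] at hvv
    exact_mod_cast hvv
  let T : Matrix J J ℝ := Matrix.of fun i j => (R i j : ℝ) - v i * v j / a
  have hTs : T.IsSymm := Matrix.IsSymm.ext fun i j => by
    simp only [T, Matrix.of_apply, hRs i j, mul_comm (v i : ℝ)]
  have hTT : T * T = (p : ℝ) • T := by
    ext i j
    simp only [Matrix.mul_apply, T, Matrix.of_apply, Matrix.smul_apply, smul_eq_mul]
    calc ∑ k, ((R i k : ℝ) - v i * v k / a) * ((R k j : ℝ) - v k * v j / a)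
        = (∑ k, (R i k : ℝ) * R k j) - (∑ k, (R i k : ℝ) * v k) * (v j / a) -
            (v i / a) * (∑ k, (R j k : ℝ) * v k) +
            (∑ k, (v k : ℝ) * v k) * (v i * v j / (a * a)) := by
          simp only [Finset.sum_mul, Finset.mul_sum, ← Finset.sum_sub_distrib,
            ← Finset.sum_add_distrib]
          exact Finset.sum_congr rfl fun k _ => by rw [hRs k j]; ring
      _ = _ := by
          rw [hRR, hRv, hRv, hvv']
          field_simp
          ring
  have hdiag' : ∀ j, T j j < (p : ℝ) := fun j => by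
    have h1 : (R j j : ℝ) < p := by exact_mod_cast hdiag j
    have h2 : 0 ≤ (v j : ℝ) * v j / a := div_nonneg (mul_self_nonneg _) har.le
    simp only [T, Matrix.of_apply]
    linarith
  obtain ⟨r, hr, hle⟩ := rank_succ_le hpr har T hTs hTT hdiag' fun κ hpos => by
    let N : Matrix (Unit ⊕ κ) (Unit ⊕ κ) ℤ :=
      fromBlocks (Matrix.of fun _ _ => (a : ℤ)) (Matrix.of fun _ j => v (j : J))
        (Matrix.of fun i _ => v (i : J)) (R.submatrix ((↑) : κ → J) (↑))
    have hdvd := pow_dvd_det_succ (Int.natCast_ne_zero.2 hp.ne_zero) (w • N)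
      (Sum.elim (fun _ => u₀) fun j => u (j : J)) (by
        rintro (i | i) (j | j) <;>
          simp only [N, Matrix.smul_apply, fromBlocks_apply₁₁, fromBlocks_apply₁₂,
            fromBlocks_apply₂₁, fromBlocks_apply₂₂, Sum.elim_inl, Sum.elim_inr, Matrix.of_apply,
            Matrix.submatrix_apply, smul_eq_mul]
        · exact h00
        · exact h0j _
        · rw [mul_comm (u i)]; exact h0j _
        · exact hij _ _)
    rw [det_smul, Fintype.card_sum, Fintype.card_unit, Fintype.card_coe, pow_add, pow_one,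
      mul_dvd_mul_iff_left (Int.natCast_ne_zero.2 hp.ne_zero)] at hdvd
    have hcop : IsCoprime ((p : ℤ) ^ κ.card) (w * w ^ κ.card) := by
      have hc : IsCoprime (p : ℤ) w := (Nat.prime_iff_prime_int.1 hp).coprime_iff_not_dvd.2 hw
      exact IsCoprime.pow_left (hc.mul_right hc.pow_right)
    rw [pow_add, pow_one] at hdvd
    have hd2 := hcop.dvd_of_dvd_mul_left hdvd
    have hN : ((N.det : ℤ) : ℝ) = a * (T.submatrix ((↑) : κ → J) (↑)).det := by
      rw [Int.cast_det]
      let A₀ : Matrix Unit Unit ℝ := Matrix.of fun _ _ => (a : ℝ)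
      letI : Invertible A₀ := invertibleOfRightInverse A₀ (Matrix.of fun _ _ => (a : ℝ)⁻¹) (by
        ext i j; simp [A₀, Matrix.mul_apply, har.ne'])
      have e : N.map ((↑) : ℤ → ℝ) = fromBlocks A₀
          (Matrix.of fun (_ : Unit) (j : κ) => (v (j : J) : ℝ))
          (Matrix.of fun (i : κ) (_ : Unit) => (v (i : J) : ℝ))
          (Rr.submatrix ((↑) : κ → J) (↑)) := by
        ext (i | i) (j | j) <;> simp [N, A₀, Rr]
      rw [e, det_fromBlocks₁₁]
      have e2 : ⅟A₀ = Matrix.of fun _ _ => (a : ℝ)⁻¹ := rfl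
      rw [e2, Matrix.det_unique]
      congr 1
      congr 1
      ext i j
      simp [T, Rr, Matrix.mul_apply, div_eq_mul_inv]
      ring
    have hNpos : 0 < N.det := by
      have : (0 : ℝ) < (N.det : ℝ) := by rw [hN]; exact mul_pos har hpos
      exact_mod_cast this
    have h6 := Int.le_of_dvd hNpos hd2
    have h7 : ((p : ℝ)) ^ κ.card ≤ (N.det : ℝ) := by exact_mod_cast h6
    linarith
  have htT : T.trace = p * l - p := by
    have h1 : (∑ i, (R i i : ℝ)) = p * l := by
      simp only [Matrix.trace, Matrix.diag] at htr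
      exact_mod_cast htr
    simp only [Matrix.trace, Matrix.diag, T, Matrix.of_apply, Finset.sum_sub_distrib,
      ← Finset.sum_div, hvv', h1]
    field_simp
  have hl : (l : ℝ) = r + 1 := by
    rw [hr] at htT
    exact mul_left_cancel₀ hpr.ne' (by linarith)
  exact_mod_cast (show (l : ℝ) ≤ a by linarith)

end Cfsg.Agent.RankOneModP
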