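/-
Central idempotents of the complex group algebra of a p-solvable group vanishing on the
p-singular elements have M-local coefficients (Kiyota-Okuyama).
-/
import Cfsg.Agent.Lib.Blocks.CoverAll
import Cfsg.Agent.Lib.Blocks.Induced
import Cfsg.Agent.Lib.Char.GlaubermanCyclic
import Cfsg.Agent.Lib.Char.DetComp
import Cfsg.Agent.Lib.Solvable.SchurZassenhaus
import Cfsg.Agent.Lib.PLocal.PSolvable
import Mathlib.LinearAlgebra.Trace
import Mathlib.LinearAlgebra.Matrix.Trace

set_option linter.unusedSectionVars false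
set_option linter.style.haveILetI false

namespace Cfsg.Agent.RegularIdem

open Cfsg MonoidAlgebra Cfsg.Agent.Char Cfsg.Agent.Blocks
open scoped ComplexConjugate

universe u

section General

variable {X : Type u} [Group X] [Fintype X]

theorem coeff_single_mul' (a : X) (x : MonoidAlgebra ℂ X) (g : X) :
    (single a (1 : ℂ) * x).coeff g = x.coeff (a⁻¹ * g) := by
  classical
  rw [coeff_mul_univ, Finset.sum_eq_single a]
  · simp
  · intro b _ hb
    simp [MonoidAlgebra.coeff_single, Finsupp.single_apply, Ne.symm hb]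
  · simp

theorem coeff_mul_single' (x : MonoidAlgebra ℂ X) (a : X) (g : X) :
    (x * single a (1 : ℂ)).coeff g = x.coeff (g * a⁻¹) := by
  classical
  rw [coeff_mul_univ, Finset.sum_eq_single (g * a⁻¹)]
  · simp [mul_assoc]
  · intro b _ hb
    rw [MonoidAlgebra.coeff_single, Finsupp.single_apply, if_neg, mul_zero]
    intro h
    exact hb (by rw [h]; group)
  · simp

/-- The Hermitian product of coefficient vectors. -/
noncomputable def herm (v w : MonoidAlgebra ℂ X) : ℂ := ∑ g : X, conj (v.coeff g) * w.coeff g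

/-- A self-adjoint element of the group algebra. -/
def IsStar (x : MonoidAlgebra ℂ X) : Prop := ∀ g : X, x.coeff g⁻¹ = conj (x.coeff g)

theorem eq_blockElt_of_idem {x : MonoidAlgebra ℂ X} (hx : IsClassElt x) (hi : x * x = x) :
    x = blockElt {χ | omega χ x = 1} := by
  classical
  refine classElt_ext hx (isClassElt_blockElt _) fun χ => ?_
  have h := omega_mul χ hx hx
  rw [hi] at h
  rw [omega_blockElt]
  by_cases h1 : omega χ x = 1
  · rw [if_pos (by exact h1), h1]
  · rw [if_neg (by exact h1)]
    have h2 : omega χ x * (omega χ x - 1) = 0 := by rw [mul_sub, ← h]; ring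
    exact (mul_eq_zero.1 h2).resolve_right (sub_ne_zero.2 h1)

theorem isStar_of_idem {x : MonoidAlgebra ℂ X} (hx : IsClassElt x) (hi : x * x = x) :
    IsStar x := fun g => by
  classical
  rw [eq_blockElt_of_idem hx hi]
  simp only [coeff_blockElt, blockCoeff_eq_sum, map_mul, map_inv₀, map_natCast, map_sum,
    conj_irr_one, Complex.conj_conj]
  refine congrArg _ (Finset.sum_congr rfl fun χ _ => ?_)
  rw [irr_inv χ g, Complex.conj_conj]

theorem herm_mul_right {η : MonoidAlgebra ℂ X} (hη : IsStar η) (v w : MonoidAlgebra ℂ X) :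
    herm (v * η) w = herm v (w * η) := by
  simp only [herm, coeff_mul_univ, map_sum, map_mul, Finset.sum_mul, Finset.mul_sum]
  rw [Finset.sum_comm]
  refine Finset.sum_congr rfl fun a _ => Finset.sum_congr rfl fun g _ => ?_
  rw [← hη, _root_.mul_inv_rev, inv_inv]
  ring

theorem coeff_one_eq_herm {x : MonoidAlgebra ℂ X} (hx : IsStar x) (hi : x * x = x) :
    x.coeff 1 = herm x x := by
  conv_lhs => rw [← hi]
  rw [coeff_mul_univ, herm]
  refine Finset.sum_congr rfl fun a _ => ?_
  rw [mul_one, hx, mul_comm]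

theorem herm_self (x : MonoidAlgebra ℂ X) :
    herm x x = ((∑ g : X, Complex.normSq (x.coeff g) : ℝ) : ℂ) := by
  rw [herm, Complex.ofReal_sum]
  exact Finset.sum_congr rfl fun g _ => (Complex.normSq_eq_conj_mul_self).symm

theorem finrank_range_mulRight {f : MonoidAlgebra ℂ X} (hf : f * f = f) :
    (Module.finrank ℂ (LinearMap.range (LinearMap.mulRight ℂ f)) : ℂ) =
      (Nat.card X : ℂ) * f.coeff 1 := by
  classical
  haveI : Module.Finite ℂ (MonoidAlgebra ℂ X) :=
    Module.Finite.of_basis (MonoidAlgebra.basis X ℂ)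
  have hidem : IsIdempotentElem (LinearMap.mulRight ℂ f) :=
    LinearMap.ext fun y => by
      show y * f * f = y * f
      rw [mul_assoc, hf]
  rw [← (LinearMap.IsIdempotentElem.isProj_range _ hidem).trace,
    LinearMap.trace_eq_matrix_trace ℂ (MonoidAlgebra.basis X ℂ), Matrix.trace,
    Nat.card_eq_fintype_card]
  rw [Finset.sum_congr rfl (fun a _ => show
    (LinearMap.toMatrix (MonoidAlgebra.basis X ℂ) (MonoidAlgebra.basis X ℂ)
      (LinearMap.mulRight ℂ f)).diag a = f.coeff 1 by
    rw [Matrix.diag_apply, LinearMap.toMatrix_apply, MonoidAlgebra.basis_apply]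
    show (single a (1 : ℂ) * f).coeff a = _
    rw [coeff_single_mul', inv_mul_cancel])]
  simp

/-- If `η` restricts to a multiple of `εS` and both cut out spaces of the same dimension then
`S` generates everything modulo `η`. -/
theorem exists_generates {S : Type u} [Group S] [Fintype S] (i : S →* X)
    (hi : Function.Injective i) {εS : MonoidAlgebra ℂ S} (hεS : εS * εS = εS)
    {η : MonoidAlgebra ℂ X} (hη : η * η = η) {c : ℂ} (hc : c ≠ 0)
    (hres : ∀ s : S, η.coeff (i s) = c * εS.coeff s)
    (hdim : (Nat.card S : ℂ) * εS.coeff 1 = (Nat.card X : ℂ) * η.coeff 1) (v : X) :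
    ∃ z : MonoidAlgebra ℂ S, single v (1 : ℂ) * η = mapDomainRingHom ℂ i z * η := by
  classical
  haveI : Module.Finite ℂ (MonoidAlgebra ℂ X) :=
    Module.Finite.of_basis (MonoidAlgebra.basis X ℂ)
  haveI : Module.Finite ℂ (MonoidAlgebra ℂ S) :=
    Module.Finite.of_basis (MonoidAlgebra.basis S ℂ)
  have hcoe : ∀ (z : MonoidAlgebra ℂ S) (s : S),
      (mapDomainRingHom ℂ i z).coeff (i s) = z.coeff s := fun z s => by
    show (Finsupp.mapDomain _ z.coeff) (i s) = _
    exact Finsupp.mapDomain_apply hi z.coeff s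
  have hoff : ∀ (z : MonoidAlgebra ℂ S) (x : X), x ∉ Set.range i →
      (mapDomainRingHom ℂ i z).coeff x = 0 := fun z x hx =>
    Finsupp.mapDomain_notin_range z.coeff x hx
  have hkey : ∀ (z : MonoidAlgebra ℂ S) (s : S),
      (mapDomainRingHom ℂ i z * η).coeff (i s) = c * (z * εS).coeff s := fun z s => by
    rw [coeff_mul_univ, coeff_mul_univ, Finset.mul_sum,
      ← Finset.sum_subset (Finset.subset_univ (Finset.univ.image i)),
      Finset.sum_image hi.injOn]
    · refine Finset.sum_congr rfl fun t _ => ?_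
      rw [hcoe, ← map_inv, ← map_mul, hres]
      ring
    · intro x _ hx
      rw [hoff z x (fun ⟨t, ht⟩ => hx (Finset.mem_image.2 ⟨t, Finset.mem_univ _, ht⟩)),
        zero_mul]
  let ψ : LinearMap.range (LinearMap.mulRight ℂ εS) →ₗ[ℂ]
      LinearMap.range (LinearMap.mulRight ℂ η) :=
    { toFun := fun z => ⟨mapDomainRingHom ℂ i z.1 * η, ⟨mapDomainRingHom ℂ i z.1, rfl⟩⟩
      map_add' := fun a b => Subtype.ext (by simp [map_add, add_mul])
      map_smul' := fun r a => Subtype.ext (by
        show mapDomainRingHom ℂ i (r • a.1) * η = r • (mapDomainRingHom ℂ i a.1 * η)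
        rw [← smul_mul_assoc]
        congr 1
        refine MonoidAlgebra.ext ?_
        exact Finsupp.mapDomain_smul r a.1.coeff) }
  have hinj : Function.Injective ψ := by
    rw [← LinearMap.ker_eq_bot, Submodule.eq_bot_iff]
    rintro ⟨z, y, rfl⟩ hz
    have hz' : mapDomainRingHom ℂ i (y * εS) * η = 0 := congrArg Subtype.val hz
    refine Subtype.ext (gaExt fun s => ?_)
    have h := hkey (y * εS) s
    rw [hz', mul_assoc, hεS] at h
    simp only [MonoidAlgebra.coeff_zero, Finsupp.coe_zero, Pi.zero_apply] at h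
    simpa using (mul_eq_zero.1 h.symm).resolve_left hc
  have hrank : Module.finrank ℂ (LinearMap.range (LinearMap.mulRight ℂ εS)) =
      Module.finrank ℂ (LinearMap.range (LinearMap.mulRight ℂ η)) := by
    have h := finrank_range_mulRight hεS
    rw [hdim, ← finrank_range_mulRight hη] at h
    exact_mod_cast h
  obtain ⟨z, hz⟩ := (LinearMap.injective_iff_surjective_of_finrank_eq_finrank hrank).1 hinj
    ⟨single v (1 : ℂ) * η, ⟨single v (1 : ℂ), rfl⟩⟩
  exact ⟨z.1, (congrArg Subtype.val hz).symm⟩

end General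

section Main

variable {G : Type u} [Group G] [Fintype G] {p : ℕ}

/-- A `p`-regular element modulo a normal `p'`-subgroup is `p`-regular. -/
theorem not_dvd_orderOf_of_mk (hp : p.Prime) (N : Subgroup G) [N.Normal]
    (hN : ¬ p ∣ Nat.card N) {g : G} (hg : ¬ p ∣ orderOf (QuotientGroup.mk g : G ⧸ N)) :
    ¬ p ∣ orderOf g := by
  intro h
  have h1 : g ^ orderOf (QuotientGroup.mk g : G ⧸ N) ∈ N := by
    rw [← QuotientGroup.eq_one_iff, QuotientGroup.mk_pow, pow_orderOf_eq_one]
  have h2 : g ^ (orderOf (QuotientGroup.mk g : G ⧸ N) * Nat.card N) = 1 := by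
    rw [pow_mul]
    exact congrArg Subtype.val (pow_card_eq_one' (x := (⟨_, h1⟩ : N)))
  exact (hp.dvd_mul.1 (h.trans (orderOf_dvd_of_pow_eq_one h2))).elim hg hN

theorem not_dvd_orderOf_mk {N : Subgroup G} [N.Normal] {g : G} (hg : ¬ p ∣ orderOf g) :
    ¬ p ∣ orderOf (QuotientGroup.mk g : G ⧸ N) := fun h =>
  hg (h.trans (orderOf_map_dvd (QuotientGroup.mk' N) g))

/-- The data attached to a canonical extension. -/
structure Pair (N L : Subgroup G) (ε η : MonoidAlgebra ℂ G) (c : ℝ) : Prop where
  ε_supp : ∀ g, g ∉ N → ε.coeff g = 0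
  ε_comm : IsClassElt ε
  η_supp : ∀ g, g ∉ L → η.coeff g = 0
  η_class : IsClassElt η
  η_idem : η * η = η
  c_pos : 0 < c
  η_res : ∀ n ∈ N, η.coeff n = (c : ℂ) * ε.coeff n
  gen : ∀ v ∈ L, ∃ z : MonoidAlgebra ℂ G,
    (∀ g, g ∉ N → z.coeff g = 0) ∧ single v (1 : ℂ) * η = z * η

variable (N : Subgroup G) [N.Normal]

theorem suppIn_one_of_supp {x : MonoidAlgebra ℂ G} (hx : ∀ g, g ∉ N → x.coeff g = 0) :
    SuppIn N x 1 := fun g hg => hx g fun h => hg ((QuotientGroup.eq_one_iff g).2 h)

theorem partN_mul_right (k : G ⧸ N) (x : MonoidAlgebra ℂ G) {z : MonoidAlgebra ℂ G}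
    (hz : ∀ g, g ∉ N → z.coeff g = 0) : partN N k (x * z) = partN N k x * z := by
  classical
  refine gaExt fun g => ?_
  rw [coeff_partN, coeff_mul_univ, coeff_mul_univ]
  by_cases hg : (QuotientGroup.mk g : G ⧸ N) = k
  · rw [if_pos hg]
    refine Finset.sum_congr rfl fun a _ => ?_
    by_cases ha : a⁻¹ * g ∈ N
    · rw [coeff_partN, if_pos ((QuotientGroup.eq.2 ha).trans hg)]
    · rw [hz _ ha, mul_zero, mul_zero]
  · rw [if_neg hg]
    symm
    refine Finset.sum_eq_zero fun a _ => ?_
    by_cases ha : a⁻¹ * g ∈ N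
    · rw [coeff_partN, if_neg (fun h => hg ((QuotientGroup.eq.2 ha).symm.trans h)), zero_mul]
    · rw [hz _ ha, mul_zero]

theorem supp_commute (hp : Fact p.Prime) (hN : ¬ p ∣ Nat.card N) {L : Subgroup G} [L.Normal]
    (hNL : N ≤ L) (hQ : IsPGroup p (L.map (QuotientGroup.mk' N)))
    {ε η : MonoidAlgebra ℂ G} {c : ℝ} (hP : Pair N L ε η c)
    {e : MonoidAlgebra ℂ G} (he : IsClassElt e) (hi : e * e = e) (heε : e * ε = e)
    (hreg : ∀ g, p ∣ orderOf g → e.coeff g = 0) {g : G} (hg : e.coeff g ≠ 0) :
    ∀ v ∈ L, (QuotientGroup.mk (v * g * v⁻¹) : G ⧸ N) = QuotientGroup.mk g := by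
  classical
  haveI : Fintype (G ⧸ N) := Fintype.ofFinite _
  set b : G ⧸ N → MonoidAlgebra ℂ G := fun k => partN N k e with hbdef
  set y : G ⧸ N → MonoidAlgebra ℂ G := fun k => b k * η with hydef
  set K : G ⧸ N → ℝ := fun k => ∑ x : G, Complex.normSq ((b k).coeff x) with hKdef
  have hbcoeff : ∀ k x, (b k).coeff x =
      if (QuotientGroup.mk x : G ⧸ N) = k then e.coeff x else 0 := fun k x => coeff_partN N k e x
  have hεone : SuppIn N ε 1 := suppIn_one_of_supp N hP.ε_supp
  have hbε : ∀ k, b k * ε = b k := fun k => by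
    show partN N k e * ε = partN N k e
    rw [← partN_mul_right N k e hP.ε_supp, heε]
  have hηstar : IsStar η := isStar_of_idem hP.η_class hP.η_idem
  have hdiag : ∀ k, herm (y k) (y k) = (c : ℂ) * (K k : ℂ) := by
    intro k
    show herm (b k * η) (b k * η) = _
    rw [herm_mul_right hηstar, mul_assoc, hP.η_idem, ← herm_self, herm, herm, Finset.mul_sum]
    refine Finset.sum_congr rfl fun x _ => ?_
    by_cases hx : (QuotientGroup.mk x : G ⧸ N) = k
    · have h : (b k * η).coeff x = (c : ℂ) * (b k * ε).coeff x := by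
        rw [coeff_mul_univ, coeff_mul_univ, Finset.mul_sum]
        refine Finset.sum_congr rfl fun a _ => ?_
        by_cases ha : (QuotientGroup.mk a : G ⧸ N) = k
        · rw [hP.η_res _ (QuotientGroup.eq.1 (ha.trans hx.symm))]; ring
        · rw [hbcoeff, if_neg ha]; ring
      rw [h, hbε]; ring
    · rw [hbcoeff, if_neg hx]; simp
  -- conjugate components have equal images
  have hzcomm : ∀ (k : G ⧸ N) (z : MonoidAlgebra ℂ G), (∀ x, x ∉ N → z.coeff x = 0) →
      z * b k = b k * z := by
    intro k z hz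
    show z * partN N k e = partN N k e * z
    rw [← partN_mul (d := (1 : G ⧸ N)) N (suppIn_one_of_supp N hz) k e, one_mul,
      ← IsClassElt.comm he, partN_mul_right N k e hz]
  have hconj : ∀ (v : G), v ∈ L → ∀ k : G ⧸ N,
      b ((QuotientGroup.mk v : G ⧸ N) * k * (QuotientGroup.mk v : G ⧸ N)⁻¹) * η = b k * η := by
    intro v hv k
    have hb : b ((QuotientGroup.mk v : G ⧸ N) * k * (QuotientGroup.mk v : G ⧸ N)⁻¹) =
        single v (1 : ℂ) * b k * single v⁻¹ (1 : ℂ) := by
      refine gaExt fun x => ?_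
      rw [coeff_mul_single', coeff_single_mul', hbcoeff, hbcoeff, inv_inv]
      have hx : e.coeff (v⁻¹ * (x * v)) = e.coeff x := by
        have := he (v⁻¹ * (x * v)) v
        rw [show v * (v⁻¹ * (x * v)) * v⁻¹ = x by group] at this
        exact this.symm
      rw [hx]
      refine if_congr ?_ rfl rfl
      rw [QuotientGroup.mk_mul, QuotientGroup.mk_mul, QuotientGroup.mk_inv]
      constructor
      · intro h; rw [h]; group
      · intro h; rw [← h]; group
    obtain ⟨z, hz, hzη⟩ := hP.gen v hv
    have hηc : ∀ w : MonoidAlgebra ℂ G, η * w = w * η := fun w => IsClassElt.comm hP.η_class w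
    calc b ((QuotientGroup.mk v : G ⧸ N) * k * (QuotientGroup.mk v : G ⧸ N)⁻¹) * η
        = single v (1 : ℂ) * b k * (single v⁻¹ (1 : ℂ) * η) := by rw [hb]; noncomm_ring
      _ = (single v (1 : ℂ) * η) * b k * single v⁻¹ (1 : ℂ) := by
          rw [← hηc (single v⁻¹ (1 : ℂ)), mul_assoc (single v (1 : ℂ)) η (b k), hηc (b k)]
          noncomm_ring
      _ = z * (η * b k) * single v⁻¹ (1 : ℂ) := by rw [hzη]; noncomm_ring
      _ = b k * (z * η) * single v⁻¹ (1 : ℂ) := by
          rw [hηc (b k), ← mul_assoc z, hzcomm k z hz]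
          noncomm_ring
      _ = b k * (η * (single v (1 : ℂ) * single v⁻¹ (1 : ℂ))) := by
          rw [← hzη, ← hηc (single v (1 : ℂ))]; noncomm_ring
      _ = b k * η := by
          rw [MonoidAlgebra.single_mul_single, mul_inv_cancel, one_mul, ← MonoidAlgebra.one_def,
            mul_one]
  -- components in different cosets of `L` are orthogonal
  set Q := L.map (QuotientGroup.mk' N) with hQdef
  haveI : Q.Normal := Subgroup.Normal.map inferInstance _ (QuotientGroup.mk'_surjective N)
  have hmemQ : ∀ x : G, (QuotientGroup.mk x : G ⧸ N) ∈ Q → x ∈ L := fun x hx => by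
    obtain ⟨a, ha, hax⟩ := Subgroup.mem_map.1 hx
    have h : a⁻¹ * x ∈ N := QuotientGroup.eq.1 hax
    simpa using L.mul_mem ha (hNL h)
  have horth : ∀ k j : G ⧸ N, k⁻¹ * j ∉ Q → herm (y k) (y j) = 0 := by
    intro k j hkj
    rw [herm]
    refine Finset.sum_eq_zero fun x _ => ?_
    have hs : ∀ i : G ⧸ N, (y i).coeff x ≠ 0 → i⁻¹ * (QuotientGroup.mk x : G ⧸ N) ∈ Q := by
      intro i hne
      by_contra hni
      refine hne ?_
      show (b i * η).coeff x = 0
      rw [coeff_mul_univ]
      refine Finset.sum_eq_zero fun a _ => ?_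
      by_cases ha : (QuotientGroup.mk a : G ⧸ N) = i
      · rw [hP.η_supp _ (fun h => hni ?_), mul_zero]
        rw [← ha, ← QuotientGroup.mk_inv, ← QuotientGroup.mk_mul]
        exact Subgroup.mem_map_of_mem _ h
      · rw [hbcoeff, if_neg ha, zero_mul]
    by_cases h1 : (y k).coeff x = 0
    · simp [h1]
    by_cases h2 : (y j).coeff x = 0
    · simp [h2]
    refine absurd ?_ hkj
    have := Q.mul_mem (hs k h1) (Q.inv_mem (hs j h2))
    simpa [mul_assoc] using this
  have hrc : ∀ k : G ⧸ N, b k ≠ 0 → (orderOf k).Coprime p := by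
    intro k hk
    have : ∃ x, (b k).coeff x ≠ 0 := by
      by_contra h
      push_neg at h
      exact hk (gaExt fun x => by simpa using h x)
    obtain ⟨x, hx⟩ := this
    rw [hbcoeff] at hx
    split_ifs at hx with h
    · rw [← h]
      exact ((Nat.Prime.coprime_iff_not_dvd hp.out).2
        (not_dvd_orderOf_mk fun hd => hx (hreg x hd))).symm
    · exact absurd rfl hx
  -- nonzero components in the same coset of `L` are conjugate
  have hsame : ∀ k j : G ⧸ N, b k ≠ 0 → b j ≠ 0 → k⁻¹ * j ∈ Q → y j = y k := by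
    intro k j hk hj hkj
    have hkc := hrc k hk
    have hjc := hrc j hj
    have hpow : ∀ a b' : G ⧸ N, (orderOf a).Coprime p → a⁻¹ * b' ∈ Q →
        orderOf a ∣ orderOf b' := by
      intro a b' hac hab
      refine orderOf_dvd_of_pow_eq_one ?_
      refine PBasic.eq_one_of_isPGroup_of_coprime hQ ?_ (hac.coprime_dvd_left (orderOf_pow_dvd _))
      rw [← QuotientGroup.eq_one_iff, QuotientGroup.mk_pow, QuotientGroup.eq.2 hab,
        ← QuotientGroup.mk_pow, pow_orderOf_eq_one, QuotientGroup.mk_one]
    have hjk : j⁻¹ * k ∈ Q := by simpa using Q.inv_mem hkj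
    have hord : orderOf j = orderOf k :=
      Nat.dvd_antisymm (hpow j k hjc hjk) (hpow k j hkc hkj)
    have hcopQ : (Nat.card (Subgroup.zpowers k)).Coprime (Nat.card Q) := by
      obtain ⟨n, hn⟩ := IsPGroup.iff_card.1 hQ
      rw [Nat.card_zpowers, hn]
      exact hkc.pow_right n
    obtain ⟨q, hq, hqe⟩ := SchurZ.conj_in (A := Subgroup.zpowers k) (K := Q)
      (B := Subgroup.zpowers j) (by rw [Subgroup.normalizer_eq_top]; exact le_top) hcopQ
      (Or.inl inferInstance)
      (by
        rw [Subgroup.zpowers_le, sup_comm, show j = k * (k⁻¹ * j) by group]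
        exact Subgroup.mul_mem_sup (Subgroup.mem_zpowers k) hkj)
      (by rw [Nat.card_zpowers, Nat.card_zpowers, hord])
    have hqk : q * k * q⁻¹ ∈ Subgroup.zpowers j := by
      rw [← hqe]
      exact ⟨k, Subgroup.mem_zpowers k, rfl⟩
    have heq : q * k * q⁻¹ = j := by
      refine (inv_mul_eq_one (a := j) (b := q * k * q⁻¹)).1 ?_ |>.symm
      refine PBasic.eq_one_of_isPGroup_of_coprime hQ ?_ (hjc.coprime_dvd_left
        (orderOf_dvd_of_mem_zpowers (Subgroup.mul_mem _ (Subgroup.inv_mem _
          (Subgroup.mem_zpowers j)) hqk)))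
      rw [← QuotientGroup.eq_one_iff]
      simp only [QuotientGroup.mk_mul, QuotientGroup.mk_inv]
      rw [(QuotientGroup.eq_one_iff q).2 hq, QuotientGroup.eq.2 hjk]
      simp
    obtain ⟨v, hv, rfl⟩ := Subgroup.mem_map.1 hq
    rw [← heq]
    exact hconj v hv k
  -- the off-diagonal products are nonnegative
  have hnonneg : ∀ k j : G ⧸ N, 0 ≤ (herm (y k) (y j)).re := by
    intro k j
    by_cases hkj : k⁻¹ * j ∈ Q
    · by_cases hk : b k = 0
      · simp [hydef, hk, herm]
      by_cases hj : b j = 0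
      · simp [hydef, hj, herm]
      rw [hsame k j hk hj hkj, herm_self, Complex.ofReal_re]
      exact Finset.sum_nonneg fun x _ => Complex.normSq_nonneg _
    · simp [horth k j hkj]
  -- the two evaluations of the norm
  have hsum : ∑ k : G ⧸ N, b k = e := sum_partN N e
  have heη : herm (e * η) (e * η) = ∑ k : G ⧸ N, ∑ j : G ⧸ N, herm (y k) (y j) := by
    have h : e * η = ∑ k : G ⧸ N, y k := by
      conv_lhs => rw [← hsum]
      rw [Finset.sum_mul]
    rw [h]
    simp only [herm, MonoidAlgebra.coeff_sum, Finset.sum_apply', map_sum, Finset.sum_mul,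
      Finset.mul_sum]
    rw [Finset.sum_comm]
    refine (Finset.sum_congr rfl fun k _ => Finset.sum_comm).trans ?_
    exact Finset.sum_comm
  have hKsum : herm e e = ∑ k : G ⧸ N, (K k : ℂ) := by
    simp only [hKdef, ← herm_self, herm]
    rw [Finset.sum_comm]
    refine Finset.sum_congr rfl fun x _ => ?_
    simp [hbcoeff]
  have hidem' : e * η * (e * η) = e * η := by
    rw [mul_assoc, ← mul_assoc η, IsClassElt.comm hP.η_class e, mul_assoc e η η, hP.η_idem,
      ← mul_assoc, hi]
  have hone : (e * η).coeff 1 = (c : ℂ) * e.coeff 1 := by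
    have h1 : (e * η).coeff 1 = (c : ℂ) * (e * ε).coeff 1 := by
      rw [coeff_mul_univ, coeff_mul_univ, Finset.mul_sum]
      refine Finset.sum_congr rfl fun a _ => ?_
      by_cases ha : a⁻¹ * 1 ∈ N
      · rw [hP.η_res _ ha]; ring
      · rw [hP.ε_supp _ ha, mul_zero, mul_zero]
        by_cases hL : a⁻¹ * 1 ∈ L
        · rw [mul_one] at ha hL
          have hne : (QuotientGroup.mk a : G ⧸ N) ≠ 1 := fun h =>
            ha (inv_mem ((QuotientGroup.eq_one_iff a).1 h))
          rw [hreg a, zero_mul]
          by_contra hd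
          refine hne (PBasic.eq_one_of_isPGroup_of_coprime hQ
            (Subgroup.mem_map_of_mem _ (inv_mem_iff.1 hL)) ?_)
          exact ((Nat.Prime.coprime_iff_not_dvd hp.out).2 (not_dvd_orderOf_mk hd)).symm
        · rw [hP.η_supp _ hL, mul_zero]
    rw [h1, heε]
  have hzero : ∀ k j : G ⧸ N, j ≠ k → (herm (y k) (y j)).re = 0 := by
    have htot : ∑ k : G ⧸ N, ∑ j ∈ Finset.univ.erase k, (herm (y k) (y j)).re = 0 := by
      have h := coeff_one_eq_herm
        (isStar_of_idem (IsClassElt.mul he hP.η_class) hidem') hidem'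
      rw [hone, coeff_one_eq_herm (isStar_of_idem he hi) hi, hKsum, heη, Finset.mul_sum] at h
      have h' := congrArg Complex.re h
      simp only [Complex.re_sum] at h'
      rw [Finset.sum_congr rfl (fun k _ => (Finset.add_sum_erase _ _ (Finset.mem_univ k)).symm),
        Finset.sum_add_distrib] at h'
      simp only [hdiag] at h'
      linarith
    intro k j hjk
    have h1 := (Finset.sum_eq_zero_iff_of_nonneg
      (fun k _ => Finset.sum_nonneg fun j _ => hnonneg k j)).1 htot k (Finset.mem_univ k)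
    exact (Finset.sum_eq_zero_iff_of_nonneg (fun j _ => hnonneg k j)).1 h1 j
      (Finset.mem_erase.2 ⟨hjk, Finset.mem_univ j⟩)
  -- conclusion
  intro v hv
  by_contra hne
  have h0 := hzero (QuotientGroup.mk g) (QuotientGroup.mk (v * g * v⁻¹)) hne
  rw [show y (QuotientGroup.mk (v * g * v⁻¹)) = y (QuotientGroup.mk g) from
    (hconj v hv (QuotientGroup.mk g) : _), hdiag, Complex.re_ofReal_mul, Complex.ofReal_re] at h0
  have hKpos : 0 < K (QuotientGroup.mk g) := by
    refine Finset.sum_pos' (fun x _ => Complex.normSq_nonneg _) ⟨g, Finset.mem_univ g, ?_⟩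
    rw [hbcoeff, if_pos rfl]
    exact Complex.normSq_pos.2 hg
  exact (mul_pos hP.c_pos hKpos).ne' h0

theorem blockElt_single_coeff {X : Type u} [Group X] [Fintype X] (θ : IrrCharacter X) (x : X) :
    (blockElt ({θ} : Set (IrrCharacter X))).coeff x =
      (Nat.card X : ℂ)⁻¹ * ((θ : X → ℂ) 1 * conj ((θ : X → ℂ) x)) := by
  classical
  rw [coeff_blockElt, blockCoeff_eq_sum]
  congr 1
  simp [Finset.filter_eq']

theorem inclN_eq_single_conj [Fintype N] (θ : IrrCharacter N) (h : G) :
    single h (1 : ℂ) * inclN N (blockElt ({θ} : Set (IrrCharacter N))) =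
      inclN N (blockElt ({cjIrr N h⁻¹ θ} : Set (IrrCharacter N))) * single h (1 : ℂ) := by
  classical
  refine gaExt fun x => ?_
  rw [coeff_single_mul', coeff_mul_single']
  by_cases hx : x * h⁻¹ ∈ N
  · have hx' : h⁻¹ * x ∈ N := (Subgroup.Normal.mem_comm_iff inferInstance).1 hx
    rw [show h⁻¹ * x = ((⟨_, hx'⟩ : N) : G) from rfl, coeff_inclN_coe,
      show x * h⁻¹ = ((⟨_, hx⟩ : N) : G) from rfl, coeff_inclN_coe, blockElt_single_coeff,
      blockElt_single_coeff, cjIrr_apply]
    congr 2
    · exact congrArg (θ : N → ℂ) (Subtype.ext (by simp))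
    · exact congrArg (fun z => conj ((θ : N → ℂ) z)) (Subtype.ext (by simp [mul_assoc]))
  · rw [coeff_inclN_notMem N _ hx, coeff_inclN_notMem N _
      (fun h' => hx ((Subgroup.Normal.mem_comm_iff inferInstance).1 h'))]

theorem exists_pair (hp : Fact p.Prime) [Fintype N] (hN : ¬ p ∣ Nat.card N) {L : Subgroup G}
    [L.Normal] [Fintype L] (hNL : N ≤ L) (hQ : IsPGroup p (L.map (QuotientGroup.mk' N)))
    (θ : IrrCharacter N) (hinv : ∀ x : G, cjIrr N x θ = θ)
    (hεc : IsClassElt (inclN N (blockElt ({θ} : Set (IrrCharacter N))))) :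
    ∃ η c, Pair N L (inclN N (blockElt ({θ} : Set (IrrCharacter N)))) η c := by
  classical
  set N' := N.subgroupOf L with hN'
  obtain ⟨P⟩ : Nonempty (Sylow p L) := inferInstance
  haveI : Fintype N' := Fintype.ofFinite _
  let φ : N' ≃* N := Subgroup.subgroupOfEquivOfLe hNL
  have hQ' : IsPGroup p (L ⧸ N') := by
    refine IsPGroup.of_injective hQ
      (QuotientGroup.lift N' (((QuotientGroup.mk' N).comp L.subtype).codRestrict _
        (fun z => Subgroup.mem_map_of_mem _ z.2))
        (fun z hz => Subtype.ext ((QuotientGroup.eq_one_iff (N := N) (z : G)).2 hz))) ?_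
    rw [← MonoidHom.ker_eq_bot_iff, Subgroup.eq_bot_iff_forall]
    intro z hz
    obtain ⟨w, rfl⟩ := QuotientGroup.mk'_surjective N' z
    exact (QuotientGroup.eq_one_iff w).2
      ((QuotientGroup.eq_one_iff (N := N) (w : G)).1 (congrArg Subtype.val hz))
  have htop : N' ⊔ (P : Subgroup L) = ⊤ := by
    rw [sup_comm]; exact PBasic.sylow_sup_eq_top P hQ'
  have hcard : Nat.card N' = Nat.card N := Nat.card_congr φ.toEquiv
  have hcop : (Nat.card N').Coprime (Nat.card (P : Subgroup L)) := by
    obtain ⟨n, hn⟩ := IsPGroup.iff_card.1 P.isPGroup'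
    rw [hcard, hn]
    exact ((Nat.Prime.coprime_iff_not_dvd hp.out).2 hN).symm.pow_right n
  have hθ' : IsIrrCharacter N' (fun x : N' => (θ : N → ℂ) (φ x)) :=
    IsIrrCharacter.comp θ.2 φ.toMonoidHom φ.surjective
  have hconjθ : ∀ (x : G) (n : N), (θ : N → ℂ) ⟨x * n * x⁻¹, Subgroup.Normal.conj_mem
      inferInstance (n : G) n.2 x⟩ = (θ : N → ℂ) n := fun x n => by
    conv_rhs => rw [← hinv x]
    rfl
  have hinv' : ∀ x : L, conjChar N' x (fun x : N' => (θ : N → ℂ) (φ x)) =
      fun x : N' => (θ : N → ℂ) (φ x) := fun x => funext fun n => hconjθ (x : G) (φ n)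
  obtain ⟨θh, hθh, hres⟩ := GlaubCyc.exists_canon N' (P : Subgroup L) htop hcop hθ' hinv'
  -- invariance of the canonical extension
  have hGinv : ∀ (x : G) (l : L), θh ⟨x * l * x⁻¹, Subgroup.Normal.conj_mem
      inferInstance (l : G) l.2 x⟩ = θh l := by
    intro x l
    have hcan : GlaubCyc.IsCanon (P : Subgroup L) (fun l : L => θh (conjHom L x l)) :=
      ⟨IsIrrCharacter.comp hθh.1 _ (conjHom_surjective L x), by
        rw [DetComp.detOrder_comp _ (conjHom_surjective L x) (IsIrrCharacter.isCharacter hθh.1)]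
        exact hθh.2⟩
    refine congrFun (GlaubCyc.canon_unique N' (P : Subgroup L) htop hcop hθ' hcan hθh
      (fun n => ?_) hres) l
    have hn : (conjHom L x (n : L) : L) ∈ N' :=
      Subgroup.Normal.conj_mem (inferInstance : N.Normal) _ n.2 x
    exact (hres ⟨_, hn⟩).trans (hconjθ x (φ n))
  let χh : IrrCharacter L := ⟨θh, hθh.1⟩
  have hNpos : (0 : ℝ) < Nat.card N := Nat.cast_pos.2 Nat.card_pos
  have hLpos : (0 : ℝ) < Nat.card L := Nat.cast_pos.2 Nat.card_pos
  set η : MonoidAlgebra ℂ G := inclN L (blockElt ({χh} : Set (IrrCharacter L))) with hη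
  refine ⟨η, (Nat.card N : ℝ) / Nat.card L, ?_⟩
  have hone : θh 1 = (θ : N → ℂ) 1 := by
    have := hres 1
    simpa using this
  have hcoef : ∀ n : N, (blockElt ({χh} : Set (IrrCharacter L))).coeff (Subgroup.inclusion hNL n) =
      (((Nat.card N : ℝ) / Nat.card L : ℝ) : ℂ) *
        (blockElt ({θ} : Set (IrrCharacter N))).coeff n := by
    intro n
    rw [blockElt_single_coeff, blockElt_single_coeff]
    have h := hres ⟨Subgroup.inclusion hNL n, n.2⟩
    show (Nat.card L : ℂ)⁻¹ * (θh 1 * conj (θh _)) = _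
    rw [hone, show θh (Subgroup.inclusion hNL n) = (θ : N → ℂ) n from h]
    push_cast
    have h1 : (Nat.card N : ℂ) ≠ 0 := Nat.cast_ne_zero.2 Nat.card_pos.ne'
    field_simp
  have hc : ((((Nat.card N : ℝ) / Nat.card L : ℝ) : ℂ)) ≠ 0 :=
    Complex.ofReal_ne_zero.2 (div_pos hNpos hLpos).ne'
  constructor
  · exact fun g hg => coeff_inclN_notMem N _ hg
  · exact hεc
  · exact fun g hg => coeff_inclN_notMem L _ hg
  · intro g h
    by_cases hg : g ∈ L
    · have hg' : h * g * h⁻¹ ∈ L := Subgroup.Normal.conj_mem inferInstance g hg h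
      rw [show g = ((⟨g, hg⟩ : L) : G) from rfl]
      show η.coeff (((⟨_, hg'⟩ : L) : G)) = _
      rw [hη, coeff_inclN_coe, coeff_inclN_coe, blockElt_single_coeff, blockElt_single_coeff]
      show _ * (_ * conj (θh _)) = _ * (_ * conj (θh _))
      rw [hGinv h ⟨g, hg⟩]
    · rw [hη, coeff_inclN_notMem L _ hg, coeff_inclN_notMem L _ fun h' => hg ?_]
      simpa [mul_assoc] using Subgroup.Normal.conj_mem (inferInstance : L.Normal) _ h' h⁻¹
  · rw [hη, ← map_mul, blockElt_idem]
  · exact div_pos hNpos hLpos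
  · intro n hn
    rw [show n = ((⟨n, hn⟩ : N) : G) from rfl, coeff_inclN_coe, ← hcoef, hη,
      show ((⟨n, hn⟩ : N) : G) = ((Subgroup.inclusion hNL ⟨n, hn⟩ : L) : G) from rfl,
      coeff_inclN_coe]
  · intro v hv
    obtain ⟨z, hz⟩ := exists_generates (Subgroup.inclusion hNL) (Subgroup.inclusion_injective hNL)
      (blockElt_idem ({θ} : Set (IrrCharacter N))) (blockElt_idem ({χh} : Set (IrrCharacter L)))
      hc hcoef (by
        have := hcoef 1
        rw [map_one] at this
        rw [this]
        push_cast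
        have h1 : (Nat.card L : ℂ) ≠ 0 := Nat.cast_ne_zero.2 Nat.card_pos.ne'
        field_simp) ⟨v, hv⟩
    refine ⟨inclN N z, fun g hg => coeff_inclN_notMem N _ hg, ?_⟩
    have h := congrArg (inclN L) hz
    rw [map_mul, map_mul] at h
    rw [show inclN L (single (⟨v, hv⟩ : L) (1 : ℂ)) = single v (1 : ℂ) from single_inclN L _] at h
    rw [h]
    congr 1
    refine MonoidAlgebra.ext ?_
    exact (Finsupp.mapDomain_comp (f := Subgroup.inclusion hNL) (g := L.subtype)).symm

theorem memLocalRing_of_central_of_not_dvd {M : Ideal AlgInt} [M.IsPrime] (hM : IsPModular p M)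
    {X : Type u} [Group X] [Fintype X] (hX : ¬ p ∣ Nat.card X) {x : MonoidAlgebra ℂ X}
    (hx : IsClassElt x) (hi : x * x = x) (g : X) : MemLocalRing M (x.coeff g) := by
  classical
  rw [eq_blockElt_of_idem hx hi, coeff_blockElt, blockCoeff_eq_sum]
  refine (locRing M).mul_mem (inv_natCast_memLocalRing hM hX)
    ((locRing M).sum_mem fun χ _ => (locRing M).mul_mem
      (mem_locRing_of_isIntegral (irr_isIntegral χ 1)) (mem_locRing_of_isIntegral ?_))
  exact IsIntegral.map (starRingEnd ℂ).toIntAlgHom (irr_isIntegral χ g)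

/-- Central idempotents vanishing on the `p`-singular elements have local coefficients. -/
theorem coeff_memLocalRing (m : ℕ) : ∀ (G : Type u) [Group G] [Fintype G] (p : ℕ) [Fact p.Prime]
    (M : Ideal AlgInt) [M.IsPrime], IsPModular p M → Nat.card G ≤ m → IsPSolvable p G →
    ∀ e : MonoidAlgebra ℂ G, IsClassElt e → e * e = e →
      (∀ g, p ∣ orderOf g → e.coeff g = 0) → ∀ g, MemLocalRing M (e.coeff g) := by
  induction m with
  | zero => intro G _ _ p _ M _ _ h; exact absurd h (by simpa using Nat.card_pos (α := G))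
  | succ m ih =>
    intro G _ _ p hp M _ hM hcard hsolv e he hi hreg g
    classical
    set N := Cfsg.pPrimeCore p G with hNdef
    haveI : Fintype N := Fintype.ofFinite _
    have hN : ¬ p ∣ Nat.card N :=
      (Nat.Prime.coprime_iff_not_dvd hp.out).1 (PBasic.pPrimeCore_coprime p G).symm
    let ε : IrrCharacter N → MonoidAlgebra ℂ G := fun θ =>
      inclN N (blockElt ({θ} : Set (IrrCharacter N)))
    have hsum : ∑ θ : IrrCharacter N, ε θ = 1 := by
      have h : (1 : MonoidAlgebra ℂ N) = ∑ θ : IrrCharacter N, blockElt {θ} := by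
        conv_lhs => rw [classElt_eq_sum (IsClassElt.one (R := ℂ) (G := N))]
        simp [omega_one]
      show ∑ θ : IrrCharacter N, inclN N (blockElt {θ}) = 1
      rw [← map_sum, ← h, map_one]
    suffices hkey : ∀ θ : IrrCharacter N, MemLocalRing M ((e * ε θ).coeff g) by
      have h : e.coeff g = ∑ θ : IrrCharacter N, (e * ε θ).coeff g := by
        conv_lhs => rw [← mul_one e, ← hsum, Finset.mul_sum]
        rw [MonoidAlgebra.coeff_sum, Finset.sum_apply']
      rw [h]
      exact memLocalRing_sum _ _ fun θ _ => hkey θ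
    intro θ
    set f := e * ε θ with hf
    set T := inertia N (θ : N → ℂ) with hT
    have hεi : ε θ * ε θ = ε θ := by
      show inclN N _ * inclN N _ = inclN N _
      rw [← map_mul, blockElt_idem]
    have hec : ∀ w, e * w = w * e := fun w => IsClassElt.comm he w
    have hfi : f * f = f := by
      rw [hf, mul_assoc, ← mul_assoc (ε θ), ← hec, ← mul_assoc, ← mul_assoc, hi, mul_assoc, hεi]
    have hfix : ∀ t : G, t ∈ T → cjIrr N t θ = θ := fun t ht => Subtype.ext ht
    have hfT : ∀ t : G, t ∈ T → ∀ x, f.coeff (t * x * t⁻¹) = f.coeff x := by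
      intro t ht x
      have h : single t (1 : ℂ) * f = f * single t (1 : ℂ) := by
        rw [hf, ← mul_assoc, ← hec, mul_assoc, mul_assoc, inclN_eq_single_conj,
          hfix _ (T.inv_mem ht)]
      have h' := congrArg (fun w : MonoidAlgebra ℂ G => w.coeff (t * x)) h
      simp only [coeff_single_mul', coeff_mul_single', inv_mul_cancel_left] at h'
      exact h'.symm
    have hfreg : ∀ x, p ∣ orderOf x → f.coeff x = 0 := by
      intro x hx
      rw [hf, coeff_mul_univ]
      refine Finset.sum_eq_zero fun a _ => ?_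
      by_cases ha : a⁻¹ * x ∈ N
      · rw [hreg a, zero_mul]
        by_contra hd
        refine not_dvd_orderOf_of_mk hp.out N hN ?_ hx
        rw [← (QuotientGroup.eq.2 ha : (QuotientGroup.mk a : G ⧸ N) = QuotientGroup.mk x)]
        exact not_dvd_orderOf_mk hd
      · rw [coeff_inclN_notMem N _ ha, mul_zero]
    have hfsupp : ∀ x, x ∉ T → f.coeff x = 0 := by
      intro x hx
      have hff : f = ε θ * e * ε θ := by rw [hf, ← hec, mul_assoc, hεi]
      have hexp : ε θ * e * ε θ = ∑ a : G, e.coeff a • (ε θ * single a (1 : ℂ) * ε θ) := by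
        conv_lhs => rw [← MonoidAlgebra.sum_coeff_single e, Finsupp.sum_fintype _ _ (by simp)]
        rw [Finset.mul_sum, Finset.sum_mul]
        refine Finset.sum_congr rfl fun a _ => ?_
        rw [show single a (e.coeff a) = e.coeff a • single a (1 : ℂ) by simp, mul_smul_comm,
          smul_mul_assoc]
      rw [hff, hexp, MonoidAlgebra.coeff_sum, Finset.sum_apply']
      refine Finset.sum_eq_zero fun a _ => ?_
      by_cases ha : a ∈ T
      · have hz : (ε θ * single a (1 : ℂ) * ε θ).coeff x = 0 := by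
          rw [mul_assoc, inclN_eq_single_conj, hfix _ (T.inv_mem ha), ← mul_assoc, hεi,
            coeff_mul_single', coeff_inclN_notMem]
          intro hn
          have hmem : x * a⁻¹ * a ∈ T := T.mul_mem
            (le_inertia N (IsCharacter.isClassFunction (irr_isCharacter θ)) hn) ha
          exact hx (by simpa using hmem)
        simp [hz]
      · have hz : ε θ * single a (1 : ℂ) * ε θ = 0 := by
          rw [mul_assoc, inclN_eq_single_conj, ← mul_assoc]
          show inclN N _ * inclN N _ * _ = 0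
          rw [← map_mul, blockElt_mul_of_disjoint, map_zero, zero_mul]
          rw [Set.disjoint_singleton]
          intro h
          exact ha (T.inv_mem_iff.1 (congrArg Subtype.val h.symm))
        simp [hz]
    haveI : Fintype T := Fintype.ofFinite _
    by_cases hTtop : T = ⊤
    · -- the invariant case
      have hTmem : ∀ x : G, x ∈ T := fun x => hTtop ▸ Subgroup.mem_top x
      have hεc : IsClassElt (ε θ) := fun a b => by
        have h := congrArg (fun w : MonoidAlgebra ℂ G => w.coeff (b * a))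
          (show single b (1 : ℂ) * ε θ = ε θ * single b (1 : ℂ) by
            show single b (1 : ℂ) * inclN N _ = _
            rw [inclN_eq_single_conj, hfix _ (hTmem b⁻¹)])
        simp only [coeff_single_mul', coeff_mul_single', inv_mul_cancel_left] at h
        exact h.symm
      have hfc : IsClassElt f := fun a b => hfT b (hTmem b) a
      set Q := Cfsg.pCore p (G ⧸ N) with hQdef
      set L := Q.comap (QuotientGroup.mk' N) with hLdef
      have hNL : N ≤ L := fun x hx => by
        show (QuotientGroup.mk x : G ⧸ N) ∈ Q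
        rw [(QuotientGroup.eq_one_iff x).2 hx]; exact Q.one_mem
      haveI : Fintype L := Fintype.ofFinite _
      have hmap : L.map (QuotientGroup.mk' N) = Q :=
        Subgroup.map_comap_eq_self_of_surjective (QuotientGroup.mk'_surjective N) Q
      have hQp : IsPGroup p (L.map (QuotientGroup.mk' N)) := by
        rw [hmap]; exact PBasic.pCore_isPGroup p _
      obtain ⟨η, c, hP⟩ := exists_pair N hp hN hNL hQp θ (fun x => hfix x (hTmem x)) hεc
      have hfε : f * ε θ = f := by rw [hf, mul_assoc, hεi]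
      have hfN : ∀ x, x ∉ N → f.coeff x = 0 := by
        intro x hx
        by_contra hne
        have hcom := supp_commute N hp hN hNL hQp hP hfc hfi hfε hfreg hne
        refine hx ((QuotientGroup.eq_one_iff x).1
          (PBasic.eq_one_of_isPGroup_of_coprime (PBasic.pCore_isPGroup p (G ⧸ N))
            (PSolvable.centralizer_pCore_le (PSolvable.quotient N hsolv)
              (PBasic.pPrimeCore_quotient_pPrimeCore p G) ?_) ?_))
        · rw [Subgroup.mem_centralizer_iff]
          intro q hq
          obtain ⟨v, rfl⟩ := QuotientGroup.mk'_surjective N q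
          have h := hcom v hq
          rw [QuotientGroup.mk_mul, QuotientGroup.mk_mul, QuotientGroup.mk_inv] at h
          exact mul_inv_eq_iff_eq_mul.1 h
        · exact ((Nat.Prime.coprime_iff_not_dvd hp.out).2
            (not_dvd_orderOf_mk fun hd => hne (hfreg x hd))).symm
      by_cases hg : g ∈ N
      · have := memLocalRing_of_central_of_not_dvd (M := M) hM hN
          (IsClassElt.restrictElt hfc N) (by
            rw [← restrictElt_mul_of_support N hfN, hfi]) ⟨g, hg⟩
        simpa [coeff_restrictElt] using this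
      · rw [hfN g hg]; exact (locRing M).zero_mem
    · by_cases hg : g ∈ T
      · have hlt : Nat.card T < Nat.card G :=
          lt_of_le_of_ne (Subgroup.card_le_card_group T)
            fun h => hTtop (Subgroup.eq_top_of_card_eq T h)
        have := ih T p M hM (by omega) (PSolvable.subgroup T hsolv) (restrictElt T f)
          (fun a b => by simpa [coeff_restrictElt] using hfT (b : G) b.2 (a : G))
          (by rw [← restrictElt_mul_of_support T hfsupp, hfi])
          (fun x hx => by
            rw [coeff_restrictElt]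
            exact hfreg _ (by rwa [Subgroup.orderOf_coe])) ⟨g, hg⟩
        simpa [coeff_restrictElt] using this
      · rw [hfsupp g hg]; exact (locRing M).zero_mem

end Main

end Cfsg.Agent.RegularIdem
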