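/-
The number of blocks with a given normal defect group as a rank over the field with p elements
(Robinson).
-/
import Cfsg.Agent.Lib.Blocks.Defect
import Cfsg.Agent.Lib.Blocks.Degree
import Mathlib.LinearAlgebra.Matrix.Rank
import Mathlib.LinearAlgebra.Matrix.Transvection

set_option linter.unusedSectionVars false
set_option linter.style.haveILetI false

namespace Cfsg.Agent.Blocks.Robinson

open Cfsg Cfsg.Agent.Char Cfsg.Agent.Blocks
open scoped ComplexConjugate

/-! ## Linear algebra -/

section Matrix

open _root_.Matrix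

variable {K L : Type*} [Field K] [Field L] {ι : Type*} [Fintype ι] [DecidableEq ι]

/-- The rank of a square matrix does not change under a field extension. -/
theorem rank_map_ringHom (f : K →+* L) (A : Matrix ι ι K) : (A.map f).rank = A.rank := by
  classical
  obtain ⟨T, T', w, hA⟩ :=
    Matrix.Pivot.exists_list_transvec_mul_diagonal_mul_list_transvec A
  set P := (T.map TransvectionStruct.toMatrix).prod with hP
  set P' := (T'.map TransvectionStruct.toMatrix).prod with hP'
  have d1 : IsUnit P.det := by rw [hP, TransvectionStruct.det_toMatrix_prod]; exact isUnit_one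
  have d2 : IsUnit P'.det := by rw [hP', TransvectionStruct.det_toMatrix_prod]; exact isUnit_one
  have e1 : IsUnit (P.map f).det := by
    rw [← RingHom.mapMatrix_apply, ← RingHom.map_det]; exact d1.map f
  have e2 : IsUnit (P'.map f).det := by
    rw [← RingHom.mapMatrix_apply, ← RingHom.map_det]; exact d2.map f
  rw [hA, Matrix.map_mul, Matrix.map_mul, Matrix.rank_mul_eq_left_of_isUnit_det _ _ e2,
    Matrix.rank_mul_eq_right_of_isUnit_det _ _ e1, Matrix.rank_mul_eq_left_of_isUnit_det _ _ d2,
    Matrix.rank_mul_eq_right_of_isUnit_det _ _ d1, Matrix.diagonal_map (map_zero f),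
    Matrix.rank_diagonal, Matrix.rank_diagonal]
  exact Fintype.card_congr (Equiv.subtypeEquivRight fun i => by simp)

/-- A product through a split injection and its retraction has full inner rank. -/
theorem rank_split {τ : Type*} [Fintype τ] [DecidableEq τ] (U : Matrix ι τ K) (R : Matrix τ ι K)
    (u : ι → K) (hu : ∀ i, u i ≠ 0) (h : R * U = 1) :
    (U * R * Matrix.diagonal u).rank = Fintype.card τ := by
  have hd : IsUnit (Matrix.diagonal u).det := by
    rw [Matrix.det_diagonal, isUnit_iff_ne_zero]
    exact Finset.prod_ne_zero_iff.2 fun i _ => hu i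
  rw [Matrix.rank_mul_eq_left_of_isUnit_det _ _ hd]
  refine le_antisymm ((Matrix.rank_mul_le_left _ _).trans (Matrix.rank_le_card_width _)) ?_
  calc Fintype.card τ = (R * (U * R) * U).rank := by
        rw [← Matrix.mul_assoc, h, Matrix.one_mul, h, Matrix.rank_one]
    _ ≤ (R * (U * R)).rank := Matrix.rank_mul_le_left _ _
    _ ≤ (U * R).rank := Matrix.rank_mul_le_right _ _

end Matrix

universe u

variable {G : Type u} [Group G] [Fintype G] {p : ℕ} {M : Ideal AlgInt} [M.IsPrime]

/-! ## Characters on a translated class -/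

/-- The sum of an irreducible character over a translate of a class. -/
theorem sum_class_translate (χ : IrrCharacter G) (s k : G) :
    ∑ y ∈ classFinset k, (χ : G → ℂ) (s * y) =
      centralChar (χ : G → ℂ) k * (χ : G → ℂ) s := by
  obtain ⟨f, hf⟩ := χ
  obtain ⟨n, ρ, hρ, rfl⟩ := hf
  haveI := hρ
  have hfin : Module.finrank ℂ (Fin n → ℂ) = n := by simp
  have h1 : ∑ y ∈ classFinset k, ρ.character (s * y) =
      LinearMap.trace ℂ (Fin n → ℂ) (ρ s * ∑ y ∈ classFinset k, ρ y) := by
    rw [Finset.mul_sum, map_sum]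
    refine Finset.sum_congr rfl fun y _ => ?_
    rw [← map_mul]
    rfl
  have h2 : ρ.character 1 = (n : ℂ) := by rw [Representation.char_one, hfin]
  show ∑ y ∈ classFinset k, ρ.character (s * y) = centralChar ρ.character k * ρ.character s
  rw [h1, classSum_scalar, mul_smul_comm, map_smul, smul_eq_mul, centralChar, h2, hfin]
  rfl

open scoped Classical in
/-- The indicator of a class through the irreducible characters. -/
theorem ite_isConj_eq (l x : G) :
    (if IsConj l x then (1 : ℂ) else 0) =
      ((Subgroup.centralizer ({l} : Set G)).index : ℂ) / Nat.card G *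
        ∑ χ : IrrCharacter G, (χ : G → ℂ) x * conj ((χ : G → ℂ) l) := by
  split_ifs with h
  · have hx : ∀ χ : IrrCharacter G, (χ : G → ℂ) x = (χ : G → ℂ) l :=
      fun χ => (irr_isConj χ h).trans rfl
    simp only [hx]
    rw [column_orth_of_isConj (IsConj.refl l)]
    have h1 := congrArg (Nat.cast : ℕ → ℂ)
      (Subgroup.centralizer ({l} : Set G)).card_mul_index
    push_cast at h1
    have hG : (Nat.card G : ℂ) ≠ 0 := Nat.cast_ne_zero.2 Nat.card_pos.ne'
    rw [div_mul_eq_mul_div, mul_comm, h1, div_self hG]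
  · rw [column_orth_of_not_isConj (fun hc => h hc.symm), mul_zero]

open scoped Classical in
/-- The number of pairs in two classes whose quotient lies in a subgroup, through the
irreducible characters. -/
theorem card_pairs_eq (S : Subgroup G) [Fintype S] (k l : G) (m : IrrCharacter G → ℕ)
    (hm : ∀ χ : IrrCharacter G, ∑ x : S, (χ : G → ℂ) x = (Nat.card S : ℂ) * m χ) :
    (Nat.card {yz : G × G // IsConj k yz.1 ∧ IsConj l yz.2 ∧ yz.2 * yz.1⁻¹ ∈ S} : ℂ) =
      ((Subgroup.centralizer ({l} : Set G)).index : ℂ) * (((Nat.card S : ℂ) / Nat.card G) *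
        ∑ χ : IrrCharacter G, centralChar (χ : G → ℂ) k * (conj ((χ : G → ℂ) l) * m χ)) := by
  let e : {yz : G × G // IsConj k yz.1 ∧ IsConj l yz.2 ∧ yz.2 * yz.1⁻¹ ∈ S} ≃
      {sy : S × G // IsConj k sy.2 ∧ IsConj l ((sy.1 : G) * sy.2)} :=
    { toFun := fun w => ⟨(⟨w.1.2 * w.1.1⁻¹, w.2.2.2⟩, w.1.1), w.2.1, by
        simpa using w.2.2.1⟩
      invFun := fun w => ⟨(w.1.2, (w.1.1 : G) * w.1.2), w.2.1, w.2.2, by simp⟩
      left_inv := fun w => by ext <;> simp
      right_inv := fun w => by ext <;> simp }
  rw [Nat.card_congr e, Nat.card_eq_fintype_card, Fintype.card_subtype,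
    Finset.natCast_card_filter, Fintype.sum_prod_type]
  have h1 : ∀ s : S, (∑ y : G, if IsConj k y ∧ IsConj l ((s : G) * y) then (1 : ℂ) else 0) =
      ((Subgroup.centralizer ({l} : Set G)).index : ℂ) / Nat.card G *
        ∑ χ : IrrCharacter G, centralChar (χ : G → ℂ) k * (χ : G → ℂ) s * conj ((χ : G → ℂ) l) := by
    intro s
    rw [Finset.sum_congr rfl fun y _ => ite_and (IsConj k y) (IsConj l ((s : G) * y)) (1 : ℂ) 0,
      ← Finset.sum_filter]
    rw [show Finset.univ.filter (fun y => IsConj k y) = classFinset k by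
      ext; simp [mem_classFinset]]
    simp only [ite_isConj_eq, ← Finset.mul_sum]
    rw [Finset.sum_comm]
    congr 1
    refine Finset.sum_congr rfl fun χ _ => ?_
    rw [← Finset.sum_mul, sum_class_translate]
  rw [Finset.sum_congr rfl fun s _ => h1 s, ← Finset.mul_sum, Finset.sum_comm]
  have h2 : ∀ χ : IrrCharacter G,
      ∑ s : S, centralChar (χ : G → ℂ) k * (χ : G → ℂ) s * conj ((χ : G → ℂ) l) =
        (Nat.card S : ℂ) * (centralChar (χ : G → ℂ) k * (conj ((χ : G → ℂ) l) * m χ)) := by
    intro χ
    rw [← Finset.sum_mul, ← Finset.mul_sum, hm]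
    ring
  rw [Finset.sum_congr rfl fun χ _ => h2 χ, ← Finset.mul_sum]
  ring

/-! ## Blocks containing a normal p-subgroup -/

theorem le_blockDefect (hM : IsPModular p M) {B : Set (IrrCharacter G)} (hB : IsPBlock M B)
    (D : Subgroup G) [D.Normal] (hD : IsPGroup p D) :
    (Nat.card D).factorization p ≤ blockDefect p B := by
  haveI := Fact.mk hM.1
  obtain ⟨E, hE⟩ := exists_isDefectGroup (M := M) (p := p) hB
  have h := Subgroup.card_dvd_of_le (le_defectGroup_of_normal hM hB hE D hD)
  rw [card_defectGroup hM hB hE] at h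
  have := (Nat.factorization_le_iff_dvd Nat.card_pos.ne' (pow_ne_zero _ hM.1.ne_zero)).2 h p
  rwa [hM.1.factorization_pow, Finsupp.single_eq_same] at this

theorem isDefectGroup_iff_of_normal (hM : IsPModular p M) {B : Set (IrrCharacter G)}
    (hB : IsPBlock M B) (D : Subgroup G) [D.Normal] (hD : IsPGroup p D) :
    IsDefectGroup p M B D ↔ blockDefect p B = (Nat.card D).factorization p := by
  haveI := Fact.mk hM.1
  refine ⟨fun h => ?_, fun h => ?_⟩
  · rw [card_defectGroup hM hB h, hM.1.factorization_pow, Finsupp.single_eq_same]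
  · obtain ⟨E, hE⟩ := exists_isDefectGroup (M := M) (p := p) hB
    obtain ⟨n, hn⟩ := IsPGroup.iff_card.1 hD
    have hle := le_defectGroup_of_normal hM hB hE D hD
    have : Nat.card E ≤ Nat.card D := by
      rw [card_defectGroup hM hB hE, h, hn, hM.1.factorization_pow, Finsupp.single_eq_same]
    rwa [Subgroup.eq_of_le_of_card_ge hle this]

theorem classExp_isConj {g h : G} (hgh : IsConj g h) : classExp p g = classExp p h := by
  obtain ⟨c, rfl⟩ := isConj_iff.1 hgh
  rw [classExp, classExp, card_centralizer_conj]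

theorem classExp_eq_of_sylow [Fact p.Prime] {D : Subgroup G} {x : G}
    (Q : Sylow p (Subgroup.centralizer ({x} : Set G)))
    (hQ : (Q : Subgroup (Subgroup.centralizer ({x} : Set G))).map
      (Subgroup.centralizer ({x} : Set G)).subtype = D) :
    classExp p x = (Nat.card D).factorization p := by
  rw [← hQ, Subgroup.card_map_of_injective (Subgroup.subtype_injective _),
    Sylow.card_eq_multiplicity, (Fact.out : p.Prime).factorization_pow, Finsupp.single_eq_same]
  rfl

theorem exists_sylow_map_eq [Fact p.Prime] {D : Subgroup G} (hD : IsPGroup p D) {x : G}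
    (hx : x ∈ Subgroup.centralizer (D : Set G))
    (hd : classExp p x = (Nat.card D).factorization p) :
    ∃ Q : Sylow p (Subgroup.centralizer ({x} : Set G)),
      (Q : Subgroup (Subgroup.centralizer ({x} : Set G))).map
        (Subgroup.centralizer ({x} : Set G)).subtype = D := by
  have hle : D ≤ Subgroup.centralizer ({x} : Set G) := fun u hu => le_centralizer_singleton hx hu
  obtain ⟨n, hn⟩ := IsPGroup.iff_card.1 hD
  have hc : Nat.card (D.subgroupOf (Subgroup.centralizer ({x} : Set G))) =
      p ^ (Nat.card (Subgroup.centralizer ({x} : Set G))).factorization p := by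
    rw [Nat.card_congr (Subgroup.subgroupOfEquivOfLe hle).toEquiv, hn]
    rw [hn, (Fact.out : p.Prime).factorization_pow, Finsupp.single_eq_same, classExp] at hd
    rw [hd]
  exact ⟨Sylow.ofCard _ hc, Subgroup.map_subgroupOf_eq_of_le hle⟩

/-! ## The congruence for the counting matrix -/

open scoped Classical in
theorem card_pairs_congr (hM : IsPModular p M) (D : Subgroup G) [D.Normal] (hD : IsPGroup p D)
    (S : Sylow p G) {k l : G} (hk : classExp p k = (Nat.card D).factorization p)
    (hl : ¬ p ∣ orderOf l) (hle : classExp p l = (Nat.card D).factorization p)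
    (c : Set (IrrCharacter G) → IrrCharacter G) (hc : ∀ B, IsPBlock M B → c B ∈ B) :
    let q := p ^ ((Nat.card G).factorization p - (Nat.card D).factorization p)
    let n := Nat.card {yz : G × G // IsConj k yz.1 ∧ IsConj l yz.2 ∧
      yz.2 * yz.1⁻¹ ∈ (S : Subgroup G)}
    MemLocalIdeal M (((n / q : ℕ) : ℂ) -
      ((Subgroup.centralizer ({l} : Set G)).index : ℂ) / q *
        ∑ B ∈ (blocks M G).filter (fun B => blockDefect p B = (Nat.card D).factorization p),
          centralChar (c B : G → ℂ) k * blockCoeff B l) := by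
  intro q n
  haveI := Fact.mk hM.1
  set d := (Nat.card D).factorization p with hd
  set idx := (Subgroup.centralizer ({l} : Set G)).index with hidx
  choose m hm using exists_sum_subgroup_eq (G := G) (S : Subgroup G)
  have hq0 : q ≠ 0 := pow_ne_zero _ hM.1.ne_zero
  have hqC : (q : ℂ) ≠ 0 := Nat.cast_ne_zero.2 hq0
  have hiv : idx.factorization p = (Nat.card G).factorization p - d := by
    rw [hidx, index_centralizer_factorization, hle]
  have hqv : q.factorization p = (Nat.card G).factorization p - d := by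
    simp only [q, hM.1.factorization_pow, Finsupp.single_eq_same, hd]
  have hiu : MemLocalRing M ((idx : ℂ) / q) := memLocalRing_natDiv hM (by rw [hqv, hiv])
  have hSG : MemLocalRing M ((Nat.card (S : Subgroup G) : ℂ) / Nat.card G) := by
    refine memLocalRing_natDiv hM (le_of_eq ?_)
    rw [Sylow.card_eq_multiplicity, hM.1.factorization_pow, Finsupp.single_eq_same]
  let x : IrrCharacter G → ℂ := fun χ => conj ((χ : G → ℂ) l) * m χ
  have hx : ∀ χ, MemLocalRing M (x χ) := fun χ => mem_locRing.1 ((locRing M).mul_mem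
    (conj_irr_memLocalRing χ l) (natCast_mem (locRing M) _))
  let sG : ℂ := (Nat.card (S : Subgroup G) : ℂ) / Nat.card G
  let T : ℂ := ∑ χ : IrrCharacter G, centralChar (χ : G → ℂ) k * x χ
  have hn : (n : ℂ) / q = (idx : ℂ) / q * (sG * T) := by
    rw [show (n : ℂ) = (idx : ℂ) * (sG * T) from card_pairs_eq (S : Subgroup G) k l m hm]
    ring
  have hnR : MemLocalRing M ((n : ℂ) / q) := by
    rw [hn]
    refine mem_locRing.1 ((locRing M).mul_mem hiu ((locRing M).mul_mem hSG
      ((locRing M).sum_mem fun χ _ => (locRing M).mul_mem (centralChar_memLocalRing χ k) (hx χ))))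
  have hdvd : q ∣ n := by
    by_cases hn0 : n = 0
    · rw [hn0]; exact dvd_zero _
    refine (hM.1.pow_dvd_iff_le_factorization hn0).2 (not_lt.1 fun hlt => ?_)
    have h1 := MemLocalIdeal.mul_left hnR (memLocalIdeal_natDiv hM (m := n) (n := q)
      (by rw [hqv]; exact hlt))
    rw [div_mul_div_cancel₀ hqC, div_self (Nat.cast_ne_zero.2 hn0)] at h1
    exact not_memLocalIdeal_one h1
  rw [Nat.cast_div hdvd hqC, hn, ← mul_sub]
  refine MemLocalIdeal.mul_left hiu ?_
  -- split into blocks
  have hT : T = ∑ B ∈ blocks M G, ∑ χ ∈ Finset.univ.filter (· ∈ B),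
      centralChar (χ : G → ℂ) k * x χ := by
    rw [show T = ∑ χ : IrrCharacter G, centralChar (χ : G → ℂ) k * x χ from rfl]
    rw [← Finset.sum_fiberwise_of_maps_to (t := blocks M G)
      (g := fun χ : IrrCharacter G => blockOf M (χ : G → ℂ))
      (fun χ _ => mem_blocks.2 (isPBlock_blockOf χ))]
    refine Finset.sum_congr rfl fun B hB => Finset.sum_congr ?_ fun _ _ => rfl
    ext χ
    simp only [Finset.mem_filter, Finset.mem_univ, true_and]
    exact ⟨fun h => h ▸ self_mem_blockOf χ,
      fun h => (isPBlock_eq_blockOf (mem_blocks.1 hB) h).symm⟩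
  have key : ∀ B, IsPBlock M B →
      MemLocalIdeal M (sG * ∑ χ ∈ Finset.univ.filter (· ∈ B), centralChar (χ : G → ℂ) k * x χ -
        centralChar (c B : G → ℂ) k * blockCoeff B l) := by
    intro B hB
    rw [blockCoeff_eq_regular hM hB S.isPGroup' hl m hm]
    have : sG * ∑ χ ∈ Finset.univ.filter (· ∈ B), centralChar (χ : G → ℂ) k * x χ -
        centralChar (c B : G → ℂ) k * (sG * ∑ χ ∈ Finset.univ.filter (· ∈ B), x χ) =
        sG * ∑ χ ∈ Finset.univ.filter (· ∈ B),
          (centralChar (χ : G → ℂ) k - centralChar (c B : G → ℂ) k) * x χ := by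
      simp only [sub_mul, Finset.sum_sub_distrib, Finset.mul_sum, mul_sub]
      congr 1
      exact Finset.sum_congr rfl fun χ _ => by ring
    rw [this]
    exact MemLocalIdeal.mul_left hSG (memLocalIdeal_sum _ _ fun χ hχ => MemLocalIdeal.mul_right
      (isPBlock_sameBlock hB (Finset.mem_filter.1 hχ).2 (hc B hB) k) (hx χ))
  have h1 : MemLocalIdeal M (∑ B ∈ blocks M G,
      (sG * (∑ χ ∈ Finset.univ.filter (· ∈ B), centralChar (χ : G → ℂ) k * x χ) -
        centralChar (c B : G → ℂ) k * blockCoeff B l)) :=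
    memLocalIdeal_sum _ _ fun B hB => key B (mem_blocks.1 hB)
  have h2 : MemLocalIdeal M (∑ B ∈ (blocks M G).filter (fun B => ¬ blockDefect p B = d),
      centralChar (c B : G → ℂ) k * blockCoeff B l) := by
    refine memLocalIdeal_sum _ _ fun B hB => ?_
    obtain ⟨hB1, hB2⟩ := Finset.mem_filter.1 hB
    have hBB := mem_blocks.1 hB1
    refine MemLocalIdeal.mul_right ?_ (blockCoeff_memLocalRing hBB l)
    by_contra hw
    obtain ⟨g, hg⟩ := exists_defectClass hBB
    have h3 := classExp_le hM hBB (hc B hBB) hw hg.2.1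
    rw [← blockDefect_eq_classExp hM hBB hg, hk] at h3
    exact hB2 (le_antisymm h3 (le_blockDefect hM hBB D hD))
  have h4 := MemLocalIdeal.add h1 h2
  rw [Finset.sum_sub_distrib, ← Finset.mul_sum, ← hT,
    ← Finset.sum_filter_add_sum_filter_not (blocks M G) (fun B => blockDefect p B = d),
    ← sub_sub, sub_add_cancel] at h4
  exact h4

/-! ## The rank formula -/

open scoped Classical in
theorem card_blocks_eq_rank [Fact p.Prime] (hM : IsPModular p M) (D : Subgroup G) [D.Normal]
    (hD : IsPGroup p D) (S : Sylow p G) {ι : Type*} [Fintype ι] [DecidableEq ι]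
    (K : ι → ConjClasses G) (hKinj : Function.Injective K)
    (hK : ∀ C : ConjClasses G, (∃ i, K i = C) ↔ ∃ x ∈ C.carrier, ¬ p ∣ orderOf x ∧
      ∃ Q : Sylow p (Subgroup.centralizer ({x} : Set G)),
        (Q : Subgroup (Subgroup.centralizer ({x} : Set G))).map
          (Subgroup.centralizer ({x} : Set G)).subtype = D) :
    Nat.card {B : Set (IrrCharacter G) // IsPBlock M B ∧ IsDefectGroup p M B D} =
      (Matrix.of fun i j : ι => ((Nat.card {yz : G × G // yz.1 ∈ (K i).carrier ∧
        yz.2 ∈ (K j).carrier ∧ yz.2 * yz.1⁻¹ ∈ (S : Subgroup G)} /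
          p ^ ((Nat.card G).factorization p - (Nat.card D).factorization p) : ℕ) : ZMod p)).rank := by
  haveI : Finite (ConjClasses G) := Finite.of_surjective _ ConjClasses.mk_surjective
  haveI : Fintype (ConjClasses G) := Fintype.ofFinite _
  haveI : CharP (resField M) p := resField_charP hM
  set d := (Nat.card D).factorization p with hd
  choose k hk hkr Q hQ using fun i : ι => (hK (K i)).1 ⟨i, rfl⟩
  have hkmk : ∀ i, ConjClasses.mk (k i) = K i := fun i => ConjClasses.mem_carrier_iff_mk_eq.1 (hk i)
  have hke : ∀ i, classExp p (k i) = d := fun i => classExp_eq_of_sylow (Q i) (hQ i)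
  have hmem : ∀ i (y : G), y ∈ (K i).carrier ↔ IsConj (k i) y := fun i y => by
    rw [← hkmk i, ConjClasses.mem_carrier_iff_mk_eq, ConjClasses.mk_eq_mk_iff_isConj, isConj_comm]
  -- blocks
  let τ := {B : Set (IrrCharacter G) // IsPBlock M B ∧ blockDefect p B = d}
  haveI : Fintype τ := Fintype.ofFinite τ
  have hcard : Nat.card {B : Set (IrrCharacter G) // IsPBlock M B ∧ IsDefectGroup p M B D} =
      Fintype.card τ := by
    rw [← Nat.card_eq_fintype_card]
    exact Nat.card_congr (Equiv.subtypeEquivRight fun B => ⟨fun h => ⟨h.1,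
      (isDefectGroup_iff_of_normal hM h.1 D hD).1 h.2⟩, fun h => ⟨h.1,
      (isDefectGroup_iff_of_normal hM h.1 D hD).2 h.2⟩⟩)
  obtain ⟨χ₀⟩ : Nonempty (IrrCharacter G) := ⟨Cfsg.Agent.Char.principal G⟩
  let c : Set (IrrCharacter G) → IrrCharacter G := fun B =>
    if h : B.Nonempty then h.choose else χ₀
  have hc : ∀ B, IsPBlock M B → c B ∈ B := fun B hB => by
    simp only [c, dif_pos (isPBlock_nonempty hB)]
    exact (isPBlock_nonempty hB).choose_spec
  let q := p ^ ((Nat.card G).factorization p - d)
  have hq0 : (q : ℂ) ≠ 0 := Nat.cast_ne_zero.2 (pow_ne_zero _ hM.1.ne_zero)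
  have hqv : ∀ i, q.factorization p =
      (Subgroup.centralizer ({k i} : Set G)).index.factorization p := fun i => by
    rw [index_centralizer_factorization, hke]
    simp only [q, hM.1.factorization_pow, Finsupp.single_eq_same]
  let U : Matrix ι τ (resField M) := Matrix.of fun i B =>
    res M ⟨centralChar (c B.1 : G → ℂ) (k i), centralChar_memLocalRing _ _⟩
  let R : Matrix τ ι (resField M) := Matrix.of fun B i =>
    res M ⟨blockCoeff B.1 (k i), blockCoeff_memLocalRing B.2.1 _⟩
  let u : ι → resField M := fun i =>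
    res M ⟨((Subgroup.centralizer ({k i} : Set G)).index : ℂ) / q,
      memLocalRing_natDiv hM (hqv i).le⟩
  have hu : ∀ i, u i ≠ 0 := fun i h => by
    have h1 := MemLocalIdeal.mul_left (memLocalRing_natDiv hM (hqv i).ge) (res_eq_zero_iff.1 h)
    rw [div_mul_div_cancel₀ (Nat.cast_ne_zero.2 Subgroup.index_ne_zero_of_finite),
      div_self hq0] at h1
    exact not_memLocalIdeal_one h1
  -- independence
  have hRU : R * U = 1 := by
    ext A B
    simp only [Matrix.mul_apply, R, U, Matrix.of_apply, Matrix.one_apply, ← map_mul, ← map_sum]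
    have e : (if A = B then 1 else 0 : resField M) =
        res M (if A = B then 1 else 0 : locRing M) := by split_ifs <;> simp
    rw [e, res_eq_res_iff]
    have hdef : blockOf M (c B.1 : G → ℂ) = B.1 :=
      (isPBlock_eq_blockOf B.2.1 (hc _ B.2.1)).symm
    let r : ConjClasses G → Prop := fun C => ¬ p ∣ orderOf C.out ∧ classExp p C.out = d
    have h := omegaR_blockEltR_sub_mem hM A.2.1 (c B.1) r fun C h1 h2 h3 => ⟨h1, by
      rw [hdef, B.2.2] at h3; rw [A.2.2] at h2; omega⟩
    rw [omegaR_blockEltR A.2.1] at h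
    have hconj : ∀ i, IsConj (k i) (K i).out := fun i =>
      (hmem i _).1 (ConjClasses.mem_carrier_iff_mk_eq.2 (Quotient.out_eq _))
    have hrk : ∀ i, r (K i) := fun i => by
      refine ⟨?_, (classExp_isConj (hconj i)).symm.trans (hke i)⟩
      obtain ⟨z, hz⟩ := isConj_iff.1 (hconj i)
      rw [← hz, show z * k i * z⁻¹ = MulAut.conj z (k i) from rfl,
        MulEquiv.orderOf_eq]
      exact hkr i
    let F : ConjClasses G → ℂ := fun C =>
      blockCoeff A.1 C.out * centralChar (c B.1 : G → ℂ) C.out
    have h' : MemLocalIdeal M (∑ C ∈ (Finset.univ.filter r).filter (fun C => ¬ ∃ i, K i = C), F C) := by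
      refine memLocalIdeal_sum _ _ fun C hC => MemLocalIdeal.mul_left
        (blockCoeff_memLocalRing A.2.1 _) ?_
      obtain ⟨hC1, hC2⟩ := Finset.mem_filter.1 hC
      obtain ⟨hr1, hr2⟩ := (Finset.mem_filter.1 hC1).2
      by_contra hw
      obtain ⟨x, hx, hxD, -⟩ := exists_conj_section hM B.2.1
        ((isDefectGroup_iff_of_normal hM B.2.1 D hD).2 B.2.2) (hc _ B.2.1) hw
      refine hC2 ((hK C).2 ⟨x, ?_, ?_, exists_sylow_map_eq hD hxD
        ((classExp_isConj hx).symm.trans hr2)⟩)
      · rw [ConjClasses.mem_carrier_iff_mk_eq, ← ConjClasses.mk_eq_mk_iff_isConj.2 hx]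
        exact Quotient.out_eq _
      · obtain ⟨z, hz⟩ := isConj_iff.1 hx
        rw [← hz, show z * C.out * z⁻¹ = MulAut.conj z C.out from rfl]
        exact fun h => hr1 (by
          rwa [MulEquiv.orderOf_eq] at h)
    have hset : (Finset.univ.filter r).filter (fun C => ∃ i, K i = C) = Finset.univ.image K := by
      ext C
      simp only [Finset.mem_filter, Finset.mem_univ, true_and, Finset.mem_image]
      exact ⟨fun h => h.2, fun ⟨i, hi⟩ => ⟨hi ▸ hrk i, i, hi⟩⟩
    rw [← Finset.sum_filter_add_sum_filter_not (Finset.univ.filter r) (fun C => ∃ i, K i = C),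
      hset, Finset.sum_image fun a _ b _ hab => hKinj hab] at h
    have h5 := MemLocalIdeal.neg (MemLocalIdeal.add h h')
    have e2 : ((if A = B then 1 else 0 : locRing M) : ℂ) =
        if c B.1 ∈ A.1 then (1 : ℂ) else 0 := by
      have : c B.1 ∈ A.1 ↔ A = B := ⟨fun hm => Subtype.ext
        (isPBlock_eq_of_mem A.2.1 B.2.1 hm (hc _ B.2.1)), fun e => by subst e; exact hc _ A.2.1⟩
      split_ifs with h1 h2 h2 <;> simp_all
    rw [e2]
    push_cast
    have e3 : ∀ i, blockCoeff A.1 (k i) * centralChar (c B.1 : G → ℂ) (k i) =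
        blockCoeff A.1 (K i).out * centralChar (c B.1 : G → ℂ) (K i).out := fun i => by
      rw [blockCoeff_isConj A.1 (hconj i), centralChar_isConj (c B.1) (hconj i)]
    simp only [e3]
    convert h5 using 1
    simp only [F]
    ring
  -- the matrix
  have hA : (Matrix.of fun i j : ι => ((Nat.card {yz : G × G // yz.1 ∈ (K i).carrier ∧
      yz.2 ∈ (K j).carrier ∧ yz.2 * yz.1⁻¹ ∈ (S : Subgroup G)} / q : ℕ) : ZMod p)).map
        (ZMod.castHom (dvd_refl p) (resField M)) = U * R * Matrix.diagonal u := by
    ext i j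
    rw [Matrix.map_apply, Matrix.of_apply, map_natCast, Matrix.mul_diagonal, Matrix.mul_apply]
    simp only [U, R, u, Matrix.of_apply, ← map_mul, ← map_sum]
    rw [← map_natCast (res M), res_eq_res_iff]
    push_cast
    have he : Nat.card {yz : G × G // yz.1 ∈ (K i).carrier ∧
        yz.2 ∈ (K j).carrier ∧ yz.2 * yz.1⁻¹ ∈ (S : Subgroup G)} =
      Nat.card {yz : G × G // IsConj (k i) yz.1 ∧ IsConj (k j) yz.2 ∧
        yz.2 * yz.1⁻¹ ∈ (S : Subgroup G)} :=
      Nat.card_congr (Equiv.subtypeEquivRight fun w => by rw [hmem, hmem])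
    have hcg := card_pairs_congr hM D hD S (hke i) (hkr j) (hke j) c hc
    rw [Finset.sum_subtype (F := ‹Fintype τ›) _
      (fun B => by simp [mem_blocks] :
        ∀ B, B ∈ (blocks M G).filter (fun B => blockDefect p B = d) ↔
          IsPBlock M B ∧ blockDefect p B = d)] at hcg
    rw [he, mul_comm]
    exact hcg
  rw [hcard, ← rank_map_ringHom (ZMod.castHom (dvd_refl p) (resField M)), hA,
    rank_split U R u hu hRU]

end Cfsg.Agent.Blocks.Robinson
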