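/-
Simple groups whose order has three prime divisors, one of them to the first power: the Sylow
subgroup of prime order is its own centralizer.
-/
import Cfsg.Agent.Lib.Blocks.BlockOrth
import Cfsg.Agent.Lib.Blocks.Degree
import Cfsg.Agent.Lib.Blocks.RegTrExact
import Cfsg.Agent.Lib.Char.Burnside
import Cfsg.Agent.Lib.DefOne.Order7920

set_option linter.unusedSectionVars false
set_option linter.style.haveILetI false

namespace Cfsg.Agent.SelfCentralPQR

open Cfsg Cfsg.Agent.Char Cfsg.Agent.Blocks Cfsg.Agent.DefOne.Order7920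

open scoped ComplexConjugate

universe u

variable {G : Type u} [Group G] [Finite G] [IsSimpleGroup G]

/-- In a simple group of order `p ^ a * q ^ b * r` no element of order `p` centralizes an element
of order `r`. -/
theorem not_commute {p q r a b : ℕ} (hp : p.Prime) (hq : q.Prime) (hr : r.Prime) (hpq : p ≠ q)
    (hpr : p ≠ r) (hqr : q ≠ r) (hcard : Nat.card G = p ^ a * q ^ b * r) {x y : G}
    (hy : orderOf y = p) (hx : orderOf x = r) (hyx : Commute y x) : False := by
  classical
  haveI : Fintype G := Fintype.ofFinite G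
  haveI := Fact.mk hp
  haveI := Fact.mk hr
  have hpdvd : p ∣ Nat.card G := hy ▸ orderOf_dvd_natCard y
  have hrdvd : r ∣ Nat.card G := hx ▸ orderOf_dvd_natCard x
  have hnp : ¬ (Nat.card G).Prime := fun h =>
    hpr (((Nat.prime_dvd_prime_iff_eq hp h).1 hpdvd).trans
      ((Nat.prime_dvd_prime_iff_eq hr h).1 hrdvd).symm)
  obtain ⟨M, hM⟩ := exists_isPModular_witness p
  obtain ⟨M', hM'⟩ := exists_isPModular_witness r
  haveI : M.IsMaximal := hM.2.1
  haveI : M'.IsMaximal := hM'.2.1
  set B := principalBlock M G with hBdef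
  have h0 : blockPair B (y * x) (1 * 1) = 0 :=
    blockPair_eq_zero_of_not_isConj hM (isPBlock_principalBlock M G)
      ⟨1, by rw [hy, pow_one]⟩ ⟨0, by simp⟩ hyx (Commute.one_left 1)
      (by rw [hx]; exact fun h => hpr ((Nat.prime_dvd_prime_iff_eq hp hr).1 h))
      (by simpa using hp.ne_one)
      (fun h => hp.ne_one (by rw [← hy, isConj_one_left.1 h, orderOf_one]))
  -- a central element of a Sylow subgroup
  obtain ⟨P⟩ : Nonempty (Sylow p G) := inferInstance
  haveI : Nontrivial P := by
    rw [← Finite.one_lt_card_iff_nontrivial, Sylow.card_eq_multiplicity]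
    exact Nat.one_lt_pow (hp.factorization_pos_of_dvd Nat.card_pos.ne' hpdvd).ne' hp.one_lt
  haveI := P.2.center_nontrivial
  obtain ⟨z, hz⟩ := exists_ne (1 : Subgroup.center P)
  have hz1 : ((z : P) : G) ≠ 1 := fun h => hz (Subtype.ext (Subtype.ext h))
  have hle : (P : Subgroup G) ≤ Subgroup.centralizer ({((z : P) : G)} : Set G) := by
    intro w hw
    rw [Subgroup.mem_centralizer_singleton_iff]
    exact congrArg Subtype.val (Subgroup.mem_center_iff.mp z.2 ⟨w, hw⟩)
  have hzidx : ¬ p ∣ (Subgroup.centralizer ({((z : P) : G)} : Set G)).index :=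
    fun h => P.not_dvd_index (h.trans (Subgroup.index_dvd_of_le hle))
  -- every other term is divisible by `q`
  have hterm : ∀ χ ∈ B, χ ≠ principal G →
      IsIntegral ℤ ((χ : G → ℂ) (y * x) * conj ((χ : G → ℂ) 1) / (q : ℂ)) := by
    intro χ hχ hne
    rw [irr_one_eq_charDegree, map_natCast, mul_div_assoc]
    by_cases hqd : q ∣ charDegree (χ : G → ℂ)
    · obtain ⟨c, hc⟩ := hqd
      rw [hc, Nat.cast_mul, mul_div_cancel_left₀ _ (Nat.cast_ne_zero.mpr hq.ne_zero)]
      exact (irr_isIntegral χ _).mul (isIntegral_algebraMap (R := ℤ) (A := ℂ) (x := (c : ℤ)))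
    suffices h : (χ : G → ℂ) (y * x) = 0 by rw [h, zero_mul]; exact isIntegral_zero
    by_cases hrd : r ∣ charDegree (χ : G → ℂ)
    · -- a character of defect zero for `r`
      have hfac : (Nat.card G).factorization r = 1 := by
        have hnd : ¬ r ∣ p ^ a * q ^ b := fun h =>
          (hr.dvd_mul.1 h).elim
            (fun h1 => hpr ((Nat.prime_dvd_prime_iff_eq hr hp).1 (hr.dvd_of_dvd_pow h1)).symm)
            (fun h1 => hqr ((Nat.prime_dvd_prime_iff_eq hr hq).1 (hr.dvd_of_dvd_pow h1)).symm)
        rw [hcard, Nat.factorization_mul (by simp [hp.ne_zero, hq.ne_zero]) hr.ne_zero,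
          Finsupp.add_apply, hr.factorization_self, Nat.factorization_eq_zero_of_not_dvd hnd]
      have hs : blockOf M' (χ : G → ℂ) = {χ} := by
        refine blockOf_eq_singleton hM' χ (le_antisymm (degExp_le_card χ) ?_)
        rw [hfac]
        exact hr.factorization_pos_of_dvd (charDegree_pos χ).ne' hrd
      have hB' : IsPBlock M' ({χ} : Set (IrrCharacter G)) := hs ▸ isPBlock_blockOf χ
      have h1 := blockPair_eq_zero_of_not_isConj hM' hB' (a := x) (b := 1) (u := y) (w := 1)
        ⟨1, by rw [hx, pow_one]⟩ ⟨0, by simp⟩ hyx.symm (Commute.one_left 1)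
        (by rw [hy]; exact fun h => hpr ((Nat.prime_dvd_prime_iff_eq hr hp).1 h).symm)
        (by simpa using hr.ne_one)
        (fun h => hr.ne_one (by rw [← hx, isConj_one_left.1 h, orderOf_one]))
      rw [blockPair_eq_finsum, finsum_mem_singleton, one_mul, ← hyx.eq] at h1
      exact (mul_eq_zero.1 h1).resolve_right fun h =>
        irr_one_ne_zero χ ((map_eq_zero (starRingEnd ℂ)).1 h)
    · -- a character of `p`-power degree does not lie in the principal block
      exfalso
      have hdvd : charDegree (χ : G → ℂ) ∣ p ^ a := by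
        have h1 : charDegree (χ : G → ℂ) ∣ p ^ a * q ^ b * r := hcard ▸ charDegree_dvd_card χ
        have h2 := ((hr.coprime_iff_not_dvd.2 hrd).symm).dvd_of_dvd_mul_right h1
        exact (((hq.coprime_iff_not_dvd.2 hqd).symm).pow_right b).dvd_of_dvd_mul_right h2
      have hcop : Nat.Coprime (charDegree (χ : G → ℂ))
          (Subgroup.centralizer ({((z : P) : G)} : Set G)).index :=
        ((hp.coprime_iff_not_dvd.2 hzidx).pow_left a).coprime_dvd_left hdvd
      obtain ⟨n, ρ, hρ, hρχ⟩ := χ.2
      have hrank : Module.finrank ℂ (Fin n → ℂ) = charDegree (χ : G → ℂ) := by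
        have h2 := irr_one_eq_charDegree χ
        rw [← hρχ, Representation.char_one] at h2
        rw [← hρχ]
        exact_mod_cast h2
      rcases eq_zero_or_norm_eq ρ ((z : P) : G) (hrank ▸ hcop) with hv | hv
      · rw [hρχ] at hv
        have h : MemLocalIdeal M (centralChar (fun _ : G => (1 : ℂ)) ((z : P) : G) -
            centralChar (χ : G → ℂ) ((z : P) : G)) := hχ _
        simp only [centralChar, hv, mul_zero, zero_div, sub_zero, mul_one, div_one] at h
        rw [natCast_memLocalIdeal_iff hM] at h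
        exact hzidx h
      · rw [hρχ, hrank] at hv
        exact norm_ne hnp hne hz1 hv
  rw [one_mul, blockPair] at h0
  rw [← Finset.add_sum_erase _ _ (Finset.mem_filter.2
    ⟨Finset.mem_univ (principal G), principal_mem_principalBlock⟩)] at h0
  rw [show ((principal G : IrrCharacter G) : G → ℂ) = fun _ => 1 from rfl] at h0
  simp only [map_one, mul_one] at h0
  set T := ∑ χ ∈ (Finset.univ.filter (· ∈ B)).erase (principal G),
    (χ : G → ℂ) (y * x) * conj ((χ : G → ℂ) 1) with hT
  have hint : IsIntegral ℤ (T / (q : ℂ)) := by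
    rw [hT, Finset.sum_div]
    exact IsIntegral.sum _ fun χ hχ =>
      hterm χ (Finset.mem_filter.1 (Finset.mem_erase.1 hχ).2).2 (Finset.mem_erase.1 hχ).1
  rw [show T = -1 by linear_combination h0, neg_div] at hint
  have hint' : IsIntegral ℤ (((1 : ℕ) : ℂ) / (q : ℂ)) := by simpa using hint.neg
  exact hq.ne_one (Nat.dvd_one.mp (dvd_of_isIntegral_div hq.ne_zero hint'))

/-- The Sylow subgroup of order `r` is its own centralizer. -/
theorem centralizer_eq {p q r a b : ℕ} (hp : p.Prime) (hq : q.Prime) [Fact r.Prime] (hpq : p ≠ q)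
    (hpr : p ≠ r) (hqr : q ≠ r) (hcard : Nat.card G = p ^ a * q ^ b * r) (S : Sylow r G) :
    Subgroup.centralizer (S : Set G) = (S : Subgroup G) := by
  classical
  have hr : r.Prime := Fact.out
  have hS : Nat.card (S : Subgroup G) = r := by
    have hnd : ¬ r ∣ p ^ a * q ^ b := fun h =>
      (hr.dvd_mul.1 h).elim
        (fun h1 => hpr ((Nat.prime_dvd_prime_iff_eq hr hp).1 (hr.dvd_of_dvd_pow h1)).symm)
        (fun h1 => hqr ((Nat.prime_dvd_prime_iff_eq hr hq).1 (hr.dvd_of_dvd_pow h1)).symm)
    rw [Sylow.card_eq_multiplicity, hcard, Nat.factorization_mul (by simp [hp.ne_zero, hq.ne_zero])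
      hr.ne_zero, Finsupp.add_apply, hr.factorization_self,
      Nat.factorization_eq_zero_of_not_dvd hnd, zero_add, pow_one]
  haveI : IsCyclic (S : Subgroup G) := isCyclic_of_prime_card hS
  have hle : (S : Subgroup G) ≤ Subgroup.centralizer (S : Set G) := by
    intro w hw
    rw [Subgroup.mem_centralizer_iff]
    intro v hv
    obtain ⟨g, hg⟩ := IsCyclic.exists_generator (α := (S : Subgroup G))
    obtain ⟨i, hi⟩ := Subgroup.mem_zpowers_iff.1 (hg ⟨w, hw⟩)
    obtain ⟨j, hj⟩ := Subgroup.mem_zpowers_iff.1 (hg ⟨v, hv⟩)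
    have h1 := congrArg Subtype.val ((Commute.refl g).zpow_zpow j i).eq
    rw [hi, hj] at h1
    exact h1
  refine le_antisymm (fun w hw => ?_) hle
  by_contra hwS
  set C := Subgroup.centralizer (S : Set G) with hC
  obtain ⟨m, hm⟩ := Subgroup.card_dvd_of_le hle
  rw [hS] at hm
  have hm1 : m ≠ 1 := by
    intro h
    apply hwS
    rw [Subgroup.eq_of_le_of_card_ge hle (by rw [hS, hm, h, mul_one])]
    exact hw
  obtain ⟨s, hs, hsm⟩ := Nat.exists_prime_and_dvd hm1
  haveI := Fact.mk hs
  have hdvd : r * m ∣ p ^ a * q ^ b * r := hcard ▸ hm ▸ Subgroup.card_subgroup_dvd_card C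
  have hspq : s = p ∨ s = q := by
    have h1 : s ∣ p ^ a * q ^ b := by
      rw [mul_comm r m] at hdvd
      exact hsm.trans (Nat.dvd_of_mul_dvd_mul_right hr.pos hdvd)
    exact (hs.dvd_mul.1 h1).imp (fun h => (Nat.prime_dvd_prime_iff_eq hs hp).1 (hs.dvd_of_dvd_pow h))
      (fun h => (Nat.prime_dvd_prime_iff_eq hs hq).1 (hs.dvd_of_dvd_pow h))
  obtain ⟨y, hy⟩ := exists_prime_orderOf_dvd_card' (G := C) s (hm ▸ hsm.mul_left r)
  obtain ⟨x, hx⟩ := exists_prime_orderOf_dvd_card' (G := (S : Subgroup G)) r (by rw [hS])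
  have hcomm : Commute (y : G) (x : G) := ((Subgroup.mem_centralizer_iff.1 y.2) x x.2).symm
  have hy' : orderOf (y : G) = s := by rw [Subgroup.orderOf_coe, hy]
  have hx' : orderOf (x : G) = r := by rw [Subgroup.orderOf_coe, hx]
  rcases hspq with h | h
  · exact not_commute hp hq hr hpq hpr hqr hcard (hy'.trans h) hx' hcomm
  · exact not_commute (a := b) (b := a) hq hp hr hpq.symm hqr hpr (hcard.trans (by ring)) (hy'.trans h) hx' hcomm

end Cfsg.Agent.SelfCentralPQR
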