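/-
A criterion for a group to have a single block.
-/
import Cfsg.Agent.Lib.BrauerPairs.Main
import Cfsg.Agent.Lib.Blocks.Degree

set_option linter.unusedSectionVars false
set_option linter.style.haveILetI false

namespace Cfsg.Agent.Blocks

open Cfsg Cfsg.Agent.BrauerPairs

universe u

variable {G : Type u} [Group G] [Fintype G] {p : ℕ} {M : Ideal AlgInt}

/-- If the centraliser of every element of order `p` has one block and no character has defect
zero, the group has one block. -/
theorem sameBlock_of_local (hM : IsPModular p M)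
    (hloc : ∀ z : G, orderOf z = p →
      ∀ ξ η : IrrCharacter (Subgroup.centralizer ((Subgroup.zpowers z : Subgroup G) : Set G)),
        SameBlock M (ξ : Subgroup.centralizer ((Subgroup.zpowers z : Subgroup G) : Set G) → ℂ) (η : Subgroup.centralizer ((Subgroup.zpowers z : Subgroup G) : Set G) → ℂ))
    (hdz : ∀ χ : IrrCharacter G,
      (charDegree (χ : G → ℂ)).factorization p < (Nat.card G).factorization p)
    (χ ψ : IrrCharacter G) : SameBlock M (χ : G → ℂ) (ψ : G → ℂ) := by
  haveI := IsPModular.isPrime hM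
  haveI := Fact.mk hM.1
  haveI : CharP (resField M) p := resField_charP hM
  have key : ∀ φ : IrrCharacter G, φ ∈ principalBlock M G := by
    intro φ
    have hB : IsPBlock M (blockOf M (φ : G → ℂ)) := isPBlock_blockOf φ
    obtain ⟨D, hD⟩ := exists_isDefGrp (p := p) (isBlk_Ek hB)
    have hD' := (isDefectGroup_iff hB D).2 hD
    have hne : D ≠ ⊥ := by
      intro h
      have hc := card_defectGroup hM hB hD'
      rw [h, Subgroup.card_bot] at hc
      have hd : blockDefect p (blockOf M (φ : G → ℂ)) = 0 :=
        Nat.pow_right_injective hM.1.two_le (hc.symm.trans (pow_zero p).symm)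
      obtain ⟨θ, hθ, h0⟩ := exists_heightZero hM hB
      rw [blockHeight_eq_zero_iff hM hB hθ, hd, Nat.sub_zero] at h0
      exact (hdz θ).ne h0
    obtain ⟨e, he⟩ := exists_pairOf_defGrp (isBlk_Ek hB) hD
    obtain ⟨a, ha, haz⟩ := exists_eq_zI he.pair
    obtain ⟨D', e⟩ := a
    obtain rfl : D' = D := congrArg Prod.fst haz
    rw [← haz] at he
    have hpe : IsBrauerPairOf p M (blockOf M (φ : G → ℂ)) D' e :=
      (isBrauerPairOf_iff hM).2 ⟨ha, hB, he⟩
    haveI : Nontrivial D' := (Subgroup.nontrivial_iff_ne_bot D').2 hne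
    obtain ⟨n, hn, hcard⟩ := IsPGroup.nontrivial_iff_card ha.1 |>.1 inferInstance
    obtain ⟨z, hz⟩ := exists_prime_orderOf_dvd_card' (G := D') p
      (hcard ▸ dvd_pow_self p hn.ne')
    have hz' : orderOf (z : G) = p := by rw [Subgroup.orderOf_coe, hz]
    have hle : Subgroup.zpowers (z : G) ≤ D' := (Subgroup.zpowers_le).2 z.2
    obtain ⟨f, ⟨hf, hsub⟩, -⟩ := subpair_existsUnique hM ha hle
    have hQf : IsBrauerPair p M (Subgroup.zpowers (z : G)) f := ⟨ha.1.to_le hle, hf⟩
    have hpf := (subpair_pairOf_iff hM ha hQf hsub hB).1 hpe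
    have hfp : f = principalBlock M _ := by
      obtain ⟨ξ, hξ⟩ := isPBlock_nonempty hf
      obtain ⟨η, hη⟩ := isPBlock_nonempty (isPBlock_principalBlock M
        (Subgroup.centralizer ((Subgroup.zpowers (z : G) : Subgroup G) : Set G)))
      refine isPBlock_eq_of_mem hf (isPBlock_principalBlock M _) hξ ?_
      exact isPBlock_mem_of_sameBlock (isPBlock_principalBlock M _) hη
        (sameBlock_symm (hloc (z : G) hz' ξ η))
    subst hfp
    obtain ⟨B, -, huni⟩ := brauerPair_existsUnique_block hM hQf
    rw [(huni _ (principal_pairOf hM hQf.1)).trans (huni _ hpf).symm]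
    exact self_mem_blockOf φ
  exact isPBlock_sameBlock (isPBlock_principalBlock M G) (key χ) (key ψ)

end Cfsg.Agent.Blocks
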