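/-
A finite group all of whose irreducible degrees are below the prime `p` has a normal abelian
Sylow `p`-subgroup.
-/
import Cfsg.Agent.Lib.DefOne.Order7920
import Cfsg.Agent.Lib.Char.TwoDegrees
import Cfsg.Agent.Lib.Char.Fixed
import Cfsg.Agent.Lib.Char.Burnside
import Cfsg.Agent.Lib.FGStruct.Counting

set_option linter.unusedSectionVars false
set_option linter.style.haveILetI false

namespace Cfsg.Agent.SmallDegrees

open Cfsg Cfsg.Agent.Char Cfsg.Agent.Blocks Cfsg.Agent.DefOne Cfsg.Agent.DefOne.Order7920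
  Cfsg.Agent.CCSylow

open scoped ComplexConjugate Pointwise

universe u

/-- All irreducible degrees are below `p`. -/
def Below (G : Type u) [Group G] (p : ℕ) : Prop :=
  ∀ χ : IrrCharacter G, charDegree (χ : G → ℂ) < p

section Basic

variable {G : Type u} [Group G] [Fintype G] {p : ℕ}

theorem exists_over_any (H : Subgroup G) [Fintype H] (θ : IrrCharacter H) :
    ∃ χ : IrrCharacter G, classInner (fun h : H => (χ : G → ℂ) h) (θ : H → ℂ) ≠ 0 := by
  obtain ⟨χ, hχ⟩ := IsCharacter.exists_constituent
    (isCharacter_indFun H (IsIrrCharacter.isCharacter θ.2)) fun h => by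
      have h1 : indFun H (θ : H → ℂ) 1 = 0 := by rw [h]; rfl
      rw [indFun_one_apply] at h1
      exact mul_ne_zero (Nat.cast_ne_zero.2 Subgroup.index_ne_zero_of_finite)
        (irr_one_ne_zero θ) h1
  refine ⟨χ, fun h => hχ ?_⟩
  rw [← classInner_conj_symm,
    classInner_indFun_right H (θ : H → ℂ) (IsCharacter.isClassFunction (irr_isCharacter χ)), h,
    map_zero]

theorem Below.sub (hb : Below G p) (H : Subgroup G) : Below H p := by
  classical
  haveI : Fintype H := Fintype.ofFinite H
  intro θ
  obtain ⟨χ, hχ⟩ := exists_over_any H θ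
  exact lt_of_le_of_lt (degree_le_of_constituent (IsCharacter.restrict (irr_isCharacter χ) H) θ.2 hχ
    (by rw [OneMemClass.coe_one, irr_one_eq_charDegree]) (irr_one_eq_charDegree θ)) (hb χ)

theorem Below.quot (hb : Below G p) (N : Subgroup G) [N.Normal] : Below (G ⧸ N) p := by
  haveI : Fintype (G ⧸ N) := Fintype.ofFinite _
  intro θ
  have h := hb (Cfsg.Agent.CharX.infl N θ)
  simpa [charDegree] using h

/-- The `p`-subgroups are abelian. -/
theorem comm_of_pgroup [Fact p.Prime] (hb : Below G p) (P : Subgroup G) (hP : IsPGroup p P) :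
    ∀ a ∈ P, ∀ b ∈ P, a * b = b * a := by
  classical
  haveI : Fintype P := Fintype.ofFinite P
  have hlin : ∀ ψ : IrrCharacter P, (ψ : P → ℂ) 1 = 1 := by
    intro ψ
    obtain ⟨k, hk⟩ := hP.exists_card_eq
    obtain ⟨j, -, hj⟩ := (Nat.dvd_prime_pow (Fact.out : p.Prime)).1 (hk ▸ charDegree_dvd_card ψ)
    have hlt := hb.sub P ψ
    rcases Nat.eq_zero_or_pos j with rfl | hj0
    · rw [irr_one_eq_charDegree, hj, pow_zero, Nat.cast_one]
    · exact absurd (hj ▸ Nat.le_self_pow hj0.ne' p) (not_le.2 hlt)
  exact fun a ha b hb' => congrArg Subtype.val (commute_of_all_linear hlin ⟨a, ha⟩ ⟨b, hb'⟩)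

end Basic

section Simple

variable {G : Type u} [Group G] [Fintype G] [IsSimpleGroup G]

set_option maxHeartbeats 1000000 in
/-- No simple group has a Sylow subgroup of prime order `p` and all degrees below `p`. -/
theorem prime_case {p : ℕ} [Fact p.Prime] (hp3 : 3 ≤ p) (hnp : ¬ (Nat.card G).Prime)
    (hb : Below G p) (P : Sylow p G) (hP : Nat.card P = p) : False := by
  classical
  have hp : p.Prime := Fact.out
  obtain ⟨V, e, K0, -⟩ := exists_conf hp P hP
  have K : Conf p (P : Subgroup G) V (Subgroup.normalizer ((P : Subgroup G) : Set G)) e := K0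
  haveI : Fintype (P : Subgroup G) := Fintype.ofFinite _
  haveI : Fintype V := Fintype.ofFinite _
  haveI : Fintype (Subgroup.normalizer ((P : Subgroup G) : Set G)) := Fintype.ofFinite _
  haveI : Fintype ((P : Subgroup G) →* ℂˣ) := Fintype.ofFinite _
  obtain ⟨M, hM⟩ := exists_isPModular_witness p
  haveI := IsPModular.isPrime hM
  obtain ⟨eb, X, Y, δ, sg, F⟩ := exists_families K hM (trivB V)
  have hee : eb = e := eb_triv K F
  have hB := principal_eq K hM F
  have hd1 : charDegree (principal G : G → ℂ) = 1 := TwoDegrees.deg_eq (by simp [principal])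
  -- the first family
  have hX : ∀ χ ∈ X, (χ = principal G ∧ sg χ = 1) ∨
      (χ ≠ principal G ∧ charDegree (χ : G → ℂ) = p - 1 ∧ sg χ = -1) := by
    intro χ hχ
    have hc := degree_congr K hM (χ := χ) (by rw [hB]; exact Or.inl hχ)
    rw [Families.sum_X K F hχ] at hc
    have hc' : (p : ℤ) ∣ (charDegree (χ : G → ℂ) : ℤ) - sg χ := by
      have h5 := (Int.modEq_iff_dvd.1 hc.symm).sub (dvd_mul_right (p : ℤ) (sg χ))
      obtain ⟨k, hk⟩ := h5
      exact ⟨k, by rw [← hk]; ring⟩
    by_cases hne : χ = principal G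
    · refine Or.inl ⟨hne, ?_⟩
      rcases F.signX χ hχ with e1 | e1
      · exact e1
      · exfalso
        rw [e1, hne, hd1] at hc'
        have := Int.le_of_dvd (by norm_num) hc'
        omega
    refine Or.inr ⟨hne, ?_⟩
    have hlt := hb χ
    have hd0 := charDegree_pos χ
    have hd2 : charDegree (χ : G → ℂ) ≠ 1 := fun h => hne (eq_principal_of_deg_one hnp h)
    rcases F.signX χ hχ with e1 | e1 <;> rw [e1] at hc'
    · have := Int.le_of_dvd (by omega) hc'
      omega
    · have := Int.le_of_dvd (by omega) hc'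
      exact ⟨by omega, e1⟩
  obtain ⟨θ, hθ⟩ := F.nonempty
  have hrel : ∑ χ ∈ X, sg χ * (charDegree (χ : G → ℂ) : ℤ) +
      δ * (charDegree (θ : G → ℂ) : ℤ) = 0 := by
    have h := Families.relation K F hθ (g := (1 : G)) (by simpa using hp.ne_one)
    simp only [irr_one_eq_charDegree] at h
    exact_mod_cast h
  have hterm : ∀ χ ∈ X, χ ≠ principal G → sg χ * (charDegree (χ : G → ℂ) : ℤ) = -((p : ℤ) - 1) := by
    intro χ hχ hne
    obtain ⟨-, h1, h2⟩ := (hX χ hχ).resolve_left fun h => hne h.1
    rw [h1, h2, Nat.cast_sub hp.one_lt.le]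
    ring
  have hθpos : 0 < charDegree (θ : G → ℂ) := charDegree_pos θ
  have hθlt := hb θ
  have hcardY : Y.card * e = p - 1 := hee ▸ F.cardY
  have hcardX : X.card = e := F.cardX.trans hee
  have hmem : principal G ∈ X := by
    by_contra hno
    have hY : principal G ∈ Y := by
      have h := Cfsg.Agent.Blocks.principal_mem_principalBlock (M := M) (G := G)
      rw [hB] at h
      exact h.resolve_left hno
    have hYeq : Y = {principal G} := Finset.eq_singleton_iff_unique_mem.2 ⟨hY, fun η hη => by
      obtain ⟨σ, -, rfl⟩ := F.transY _ hY η hη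
      exact Subtype.ext (funext fun g => map_one σ)⟩
    rw [hYeq, Finset.card_singleton, one_mul] at hcardY
    rw [hYeq, Finset.mem_singleton] at hθ
    rw [Finset.sum_congr rfl fun χ hχ => hterm χ hχ (fun h => hno (h ▸ hχ)), Finset.sum_const,
      hcardX, hcardY, hθ, hd1, nsmul_eq_mul, Nat.cast_sub hp.one_lt.le] at hrel
    have h4 : (4 : ℤ) ≤ ((p : ℤ) - 1) * ((p : ℤ) - 1) := by
      have : (2 : ℤ) ≤ (p : ℤ) - 1 := by omega
      nlinarith
    rcases F.sign with e1 | e1 <;> rw [e1] at hrel <;> push_cast at hrel <;> linarith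
  have hsg : sg (principal G) = 1 := by
    rcases hX _ hmem with ⟨-, h⟩ | ⟨h, -, -⟩
    · exact h
    · exact absurd rfl h
  rw [← Finset.add_sum_erase _ _ hmem, hsg, hd1,
    Finset.sum_congr rfl fun χ hχ => hterm χ (Finset.mem_of_mem_erase hχ) (Finset.ne_of_mem_erase hχ),
    Finset.sum_const, Finset.card_erase_of_mem hmem, hcardX, nsmul_eq_mul] at hrel
  have he : e = 2 ∧ δ = 1 := by
    have he0 : 0 < e := CCSylow.e_pos K.D
    rcases Nat.lt_or_ge e 2 with h | h
    · exfalso
      have : e = 1 := by omega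
      subst this
      have hθ1 : charDegree (θ : G → ℂ) = 1 := by
        rcases F.sign with e1 | e1 <;> rw [e1] at hrel <;> push_cast at hrel <;> omega
      exact Finset.disjoint_left.1 F.disj hmem (eq_principal_of_deg_one hnp hθ1 ▸ hθ)
    rcases Nat.lt_or_ge e 3 with h' | h'
    · have h2 : e = 2 := by omega
      subst h2
      refine ⟨rfl, ?_⟩
      rcases F.sign with e1 | e1
      · exact e1
      · exfalso
        rw [e1] at hrel
        push_cast at hrel
        omega
    · exfalso
      have h1 : (2 : ℤ) * ((p : ℤ) - 1) ≤ ((e - 1 : ℕ) : ℤ) * ((p : ℤ) - 1) := by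
        have : (2 : ℤ) ≤ ((e - 1 : ℕ) : ℤ) := by omega
        nlinarith
      rcases F.sign with e1 | e1 <;> rw [e1] at hrel <;> push_cast at hrel <;> linarith
  obtain ⟨he2, -⟩ := he
  subst he2
  obtain ⟨χ, hχ, hχne⟩ := Finset.exists_mem_ne (by omega : 1 < X.card) (principal G)
  obtain ⟨-, hχd, hχsg⟩ := (hX χ hχ).resolve_left fun h => hχne h.1
  -- the centralizer is the Sylow subgroup
  have hχB : χ ∈ principalBlock M G := by rw [hB]; exact Or.inl hχ
  have hsum : ∀ w ∈ V, ∑ y : (P : Subgroup G), (χ : G → ℂ) ((y : G) * w) =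
      (χ : G → ℂ) w - ((p - 1 : ℕ) : ℂ) := by
    intro w hw
    have hval : ∀ y : (P : Subgroup G), y ≠ 1 → (χ : G → ℂ) ((y : G) * w) = -1 := by
      intro y hy
      rw [DefOne.section_const K hM hχB y.2 (fun h => hy (Subtype.ext h)) hw,
        ← phi_principal K hM hχB hy, Families.phi_X K F hχ hy, hχsg]
      simp
    rw [← Finset.add_sum_erase _ _ (Finset.mem_univ (1 : (P : Subgroup G))),
      Finset.sum_congr rfl fun y hy => hval y (Finset.ne_of_mem_erase hy),
      Finset.sum_const, Finset.card_erase_of_mem (Finset.mem_univ _), Finset.card_univ,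
      ← Nat.card_eq_fintype_card, K.hP, OneMemClass.coe_one, one_mul]
    simp [sub_eq_add_neg]
  have hV : V = ⊥ := by
    rw [Subgroup.eq_bot_iff_forall]
    intro v hv
    have h0 := hsum 1 (one_mem V)
    simp only [mul_one] at h0
    rw [irr_one_eq_charDegree, hχd, sub_self] at h0
    have h2 := hsum v hv
    rw [sum_translate_eq_zero (irr_isCharacter χ) _ h0 v, eq_comm, sub_eq_zero] at h2
    exact faithful hχne v (by rw [h2, irr_one_eq_charDegree, hχd])
  have hC : Nat.card (Subgroup.centralizer ((P : Subgroup G) : Set G)) = p := by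
    rw [card_centralizer K, hV, Subgroup.card_bot, mul_one]
  have hN : Nat.card (Subgroup.normalizer ((P : Subgroup G) : Set G)) = 2 * p := by
    have h := K.D.hcard
    rw [hV, Subgroup.card_bot, K.hP, mul_one] at h
    exact h
  -- every character lies in the principal block
  have hall : ∀ η : IrrCharacter G, η ∈ X ∪ Y := by
    intro η
    by_contra hη
    have hnB : η ∉ principalBlock M G := fun h => by
      rw [hB] at h
      exact hη (Finset.mem_union.2 h)
    have hzero : ∀ y : (P : Subgroup G), y ≠ 1 → (η : G → ℂ) y = 0 := by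
      intro y hy
      have h := phi_not_principal K hM hnB hy
      have hsub : ∀ v : V, v = 1 := fun v => Subtype.ext (Subgroup.eq_bot_iff_forall _ |>.1 hV v v.2)
      rw [phi, Finset.sum_eq_single (1 : V) (fun v _ hv => absurd (hsub v) hv) (by simp),
        OneMemClass.coe_one, mul_one, Nat.card_eq_fintype_card,
        Fintype.card_eq_one_iff.2 ⟨1, hsub⟩] at h
      simpa [trivB] using h
    obtain ⟨m, hm⟩ := exists_sum_subgroup_eq (P : Subgroup G) η
    rw [Finset.sum_eq_single (1 : (P : Subgroup G)) (fun y _ hy => hzero y hy) (by simp),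
      OneMemClass.coe_one, irr_one_eq_charDegree, K.hP, ← Nat.cast_mul, Nat.cast_inj] at hm
    exact absurd (Nat.le_of_dvd (charDegree_pos η) ⟨m, hm⟩) (not_le.2 (hb η))
  have hk : Nat.card (ConjClasses G) = 2 + Y.card := by
    rw [← card_irrCharacter, Nat.card_eq_fintype_card, ← Finset.card_univ,
      show (Finset.univ : Finset (IrrCharacter G)) = X ∪ Y from
        (Finset.eq_univ_iff_forall.2 hall).symm,
      Finset.card_union_of_disjoint F.disj, hcardX]
  -- the singular classes
  let S : Finset (ConjClasses G) :=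
    ((Finset.univ : Finset (P : Subgroup G)).erase 1).image fun y : (P : Subgroup G) =>
      ConjClasses.mk (y : G)
  have hfib : ∀ c ∈ S, (((Finset.univ : Finset (P : Subgroup G)).erase 1).filter
      fun y : (P : Subgroup G) => ConjClasses.mk (y : G) = c).card ≤ 2 := by
    intro c hc
    obtain ⟨y, hy, rfl⟩ := Finset.mem_image.1 hc
    have hy1 : y ≠ 1 := Finset.ne_of_mem_erase hy
    set N := Subgroup.normalizer ((P : Subgroup G) : Set G) with hNdef
    set Cy := (Subgroup.centralizer ({(y : G)} : Set G)).subgroupOf N with hCy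
    have hidx : Cy.index = 2 := by
      have h := Cy.card_mul_index
      have hle : Subgroup.centralizer ({(y : G)} : Set G) ≤ N := by
        rw [← centralizer_P K y.2 fun h => hy1 (Subtype.ext h)]
        exact Subgroup.centralizer_le_normalizer _
      rw [Nat.card_congr (Subgroup.subgroupOfEquivOfLe hle).toEquiv,
        ← centralizer_P K y.2 fun h => hy1 (Subtype.ext h), hC, hN, mul_comm 2 p] at h
      exact Nat.eq_of_mul_eq_mul_left hp.pos h
    rw [← hidx, Subgroup.index_eq_card]
    have hex : ∀ z : {z : (P : Subgroup G) // z ∈ ((Finset.univ : Finset (P : Subgroup G)).erase 1).filter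
        fun w : (P : Subgroup G) => ConjClasses.mk (w : G) = ConjClasses.mk (y : G)},
        ∃ n : N, (n : G) * y * (n : G)⁻¹ = (z.1 : G) := by
      intro z
      obtain ⟨hz, hzc⟩ := Finset.mem_filter.1 z.2
      obtain ⟨g, hg⟩ := isConj_iff.1 (ConjClasses.mk_eq_mk_iff_isConj.1 hzc.symm)
      exact ⟨⟨g, K.D.hTI (y : G) y.2 (fun h => hy1 (Subtype.ext h)) g (hg ▸ z.1.2)⟩, hg⟩
    choose nf hnf using hex
    rw [← Nat.card_eq_finsetCard]
    refine Nat.card_le_card_of_injective (fun z => (QuotientGroup.mk (nf z) : N ⧸ Cy))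
      fun a b hab => ?_
    have h1 := QuotientGroup.eq.1 hab
    rw [hCy, Subgroup.mem_subgroupOf, Subgroup.mem_centralizer_singleton_iff] at h1
    refine Subtype.ext (Subtype.ext ?_)
    rw [← hnf a, ← hnf b]
    simp only [Subgroup.coe_mul, Subgroup.coe_inv] at h1
    calc ((nf a : N) : G) * y * ((nf a : N) : G)⁻¹
        = (nf a : G) * ((y : G) * ((nf a : G)⁻¹ * (nf b : G))) * (nf b : G)⁻¹ := by group
      _ = (nf a : G) * ((nf a : G)⁻¹ * (nf b : G) * y) * (nf b : G)⁻¹ := by rw [h1]
      _ = (nf b : G) * y * (nf b : G)⁻¹ := by group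
  have hSc : p - 1 ≤ 2 * S.card := by
    have h := Finset.card_le_mul_card_image ((Finset.univ : Finset (P : Subgroup G)).erase 1) 2 hfib
    rwa [Finset.card_erase_of_mem (Finset.mem_univ _), Finset.card_univ,
      ← Nat.card_eq_fintype_card, K.hP] at h
  -- all non-trivial regular elements are conjugate
  have hreg : ∀ g h : G, g ≠ 1 → h ≠ 1 → ¬ p ∣ orderOf g → ¬ p ∣ orderOf h → IsConj g h := by
    intro g h hg hh hgp hhp
    by_contra hgh
    have hnS : ∀ x : G, ¬ p ∣ orderOf x → ConjClasses.mk x ∉ S := by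
      intro x hx hmem
      obtain ⟨y, hy, hyx⟩ := Finset.mem_image.1 hmem
      obtain ⟨c, hc⟩ := isConj_iff.1 (ConjClasses.mk_eq_mk_iff_isConj.1 hyx)
      refine hx ?_
      rw [← hc, show c * (y : G) * c⁻¹ = MulAut.conj c (y : G) by simp,
        MulEquiv.orderOf_eq, orderOf_P K y.2 fun e1 => Finset.ne_of_mem_erase hy (Subtype.ext e1)]
    have hins : (insert (ConjClasses.mk (1 : G)) (insert (ConjClasses.mk g)
        (insert (ConjClasses.mk h) S))).card = S.card + 3 := by
      rw [Finset.card_insert_of_notMem, Finset.card_insert_of_notMem, Finset.card_insert_of_notMem]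
      · exact hnS h hhp
      · simp only [Finset.mem_insert, ConjClasses.mk_eq_mk_iff_isConj, not_or]
        exact ⟨hgh, hnS g hgp⟩
      · simp only [Finset.mem_insert, ConjClasses.mk_eq_mk_iff_isConj, not_or, isConj_one_right]
        exact ⟨hg, hh, hnS 1 (by simpa using hp.ne_one)⟩
    haveI : Fintype (ConjClasses G) := Fintype.ofFinite _
    have := Finset.card_le_univ (insert (ConjClasses.mk (1 : G)) (insert (ConjClasses.mk g)
      (insert (ConjClasses.mk h) S)))
    rw [hins, ← Nat.card_eq_fintype_card, hk] at this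
    omega
  -- there is an involution
  have h2d : 2 ∣ Nat.card G :=
    (hN ▸ dvd_mul_right 2 p : 2 ∣ Nat.card (Subgroup.normalizer ((P : Subgroup G) : Set G))).trans
      (Subgroup.card_subgroup_dvd_card _)
  haveI : Fact (Nat.Prime 2) := ⟨Nat.prime_two⟩
  obtain ⟨t, ht⟩ := exists_prime_orderOf_dvd_card' 2 h2d
  have hprimes : ∀ q : ℕ, q.Prime → q ∣ Nat.card G → q = 2 ∨ q = p := by
    intro q hq hqd
    by_contra hcon
    push Not at hcon
    haveI := Fact.mk hq
    obtain ⟨g, hg⟩ := exists_prime_orderOf_dvd_card' q hqd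
    have hgt := hreg g t (fun h => hq.ne_one (by rw [← hg, h, orderOf_one]))
      (fun h => absurd ht (by rw [h, orderOf_one]; norm_num))
      (by rw [hg]; exact fun h => hcon.2 ((Nat.prime_dvd_prime_iff_eq hp hq).1 h).symm)
      (by rw [ht]; exact fun h => by have := Nat.le_of_dvd two_pos h; omega)
    obtain ⟨c, hc⟩ := isConj_iff.1 hgt
    refine hcon.1 ?_
    rw [← hg, ← ht, ← hc, show c * g * c⁻¹ = MulAut.conj c g by simp, MulEquiv.orderOf_eq]
  have hab : ∃ a b, Nat.card G = 2 ^ a * p ^ b := by
    refine ⟨(Nat.card G).factorization 2, (Nat.card G).factorization p, ?_⟩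
    refine Nat.eq_of_factorization_eq Nat.card_pos.ne' (by simp [hp.ne_zero]) fun q => ?_
    rw [Nat.factorization_mul (by norm_num) (by simp [hp.ne_zero]), Finsupp.add_apply,
      Nat.prime_two.factorization_pow, hp.factorization_pow, Finsupp.single_apply,
      Finsupp.single_apply]
    by_cases hq2 : q = 2
    · subst hq2; simp [show p ≠ 2 by omega]
    by_cases hqp : q = p
    · subst hqp; simp [Ne.symm hq2]
    rw [if_neg (Ne.symm hq2), if_neg (Ne.symm hqp), add_zero]
    by_cases hq : q.Prime
    · exact Nat.factorization_eq_zero_of_not_dvd fun h =>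
        (hprimes q hq h).elim hq2 hqp
    · exact Nat.factorization_eq_zero_of_not_prime _ hq
  haveI := isSolvable_of_card_pq 2 p Nat.prime_two hp (Nat.card G) G rfl hab
  have hcm : ∀ a b : G, a * b = b * a := IsSimpleGroup.comm_iff_isSolvable.2 inferInstance
  refine hnp ?_
  letI : CommGroup G := { (inferInstance : Group G) with mul_comm := hcm }
  exact IsSimpleGroup.prime_card

/-- A normal Sylow subgroup in every centralizer forces a large class in a simple group. -/
theorem simple_case {p : ℕ} [Fact p.Prime] (hnp : ¬ (Nat.card G).Prime) (hb : Below G p)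
    (hsub : ∀ H : Subgroup G, H ≠ ⊤ → ∀ Q : Sylow p H, (Q : Subgroup H).Normal)
    (P : Sylow p G) (hP : (P : Subgroup G) ≠ ⊥) : False := by
  classical
  have hp : p.Prime := Fact.out
  have hp3 : 3 ≤ p := by
    by_contra hlt
    have hp2 : p = 2 := by have := hp.two_le; omega
    refine hnp ?_
    have hcm : ∀ a b : G, a * b = b * a := commute_of_all_linear fun χ => by
      rw [irr_one_eq_charDegree, show charDegree (χ : G → ℂ) = 1 by
        have := hb χ; have := charDegree_pos χ; omega, Nat.cast_one]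
    letI : CommGroup G := { (inferInstance : Group G) with mul_comm := hcm }
    exact IsSimpleGroup.prime_card
  -- the Sylow subgroups intersect trivially
  have hTI : ∀ Q R : Sylow p G, ∀ z : G, z ≠ 1 → z ∈ (Q : Subgroup G) → z ∈ (R : Subgroup G) →
      Q = R := by
    intro Q R z hz hzQ hzR
    have hC : Subgroup.centralizer ({z} : Set G) ≠ ⊤ := fun h => hz (center_trivial hnp
      (Subgroup.mem_center_iff.2 fun x =>
        Subgroup.mem_centralizer_singleton_iff.1 ((Subgroup.eq_top_iff' _).1 h x)))
    have hle : ∀ S : Sylow p G, z ∈ (S : Subgroup G) →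
        (S : Subgroup G) ≤ Subgroup.centralizer ({z} : Set G) := fun S hS x hx =>
      Subgroup.mem_centralizer_singleton_iff.2 (comm_of_pgroup hb _ S.2 x hx z hS)
    haveI := Sylow.unique_of_normal (Q.subtype (hle Q hzQ)) (hsub _ hC _)
    exact Sylow.subtype_injective (Subsingleton.elim (Q.subtype (hle Q hzQ)) (R.subtype (hle R hzR)))
  -- the order of the Sylow subgroup
  obtain ⟨a, ha⟩ := P.2.exists_card_eq
  rcases a with _ | _ | a
  · exact hP (Subgroup.card_eq_one.1 (by simpa using ha))
  · exact prime_case hp3 hnp hb P (by simpa using ha)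
  -- a class smaller than `p ^ 2`
  obtain ⟨b, hb1⟩ : ∃ b, p = b + 1 := ⟨p - 1, by omega⟩
  have hdeg : Nat.card G + b ^ 2 ≤ 1 + b ^ 2 * Nat.card (ConjClasses G) := by
    have h1 : ((∑ χ : IrrCharacter G, charDegree (χ : G → ℂ) ^ 2 : ℕ) : ℂ) = (Nat.card G : ℂ) := by
      push_cast
      simp only [← irr_one_eq_charDegree]
      exact sum_sq_degree
    rw [Nat.cast_inj, ← Finset.add_sum_erase _ _ (Finset.mem_univ (principal G)),
      show charDegree (principal G : G → ℂ) = 1 from TwoDegrees.deg_eq (by simp [principal])] at h1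
    have h2 := Finset.sum_le_card_nsmul ((Finset.univ : Finset (IrrCharacter G)).erase (principal G))
      (fun χ => charDegree (χ : G → ℂ) ^ 2) (b ^ 2) fun χ _ =>
        Nat.pow_le_pow_left (by have := hb χ; omega) 2
    rw [Finset.card_erase_of_mem (Finset.mem_univ _), Finset.card_univ,
      ← Nat.card_eq_fintype_card, card_irrCharacter, smul_eq_mul] at h2
    have h3 : 0 < Nat.card (ConjClasses G) := by
      haveI : Nonempty (ConjClasses G) := ⟨ConjClasses.mk 1⟩
      exact Nat.card_pos
    obtain ⟨k', hk'⟩ : ∃ k', Nat.card (ConjClasses G) = k' + 1 :=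
      ⟨Nat.card (ConjClasses G) - 1, by omega⟩
    rw [hk', Nat.add_sub_cancel] at h2
    rw [hk']
    nlinarith [h1, h2]
  obtain ⟨g, hg1, hgidx⟩ : ∃ g : G, g ≠ 1 ∧
      (Subgroup.centralizer ({g} : Set G)).index ≤ b ^ 2 := by
    by_contra hcon
    push Not at hcon
    have hsum : Nat.card (ConjClasses G) * Nat.card G =
        ∑ x : G, Nat.card (Subgroup.centralizer ({x} : Set G)) := by
      rw [← card_comm_eq_card_conjClasses_mul_card, ← Nat.card_sigma]
      exact Nat.card_congr
        { toFun := fun q => ⟨q.1.1, q.1.2, Subgroup.mem_centralizer_singleton_iff.2 q.2.symm.eq⟩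
          invFun := fun q => ⟨(q.1, (q.2 : G)),
            (Subgroup.mem_centralizer_singleton_iff.1 q.2.2).symm⟩
          left_inv := fun q => rfl
          right_inv := fun q => rfl }
    have h1 : ∀ x ∈ (Finset.univ : Finset G).erase 1,
        Nat.card (Subgroup.centralizer ({x} : Set G)) * (b ^ 2 + 1) ≤ Nat.card G := fun x hx => by
      refine (Nat.mul_le_mul_left _ (hcon x (Finset.ne_of_mem_erase hx))).trans ?_
      rw [Subgroup.card_mul_index]
    have h2 := Finset.sum_le_card_nsmul _ _ _ h1
    rw [← Finset.sum_mul, Finset.card_erase_of_mem (Finset.mem_univ _), Finset.card_univ,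
      ← Nat.card_eq_fintype_card, smul_eq_mul] at h2
    rw [← Finset.add_sum_erase _ _ (Finset.mem_univ (1 : G)),
      show Subgroup.centralizer ({(1 : G)} : Set G) = ⊤ from (Subgroup.eq_top_iff' _).2 fun x =>
        Subgroup.mem_centralizer_singleton_iff.2 (by simp), Subgroup.card_top] at hsum
    set k := Nat.card (ConjClasses G)
    set s := ∑ x ∈ (Finset.univ : Finset G).erase 1,
      Nat.card (Subgroup.centralizer ({x} : Set G))
    obtain ⟨n, hn⟩ : ∃ n, Nat.card G = n + 1 := ⟨Nat.card G - 1, by
      have := Nat.card_pos (α := G); omega⟩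
    rw [hn, Nat.add_sub_cancel] at h2
    rw [hn] at hsum hdeg
    have h3 : k * (b ^ 2 + 1) ≤ b ^ 2 + 1 + n := by
      refine Nat.le_of_mul_le_mul_right ?_ (show 0 < n + 1 by omega)
      calc k * (b ^ 2 + 1) * (n + 1) = k * (n + 1) * (b ^ 2 + 1) := by ring
        _ = (n + 1) * (b ^ 2 + 1) + s * (b ^ 2 + 1) := by rw [hsum]; ring
        _ ≤ (n + 1) * (b ^ 2 + 1) + n * (n + 1) := by omega
        _ = (b ^ 2 + 1 + n) * (n + 1) := by ring
    have hk1 : k ≤ 1 := by nlinarith
    have hn0 : n = 0 := by nlinarith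
    have hgt := Finite.one_lt_card (α := G)
    omega
  set H := Subgroup.centralizer ({g} : Set G) with hHdef
  have hHtop : H ≠ ⊤ := fun h => hg1 (center_trivial hnp
    (Subgroup.mem_center_iff.2 fun x =>
      Subgroup.mem_centralizer_singleton_iff.1 ((Subgroup.eq_top_iff' _).1 h x)))
  have hmlt : H.index < p ^ 2 :=
    lt_of_le_of_lt hgidx (Nat.pow_lt_pow_left (by omega) two_ne_zero)
  have hpH : p ∣ Nat.card H := by
    have h1 : p ^ 2 ∣ Nat.card H * H.index := by
      rw [Subgroup.card_mul_index]
      exact (pow_dvd_pow p (by omega)).trans (ha ▸ Subgroup.card_subgroup_dvd_card (P : Subgroup G))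
    by_contra hnd
    exact absurd (Nat.le_of_dvd (Nat.pos_of_ne_zero Subgroup.index_ne_zero_of_finite)
      (((hp.coprime_iff_not_dvd.2 hnd).pow_left 2).dvd_of_dvd_mul_left h1)) (not_le.2 hmlt)
  obtain ⟨R⟩ : Nonempty (Sylow p H) := inferInstance
  haveI hRn := hsub H hHtop R
  obtain ⟨Q, hQ⟩ := (R.2.map H.subtype).exists_le_sylow
  obtain ⟨z, hzR, hz1⟩ : ∃ z, z ∈ (R : Subgroup H) ∧ z ≠ 1 := by
    by_contra hcon
    push Not at hcon
    have hbot : (R : Subgroup H) = ⊥ := (Subgroup.eq_bot_iff_forall _).2 hcon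
    exact R.not_dvd_index (by rw [hbot, Subgroup.index_bot]; exact hpH)
  have hHN : H ≤ Subgroup.normalizer ((Q : Subgroup G) : Set G) := by
    intro h hh
    have hz' : h * (z : G) * h⁻¹ ∈ (Q : Subgroup G) :=
      hQ ⟨⟨h, hh⟩ * z * ⟨h, hh⟩⁻¹, hRn.conj_mem z hzR ⟨h, hh⟩, rfl⟩
    have heq : h • Q = Q := by
      refine hTI _ _ (h * (z : G) * h⁻¹) (fun e => hz1 (Subtype.ext ?_)) ?_ hz'
      · rwa [mul_inv_eq_one, mul_eq_left] at e
      · show h * (z : G) * h⁻¹ ∈ ((h • Q : Sylow p G) : Subgroup G)
        rw [Sylow.coe_subgroup_smul]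
        exact Subgroup.smul_mem_pointwise_smul _ (MulAut.conj h) _ (hQ ⟨z, hzR, rfl⟩)
    exact Sylow.smul_eq_iff_mem_normalizer.1 heq
  have hnQ : Nat.card (Sylow p G) ≤ H.index := by
    rw [Q.card_eq_index_normalizer]
    exact Nat.le_of_dvd (Nat.pos_of_ne_zero Subgroup.index_ne_zero_of_finite)
      (Subgroup.index_dvd_of_le hHN)
  obtain ⟨R', hR'⟩ : ∃ R' : Sylow p G, R' ≠ P := by
    by_contra hcon
    push Not at hcon
    haveI : Subsingleton (Sylow p G) := ⟨fun a b => (hcon a).trans (hcon b).symm⟩
    have hnorm := Sylow.normal_of_subsingleton P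
    rcases hnorm.eq_bot_or_eq_top with h | h
    · exact hP h
    · have hcm : ∀ a b : G, a * b = b * a := fun a b =>
        comm_of_pgroup hb _ P.2 a (h ▸ Subgroup.mem_top a) b (h ▸ Subgroup.mem_top b)
      refine hnp ?_
      letI : CommGroup G := { (inferInstance : Group G) with mul_comm := hcm }
      exact IsSimpleGroup.prime_card
  have hinj : Function.Injective fun x : (P : Subgroup G) => (x : G) • R' := by
    intro x y hxy
    by_contra hne
    have h1 : ((y : G)⁻¹ * (x : G)) • R' = R' := by
      rw [mul_smul, show (x : G) • R' = (y : G) • R' from hxy, inv_smul_smul]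
    have h2 := Sylow.smul_eq_iff_mem_normalizer.1 h1
    have hmem : (y : G)⁻¹ * (x : G) ∈ (P : Subgroup G) := mul_mem (inv_mem y.2) x.2
    obtain ⟨i, hi⟩ := (IsPGroup.iff_orderOf).1 P.2 ⟨_, hmem⟩
    rw [Subgroup.orderOf_mk] at hi
    have hpg : IsPGroup p (Subgroup.zpowers ((y : G)⁻¹ * (x : G))) :=
      IsPGroup.of_card (n := i) (by rw [Nat.card_zpowers, hi])
    have h3 := hpg.inf_normalizer_sylow R'
    have h4 : (y : G)⁻¹ * (x : G) ∈ (R' : Subgroup G) := by
      have : (y : G)⁻¹ * (x : G) ∈ Subgroup.zpowers ((y : G)⁻¹ * (x : G)) ⊓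
          Subgroup.normalizer ((R' : Subgroup G) : Set G) :=
        Subgroup.mem_inf.2 ⟨Subgroup.mem_zpowers _, h2⟩
      exact (Subgroup.mem_inf.1 (h3.le this)).2
    refine hR' (hTI R' P _ (fun e => hne (Subtype.ext ?_)) h4 hmem)
    exact (inv_mul_eq_one.1 e).symm
  have h5 := Nat.card_le_card_of_injective _ hinj
  rw [ha] at h5
  have h6 : p ^ 2 ≤ p ^ (a + 1 + 1) := Nat.pow_le_pow_right hp.pos (by omega)
  omega

end Simple

/-- All degrees below `p`: the Sylow subgroups are normal. -/
theorem normal_sylow {p : ℕ} [Fact p.Prime] : ∀ (n : ℕ) (G : Type u) [Group G] [Finite G],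
    Nat.card G = n → Below G p → ∀ P : Sylow p G, (P : Subgroup G).Normal := by
  intro n
  induction n using Nat.strong_induction_on with
  | _ n ih =>
    intro G _ _ hn hb P
    classical
    haveI : Fintype G := Fintype.ofFinite G
    have hp : p.Prime := Fact.out
    have hsub : ∀ H : Subgroup G, H ≠ ⊤ → ∀ Q : Sylow p H, (Q : Subgroup H).Normal := by
      intro H hH Q
      exact ih _ (hn ▸ lt_of_le_of_ne (Subgroup.card_le_card_group H)
        (fun h => hH (H.eq_top_of_card_eq h))) H rfl (hb.sub H) Q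
    have hquot : ∀ K : Subgroup G, ∀ [K.Normal], K ≠ ⊥ → ((P : Subgroup G) ⊔ K).Normal := by
      intro K _ hK
      have hlt : Nat.card (G ⧸ K) < n := by
        rw [← hn, Subgroup.card_eq_card_quotient_mul_card_subgroup K]
        exact lt_mul_of_one_lt_right Nat.card_pos (K.one_lt_card_iff_ne_bot.mpr hK)
      have h1 := ih _ hlt (G ⧸ K) rfl (hb.quot K) (P.mapSurjective (QuotientGroup.mk'_surjective K))
      have h2 := h1.comap (QuotientGroup.mk' K)
      rwa [show ((P.mapSurjective (QuotientGroup.mk'_surjective K) : Sylow p (G ⧸ K)) :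
          Subgroup (G ⧸ K)) = (P : Subgroup G).map (QuotientGroup.mk' K) from rfl,
        Subgroup.comap_map_eq, QuotientGroup.ker_mk'] at h2
    by_cases hP0 : (P : Subgroup G) = ⊥
    · rw [hP0]; infer_instance
    by_cases hKex : ∃ K : Subgroup G, K.Normal ∧ K ≠ ⊥ ∧ IsPGroup p K
    · obtain ⟨K, hKn, hK, hKp⟩ := hKex
      haveI := hKn
      have h := hquot K hK
      rwa [sup_eq_left.2] at h
      obtain ⟨Q, hQ⟩ := hKp.exists_le_sylow
      obtain ⟨x, hx⟩ := MulAction.exists_smul_eq G Q P
      intro k hk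
      rw [← hx, Sylow.coe_subgroup_smul]
      have h1 : x⁻¹ * k * x ∈ (Q : Subgroup G) := hQ (by
        have h0 := hKn.conj_mem k hk x⁻¹
        simpa using h0)
      have h2 := Subgroup.smul_mem_pointwise_smul _ (MulAut.conj x) _ h1
      rwa [MulAut.smul_def, MulAut.conj_apply, show x * (x⁻¹ * k * x) * x⁻¹ = k by group] at h2
    push Not at hKex
    by_cases hsimple : ∀ H : Subgroup G, H.Normal → H = ⊥ ∨ H = ⊤
    · haveI : Nontrivial G := by
        by_contra h
        rw [not_nontrivial_iff_subsingleton] at h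
        exact hP0 (Subgroup.eq_bot_of_subsingleton _)
      haveI : IsSimpleGroup G := ⟨hsimple⟩
      by_cases hpr : (Nat.card G).Prime
      · haveI : Fact (Nat.card G).Prime := ⟨hpr⟩
        rw [(Subgroup.eq_bot_or_eq_top_of_prime_card (P : Subgroup G)).resolve_left hP0]
        infer_instance
      · exact (simple_case hpr hb hsub P hP0).elim
    push Not at hsimple
    obtain ⟨N, hN, hN0, hN1⟩ := hsimple
    haveI := hN
    -- the normal subgroup has order prime to p
    have hNp : ¬ p ∣ Nat.card N := by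
      intro hdvd
      obtain ⟨R⟩ : Nonempty (Sylow p N) := inferInstance
      have hRn := hsub N hN1 R
      haveI := R.characteristic_of_normal hRn
      refine hKex ((R : Subgroup N).map N.subtype) inferInstance ?_ (R.2.map _)
      rw [Ne, Subgroup.map_eq_bot_iff_of_injective _ N.subtype_injective]
      intro hbot
      exact R.not_dvd_index (by rw [hbot, Subgroup.index_bot]; exact hdvd)
    have hM := hquot N hN0
    by_cases hMtop : (P : Subgroup G) ⊔ N = ⊤
    swap
    · haveI := hM
      have hPM : (P : Subgroup G) ≤ (P : Subgroup G) ⊔ N := le_sup_left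
      have hPn := hsub _ hMtop (P.subtype hPM)
      haveI := (P.subtype hPM).characteristic_of_normal hPn
      have h : (((P.subtype hPM : Sylow p ((P : Subgroup G) ⊔ N : Subgroup G)) :
          Subgroup ((P : Subgroup G) ⊔ N : Subgroup G)).map
          ((P : Subgroup G) ⊔ N).subtype).Normal := inferInstance
      rwa [show ((P.subtype hPM : Sylow p ((P : Subgroup G) ⊔ N : Subgroup G)) :
          Subgroup ((P : Subgroup G) ⊔ N : Subgroup G)) =
          (P : Subgroup G).subgroupOf ((P : Subgroup G) ⊔ N) from rfl,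
        Subgroup.subgroupOf_map_subtype, inf_eq_left.2 hPM] at h
    have hdis : Disjoint (P : Subgroup G) N := by
      refine Subgroup.disjoint_of_coprime_natCard ?_
      obtain ⟨k, hk⟩ := P.2.exists_card_eq
      rw [hk]
      exact ((hp.coprime_iff_not_dvd.2 hNp).pow_left k)
    have hcardG : Nat.card G = Nat.card (P : Subgroup G) * Nat.card N :=
      (Subgroup.IsComplement'.card_mul (Subgroup.isComplement'_of_disjoint_and_mul_eq_univ hdis (by
        rw [← Subgroup.mul_normal, hMtop]; rfl))).symm
    -- the Sylow subgroup has prime order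
    have hPp : Nat.card (P : Subgroup G) = p := by
      obtain ⟨k, hk⟩ := P.2.exists_card_eq
      have hk0 : k ≠ 0 := fun h => hP0 (Subgroup.card_eq_one.1 (by rw [hk, h, pow_zero]))
      obtain ⟨y, hy⟩ := exists_prime_orderOf_dvd_card' (G := (P : Subgroup G)) p
        (hk ▸ dvd_pow_self p hk0)
      by_contra hne
      set Z := Subgroup.zpowers (y : G) with hZ
      have hZP : Z ≤ (P : Subgroup G) := Subgroup.zpowers_le.2 y.2
      have hZcard : Nat.card Z = p := by rw [hZ, Nat.card_zpowers, Subgroup.orderOf_coe, hy]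
      have hne' : Z ⊔ N ≠ ⊤ := by
        intro htop
        have h2 : Nat.card G ≤ Nat.card Z * Nat.card N := by
          rw [← Subgroup.card_top, ← htop]
          show Nat.card ((Z ⊔ N : Subgroup G) : Set G) ≤ _
          rw [Subgroup.mul_normal]
          exact (Set.natCard_mul_le).trans le_rfl
        rw [hcardG, hZcard] at h2
        have h3 := Nat.le_of_mul_le_mul_right h2 Nat.card_pos
        refine hne (le_antisymm h3 ?_)
        rw [hk]
        exact Nat.le_self_pow hk0 p
      have hZp : IsPGroup p Z := IsPGroup.of_card (n := 1) (by rw [pow_one, hZcard])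
      obtain ⟨R, hR⟩ := (hZp.comap_of_injective (Z ⊔ N).subtype (Z ⊔ N).subtype_injective).exists_le_sylow
      have hRn := hsub _ hne' R
      have hRc : Nat.card (R : Subgroup (Z ⊔ N : Subgroup G)) ≤ p := by
        obtain ⟨j, hj⟩ := R.2.exists_card_eq
        rw [hj]
        have h1 := Subgroup.card_subgroup_dvd_card (R : Subgroup (Z ⊔ N : Subgroup G))
        rw [hj] at h1
        have h2 : Nat.card (Z ⊔ N : Subgroup G) ≤ p * Nat.card N := by
          rw [← hZcard]
          show Nat.card ((Z ⊔ N : Subgroup G) : Set G) ≤ _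
          rw [Subgroup.mul_normal]
          exact Set.natCard_mul_le
        have h3 : Nat.card (Z ⊔ N : Subgroup G) = p * Nat.card N := by
          refine le_antisymm h2 (Nat.le_of_dvd Nat.card_pos ?_)
          exact Nat.Coprime.mul_dvd_of_dvd_of_dvd (hp.coprime_iff_not_dvd.2 hNp)
            (hZcard ▸ Subgroup.card_dvd_of_le le_sup_left) (Subgroup.card_dvd_of_le le_sup_right)
        rw [h3] at h1
        rcases j with _ | _ | j
        · simp; exact hp.one_lt.le
        · simp
        · exfalso
          have h4 : p * p ∣ p * Nat.card N :=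
            (by rw [← pow_two]; exact pow_dvd_pow p (by omega) : p * p ∣ p ^ (j + 1 + 1)).trans h1
          exact hNp (Nat.dvd_of_mul_dvd_mul_left hp.pos h4)
      have hRZ : (R : Subgroup (Z ⊔ N : Subgroup G)) = Z.subgroupOf (Z ⊔ N) := by
        refine (Subgroup.eq_of_le_of_card_ge hR (hRc.trans (le_of_eq ?_))).symm
        show p = Nat.card (Z.subgroupOf (Z ⊔ N))
        rw [Nat.card_congr (Subgroup.subgroupOfEquivOfLe (le_sup_left : Z ≤ Z ⊔ N)).toEquiv, hZcard]
      have hZn : Z.Normal := by
        rw [← Subgroup.normalizer_eq_top_iff, eq_top_iff, ← hMtop]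
        refine sup_le (fun x hx => Subgroup.centralizer_le_normalizer _
          (Subgroup.mem_centralizer_iff.2 fun w hw => comm_of_pgroup hb _ P.2 w (hZP hw) x hx))
          fun x hx => ?_
        rw [hRZ] at hRn
        refine Subgroup.mem_normalizer_iff.2 fun w => ⟨fun hw => ?_, fun hw => ?_⟩
        · exact hRn.conj_mem ⟨w, (le_sup_left : Z ≤ Z ⊔ N) hw⟩ hw ⟨x, (le_sup_right : N ≤ Z ⊔ N) hx⟩
        · have h := hRn.conj_mem ⟨_, (le_sup_left : Z ≤ Z ⊔ N) hw⟩ hw
            (⟨x, (le_sup_right : N ≤ Z ⊔ N) hx⟩⁻¹)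
          rw [Subgroup.mem_subgroupOf] at h
          simpa [mul_assoc] using h
      exact hKex Z hZn (fun h => hp.ne_one (by rw [← hZcard, h, Subgroup.card_bot])) hZp
    -- it centralizes the normal subgroup
    obtain ⟨y, hy⟩ := exists_prime_orderOf_dvd_card' (G := (P : Subgroup G)) p (by rw [hPp])
    have hy' : orderOf (y : G) = p := by rw [Subgroup.orderOf_coe, hy]
    have hPy : (P : Subgroup G) = Subgroup.zpowers (y : G) :=
      (Subgroup.eq_of_le_of_card_ge (Subgroup.zpowers_le.2 y.2)
        (by rw [Nat.card_zpowers, hy', hPp])).symm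
    haveI : Fintype N := Fintype.ofFinite _
    have hfixirr : ∀ θ : IrrCharacter N, (fun k : N => (θ : N → ℂ) (Cfsg.Agent.Char.conjHom N (y : G) k)) = θ := by
      intro θ
      by_contra hne
      obtain ⟨χ, hχ⟩ := exists_over_any N θ
      have hd := clifford_degree N χ.2 θ.2 hχ
      obtain ⟨e, he⟩ := IsCharacter.exists_classInner_nat
        (IsCharacter.restrict (irr_isCharacter χ) N) (irr_isCharacter θ)
      rw [he, irr_one_eq_charDegree, irr_one_eq_charDegree, ← Nat.cast_mul, ← Nat.cast_mul,
        Nat.cast_inj] at hd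
      have hidx : (inertia N (θ : N → ℂ)).index ∣ p := by
        have h1 := Subgroup.index_dvd_of_le
          (le_inertia N (IsCharacter.isClassFunction (irr_isCharacter θ)))
        have h2 : N.index = p := by
          have := N.card_mul_index
          rw [hcardG, hPp, mul_comm p] at this
          exact Nat.eq_of_mul_eq_mul_left Nat.card_pos this
        rwa [h2] at h1
      rcases hp.eq_one_or_self_of_dvd _ hidx with h | h
      · exact hne (by
          have := (Subgroup.index_eq_one.1 h) ▸ Subgroup.mem_top (y : G)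
          exact (mem_inertia N).1 this)
      · have hdvd : p ∣ charDegree (χ : G → ℂ) := ⟨e * charDegree (θ : N → ℂ), by
          rw [hd, h]; ring⟩
        exact absurd (Nat.le_of_dvd (charDegree_pos χ) hdvd) (not_le.2 (hb χ))
    have hcls : ∀ c : N, IsConj (Cfsg.Agent.Char.conjHom N (y : G) c) c := by
      have hσ : ∀ a b : N, IsConj a b → IsConj (Cfsg.Agent.Char.conjHom N (y : G) a) (Cfsg.Agent.Char.conjHom N (y : G) b) :=
        fun a b h => MonoidHom.map_isConj _ h
      have h := card_fixed_irr (G := N) (fun k => Cfsg.Agent.Char.conjHom N (y : G) k) hσ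
        (fun χ hχ => IsIrrCharacter.comp hχ _ (Cfsg.Agent.Char.conjHom_surjective N (y : G)))
      rw [Nat.card_congr (Equiv.subtypeUnivEquiv hfixirr), card_irrCharacter] at h
      intro c
      by_contra hc
      haveI : Finite (ConjClasses N) := Finite.of_surjective ConjClasses.mk ConjClasses.mk_surjective
      have hlt := Finite.card_subtype_lt (p := fun C : ConjClasses N =>
        ∀ g, ConjClasses.mk g = C → IsConj (Cfsg.Agent.Char.conjHom N (y : G) g) g) (x := ConjClasses.mk c)
        fun h' => hc (h' c rfl)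
      omega
    have hynorm : (y : G) ∈ Subgroup.normalizer (N : Set G) :=
      (Subgroup.normalizer_eq_top_iff.2 hN) ▸ Subgroup.mem_top _
    have hcopy : Nat.Coprime (orderOf (y : G)) (Nat.card N) := by
      rw [hy']; exact hp.coprime_iff_not_dvd.2 hNp
    have hcent : ∀ c ∈ N, Commute (y : G) c := by
      have htop : (Subgroup.centralizer ({(y : G)} : Set G)).subgroupOf N = ⊤ := by
        refine Counting.eq_top_of_conj_cover _ fun c => ?_
        obtain ⟨a, ha⟩ := isConj_iff.1 (hcls c)
        have h1 : (a : G)⁻¹ * (c : G) * (a : G) = (y : G) * c * (y : G)⁻¹ := by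
          have := congrArg Subtype.val ha
          simp only [Subgroup.coe_mul, Subgroup.coe_inv, Cfsg.Agent.Char.conjHom_coe] at this
          calc (a : G)⁻¹ * (c : G) * (a : G)
              = (a : G)⁻¹ * ((a : G) * ((y : G) * c * (y : G)⁻¹) * (a : G)⁻¹) * (a : G) := by
                rw [this]
            _ = _ := by group
        obtain ⟨k, hk, hkc⟩ := exists_fixed_of_class N hynorm hcopy c.2 (inv_mem a.2)
          (by rw [inv_inv]; exact h1)
        refine ⟨⟨k, hk⟩⁻¹, ?_⟩
        rw [Subgroup.mem_subgroupOf, Subgroup.mem_centralizer_singleton_iff]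
        simp only [Subgroup.coe_mul, Subgroup.coe_inv, inv_inv]
        exact hkc.symm
      intro c hc
      have h := (Subgroup.eq_top_iff' _).1 htop ⟨c, hc⟩
      rw [Subgroup.mem_subgroupOf, Subgroup.mem_centralizer_singleton_iff] at h
      exact h.symm
    have hcen : (y : G) ∈ Subgroup.center G := by
      rw [Subgroup.mem_center_iff]
      intro g
      have hle : (P : Subgroup G) ⊔ N ≤ Subgroup.centralizer ({(y : G)} : Set G) := sup_le
        (fun x hx => Subgroup.mem_centralizer_singleton_iff.2 (comm_of_pgroup hb _ P.2 x hx y y.2))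
        (fun x hx => Subgroup.mem_centralizer_singleton_iff.2 (hcent x hx).symm.eq)
      exact Subgroup.mem_centralizer_singleton_iff.1 (hle (hMtop ▸ Subgroup.mem_top g))
    refine ⟨fun x hx g => ?_⟩
    rw [hPy] at hx ⊢
    have hxc : x ∈ Subgroup.center G := Subgroup.zpowers_le.2 hcen hx
    rwa [Subgroup.mem_center_iff.1 hxc g, mul_inv_cancel_right]

end Cfsg.Agent.SmallDegrees
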