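/-
A block with few characters outside one major 2-subsection.
-/
import Cfsg.Agent.Lib.Blocks.SubsectionBound

set_option linter.unusedSectionVars false
set_option linter.style.haveILetI false

namespace Cfsg.Agent.Blocks

open Cfsg MonoidAlgebra Cfsg.Agent.Char
open scoped ComplexConjugate

universe u

variable {G : Type u} [Group G] [Fintype G] {M : Ideal AlgInt} [M.IsPrime]
  {x : G} {C : Subgroup G} [Fintype C] {b : Set (IrrCharacter C)} [DecidablePred (· ∈ b)]
  {B : Set (IrrCharacter G)} [DecidablePred (· ∈ B)] (D : SubData 2 M x C b B)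

namespace SubData

/-- The diagonal average of a character of positive height is divisible by twice the power of its
height. -/
theorem two_pow_succ_dvd_avg (hd : blockDefect 2 b = blockDefect 2 B) {χ : IrrCharacter G}
    (hχ : χ ∈ B) (hh : blockHeight 2 B (χ : G → ℂ) ≠ 0) {A : ℕ}
    (hA : ∑ t ∈ primExps 2 (2 ^ (D.j + 1)), D.diag χ t = (2 ^ D.j : ℕ) * (A : ℝ)) :
    2 * 2 ^ blockHeight 2 B (χ : G → ℂ) ∣ A := by
  classical
  set h := blockHeight 2 B (χ : G → ℂ) with hhd
  obtain ⟨χ₀, hχ₀, h0⟩ := exists_heightZero D.hM D.hind.2.1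
  set ι := {θ // θ ∈ b}
  set e' : ι → ℕ := fun a => D.e a with he'
  set c : ℕ → ι → ℤ := fun r => coord D.j e' r with hc
  set P := 2 ^ D.j with hP
  -- the pairings with the members of the block
  have hrow : ∀ a' : ι, ∀ r, r < P → (2 : ℤ) ^ h ∣ ∑ a, c r a * (D.nv χ a * D.r a a') := by
    intro a'
    let v : ι → ℂ := fun a => if a = a' then 1 else 0
    have hvR : ∀ a, MemLocalRing M (conj (v a)) := fun a => by
      simp only [v]
      split_ifs
      · rw [map_one]; exact (locRing M).one_mem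
      · rw [map_zero]; exact (locRing M).zero_mem
    have hM := (D.regPair_major' hd hχ hχ₀ h0 v hvR).1
    refine dvd_of_combination D.hM D.hζ h _ ?_
    convert hM using 2
    · have := twist_eq_coord D.hζ e' (fun a (_ : Unit) => ((D.nv χ a * D.r a a' : ℤ) : ℂ))
        (t := 1) (by norm_num) ()
      simp only [comb_unit, one_mul] at this
      rw [D.regPair_fn]
      refine Eq.trans (Finset.sum_congr rfl fun r _ => mul_comm _ _) (this.symm.trans ?_)
      refine Finset.sum_congr rfl fun a _ => ?_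
      rw [Finset.sum_eq_single a']
      · simp [v, coef, nv, he']; ring
      · intro a'' _ hne; simp [v, hne]
      · exact fun h => absurd (Finset.mem_univ _) h
    · simp [hhd]
  choose s hs using fun (r : Fin P) (a' : ι) => hrow a' r r.2
  have h2 : (2 : ℤ) ^ h ≠ 0 := pow_ne_zero _ (by norm_num)
  let X : Fin P → Fin P → ℤ := fun r r' => ∑ a', c r' a' * D.nv χ a' * s r a'
  have hX : ∀ r r' : Fin P, (2 : ℤ) ^ h * X r r' =
      D.form (fun a => c r a * D.nv χ a) (fun a => c r' a * D.nv χ a) := by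
    intro r r'
    simp only [X, form, Finset.mul_sum]
    rw [Finset.sum_comm (γ := ι)]
    refine Finset.sum_congr rfl fun a' _ => ?_
    rw [show (2 : ℤ) ^ h * (c r' a' * D.nv χ a' * s r a') =
      c r' a' * D.nv χ a' * (2 ^ h * s r a') by ring, ← hs r a', Finset.mul_sum]
    exact Finset.sum_congr rfl fun a _ => by ring
  have hXs : ∀ r r', X r r' = X r' r := fun r r' => mul_left_cancel₀ h2 (by
    rw [hX, hX]
    simp only [form]
    rw [Finset.sum_comm]
    exact Finset.sum_congr rfl fun a _ => Finset.sum_congr rfl fun a' _ => by rw [D.hsymm]; ring)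
  -- the average
  have hAe : (A : ℤ) = 2 ^ h * ∑ r : Fin P, X r r := by
    have h3 : ∑ t ∈ primExps 2 (2 ^ (D.j + 1)), D.diag χ t = _ :=
      sum_primExps_two D.hζ e' (blockScale 2 b) (D.wRow χ)
    rw [hA] at h3
    simp only [D.qn_comb_wRow] at h3
    rw [← Int.cast_sum] at h3
    have h4 := mul_left_cancel₀
      (Nat.cast_ne_zero.2 (Nat.two_pow_pos _).ne') h3
    rw [← Int.cast_natCast (R := ℝ) A] at h4
    rw [Int.cast_injective h4, Finset.mul_sum, Finset.sum_range]
    exact Finset.sum_congr rfl fun r _ => by rw [hX]; rfl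
  -- parity through the local ideal
  have hI : (2 : ℤ) ∣ ∑ r : Fin P, ∑ a', D.nv χ a' * s r a' := by
    have hM := D.regPair_major' hd hχ hχ₀ h0 (D.coef χ 1) (D.coef_conj_memLocalRing χ 1)
    have hmem : MemLocalIdeal M (D.K χ χ 1 / (2 : ℂ) ^ h) := by
      have := hM.2.2 ((D.K_mem_iff hχ₀ hχ 1).2 (Or.inr hh))
      exact_mod_cast this
    let q := 2 ^ (D.j + 1)
    have hKe : D.K χ χ 1 / (2 : ℂ) ^ h = ∑ y : Fin P × ι,
        D.ζ ^ ((y.1 : ℕ) + (q - 1) * D.e y.2) * ((D.nv χ y.2 * s y.1 y.2 : ℤ) : ℂ) := by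
      rw [K, D.regPair_fn, Finset.sum_comm, Fintype.sum_prod_type, Finset.sum_comm (γ := Fin P),
        Finset.sum_div]
      refine Finset.sum_congr rfl fun a' _ => ?_
      have := twist_eq_coord D.hζ e' (fun a (_ : Unit) => ((D.nv χ a * D.r a a' : ℤ) : ℂ))
        (t := 1) (by norm_num) ()
      simp only [comb_unit, one_mul, twist, Finset.sum_range] at this
      calc (∑ a, D.coef χ 1 a * conj (D.coef χ 1 a') * (D.r a a' : ℂ)) / (2 : ℂ) ^ h
          = (D.ζ ^ ((q - 1) * D.e a') * (D.nv χ a' : ℂ)) *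
              (∑ a, D.ζ ^ e' a * ((D.nv χ a * D.r a a' : ℤ) : ℂ)) / (2 : ℂ) ^ h := by
            congr 1
            rw [Finset.mul_sum]
            refine Finset.sum_congr rfl fun a _ => ?_
            simp only [coef, nv, one_mul, map_mul, map_natCast, he', q,
              conj_root_pow (pow_ne_zero _ two_ne_zero) D.zeta_pow_eq_one]
            push_cast; ring
        _ = _ := by
            rw [this, Finset.mul_sum, Finset.sum_div]
            refine Finset.sum_congr rfl fun r _ => ?_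
            rw [show (∑ a, coord D.j e' (r : ℕ) a * (D.nv χ a * D.r a a')) = 2 ^ h * s r a' from
              hs r a', pow_add]
            push_cast
            field_simp
            
    rw [hKe] at hmem
    have h5 := MemLocalIdeal.sub hmem (sum_root_congr D.hM Finset.univ D.zeta_pow_eq_one
      (fun y : Fin P × ι => (y.1 : ℕ) + (q - 1) * D.e y.2) fun y => D.nv χ y.2 * s y.1 y.2)
    rw [sub_sub_cancel, Fintype.sum_prod_type] at h5
    exact_mod_cast (intCast_memLocalIdeal_iff D.hM _).1 h5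
  have heven : (2 : ℤ) ∣ ∑ r : Fin P, X r r := by
    rw [show (2 : ℤ) = ((2 : ℕ) : ℤ) from rfl, ← ZMod.intCast_zmod_eq_zero_iff_dvd] at hI ⊢
    rw [Int.cast_sum]
    have h6 := quad_mod_two X hXs fun _ => 1
    simp only [one_mul, Int.cast_one] at h6
    rw [← h6, ← hI, Int.cast_sum, Int.cast_sum]
    refine Finset.sum_congr rfl fun r _ => ?_
    rw [Int.cast_sum, Int.cast_sum]
    simp only [X, Int.cast_sum]
    rw [Finset.sum_comm]
    refine Finset.sum_congr rfl fun a' _ => ?_
    simp only [Int.cast_mul, mul_assoc, ← Finset.sum_mul]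
    rw [← Finset.sum_range (fun r => (c r a' : ZMod 2)), sum_coord, one_mul]
  obtain ⟨y, hy⟩ := heven
  rw [← Int.natCast_dvd_natCast]
  refine ⟨y, ?_⟩
  rw [hAe, hy]
  push_cast
  ring

/-- The diagonal average is the trace over the block. -/
theorem sum_avg_eq (A : IrrCharacter G → ℕ)
    (hA : ∀ φ, ∑ t ∈ primExps 2 (2 ^ (D.j + 1)), D.diag φ t = (2 ^ D.j : ℕ) * (A φ : ℝ)) :
    ∑ φ ∈ Finset.univ.filter (· ∈ B), A φ = blockRank 2 b * 2 ^ blockDefect 2 b := by
  classical
  have h1 : ((2 ^ D.j : ℕ) : ℝ) * ((∑ φ ∈ Finset.univ.filter (· ∈ B), A φ : ℕ) : ℝ) =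
      (2 ^ D.j : ℕ) * ((blockRank 2 b * 2 ^ blockDefect 2 b : ℕ) : ℝ) := by
    rw [Nat.cast_sum, Finset.mul_sum]
    simp only [← hA]
    rw [Finset.sum_comm, Finset.sum_congr rfl fun t ht => D.sum_diag ht, Finset.sum_const,
      nsmul_eq_mul, D.card_primExps_real, D.card_primExps_two]
    push_cast; ring
  exact_mod_cast mul_left_cancel₀ (Nat.cast_pos.2 (Nat.two_pow_pos _)).ne' h1

/-- The off-diagonal part of a row is bounded by the average and its complement. -/
theorem sum_off_diag_le {χ : IrrCharacter G} (hχ : χ ∈ B) {A : ℕ}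
    (hA : ∑ t ∈ primExps 2 (2 ^ (D.j + 1)), D.diag χ t = (2 ^ D.j : ℕ) * (A : ℝ)) :
    ∑ φ ∈ (Finset.univ.filter (· ∈ B)).erase χ,
        ∑ t ∈ primExps 2 (2 ^ (D.j + 1)), Complex.normSq (D.K φ χ t) ≤
      ((2 ^ D.j : ℕ) : ℝ) * ((A : ℝ) * (((2 ^ blockDefect 2 b : ℕ) : ℝ) - A)) := by
  classical
  set T := primExps 2 (2 ^ (D.j + 1)) with hT
  set Q : ℝ := ((2 ^ blockDefect 2 b : ℕ) : ℝ) with hQ
  set n : ℝ := ((2 ^ D.j : ℕ) : ℝ) with hn
  have hcard : (T.card : ℝ) = n := by rw [hT, D.card_primExps_real, D.card_primExps_two]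
  have hself : ∀ t, Complex.normSq (D.K χ χ t) = D.diag χ t * D.diag χ t := fun t => by
    rw [show D.K χ χ t = (D.diag χ t : ℂ) from (D.diag_eq χ t).symm, Complex.normSq_ofReal]
  have hrow : ∀ t ∈ T, ∑ φ ∈ (Finset.univ.filter (· ∈ B)).erase χ, Complex.normSq (D.K φ χ t) =
      Q * D.diag χ t - D.diag χ t * D.diag χ t := fun t ht => by
    rw [Finset.sum_erase_eq_sub (Finset.mem_filter.2 ⟨Finset.mem_univ _, hχ⟩), D.bessel_K ht χ,
      hself]
  rw [Finset.sum_comm, Finset.sum_congr rfl hrow, Finset.sum_sub_distrib, ← Finset.mul_sum, hA]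
  have hsq : 0 ≤ ∑ t ∈ T, (D.diag χ t - A) * (D.diag χ t - A) :=
    Finset.sum_nonneg fun t _ => mul_self_nonneg _
  have e : ∑ t ∈ T, (D.diag χ t - A) * (D.diag χ t - A) =
      ∑ t ∈ T, D.diag χ t * D.diag χ t - 2 * A * (n * A) + n * (A * A) := by
    simp only [show ∀ t, (D.diag χ t - A) * (D.diag χ t - A) =
      D.diag χ t * D.diag χ t - 2 * A * D.diag χ t + A * A from fun t => by ring,
      Finset.sum_add_distrib, Finset.sum_sub_distrib, ← Finset.mul_sum, hA, Finset.sum_const,
      nsmul_eq_mul, hcard]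
    ring
  nlinarith

include D in
/-- At most three characters more than the rank of a major subsection. -/
theorem card_le_of_deficiency (hd : blockDefect 2 b = blockDefect 2 B)
    (h : Nat.card B ≤ blockRank 2 b + 3) : Nat.card B ≤ 2 ^ blockDefect 2 B := by
  classical
  rw [← hd]
  set S := Finset.univ.filter (fun φ : IrrCharacter G => φ ∈ B) with hS
  have hcardB : Nat.card B = S.card := by
    rw [Nat.card_eq_fintype_card, Fintype.card_subtype]
  choose A hA hA2 using fun φ => D.exists_avg φ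
  set Q := 2 ^ blockDefect 2 b with hQ
  have hn : (0 : ℝ) < ((2 ^ D.j : ℕ) : ℝ) := Nat.cast_pos.2 (Nat.two_pow_pos _)
  have hoff : ∀ χ ∈ S, blockHeight 2 B (χ : G → ℂ) = 0 →
      ((S.erase χ).card : ℝ) ≤ (A χ : ℝ) * ((Q : ℝ) - A χ) := by
    intro χ hχ h0
    refine le_of_mul_le_mul_left ?_ hn
    refine le_trans ?_ (D.sum_off_diag_le (Finset.mem_filter.1 hχ).2 (hA χ))
    rw [mul_comm, ← nsmul_eq_mul, ← Finset.sum_const]
    refine Finset.sum_le_sum fun φ hφ => ?_
    refine le_trans ?_ (D.four_pow_le_of_major hd (Finset.mem_filter.1 (Finset.mem_of_mem_erase hφ)).2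
      (Finset.mem_filter.1 hχ).2 h0)
    exact le_mul_of_one_le_right hn.le (one_le_pow₀ (by norm_num))
  have hle : ∀ χ ∈ S, A χ ≤ Q := by
    intro χ hχ
    have h1 := D.sum_off_diag_le (Finset.mem_filter.1 hχ).2 (hA χ)
    have h2 : (0 : ℝ) ≤ (A χ : ℝ) * ((Q : ℝ) - A χ) := by
      refine nonneg_of_mul_nonneg_right (le_trans ?_ h1) hn
      exact Finset.sum_nonneg fun _ _ => Finset.sum_nonneg fun _ _ => Complex.normSq_nonneg _
    by_contra hgt
    push Not at hgt
    have hgt' : (Q : ℝ) < A χ := by exact_mod_cast hgt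
    nlinarith [(Nat.cast_nonneg Q : (0 : ℝ) ≤ Q)]
  by_cases hex : ∃ χ ∈ S, blockHeight 2 B (χ : G → ℂ) = 0 ∧ Q ≤ A χ + 1
  · obtain ⟨χ, hχ, h0, hAQ⟩ := hex
    have h1 := hoff χ hχ h0
    have hc := Finset.card_erase_add_one hχ
    rcases Nat.lt_or_ge (A χ) Q with hlt | hge
    · have e : Q = A χ + 1 := by omega
      rw [e, Nat.cast_add, Nat.cast_one, add_sub_cancel_left, mul_one, Nat.cast_le] at h1
      omega
    · have e : A χ = Q := le_antisymm (hle χ hχ) hge
      rw [e, sub_self, mul_zero] at h1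
      have : (S.erase χ).card = 0 := by exact_mod_cast le_antisymm h1 (Nat.cast_nonneg _)
      have := Nat.one_le_two_pow (n := blockDefect 2 b)
      omega
  push Not at hex
  have hall : ∀ χ ∈ S, A χ + 3 ≤ Q := by
    intro χ hχ
    by_cases h0 : blockHeight 2 B (χ : G → ℂ) = 0
    · have h1 := hex χ hχ h0
      obtain ⟨i, hi⟩ := D.odd_avg (Finset.mem_filter.1 hχ).2 h0 (hA2 χ)
      have hev : Even Q := by
        refine Nat.even_pow.2 ⟨even_two, fun e => ?_⟩
        rw [hQ, e, pow_zero] at h1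
        omega
      obtain ⟨i', hi'⟩ := hev
      omega
    · have hχB := (Finset.mem_filter.1 hχ).2
      have hlow := D.two_pow_succ_le_avg hd hχB h0 (hA χ)
      have hdvd := D.two_pow_succ_dvd_avg hd hχB h0 (hA χ)
      obtain ⟨m, hm⟩ := Nat.exists_eq_succ_of_ne_zero h0
      rw [hm] at hlow hdvd
      have hA4 : 4 ∣ A χ := dvd_trans ⟨2 ^ m, by rw [pow_succ]; ring⟩ hdvd
      have hlow' : 4 ≤ A χ := le_trans (by
        rw [pow_succ]
        have := Nat.one_le_two_pow (n := m)
        omega) hlow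
      have hQA : 4 ≤ Q := hlow'.trans (hle χ hχ)
      have hd2 : 2 ≤ blockDefect 2 b := by
        by_contra hlt
        have := Nat.pow_le_pow_right two_pos (show blockDefect 2 b ≤ 1 by omega)
        rw [← hQ] at this
        omega
      have hQ4 : 4 ∣ Q := (pow_dvd_pow 2 hd2)
      have hne : A χ ≠ Q := by
        intro e
        obtain ⟨χ₀, hχ₀, h00⟩ := exists_heightZero D.hM D.hind.2.1
        have hmem : χ₀ ∈ (Finset.univ.filter (· ∈ B)).erase χ := Finset.mem_erase.2
          ⟨fun he => h0 (he ▸ h00), Finset.mem_filter.2 ⟨Finset.mem_univ _, hχ₀⟩⟩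
        have h1 := D.sum_off_diag_le hχB (hA χ)
        rw [e, sub_self, mul_zero, mul_zero] at h1
        have h2 := le_trans (Finset.single_le_sum
          (fun φ _ => Finset.sum_nonneg fun t _ => Complex.normSq_nonneg (D.K φ χ t)) hmem) h1
        have h3 := D.four_pow_le_of_major hd hχB hχ₀ h00
        rw [Finset.sum_congr rfl fun t _ => show Complex.normSq (D.K χ χ₀ t) =
          Complex.normSq (D.K χ₀ χ t) by rw [← Complex.normSq_conj, K, regPair_conj]; rfl] at h3
        have : (0 : ℝ) < ((2 ^ D.j : ℕ) : ℝ) * (4 : ℝ) ^ blockHeight 2 B (χ : G → ℂ) :=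
          mul_pos hn (pow_pos (by norm_num) _)
        linarith
      obtain ⟨u, hu⟩ := hA4
      obtain ⟨v, hv⟩ := hQ4
      have := hle χ hχ
      omega
  have hsum := Finset.sum_le_sum hall
  rw [Finset.sum_add_distrib, D.sum_avg_eq A hA, Finset.sum_const, Finset.sum_const, smul_eq_mul,
    smul_eq_mul, ← hQ] at hsum
  rw [hcardB] at h ⊢
  have h2 : S.card * Q ≤ (blockRank 2 b + 3) * Q := Nat.mul_le_mul_right _ h
  rw [Nat.add_mul] at h2
  omega

end SubData

end Cfsg.Agent.Blocks
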