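/-
Squares in the derived group of a Sylow 2-subgroup of a wreath type.
-/
import Mathlib.GroupTheory.Abelianization.Defs
import Mathlib.GroupTheory.Sylow
import Mathlib.Algebra.Group.Pi.Lemmas
import Mathlib.Algebra.BigOperators.Pi
import Mathlib.Algebra.Group.Subgroup.Finite
import Mathlib.GroupTheory.PGroup
import Mathlib.Tactic

set_option autoImplicit false

namespace Cfsg.Agent.SylTwoWreath

/-- Every square is a product of commutators. -/
def SqComm (H : Type*) [Group H] : Prop := ∀ x : H, x ^ 2 ∈ commutator H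

theorem sqComm_map {A B : Type*} [Group A] [Group B] (f : A →* B) {a : A}
    (h : a ^ 2 ∈ commutator A) : (f a) ^ 2 ∈ commutator B := by
  rw [← map_pow]
  have h1 : (commutator A).map f ≤ commutator B := by
    rw [commutator_def, commutator_def, Subgroup.map_commutator]
    exact Subgroup.commutator_mono le_top le_top
  exact h1 ⟨_, h, rfl⟩

theorem sqComm_of_surjective {A B : Type*} [Group A] [Group B] (f : A →* B)
    (hf : Function.Surjective f) (h : SqComm A) : SqComm B := by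
  intro b
  obtain ⟨a, rfl⟩ := hf b
  exact sqComm_map f (h a)

/-- The elements whose square is a product of commutators. -/
def sqKer (R : Type*) [Group R] : Subgroup R :=
  ((powMonoidHom 2).comp (Abelianization.of : R →* Abelianization R)).ker

theorem mem_sqKer {R : Type*} [Group R] {x : R} : x ∈ sqKer R ↔ x ^ 2 ∈ commutator R := by
  rw [← Abelianization.ker_of, MonoidHom.mem_ker, map_pow, sqKer, MonoidHom.mem_ker]
  rfl

/-- A Sylow subgroup of a normal subgroup, inside a Sylow subgroup of the whole group. -/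
theorem inter_equiv {H G : Type*} [Group H] [Group G] [Finite G] {p : ℕ} [Fact p.Prime]
    (f : H →* G) (hf : Function.Injective f) [f.range.Normal] (R : Sylow p G) (P : Sylow p H) :
    Nonempty (((R : Subgroup G) ⊓ f.range : Subgroup G) ≃* (P : Subgroup H)) := by
  obtain ⟨R1, hR1⟩ := (P.isPGroup'.map f).exists_le_sylow
  have e1 : (P : Subgroup H).map f = (R1 : Subgroup G) ⊓ f.range := by
    refine le_antisymm (le_inf hR1 (Subgroup.map_le_range _ _)) ?_
    rintro _ ⟨hy, ⟨x, rfl⟩⟩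
    have hK : IsPGroup p ((R1 : Subgroup G).comap f) := R1.isPGroup'.comap_of_injective f hf
    have := P.is_maximal' hK (fun z hz => hR1 ⟨z, hz, rfl⟩)
    exact ⟨x, this ▸ (show x ∈ (R1 : Subgroup G).comap f from hy), rfl⟩
  obtain ⟨g, hg⟩ := MulAction.exists_smul_eq G R R1
  have e2 : ((R : Subgroup G) ⊓ f.range).map (MulAut.conj g).toMonoidHom = (P : Subgroup H).map f := by
    rw [e1, ← hg, Subgroup.map_inf _ _ _ (MulAut.conj g).injective]
    congr 1
    ext x
    refine ⟨?_, fun hx => ⟨g⁻¹ * x * g, ?_, by simp [mul_assoc]⟩⟩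
    · rintro ⟨y, hy, rfl⟩
      exact (inferInstance : f.range.Normal).conj_mem y hy g
    · have := (inferInstance : f.range.Normal).conj_mem x hx g⁻¹
      simpa using this
  exact ⟨((((R : Subgroup G) ⊓ f.range).equivMapOfInjective _ (MulAut.conj g).injective).trans
    (MulEquiv.subgroupCongr e2)).trans ((P : Subgroup H).equivMapOfInjective f hf).symm⟩

section Wreath

variable {G A Z : Type*} [Group G] [Group A] [CommGroup Z]
  {ι : Type*} [Fintype ι] [DecidableEq ι]

/-- A wreath product of `A` by permutations of `ι`, inside `G`. -/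
structure Data (G A Z : Type*) [Group G] [Group A] [CommGroup Z] (ι : Type*) [Fintype ι] where
  /-- the base -/
  D : (ι → A) →* G
  /-- the top -/
  perm : Equiv.Perm ι →* G
  /-- the determinant of `G` -/
  dt : G →* Z
  /-- the determinant of `A` -/
  δ : A →* Z
  conj : ∀ σ v, perm σ * D v = D (v ∘ σ.symm) * perm σ
  inj : ∀ v σ, D v * perm σ = 1 → v = 1 ∧ σ = 1
  dt_D : ∀ v, dt (D v) = ∏ i, δ (v i)
  dt_perm : ∀ σ, dt (perm σ) = 1

variable (d : Data G A Z ι)

/-- The wreath product of `W` by `T`. -/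
def wr (W : Subgroup A) (T : Subgroup (Equiv.Perm ι)) : Subgroup G where
  carrier := {g | ∃ v σ, (∀ i, v i ∈ W) ∧ σ ∈ T ∧ g = d.D v * d.perm σ}
  one_mem' := ⟨1, 1, fun _ => one_mem _, one_mem _, by simp⟩
  mul_mem' := by
    rintro _ _ ⟨v, σ, hv, hσ, rfl⟩ ⟨w, τ, hw, hτ, rfl⟩
    refine ⟨v * (w ∘ σ.symm), σ * τ, fun i => mul_mem (hv i) (hw _), mul_mem hσ hτ, ?_⟩
    rw [map_mul, map_mul, mul_assoc, ← mul_assoc (d.perm σ), d.conj]
    simp only [mul_assoc]
  inv_mem' := by
    rintro _ ⟨v, σ, hv, hσ, rfl⟩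
    refine ⟨v⁻¹ ∘ σ, σ⁻¹, fun i => inv_mem (hv _), inv_mem hσ, ?_⟩
    rw [mul_inv_rev, ← map_inv, ← map_inv, d.conj]
    rfl

theorem mem_wr {W : Subgroup A} {T : Subgroup (Equiv.Perm ι)} {g : G} :
    g ∈ wr d W T ↔ ∃ v σ, (∀ i, v i ∈ W) ∧ σ ∈ T ∧ g = d.D v * d.perm σ := Iff.rfl

theorem pair_injective {v w : ι → A} {σ τ : Equiv.Perm ι}
    (h : d.D v * d.perm σ = d.D w * d.perm τ) : v = w ∧ σ = τ := by
  obtain ⟨h1, h2⟩ := d.inj (w⁻¹ * v) (σ * τ⁻¹) (by
    rw [map_mul, map_mul, map_inv, map_inv, mul_assoc, ← mul_assoc (d.D v), h]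
    group)
  exact ⟨(inv_mul_eq_one.1 h1).symm, mul_inv_eq_one.1 h2⟩

theorem card_wr (W : Subgroup A) (T : Subgroup (Equiv.Perm ι)) :
    Nat.card (wr d W T) = Nat.card W ^ Fintype.card ι * Nat.card T := by
  let f : (ι → W) × T → wr d W T := fun x =>
    ⟨d.D (fun i => x.1 i) * d.perm x.2, _, _, fun i => (x.1 i).2, x.2.2, rfl⟩
  have hf : Function.Bijective f := by
    refine ⟨fun x y h => ?_, ?_⟩
    · obtain ⟨h1, h2⟩ := pair_injective d (Subtype.ext_iff.1 h)
      exact Prod.ext (funext fun i => Subtype.ext (congrFun h1 i)) (Subtype.ext h2)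
    · rintro ⟨g, v, σ, hv, hσ, rfl⟩
      exact ⟨(fun i => ⟨v i, hv i⟩, ⟨σ, hσ⟩), rfl⟩
  rw [← Nat.card_congr (Equiv.ofBijective f hf), Nat.card_prod, Nat.card_fun,
    Nat.card_eq_fintype_card (α := ι)]

theorem mulSingle_comp_symm {B : Type*} [One B] (σ : Equiv.Perm ι) (j : ι) (z : B) :
    (Pi.mulSingle j z : ι → B) ∘ σ.symm = Pi.mulSingle (σ j) z := by
  funext i
  simp only [Function.comp_apply, Pi.mulSingle_apply, Equiv.symm_apply_eq]

/-- Squares in the determinant one part. -/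
theorem sqComm_kernel (W : Subgroup A) (T : Subgroup (Equiv.Perm ι)) (e : Z →* A) (C : Subgroup Z)
    (he : ∀ x ∈ C, d.δ (e x) = x) (heW : ∀ x ∈ C, e x ∈ W) (hδW : ∀ w ∈ W, d.δ w ∈ C)
    (hW : SqComm (W ⊓ d.δ.ker : Subgroup A)) (hT : SqComm T)
    (hcase : (∀ x ∈ C, x ^ 2 = 1) ∨ ∀ i j : ι, ∃ t ∈ T, t i = j) :
    SqComm (wr d W T ⊓ d.dt.ker : Subgroup G) := by
  classical
  let R : Subgroup G := wr d W T ⊓ d.dt.ker
  let K : Subgroup G := (sqKer R).map R.subtype
  have hK : ∀ {x : G} (hx : x ∈ R), (⟨x, hx⟩ : R) ^ 2 ∈ commutator R → x ∈ K :=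
    fun {x} hx h => ⟨⟨x, hx⟩, mem_sqKer.2 h, rfl⟩
  -- the base
  have hbase : ∀ (i : ι) (w : (W ⊓ d.δ.ker : Subgroup A)), d.D (Pi.mulSingle i (w : A)) ∈ R := by
    intro i w
    refine ⟨⟨Pi.mulSingle i (w : A), 1, fun j => ?_, one_mem _, by simp⟩, ?_⟩
    · by_cases h : j = i
      · subst h; simpa using w.2.1
      · simp [h]
    · show d.dt _ = 1
      rw [d.dt_D, Finset.prod_eq_single i (fun j _ hj => by simp [hj]) (by simp)]
      simpa using w.2.2
  have k1 : ∀ (i : ι) (a : A), a ∈ W ⊓ d.δ.ker → d.D (Pi.mulSingle i a) ∈ K := by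
    intro i a ha
    refine hK (hbase i ⟨a, ha⟩) ?_
    exact sqComm_map ((((d.D.comp (MonoidHom.mulSingle (fun _ : ι => A) i)).comp
      (W ⊓ d.δ.ker : Subgroup A).subtype)).codRestrict R (hbase i)) (hW ⟨a, ha⟩)
  -- the top
  have htop : ∀ t : T, d.perm (t : Equiv.Perm ι) ∈ R := fun t =>
    ⟨⟨1, t, fun _ => one_mem _, t.2, by simp⟩, d.dt_perm _⟩
  have k2 : ∀ t : T, d.perm (t : Equiv.Perm ι) ∈ K := fun t =>
    hK (htop t) (sqComm_map ((d.perm.comp T.subtype).codRestrict R htop) (hT t))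
  -- the determinant part
  let φ : (ι → Z) →* G := d.D.comp (e.compLeft ι)
  have hφ : ∀ a : ι → Z, (∀ i, a i ∈ C) → ∏ i, a i = 1 → φ a ∈ R := by
    intro a ha h1
    refine ⟨⟨fun i => e (a i), 1, fun i => heW _ (ha i), one_mem _, ?_⟩, ?_⟩
    · rw [map_one, mul_one]; rfl
    · show d.dt (d.D _) = 1
      rw [d.dt_D]
      exact (Finset.prod_congr rfl fun i _ => he _ (ha i)).trans h1
  let y : ι → ι → Z → (ι → Z) := fun i j z => Pi.mulSingle j z / Pi.mulSingle i z
  have hy : ∀ i j, ∀ z ∈ C, φ (y i j z) ∈ R := by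
    intro i j z hz
    refine hφ _ (fun k => ?_) ?_
    · simp only [y, Pi.div_apply, Pi.mulSingle_apply]
      split_ifs <;> simp [hz, one_mem]
    · simp [y, Finset.prod_div_distrib]
  have hconj : ∀ (σ : Equiv.Perm ι) (a : ι → Z), d.perm σ * φ a = φ (a ∘ σ.symm) * d.perm σ :=
    fun σ a => d.conj σ _
  have k3 : ∀ i j, ∀ z ∈ C, φ (y i j z) ∈ K := by
    intro i j z hz
    rcases hcase with h2 | htr
    · refine hK (hy i j z hz) ?_
      have e2 : (y i j z) ^ 2 = 1 := by
        funext k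
        simp only [y, Pi.pow_apply, Pi.div_apply, Pi.mulSingle_apply, Pi.one_apply]
        split_ifs <;> simp [div_pow, h2 z hz]
      rw [show (⟨φ (y i j z), hy i j z hz⟩ : R) ^ 2 = 1 from Subtype.ext (by
        show φ (y i j z) ^ 2 = 1
        rw [← map_pow, e2, map_one])]
      exact one_mem _
    · have hi : ∀ k, φ (y i k z) ∈ K := by
        intro k
        let f : T → Abelianization R :=
          fun t => Abelianization.of ⟨φ (y i ((t : Equiv.Perm ι) i) z), hy _ _ z hz⟩
        have hmul : ∀ s t : T, f (s * t) = f s * f t := by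
          intro s t
          have e3 : (⟨φ (y i (((s * t : T) : Equiv.Perm ι) i) z), hy _ _ z hz⟩ : R) =
              ⟨φ (y i ((s : Equiv.Perm ι) i) z), hy _ _ z hz⟩ *
                (⟨_, htop s⟩ * ⟨φ (y i ((t : Equiv.Perm ι) i) z), hy _ _ z hz⟩ * ⟨_, htop s⟩⁻¹) := by
            refine Subtype.ext ?_
            show φ _ = φ _ * (d.perm _ * φ _ * (d.perm _)⁻¹)
            rw [hconj, mul_inv_cancel_right, ← map_mul]
            congr 1
            simp only [y, Pi.div_comp, mulSingle_comp_symm, Subgroup.coe_mul,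
              Equiv.Perm.mul_apply]
            rw [mul_comm, div_mul_div_cancel]
          show Abelianization.of _ = _
          rw [e3, map_mul, map_mul, map_mul, map_inv, mul_inv_cancel_comm]
        let fh : T →* Abelianization R := MonoidHom.mk' f hmul
        obtain ⟨t, ht, rfl⟩ := htr i k
        refine ⟨⟨φ (y i (t i) z), hy _ _ z hz⟩, ?_, rfl⟩
        show (powMonoidHom 2) (fh ⟨t, ht⟩) = 1
        rw [powMonoidHom_apply, ← map_pow]
        exact Abelianization.commutator_subset_ker fh (hT ⟨t, ht⟩)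
      exact hi j
  intro x
  rw [← mem_sqKer]
  suffices (x : G) ∈ K by
    obtain ⟨x', hx', e'⟩ := this
    rwa [← R.subtype_injective e']
  obtain ⟨⟨v, σ, hv, hσ, hx⟩, hdt⟩ := x.2
  let a : ι → Z := fun i => d.δ (v i)
  have ha : ∀ i, a i ∈ C := fun i => hδW _ (hv i)
  have ha1 : ∏ i, a i = 1 := by
    have h : d.dt (x : G) = 1 := hdt
    rw [hx, map_mul, d.dt_D, d.dt_perm, mul_one] at h
    exact h
  let w : ι → A := fun i => v i * (e (a i))⁻¹
  have hv' : v = w * e.compLeft ι a := by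
    funext i; simp [w]
  rw [hx, hv', map_mul]
  refine mul_mem (mul_mem ?_ ?_) (k2 ⟨σ, hσ⟩)
  · refine (Subgroup.pi_mem_of_mulSingle_mem (H := K.comap d.D) w fun i => ?_ : w ∈ K.comap d.D)
    refine k1 i _ (Subgroup.mem_inf.2 ⟨W.mul_mem (hv i) (W.inv_mem (heW _ (ha i))), ?_⟩)
    show d.δ (v i * (e (a i))⁻¹) = 1
    rw [map_mul, map_inv, he _ (ha i), mul_inv_cancel]
  · show φ a ∈ K
    rcases isEmpty_or_nonempty ι with hem | ⟨⟨i0⟩⟩
    · rw [Subsingleton.elim a 1, map_one]; exact one_mem _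
    have hdec : a = ∏ i, y i0 i (a i) := by
      simp only [y]
      rw [Finset.prod_div_distrib, Finset.univ_prod_mulSingle]
      have : (∏ i, Pi.mulSingle i0 (a i) : ι → Z) = 1 := by
        refine (map_prod (MonoidHom.mulSingle (fun _ : ι => Z) i0) a _).symm.trans ?_
        rw [ha1, map_one]
      exact (by rw [this, div_one])
    have hmem : a ∈ K.comap φ := by
      rw [hdec]
      exact Subgroup.prod_mem _ fun i _ => k3 i0 i _ (ha i)
    exact hmem

end Wreath

end Cfsg.Agent.SylTwoWreath
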