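/-
Sylow 2-subgroups of classical groups in odd characteristic: squares lie in the derived group.
-/
import Cfsg.Agent.Lib.Blocks.SylowTwoWreath
import Cfsg.Agent.Lib.LinearBlock.SympWreath
import Cfsg.Agent.S0261
import Cfsg.Agent.S4623
import Mathlib.LinearAlgebra.Matrix.GeneralLinearGroup.Card
import Mathlib.LinearAlgebra.Matrix.Permutation
import Mathlib.GroupTheory.GroupAction.Quotient

set_option autoImplicit false

namespace Cfsg.Agent.SylTwoClassical

open Matrix SylTwoWreath

theorem sqComm_quaternion (k : ℕ) (hk : 1 ≤ k) : SqComm (QuaternionGroup (2 ^ k)) := by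
  haveI : NeZero (2 ^ k) := ⟨pow_ne_zero _ two_ne_zero⟩
  have ha : ∀ i : ZMod (2 * 2 ^ k),
      QuaternionGroup.a (i + i) ∈ commutator (QuaternionGroup (2 ^ k)) := by
    intro i
    rw [commutator_def]
    have h := Subgroup.commutator_mem_commutator (Subgroup.mem_top (QuaternionGroup.a i))
      (Subgroup.mem_top (QuaternionGroup.xa (0 : ZMod (2 * 2 ^ k))))
    convert h using 1
    rw [commutatorElement_def, eq_mul_inv_iff_mul_eq, eq_mul_inv_iff_mul_eq]
    simp only [QuaternionGroup.a_mul_xa, QuaternionGroup.xa_mul_a]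
    congr 1
    ring
  rintro (i | i)
  · rw [sq, QuaternionGroup.a_mul_a]; exact ha i
  · rw [QuaternionGroup.xa_sq]
    obtain ⟨j, rfl⟩ := Nat.exists_eq_add_of_le hk
    have := ha ((2 ^ j : ℕ) : ZMod (2 * 2 ^ (1 + j)))
    convert this using 3
    rw [← Nat.cast_add]; congr 1; ring

variable {F : Type*} [Field F] [Fintype F]

theorem sqComm_sylow_sl2 (hF : Odd (Fintype.card F))
    (P : Sylow 2 (Matrix.SpecialLinearGroup (Fin 2) F)) :
    SqComm (P : Subgroup (Matrix.SpecialLinearGroup (Fin 2) F)) := by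
  obtain ⟨k, hk, ⟨e⟩⟩ := S0261.result hF P
  exact sqComm_of_surjective e.symm.toMonoidHom e.symm.surjective (sqComm_quaternion k hk)

theorem sqComm_sylow_perm (n : ℕ) (T : Sylow 2 (Equiv.Perm (Fin n))) :
    SqComm (T : Subgroup (Equiv.Perm (Fin n))) := by
  obtain ⟨U⟩ : Nonempty (Sylow 2 (alternatingGroup (Fin n))) := inferInstance
  exact (S4623.result 2 n T U).1

/-! ### The symplectic group -/

/-- The symplectic wreath data. -/
def spData (F : Type*) [Field F] (n : ℕ) :
    Data (symplecticGroup (Fin n) F) (Matrix.SpecialLinearGroup (Fin 2) F) Fˣ (Fin n) where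
  D := MonoidHom.mk' (fun v => SpWreath.emb (v, 1)) fun a b => by
    rw [SpWreath.emb_mul]
    congr 1
  perm := MonoidHom.mk' (fun σ => SpWreath.emb (1, σ)) fun a b => by
    rw [SpWreath.emb_mul]
    congr 1
    exact Prod.ext (funext fun i => (one_mul _).symm) rfl
  dt := 1
  δ := 1
  conj σ v := by
    show SpWreath.emb _ * SpWreath.emb _ = SpWreath.emb _ * SpWreath.emb _
    rw [SpWreath.emb_mul, SpWreath.emb_mul]
    congr 1
    refine Prod.ext (funext fun i => ?_) (by simp [SpWreath.dmul])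
    simp [SpWreath.dmul]
  inj v σ h := by
    change SpWreath.emb _ * SpWreath.emb _ = 1 at h
    rw [SpWreath.emb_mul, ← SpWreath.emb_one] at h
    have h' := SpWreath.emb_injective h
    simpa [SpWreath.dmul, Prod.ext_iff, funext_iff] using h'
  dt_D v := by simp
  dt_perm σ := rfl

theorem sqComm_of_inter {H G : Type*} [Group H] [Group G] [Finite G] (f : H →* G)
    (hf : Function.Injective f) [f.range.Normal] (R : Sylow 2 G) (P : Sylow 2 H) (K : Subgroup G)
    (hK : (R : Subgroup G) ⊓ f.range = K) (h : SqComm K) : SqComm (P : Subgroup H) := by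
  subst hK
  obtain ⟨e⟩ := inter_equiv f hf R P
  exact sqComm_of_surjective e.toMonoidHom e.surjective h

theorem sqComm_of_card {H G : Type*} [Group H] [Group G] [Finite G] (f : H →* G)
    (hf : Function.Injective f) [f.range.Normal] (R0 : Subgroup G)
    (hR : Nat.card R0 = 2 ^ (Nat.card G).factorization 2) (P : Sylow 2 H) (K : Subgroup G)
    (hK : R0 ⊓ f.range = K) (h : SqComm K) : SqComm (P : Subgroup H) :=
  sqComm_of_inter f hf (Sylow.ofCard R0 hR) P K hK h

theorem sqComm_of_sylow {G : Type*} [Group G] [Finite G] (K : Subgroup G)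
    (hK : Nat.card K = 2 ^ (Nat.card G).factorization 2) (P : Sylow 2 G) (h : SqComm K) :
    SqComm (P : Subgroup G) := by
  obtain ⟨g, hg⟩ := MulAction.exists_smul_eq G (Sylow.ofCard K hK) P
  have e : K.map (MulAut.conj g).toMonoidHom = (P : Subgroup G) := by rw [← hg]; rfl
  exact sqComm_of_surjective
    ((K.equivMapOfInjective _ (MulAut.conj g).injective).trans
      (MulEquiv.subgroupCongr e)).toMonoidHom
    ((K.equivMapOfInjective _ (MulAut.conj g).injective).trans (MulEquiv.subgroupCongr e)).surjective h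

theorem sqComm_of_map {H G : Type*} [Group H] [Group G] [Finite G] (f : H →* G)
    (hf : Function.Injective f) (K : Subgroup H)
    (hK : Nat.card K = 2 ^ (Nat.card G).factorization 2) (P : Sylow 2 G) (h : SqComm K) :
    SqComm (P : Subgroup G) :=
  sqComm_of_sylow (K.map f) ((Subgroup.card_map_of_injective hf).trans hK) P
    (sqComm_of_surjective (Subgroup.equivMapOfInjective K f hf).toMonoidHom
      (Subgroup.equivMapOfInjective K f hf).surjective h)

theorem card_sylow {G : Type*} [Group G] [Finite G] (P : Sylow 2 G) :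
    Nat.card (P : Subgroup G) = 2 ^ padicValNat 2 (Nat.card G) := by
  rw [Sylow.card_eq_multiplicity, Nat.factorization_def _ Nat.prime_two]

theorem card_wr_two {G A Z ι : Type*} [Group G] [Finite G] [Group A] [Finite A] [CommGroup Z]
    [Fintype ι] [DecidableEq ι] (d : Data G A Z ι) (W : Sylow 2 A) (T : Sylow 2 (Equiv.Perm ι))
    (hv : padicValNat 2 (Nat.card G) =
      Fintype.card ι * padicValNat 2 (Nat.card A) + padicValNat 2 (Fintype.card ι).factorial) :
    Nat.card (wr d (W : Subgroup A) (T : Subgroup (Equiv.Perm ι))) =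
      2 ^ (Nat.card G).factorization 2 := by
  rw [card_wr, card_sylow, card_sylow, Nat.factorization_def _ Nat.prime_two, hv, Nat.card_perm,
    Nat.card_eq_fintype_card (α := ι), ← pow_mul, ← pow_add, mul_comm]

theorem sqComm_sylow_sp (hF : Odd (Fintype.card F)) (n : ℕ)
    (P : Sylow 2 (symplecticGroup (Fin n) F)) : SqComm (P : Subgroup (symplecticGroup (Fin n) F)) := by
  obtain ⟨W⟩ : Nonempty (Sylow 2 (Matrix.SpecialLinearGroup (Fin 2) F)) := inferInstance
  obtain ⟨T⟩ : Nonempty (Sylow 2 (Equiv.Perm (Fin n))) := inferInstance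
  let d := spData F n
  have hv : padicValNat 2 (Nat.card (symplecticGroup (Fin n) F)) =
      Fintype.card (Fin n) * padicValNat 2 (Nat.card (Matrix.SpecialLinearGroup (Fin 2) F)) +
        padicValNat 2 (Fintype.card (Fin n)).factorial := by
    have hne : Nat.card F * (Nat.card F ^ 2 - 1) ≠ 0 := by
      rw [← TwoByTwo.card_sl_two]; exact Nat.card_pos.ne'
    rw [← SpWreath.val_eq hF, SpWreath.card_wreath, TwoByTwo.card_sl_two, Fintype.card_fin,
      padicValNat.mul (pow_ne_zero _ hne) n.factorial_ne_zero, padicValNat.pow _ _]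
  have hδ : d.δ.ker = ⊤ := MonoidHom.ker_one
  have hdt : d.dt.ker = ⊤ := MonoidHom.ker_one
  have hW : SqComm ((W : Subgroup (Matrix.SpecialLinearGroup (Fin 2) F)) ⊓ d.δ.ker : Subgroup _) := by
    rw [hδ, inf_top_eq]
    exact sqComm_sylow_sl2 hF W
  have h := sqComm_kernel d (W : Subgroup _) (T : Subgroup _) 1 ⊥
    (fun x hx => by rw [Subgroup.mem_bot.1 hx, map_one, map_one]) (fun x _ => one_mem _)
    (fun w _ => Subgroup.mem_bot.2 rfl) hW (sqComm_sylow_perm n T)
    (Or.inl fun x hx => by rw [Subgroup.mem_bot.1 hx, one_pow])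
  rw [hdt, inf_top_eq] at h
  exact sqComm_of_sylow _ (card_wr_two d W T hv) P h

/-! ### The general linear group -/

/-- Block permutation. -/
def blockPerm (m : ℕ) : Equiv.Perm (Fin m) →* Equiv.Perm (Fin 2 × Fin m) :=
  MonoidHom.mk' (fun σ => Equiv.prodCongr (Equiv.refl (Fin 2)) σ) fun a b => by
    ext x <;> simp

theorem blockPerm_apply (m : ℕ) (σ : Equiv.Perm (Fin m)) (x : Fin 2 × Fin m) :
    blockPerm m σ x = (x.1, σ x.2) := rfl

theorem sign_blockPerm (m : ℕ) (σ : Equiv.Perm (Fin m)) : Equiv.Perm.sign (blockPerm m σ) = 1 := by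
  have e : blockPerm m σ = Equiv.prodCongrRight fun _ => σ := rfl
  rw [e, Equiv.Perm.sign_prodCongrRight, Fin.prod_univ_two, ← sq, Int.units_sq]

/-- Permutation of the blocks as a unit. -/
def permUnit (F : Type*) [Field F] (m : ℕ) : Equiv.Perm (Fin m) →* GL (Fin 2 × Fin m) F :=
  ((Matrix.permMatrixHom : Equiv.Perm (Fin 2 × Fin m) →* Matrix _ _ F).comp (blockPerm m)).toHomUnits

/-- Block diagonal as a unit. -/
def diagUnit (F : Type*) [Field F] (m : ℕ) : (Fin m → GL (Fin 2) F) →* GL (Fin 2 × Fin m) F :=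
  (Units.map (Matrix.blockDiagonalRingHom (Fin 2) (Fin m) F).toMonoidHom).comp
    (MulEquiv.piUnits (M := fun _ : Fin m => Matrix (Fin 2) (Fin 2) F)).symm.toMonoidHom

theorem coe_diagUnit (m : ℕ) (v : Fin m → GL (Fin 2) F) :
    (diagUnit F m v : Matrix (Fin 2 × Fin m) (Fin 2 × Fin m) F) =
      Matrix.blockDiagonal fun i => (v i : Matrix (Fin 2) (Fin 2) F) := rfl

theorem coe_permUnit (m : ℕ) (σ : Equiv.Perm (Fin m)) :
    (permUnit F m σ : Matrix (Fin 2 × Fin m) (Fin 2 × Fin m) F) =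
      ((blockPerm m σ)⁻¹).permMatrix F := rfl

/-- The linear wreath data, with determinant. -/
def glData (F : Type*) [Field F] (m : ℕ) :
    Data (GL (Fin 2 × Fin m) F) (GL (Fin 2) F) Fˣ (Fin m) where
  D := diagUnit F m
  perm := permUnit F m
  dt := Matrix.GeneralLinearGroup.det
  δ := Matrix.GeneralLinearGroup.det
  conj σ v := by
    refine Units.ext ?_
    show (Matrix.permMatrixHom (blockPerm m σ) : Matrix _ _ F) * Matrix.blockDiagonal _ =
      Matrix.blockDiagonal _ * (Matrix.permMatrixHom (blockPerm m σ) : Matrix _ _ F)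
    rw [Matrix.permMatrixHom_apply, PEquiv.toMatrix_toPEquiv_mul, PEquiv.mul_toMatrix_toPEquiv]
    ext ⟨a, i⟩ ⟨b, j⟩
    have h1 : ∀ x, (blockPerm m σ)⁻¹ x = (x.1, σ.symm x.2) := fun x => by
      rw [Equiv.Perm.inv_eq_iff_eq, blockPerm_apply]; simp
    have h2 : ∀ x, ((blockPerm m σ)⁻¹).symm x = (x.1, σ x.2) := fun x => rfl
    simp only [Matrix.submatrix_apply, id, h1, h2, Matrix.blockDiagonal_apply, Function.comp_apply,
      Equiv.symm_apply_eq]
    split_ifs <;> rfl
  inj v σ h := by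
    have hv : ∀ (a b : Fin 2) (i j : Fin m),
        (if i = σ j then (v i : Matrix (Fin 2) (Fin 2) F) a b else 0) =
          if a = b ∧ i = j then 1 else 0 := by
      intro a b i j
      have h0 : (Matrix.blockDiagonal fun k => (v k : Matrix (Fin 2) (Fin 2) F)) *
          ((blockPerm m σ)⁻¹).permMatrix F = (1 : Matrix (Fin 2 × Fin m) (Fin 2 × Fin m) F) :=
        congrArg Units.val h
      have h' := Matrix.ext_iff.2 h0 (a, i) (b, j)
      rw [PEquiv.mul_toMatrix_toPEquiv] at h'
      have h2 : ((blockPerm m σ)⁻¹).symm (b, j) = (b, σ j) := rfl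
      simpa [Matrix.submatrix_apply, h2, Matrix.blockDiagonal_apply, Matrix.one_apply,
        Prod.mk.injEq] using h'
    have hσ : σ = 1 := by
      refine Equiv.ext fun j => ?_
      by_contra hne
      have := hv 0 0 j j
      rw [if_neg (fun h' => hne h'.symm), if_pos ⟨rfl, rfl⟩] at this
      exact one_ne_zero this.symm
    refine ⟨funext fun i => Units.ext ?_, hσ⟩
    ext a b
    have := hv a b i i
    simp only [hσ, Equiv.Perm.one_apply, if_true, and_true] at this
    rw [this]
    simp [Matrix.one_apply]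
  dt_D v := by
    refine Units.ext ?_
    rw [Units.coe_prod]
    show (Matrix.blockDiagonal _).det = _
    rw [Matrix.det_blockDiagonal]
    rfl
  dt_perm σ := by
    refine Units.ext ?_
    show ((Matrix.permMatrixHom (blockPerm m σ) : Matrix _ _ F)).det = 1
    rw [Matrix.permMatrixHom_apply, Matrix.det_permutation, Equiv.Perm.sign_inv, sign_blockPerm]
    simp

theorem val_pred_pow {q i : ℕ} (hq1 : 1 < q) (hq : Odd q) (hi : Odd i) :
    padicValNat 2 (q ^ i - 1) = padicValNat 2 (q - 1) := by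
  obtain ⟨r, rfl⟩ : ∃ r, q = r + 1 := ⟨q - 1, by omega⟩
  have hS : Odd (∑ k ∈ Finset.range i, (r + 1) ^ k) := by
    rw [Finset.odd_sum_iff_odd_card_odd, Finset.filter_true_of_mem fun k _ => hq.pow,
      Finset.card_range]
    exact hi
  have h : (∑ k ∈ Finset.range i, (r + 1) ^ k) * r + 1 = (r + 1) ^ i := geom_sum_mul_add r i
  rw [← h, Nat.add_sub_cancel, Nat.add_sub_cancel,
    padicValNat.mul (Nat.pos_iff_ne_zero.1 hS.pos) (by omega),
    padicValNat.eq_zero_of_not_dvd (fun h2 => (Nat.not_even_iff_odd.2 hS) (even_iff_two_dvd.2 h2)),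
    zero_add]

theorem val_even_pow {q : ℕ} (hq1 : 1 < q) (hq : Odd q) (i : ℕ) :
    padicValNat 2 (q ^ (2 * (i + 1)) - 1) = padicValNat 2 (q ^ 2 - 1) + padicValNat 2 (i + 1) := by
  have hq' : ¬ 2 ∣ q := fun h => (Nat.not_even_iff_odd.2 hq) (even_iff_two_dvd.2 h)
  have h1 := padicValNat.pow_two_sub_one hq1 hq' (n := 2 * (i + 1)) (by omega) (even_two_mul _)
  have h2 := padicValNat.pow_two_sub_one hq1 hq' (n := 2) (by omega) even_two
  rw [padicValNat.mul (by norm_num) (by omega)] at h1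
  omega

theorem card_gl_succ (n : ℕ) : Nat.card (GL (Fin (n + 1)) F) =
    (Fintype.card F ^ (n + 1) - 1) * Fintype.card F ^ n * Nat.card (GL (Fin n) F) := by
  rw [Matrix.card_GL_field, Matrix.card_GL_field, Fin.prod_univ_succ]
  simp only [Fin.val_zero, pow_zero, Fin.val_succ]
  rw [mul_assoc]
  congr 1
  calc ∏ x : Fin n, (Fintype.card F ^ (n + 1) - Fintype.card F ^ (x.val + 1))
      = ∏ x : Fin n, Fintype.card F * (Fintype.card F ^ n - Fintype.card F ^ x.val) :=
        Finset.prod_congr rfl fun x _ => by rw [pow_succ', pow_succ', Nat.mul_sub]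
    _ = _ := by rw [Finset.prod_mul_distrib, Finset.prod_const, Finset.card_univ, Fintype.card_fin]

theorem val_gl_succ (hF : Odd (Fintype.card F)) (n : ℕ) :
    padicValNat 2 (Nat.card (GL (Fin (n + 1)) F)) =
      padicValNat 2 (Fintype.card F ^ (n + 1) - 1) + padicValNat 2 (Nat.card (GL (Fin n) F)) := by
  have h1 : Fintype.card F ^ (n + 1) - 1 ≠ 0 := by
    have := Nat.le_self_pow (Nat.succ_ne_zero n) (Fintype.card F)
    have := Fintype.one_lt_card (α := F)
    simp only [Nat.succ_eq_add_one] at *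
    omega
  have h2 : Fintype.card F ^ n ≠ 0 := pow_ne_zero _ Fintype.card_ne_zero
  rw [card_gl_succ, padicValNat.mul (mul_ne_zero h1 h2) Nat.card_pos.ne', padicValNat.mul h1 h2,
    padicValNat.eq_zero_of_not_dvd (n := Fintype.card F ^ n)
      (fun h => (Nat.not_even_iff_odd.2 hF.pow) (even_iff_two_dvd.2 h)), add_zero]

theorem val_gl_even (hF : Odd (Fintype.card F)) (m : ℕ) :
    padicValNat 2 (Nat.card (GL (Fin (2 * m)) F)) =
      m * padicValNat 2 (Nat.card (GL (Fin 2) F)) + padicValNat 2 m.factorial := by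
  have hq1 := Fintype.one_lt_card (α := F)
  have h0 : padicValNat 2 (Nat.card (GL (Fin 0) F)) = 0 := by
    rw [Matrix.card_GL_field]; simp
  have h2 : padicValNat 2 (Nat.card (GL (Fin 2) F)) =
      padicValNat 2 (Fintype.card F ^ 2 - 1) + padicValNat 2 (Fintype.card F - 1) := by
    rw [val_gl_succ hF 1, val_gl_succ hF 0, h0, pow_one, add_zero]
  induction m with
  | zero =>
    rw [show (2 * 0 : ℕ) = 0 from rfl, h0]; simp
  | succ m ih =>
    rw [show 2 * (m + 1) = 2 * m + 1 + 1 by ring, val_gl_succ hF, val_gl_succ hF,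
      show 2 * m + 1 + 1 = 2 * (m + 1) by ring, val_even_pow hq1 hF,
      val_pred_pow hq1 hF (odd_two_mul_add_one m), ih, h2, Nat.factorial_succ,
      padicValNat.mul (by omega) m.factorial_ne_zero]
    ring

theorem card_gl_prod (m : ℕ) :
    Nat.card (GL (Fin 2 × Fin m) F) = Nat.card (GL (Fin (2 * m)) F) :=
  Nat.card_congr (Units.mapEquiv (Matrix.reindexAlgEquiv F F finProdFinEquiv).toMulEquiv).toEquiv

/-- The diagonal section of the determinant. -/
def diagFst (F : Type*) [Field F] : Fˣ →* GL (Fin 2) F :=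
  ((Matrix.diagonalRingHom (Fin 2) F).toMonoidHom.comp
    ((MonoidHom.mulSingle (fun _ : Fin 2 => F) 0).comp (Units.coeHom F))).toHomUnits

theorem det_diagFst (a : Fˣ) : Matrix.GeneralLinearGroup.det (diagFst F a) = a := by
  refine Units.ext ?_
  show (Matrix.diagonal (Pi.mulSingle 0 (a : F))).det = a
  rw [Matrix.det_diagonal, Fin.prod_univ_two]
  simp

theorem range_toGL (n : Type*) [DecidableEq n] [Fintype n] :
    (Matrix.SpecialLinearGroup.toGL : Matrix.SpecialLinearGroup n F →* GL n F).range =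
      Matrix.GeneralLinearGroup.det.ker := by
  ext x
  refine ⟨?_, fun hx => ?_⟩
  · rintro ⟨y, rfl⟩
    exact Units.ext y.2
  · have h : (x : Matrix n n F).det = 1 := congrArg Units.val hx
    exact ⟨⟨x, h⟩, Units.ext rfl⟩

/-- A good Sylow subgroup of `GL 2`. -/
theorem exists_sylow_gl2 (hF : Odd (Fintype.card F)) :
    ∃ (W : Sylow 2 (GL (Fin 2) F)) (C : Sylow 2 Fˣ),
      (∀ x ∈ (C : Subgroup Fˣ), diagFst F x ∈ (W : Subgroup (GL (Fin 2) F))) ∧
      (∀ w ∈ (W : Subgroup (GL (Fin 2) F)), Matrix.GeneralLinearGroup.det w ∈ (C : Subgroup Fˣ)) ∧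
      SqComm ((W : Subgroup (GL (Fin 2) F)) ⊓ Matrix.GeneralLinearGroup.det.ker :
        Subgroup (GL (Fin 2) F)) := by
  obtain ⟨C⟩ : Nonempty (Sylow 2 Fˣ) := inferInstance
  obtain ⟨W, hW⟩ := (C.isPGroup'.map (diagFst F)).exists_le_sylow
  refine ⟨W, C, fun x hx => hW ⟨x, hx, rfl⟩, fun w hw => ?_, ?_⟩
  · obtain ⟨C', hC'⟩ := (W.isPGroup'.map (Matrix.GeneralLinearGroup.det (n := Fin 2) (R := F))).exists_le_sylow
    haveI := Sylow.unique_of_normal C inferInstance
    rw [Subsingleton.elim C C']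
    exact hC' ⟨w, hw, rfl⟩
  · obtain ⟨P⟩ : Nonempty (Sylow 2 (Matrix.SpecialLinearGroup (Fin 2) F)) := inferInstance
    haveI : (Matrix.SpecialLinearGroup.toGL : Matrix.SpecialLinearGroup (Fin 2) F →* GL (Fin 2) F).range.Normal := by
      rw [range_toGL]; infer_instance
    obtain ⟨e⟩ := inter_equiv Matrix.SpecialLinearGroup.toGL
      Matrix.SpecialLinearGroup.toGL_injective W P
    rw [← range_toGL]
    exact sqComm_of_surjective e.symm.toMonoidHom e.symm.surjective (sqComm_sylow_sl2 hF P)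

theorem sq_eq_one_of_sylow (hq : 4 ∣ Fintype.card F + 1) (C : Sylow 2 Fˣ) :
    ∀ x ∈ (C : Subgroup Fˣ), x ^ 2 = 1 := by
  intro x hx
  have hc : Nat.card (C : Subgroup Fˣ) ∣ 2 := by
    rw [card_sylow, Nat.card_units, Nat.card_eq_fintype_card]
    have : padicValNat 2 (Fintype.card F - 1) ≤ 1 := by
      by_contra h
      have h4 : 2 ^ 2 ∣ Fintype.card F - 1 :=
        (pow_dvd_pow 2 (by omega)).trans pow_padicValNat_dvd
      norm_num at h4
      omega
    exact (pow_dvd_pow 2 this).trans (by norm_num)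
  have h := pow_card_eq_one' (x := (⟨x, hx⟩ : (C : Subgroup Fˣ)))
  obtain ⟨k, hk⟩ := hc
  rw [hk, pow_mul]
  rw [← Subgroup.coe_mk (C : Subgroup Fˣ) x hx, ← SubgroupClass.coe_pow, h]
  simp

theorem transitive_sylow_perm {j : ℕ} (T : Sylow 2 (Equiv.Perm (Fin (2 ^ j)))) (a b : Fin (2 ^ j)) :
    ∃ t ∈ (T : Subgroup (Equiv.Perm (Fin (2 ^ j)))), t a = b := by
  let G := Equiv.Perm (Fin (2 ^ j))
  let T' : Subgroup G := (T : Subgroup G)
  haveI : MulAction.IsPretransitive G (Fin (2 ^ j)) :=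
    ⟨fun x y => ⟨Equiv.swap x y, Equiv.swap_apply_left x y⟩⟩
  have h1 : Nat.card (MulAction.orbit T' a) * Nat.card (MulAction.stabilizer T' a) = Nat.card T' := by
    rw [← Nat.card_prod]
    exact Nat.card_congr (MulAction.orbitProdStabilizerEquivGroup T' a)
  have h2 : 2 ^ j * Nat.card (MulAction.stabilizer G a) = (2 ^ j).factorial := by
    have e := Nat.card_congr (MulAction.orbitProdStabilizerEquivGroup G a)
    rw [Nat.card_prod, MulAction.orbit_eq_univ, Nat.card_univ, Nat.card_fin] at e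
    rw [e, Nat.card_perm, Nat.card_fin]
  have h3 : Nat.card (MulAction.stabilizer T' a) ∣ Nat.card (MulAction.stabilizer G a) :=
    Subgroup.card_dvd_of_injective
      ((T'.subtype.comp (MulAction.stabilizer T' a).subtype).codRestrict (MulAction.stabilizer G a)
        fun x => x.2)
      (fun x y h => by
        have h' := congrArg Subtype.val h
        exact Subtype.ext (Subtype.ext h'))
  have h4 : Nat.card T' = 2 ^ padicValNat 2 (2 ^ j).factorial := by
    rw [card_sylow T, Nat.card_perm, Nat.card_fin]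
  obtain ⟨s, -, hs⟩ := (Nat.dvd_prime_pow Nat.prime_two).1 (h4 ▸ Dvd.intro_left _ h1)
  obtain ⟨o, -, ho⟩ := (Nat.dvd_prime_pow Nat.prime_two).1 (h4 ▸ Dvd.intro _ h1)
  rw [hs, ho, h4, ← pow_add] at h1
  have h5 : s ≤ padicValNat 2 (Nat.card (MulAction.stabilizer G a)) :=
    (padicValNat_dvd_iff_le Nat.card_pos.ne').1 (hs ▸ h3)
  have h6 : padicValNat 2 (2 ^ j).factorial =
      j + padicValNat 2 (Nat.card (MulAction.stabilizer G a)) := by
    rw [← h2, padicValNat.mul (pow_ne_zero _ two_ne_zero) Nat.card_pos.ne', padicValNat.prime_pow]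
  have h7 := Nat.pow_right_injective (le_refl 2) h1
  have h8 : 2 ^ j ≤ Nat.card (MulAction.orbit T' a) := by
    rw [ho]; exact Nat.pow_le_pow_right (by norm_num) (by omega)
  have h9 : MulAction.orbit T' a = Set.univ := by
    refine Set.eq_of_subset_of_ncard_le (Set.subset_univ _) ?_ Set.finite_univ
    rw [Set.ncard_univ, Nat.card_fin, ← Nat.card_coe_set_eq]
    exact h8
  obtain ⟨t, ht⟩ := MulAction.mem_orbit_iff.1 (h9 ▸ Set.mem_univ b)
  exact ⟨t, t.2, ht⟩

/-- `SL (2 * m)` -/
theorem sqComm_sylow_sl_even (hF : Odd (Fintype.card F)) (m : ℕ)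
    (hq : 4 ∣ Fintype.card F + 1 ∨ ∃ j : ℕ, m = 2 ^ j)
    (P : Sylow 2 (Matrix.SpecialLinearGroup (Fin (2 * m)) F)) :
    SqComm (P : Subgroup (Matrix.SpecialLinearGroup (Fin (2 * m)) F)) := by
  obtain ⟨W, C, hC1, hC2, hW⟩ := exists_sylow_gl2 hF
  obtain ⟨T⟩ : Nonempty (Sylow 2 (Equiv.Perm (Fin m))) := inferInstance
  let d := glData F m
  have hv : padicValNat 2 (Nat.card (GL (Fin 2 × Fin m) F)) =
      Fintype.card (Fin m) * padicValNat 2 (Nat.card (GL (Fin 2) F)) +
        padicValNat 2 (Fintype.card (Fin m)).factorial := by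
    rw [card_gl_prod, val_gl_even hF, Fintype.card_fin]
  have hc := card_wr_two d W T hv
  have hcase : (∀ x ∈ (C : Subgroup Fˣ), x ^ 2 = 1) ∨
      ∀ i j : Fin m, ∃ t ∈ (T : Subgroup (Equiv.Perm (Fin m))), t i = j := by
    rcases hq with h | ⟨j, rfl⟩
    · exact Or.inl (sq_eq_one_of_sylow h C)
    · exact Or.inr (transitive_sylow_perm T)
  have h := sqComm_kernel d (W : Subgroup _) (T : Subgroup _) (diagFst F) (C : Subgroup Fˣ)
    (fun x _ => det_diagFst x) hC1 hC2 hW (sqComm_sylow_perm m T) hcase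
  let e : GL (Fin (2 * m)) F ≃* GL (Fin 2 × Fin m) F :=
    Units.mapEquiv (Matrix.reindexAlgEquiv F F finProdFinEquiv.symm).toMulEquiv
  let f := e.toMonoidHom.comp
    (Matrix.SpecialLinearGroup.toGL : Matrix.SpecialLinearGroup (Fin (2 * m)) F →* _)
  have hdet : ∀ x, Matrix.GeneralLinearGroup.det (e x) = Matrix.GeneralLinearGroup.det x := fun x =>
    Units.ext (Matrix.det_reindexAlgEquiv F F (finProdFinEquiv (m := 2) (n := m)).symm
      (x : Matrix (Fin (2 * m)) (Fin (2 * m)) F))
  have hr : f.range = Matrix.GeneralLinearGroup.det.ker := by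
    rw [MonoidHom.range_comp, range_toGL]
    ext x
    rw [Subgroup.mem_map, MonoidHom.mem_ker]
    constructor
    · rintro ⟨y, hy, rfl⟩
      rw [MonoidHom.mem_ker] at hy
      rw [MulEquiv.coe_toMonoidHom, hdet, hy]
    · intro hx
      exact ⟨e.symm x, MonoidHom.mem_ker.2 (by rw [← hdet, e.apply_symm_apply, hx]),
        e.apply_symm_apply x⟩
  haveI : f.range.Normal := hr ▸ MonoidHom.normal_ker _
  exact sqComm_of_card f (e.injective.comp Matrix.SpecialLinearGroup.toGL_injective) _ hc P _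
    (by rw [hr]; rfl) h

/-- The wreath data with trivial determinant. -/
def glDataOne (F : Type*) [Field F] (m : ℕ) :
    Data (GL (Fin 2 × Fin m) F) (GL (Fin 2) F) Fˣ (Fin m) :=
  { glData F m with
    dt := 1
    δ := 1
    dt_D := fun v => by simp
    dt_perm := fun σ => rfl }

/-- `GL (2 * m)` inside `SL (2 * m + 1)`. -/
def glToSL (F : Type*) [Field F] (m : ℕ) :
    GL (Fin 2 × Fin m) F →* Matrix.SpecialLinearGroup (Fin (2 * m + 1)) F :=
  MonoidHom.mk' (fun g => ⟨Matrix.reindexAlgEquiv F F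
      ((Equiv.sumCongr finProdFinEquiv finOneEquiv.symm).trans finSumFinEquiv)
      (Matrix.fromBlocks (g : Matrix (Fin 2 × Fin m) (Fin 2 × Fin m) F) 0 0
        (Matrix.diagonal fun _ : Unit => ((Matrix.GeneralLinearGroup.det g)⁻¹ : Fˣ).val)), by
    rw [Matrix.det_reindexAlgEquiv, Matrix.det_fromBlocks_zero₁₂, Matrix.det_diagonal,
      Fintype.prod_unique]
    exact Units.mul_inv (Matrix.GeneralLinearGroup.det g)⟩) fun g g' => by
    refine Subtype.ext ?_
    show _ = Matrix.reindexAlgEquiv F F _ _ * Matrix.reindexAlgEquiv F F _ _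
    rw [← map_mul, Matrix.fromBlocks_multiply]
    simp [mul_comm]

theorem glToSL_injective (m : ℕ) : Function.Injective (glToSL F m) := by
  intro g g' h
  have h1 := congrArg Subtype.val h
  exact Units.ext (Matrix.fromBlocks_inj.1 ((Matrix.reindexAlgEquiv F F _).injective h1)).1

theorem val_sl_succ (hF : Odd (Fintype.card F)) (n : ℕ) :
    padicValNat 2 (Nat.card (Matrix.SpecialLinearGroup (Fin (n + 1)) F)) +
      padicValNat 2 (Fintype.card F - 1) =
    padicValNat 2 (Nat.card (GL (Fin (n + 1)) F)) := by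
  have hsurj : Function.Surjective
      (Matrix.GeneralLinearGroup.det : GL (Fin (n + 1)) F →* Fˣ) := by
    intro a
    refine ⟨(((Matrix.diagonalRingHom (Fin (n + 1)) F).toMonoidHom.comp
      ((MonoidHom.mulSingle (fun _ : Fin (n + 1) => F) 0).comp (Units.coeHom F))).toHomUnits) a,
      Units.ext ?_⟩
    show (Matrix.diagonal (Pi.mulSingle 0 (a : F))).det = a
    rw [Matrix.det_diagonal, Finset.prod_pi_mulSingle' (0 : Fin (n + 1)) (a : F) Finset.univ]
    simp
  have h := Subgroup.card_eq_card_quotient_mul_card_subgroup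
    (Matrix.GeneralLinearGroup.det : GL (Fin (n + 1)) F →* Fˣ).ker
  rw [Nat.card_congr (QuotientGroup.quotientKerEquivOfSurjective _ hsurj).toEquiv,
    Nat.card_units, ← range_toGL,
    ← Nat.card_congr (MonoidHom.ofInjective Matrix.SpecialLinearGroup.toGL_injective).toEquiv,
    Nat.card_eq_fintype_card (α := F)] at h
  have := Fintype.one_lt_card (α := F)
  rw [h, padicValNat.mul (by omega) Nat.card_pos.ne']
  ring

/-- `SL (2 * m + 1)` -/
theorem sqComm_sylow_sl_odd (hF : Odd (Fintype.card F)) (hq : 4 ∣ Fintype.card F + 1) (m : ℕ)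
    (P : Sylow 2 (Matrix.SpecialLinearGroup (Fin (2 * m + 1)) F)) :
    SqComm (P : Subgroup (Matrix.SpecialLinearGroup (Fin (2 * m + 1)) F)) := by
  obtain ⟨W, C, hC1, hC2, hW⟩ := exists_sylow_gl2 hF
  obtain ⟨T⟩ : Nonempty (Sylow 2 (Equiv.Perm (Fin m))) := inferInstance
  let d := glDataOne F m
  have hv : padicValNat 2 (Nat.card (GL (Fin 2 × Fin m) F)) =
      Fintype.card (Fin m) * padicValNat 2 (Nat.card (GL (Fin 2) F)) +
        padicValNat 2 (Fintype.card (Fin m)).factorial := by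
    rw [card_gl_prod, val_gl_even hF, Fintype.card_fin]
  have hW' : SqComm ((W : Subgroup (GL (Fin 2) F)) ⊓ d.δ.ker : Subgroup (GL (Fin 2) F)) := by
    rw [show d.δ.ker = ⊤ from MonoidHom.ker_one, inf_top_eq]
    intro x
    let a : Fˣ := Matrix.GeneralLinearGroup.det (x : GL (Fin 2) F)
    have ha : a ∈ (C : Subgroup Fˣ) := hC2 _ x.2
    let y : (W : Subgroup (GL (Fin 2) F)) := ⟨diagFst F a, hC1 a ha⟩
    have hy : y ^ 2 = 1 := Subtype.ext (by
      show diagFst F a ^ 2 = 1
      rw [← map_pow, sq_eq_one_of_sylow hq C a ha, map_one])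
    have hxy : ((x * y⁻¹ : (W : Subgroup (GL (Fin 2) F))) : GL (Fin 2) F) ∈
        (W : Subgroup (GL (Fin 2) F)) ⊓ Matrix.GeneralLinearGroup.det.ker := by
      rw [Subgroup.mem_inf, MonoidHom.mem_ker, Subgroup.coe_mul, Subgroup.coe_inv, map_mul, map_inv]
      refine ⟨W.toSubgroup.mul_mem x.2 (W.toSubgroup.inv_mem y.2), ?_⟩
      rw [show ((y : (W : Subgroup (GL (Fin 2) F))) : GL (Fin 2) F) = diagFst F a from rfl, det_diagFst,
        mul_inv_cancel]
    have hu : (x * y⁻¹) ^ 2 ∈ commutator (W : Subgroup (GL (Fin 2) F)) := by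
      have hu' := sqComm_map
        (Subgroup.inclusion (inf_le_left :
          (W : Subgroup (GL (Fin 2) F)) ⊓ Matrix.GeneralLinearGroup.det.ker ≤ W)) (hW ⟨_, hxy⟩)
      have hh : Subgroup.inclusion (inf_le_left :
          (W : Subgroup (GL (Fin 2) F)) ⊓ Matrix.GeneralLinearGroup.det.ker ≤ W) ⟨_, hxy⟩ = x * y⁻¹ :=
        Subtype.ext (by rw [Subgroup.coe_inclusion])
      rw [hh] at hu'
      exact hu' 
    have h1 : x * y⁻¹ ∈ sqKer (W : Subgroup (GL (Fin 2) F)) := mem_sqKer.2 hu
    have h2 : y ∈ sqKer (W : Subgroup (GL (Fin 2) F)) := mem_sqKer.2 (by rw [hy]; exact one_mem _)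
    have h3 := mul_mem h1 h2
    rw [inv_mul_cancel_right] at h3
    exact mem_sqKer.1 h3
  have h := sqComm_kernel d (W : Subgroup _) (T : Subgroup _) 1 ⊥
    (fun x hx => by rw [Subgroup.mem_bot.1 hx]; rfl) (fun x _ => one_mem _)
    (fun w _ => Subgroup.mem_bot.2 rfl) hW' (sqComm_sylow_perm m T)
    (Or.inl fun x hx => by rw [Subgroup.mem_bot.1 hx, one_pow])
  rw [show d.dt.ker = ⊤ from MonoidHom.ker_one, inf_top_eq] at h
  have hvS : padicValNat 2 (Nat.card (Matrix.SpecialLinearGroup (Fin (2 * m + 1)) F)) =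
      padicValNat 2 (Nat.card (GL (Fin 2 × Fin m) F)) := by
    have h1 := val_sl_succ hF (2 * m)
    rw [val_gl_succ hF, val_pred_pow Fintype.one_lt_card hF (odd_two_mul_add_one m),
      ← card_gl_prod] at h1
    omega
  have hc := card_wr_two d W T hv
  rw [Nat.factorization_def _ Nat.prime_two, ← hvS, ← Nat.factorization_def _ Nat.prime_two] at hc
  exact sqComm_of_map (glToSL F m) (glToSL_injective m) _ hc P h

end Cfsg.Agent.SylTwoClassical
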