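import Cfsg.Agent.Lib.Blocks.GreenDefect
import Cfsg.Agent.Lib.Blocks.FirstMain

/-!
# Defect groups are tame Sylow intersections

Green's theorem inside the normaliser of the defect group, applied to the Brauer correspondent.
-/

set_option autoImplicit false
set_option linter.style.haveILetI false

namespace Cfsg.Agent.Blocks

open Cfsg

universe u

variable {G : Type u} [Group G] [Fintype G] {p : ℕ} {M : Ideal AlgInt} [M.IsPrime]

/-- If `P` meets the normaliser of the defect group `D` in a Sylow subgroup then `D` is the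
intersection of `P` with its conjugate by a `p`-regular element centralising `D`. -/
theorem exists_tame_inter (hM : IsPModular p M) [Fact p.Prime] {B : Set (IrrCharacter G)}
    (hB : IsPBlock M B) {D : Subgroup G} (hD : IsDefectGroup p M B D) (P : Sylow p G)
    (hDP : D ≤ (P : Subgroup G))
    (htame : ∀ Q : Subgroup G, IsPGroup p Q → Q ≤ Subgroup.normalizer (D : Set G) →
      Nat.card Q ≤ Nat.card ((P : Subgroup G) ⊓ Subgroup.normalizer (D : Set G) : Subgroup G)) :
    ∃ z : G, ¬ p ∣ orderOf z ∧ (∀ d ∈ D, Commute z d) ∧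
      (P : Subgroup G) ⊓ (P : Subgroup G).map (MulAut.conj z).toMonoidHom = D := by
  classical
  set N := Subgroup.normalizer (D : Set G) with hN
  haveI : Fintype N := Fintype.ofFinite N
  obtain ⟨b, ⟨hb, hbD, -⟩, -⟩ := (first_main hM (isPGroup_defectGroup hD)).2 B hB hD
  -- the Sylow subgroup of the normaliser
  have hR0 : IsPGroup p ((P : Subgroup G).subgroupOf N) :=
    P.isPGroup'.comap_of_injective _ Subtype.val_injective
  obtain ⟨R, hR⟩ := hR0.exists_le_sylow
  have hRmap : ((R : Subgroup N).map N.subtype) = (P : Subgroup G) ⊓ N := by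
    symm
    refine Subgroup.eq_of_le_of_card_ge ?_ (htame _ (R.isPGroup'.map _) (Subgroup.map_subtype_le _))
    rw [← Subgroup.subgroupOf_map_subtype]
    exact Subgroup.map_mono hR
  have hRP : ∀ x : N, x ∈ (R : Subgroup N) ↔ (x : G) ∈ (P : Subgroup G) := by
    intro x
    rw [← Subgroup.mem_map_iff_mem N.subtype_injective, hRmap]
    exact ⟨fun h => h.1, fun h => ⟨h, x.2⟩⟩
  obtain ⟨z, c, hz, -, hinter, hcomm⟩ := exists_sylow_inter hM hb hbD R
  have hcD : ∀ d ∈ D, ∃ d' : N, (d' : G) ∈ D ∧ ((c * d' * c⁻¹ : N) : G) = d := by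
    intro d hd
    refine ⟨c⁻¹ * ⟨d, Subgroup.le_normalizer hd⟩ * c, ?_, by simp [mul_assoc]⟩
    simpa using (Subgroup.mem_normalizer_iff.1 (c⁻¹).2 d).1 hd
  have hzD : ∀ d ∈ D, Commute ((z⁻¹ : N) : G) d := by
    intro d hd
    obtain ⟨d', hd', rfl⟩ := hcD d hd
    exact (((hcomm d' (Subgroup.mem_subgroupOf.2 hd')).map N.subtype)).inv_left
  refine ⟨((z⁻¹ : N) : G), ?_, hzD, ?_⟩
  · rw [Subgroup.orderOf_coe, orderOf_inv]; exact hz
  set E := (P : Subgroup G) ⊓ (P : Subgroup G).map (MulAut.conj ((z⁻¹ : N) : G)).toMonoidHom with hE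
  have hDE : D ≤ E := fun d hd => ⟨hDP hd, d, hDP hd, by
    show ((z⁻¹ : N) : G) * d * ((z⁻¹ : N) : G)⁻¹ = d
    rw [(hzD d hd).eq, mul_inv_cancel_right]⟩
  have hEN : ∀ e ∈ E, e ∈ N → e ∈ D := by
    rintro e ⟨heP, f, hf, hfe⟩ heN
    have hfe' : ((z⁻¹ : N) : G) * f * ((z⁻¹ : N) : G)⁻¹ = e := hfe
    have hfN : f ∈ N := by
      rw [show f = ((z⁻¹ : N) : G)⁻¹ * e * ((z⁻¹ : N) : G) by rw [← hfe']; group]
      exact mul_mem (mul_mem (inv_mem (z⁻¹ : N).2) heN) (z⁻¹ : N).2
    have hmem : (⟨e, heN⟩ : N) ∈ (R : Subgroup N) ⊓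
        (R : Subgroup N).map (MulAut.conj z⁻¹).toMonoidHom :=
      ⟨(hRP _).2 heP, ⟨f, hfN⟩, (hRP _).2 hf, Subtype.ext hfe'⟩
    rw [hinter] at hmem
    obtain ⟨d', hd', he⟩ := hmem
    rw [show e = ((c * d' * c⁻¹ : N) : G) from (congrArg Subtype.val he).symm]
    simp only [Subgroup.coe_mul, Subgroup.coe_inv]
    exact (Subgroup.mem_normalizer_iff.1 c.2 _).1 hd'
  -- normalisers grow in `p`-groups
  by_contra hne
  haveI : Group.IsNilpotent E :=
    (P.isPGroup'.to_le (inf_le_left : E ≤ (P : Subgroup G))).isNilpotent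
  have hlt : D.subgroupOf E < ⊤ := by
    rw [lt_top_iff_ne_top, ne_eq, Subgroup.subgroupOf_eq_top]
    exact fun h => hne (le_antisymm h hDE)
  obtain ⟨e, he, heD⟩ := SetLike.exists_of_lt (Group.normalizerCondition_of_isNilpotent _ hlt)
  refine heD (hEN e e.2 ?_)
  rw [hN, Subgroup.mem_normalizer_iff]
  have key : ∀ y : E, y ∈ Subgroup.normalizer ((D.subgroupOf E : Subgroup E) : Set E) →
      ∀ d ∈ D, (y : G) * d * (y : G)⁻¹ ∈ D := fun y hy d hd =>
    (Subgroup.mem_normalizer_iff.1 hy ⟨d, hDE hd⟩).1 hd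
  refine fun d => ⟨key e he d, fun hd => ?_⟩
  have := key e⁻¹ (inv_mem he) _ hd
  simpa [mul_assoc] using this

end Cfsg.Agent.Blocks
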