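/-
Twisting by linear characters; 2-groups with 1 mod 4 involutions.
-/
import Cfsg.Agent.Lib.Char.Complete
import Cfsg.Agent.Lib.Char.Clifford
import Cfsg.Agent.Lib.Char.Degree
import Cfsg.Agent.Lib.Char.FrobeniusSchur
import Cfsg.Agent.Lib.Blocks.Center
import Mathlib.GroupTheory.Sylow

set_option linter.unusedSectionVars false
set_option linter.style.haveILetI false

namespace Cfsg.Agent.TwoInv

open Cfsg Cfsg.Agent.Char Cfsg.Agent.Blocks
open scoped ComplexConjugate

universe u

variable {G : Type u} [Group G] [Fintype G]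

noncomputable local instance homCommGroup : CommGroup (G →* ℂˣ) := MonoidHom.instCommGroup

theorem hom_conj (f : G →* ℂˣ) (g : G) : conj ((f g : ℂ)) = ((f⁻¹ : G →* ℂˣ) g : ℂ) := by
  have := irr_inv ⟨_, isIrrCharacter_linear f⟩ g
  rw [MonoidHom.inv_apply, ← map_inv]
  exact this.symm

/-- Multiplication of an irreducible character by a linear one. -/
noncomputable def twist (f : G →* ℂˣ) (χ : IrrCharacter G) : IrrCharacter G :=
  ⟨fun g => (f g : ℂ) * (χ : G → ℂ) g, by
    refine IsCharacter.isIrr_of_norm_one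
      (IsCharacter.mul (IsIrrCharacter.isCharacter (isIrrCharacter_linear f))
        (irr_isCharacter χ)) ?_
    rw [← classInner_self_irr χ.2]
    unfold classInner
    congr 1
    refine Finset.sum_congr rfl fun g _ => ?_
    rw [map_mul, hom_conj, mul_mul_mul_comm, ← Units.val_mul, ← MonoidHom.mul_apply,
      mul_inv_cancel, MonoidHom.one_apply, Units.val_one, one_mul]⟩

theorem twist_apply (f : G →* ℂˣ) (χ : IrrCharacter G) (g : G) :
    (twist f χ : G → ℂ) g = (f g : ℂ) * (χ : G → ℂ) g := rfl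

noncomputable instance instAction : MulAction (G →* ℂˣ) (IrrCharacter G) where
  smul := twist
  one_smul χ := Subtype.ext (funext fun g => by
    show ((1 : G →* ℂˣ) g : ℂ) * (χ : G → ℂ) g = _
    simp)
  mul_smul f f' χ := Subtype.ext (funext fun g => by
    show ((f * f') g : ℂ) * (χ : G → ℂ) g = (f g : ℂ) * ((f' g : ℂ) * (χ : G → ℂ) g)
    rw [MonoidHom.mul_apply, Units.val_mul, mul_assoc])

theorem smul_apply' (f : G →* ℂˣ) (χ : IrrCharacter G) (g : G) :
    ((f • χ : IrrCharacter G) : G → ℂ) g = (f g : ℂ) * (χ : G → ℂ) g := rfl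

instance finite_hom : Finite (G →* ℂˣ) :=
  Finite.of_injective (fun f => (⟨_, isIrrCharacter_linear f⟩ : IrrCharacter G)) fun a b h =>
    MonoidHom.ext fun g => Units.ext (congrFun (congrArg Subtype.val h) g)

theorem card_hom : Nat.card (G →* ℂˣ) = (commutator G).index := by
  rw [← card_linear (G := G)]
  refine Nat.card_eq_of_bijective (fun f => ⟨⟨_, isIrrCharacter_linear f⟩, by simp⟩) ⟨?_, ?_⟩
  · intro a b h
    exact MonoidHom.ext fun g => Units.ext
      (congrFun (congrArg Subtype.val (congrArg Subtype.val h)) g)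
  · intro χ
    obtain ⟨f, hf⟩ := exists_hom_of_degree_one (IsIrrCharacter.isCharacter χ.1.2) χ.2
    exact ⟨f, Subtype.ext (Subtype.ext hf.symm)⟩

theorem card_stabilizer_le (χ : IrrCharacter G) {d : ℕ} (hd : (χ : G → ℂ) 1 = d)
    (s : Finset (G →* ℂˣ)) (hs : ∀ f ∈ s, f • χ = χ) : s.card ≤ d * d := by
  classical
  set α : G → ℂ := (χ : G → ℂ) * fun g => conj ((χ : G → ℂ) g) with hα
  have hαc : IsCharacter G α := IsCharacter.mul (irr_isCharacter χ)
    (IsCharacter.conj (irr_isCharacter χ))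
  let lin : (G →* ℂˣ) → IrrCharacter G := fun f => ⟨_, isIrrCharacter_linear f⟩
  have hinj : Function.Injective lin := fun a b h =>
    MonoidHom.ext fun g => Units.ext (congrFun (congrArg Subtype.val h) g)
  have hn : ∀ ψ ∈ s.image lin, classInner α (ψ : G → ℂ) = ((1 : ℕ) : ℂ) := by
    intro ψ hψ
    obtain ⟨f, hf, rfl⟩ := Finset.mem_image.1 hψ
    rw [Nat.cast_one, ← classInner_self_irr χ.2]
    unfold classInner
    congr 1
    refine Finset.sum_congr rfl fun g _ => ?_
    have := congrArg (fun φ : IrrCharacter G => (φ : G → ℂ) g) (hs f hf)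
    simp only [smul_apply'] at this
    conv_rhs => rw [show (χ : G → ℂ) g * conj ((χ : G → ℂ) g) =
      (χ : G → ℂ) g * conj ((f g : ℂ) * (χ : G → ℂ) g) by rw [this]]
    simp only [hα, lin, Pi.mul_apply, map_mul]
    ring
  choose dd hdd using fun ψ : IrrCharacter G => IsCharacter.exists_degree (irr_isCharacter ψ)
  have h := sum_constituents_le hαc (s.image lin) (fun _ => 1) hn dd hdd (d * d)
    (by simp [hα, hd])
  rw [Finset.sum_congr rfl (g := fun _ => 1) fun ψ hψ => by
    obtain ⟨f, hf, rfl⟩ := Finset.mem_image.1 hψ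
    rw [one_mul]
    have := hdd (lin f)
    simp only [lin, map_one, Units.val_one] at this
    exact_mod_cast this.symm, Finset.sum_const, smul_eq_mul, mul_one,
    Finset.card_image_of_injective _ hinj] at h
  exact h

theorem card_sq_eq_one (hG : IsPGroup 2 G) :
    ((Nat.card {g : G // g * g = 1} : ℕ) : ℂ) =
      ∑ χ : IrrCharacter G, (χ : G → ℂ) 1 * ((Nat.card G : ℂ)⁻¹ * ∑ g : G, (χ : G → ℂ) (g * g)) := by
  classical
  have h : ∀ g : G, ∑ χ : IrrCharacter G, (χ : G → ℂ) 1 * (χ : G → ℂ) (g * g) =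
      if g * g = 1 then (Nat.card G : ℂ) else 0 := by
    intro g
    have := congrArg conj (sum_irr_one_mul (g * g))
    simp only [map_sum, map_mul, Complex.conj_conj, apply_ite conj, map_natCast, map_zero,
      conj_irr_one] at this
    exact this
  simp only [Finset.mul_sum, mul_left_comm _ ((Nat.card G : ℂ)⁻¹)]
  rw [Finset.sum_comm]
  simp only [← Finset.mul_sum, h]
  rw [Finset.mul_sum]
  simp only [mul_ite, mul_zero, inv_mul_cancel₀ (Nat.cast_ne_zero.2 (Nat.card_pos (α := G)).ne'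
    : (Nat.card G : ℂ) ≠ 0)]
  rw [Finset.sum_boole, Nat.card_eq_fintype_card, Fintype.card_subtype]

theorem isCyclic_of_le_two (hG : IsPGroup 2 G)
    (h : Nat.card {f : G →* ℂˣ // f ^ 2 = 1} ≤ 2) : IsCyclic G := by
  classical
  haveI := Fact.mk Nat.prime_two
  obtain ⟨n, hn⟩ := IsPGroup.iff_card.1 hG
  have hsgn : ∀ M : Subgroup G, M.index = 2 → ∃ f : G →* ℂˣ, f ^ 2 = 1 ∧ ∀ g, f g = 1 ↔ g ∈ M := by
    intro M hM
    let f : G →* ℂˣ :=
      { toFun := fun g => if g ∈ M then 1 else -1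
        map_one' := if_pos M.one_mem
        map_mul' := fun a b => by
          have := Subgroup.mul_mem_iff_of_index_two hM (a := a) (b := b)
          by_cases ha : a ∈ M <;> by_cases hb : b ∈ M <;> simp_all }
    refine ⟨f, MonoidHom.ext fun g => ?_, fun g => ?_⟩
    · show (f g) ^ 2 = 1
      simp only [f, MonoidHom.coe_mk, OneHom.coe_mk]
      split_ifs <;> simp
    · simp only [f, MonoidHom.coe_mk, OneHom.coe_mk]
      by_cases hg : g ∈ M
      · simp [hg]
      · simp only [hg, if_false, iff_false]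
        intro e
        exact absurd (congrArg Units.val e) (by norm_num)
  have huniq : ∀ M M' : Subgroup G, M.index = 2 → M'.index = 2 → M = M' := by
    intro M M' hM hM'
    obtain ⟨f, hf, hfM⟩ := hsgn M hM
    obtain ⟨f', hf', hfM'⟩ := hsgn M' hM'
    have hne : ∀ (K : Subgroup G) (φ : G →* ℂˣ), K.index = 2 → (∀ g, φ g = 1 ↔ g ∈ K) → φ ≠ 1 := by
      intro K φ hK hφ e
      have : K = ⊤ := eq_top_iff.2 fun g _ => (hφ g).1 (by simp [e])
      rw [this, Subgroup.index_top] at hK
      omega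
    have hff : f = f' := by
      by_contra hne'
      haveI := Fintype.ofFinite {φ : G →* ℂˣ // φ ^ 2 = 1}
      have := Finset.card_le_card (Finset.subset_univ
        ({⟨1, one_pow 2⟩, ⟨f, hf⟩, ⟨f', hf'⟩} : Finset {φ : G →* ℂˣ // φ ^ 2 = 1}))
      rw [Finset.card_univ, ← Nat.card_eq_fintype_card, Finset.card_insert_of_notMem (by
          simp [Ne.symm (hne M f hM hfM), Ne.symm (hne M' f' hM' hfM')]),
        Finset.card_insert_of_notMem (by simp [hne']), Finset.card_singleton] at this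
      omega
    ext g
    rw [← hfM, ← hfM', hff]
  have hcof : ∀ H : Subgroup G, H ≠ ⊤ → ∃ M : Subgroup G, M.index = 2 ∧ H ≤ M := by
    intro H hH
    obtain ⟨k, hk⟩ := IsPGroup.iff_card.1 (hG.to_subgroup H)
    have hkn : k < n := by
      by_contra hc
      refine hH (Subgroup.eq_top_of_le_card H ?_)
      rw [hn, hk]; exact Nat.pow_le_pow_right (by norm_num) (not_lt.1 hc)
    obtain ⟨K, hK, hle⟩ := Sylow.exists_subgroup_card_pow_prime_le 2
      (show 2 ^ (n - 1) ∣ Nat.card G by rw [hn]; exact pow_dvd_pow 2 (Nat.sub_le n 1)) H hk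
      (by omega)
    refine ⟨K, ?_, hle⟩
    have := K.card_mul_index
    rw [hK, hn, show 2 ^ n = 2 ^ (n - 1) * 2 by rw [← pow_succ]; congr 1; omega] at this
    exact Nat.eq_of_mul_eq_mul_left (by positivity) this
  by_cases hM : ∃ M : Subgroup G, M.index = 2
  · obtain ⟨M, hM⟩ := hM
    obtain ⟨g, hg⟩ : ∃ g, g ∉ M := by
      by_contra hc
      push Not at hc
      have hMt : M = ⊤ := eq_top_iff.2 fun g _ => hc g
      rw [hMt, Subgroup.index_top] at hM
      omega
    refine ⟨⟨g, fun x => ?_⟩⟩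
    have : Subgroup.zpowers g = ⊤ := by
      by_contra hne
      obtain ⟨M', hM', hle⟩ := hcof _ hne
      exact hg (huniq M' M hM' hM ▸ hle (Subgroup.mem_zpowers g))
    exact Subgroup.mem_zpowers_iff.1 (this ▸ Subgroup.mem_top x)
  · refine ⟨⟨1, fun x => ?_⟩⟩
    have : Subgroup.zpowers (1 : G) = ⊤ := by
      by_contra hne
      obtain ⟨M', hM', -⟩ := hcof _ hne
      exact hM ⟨M', hM'⟩
    exact Subgroup.mem_zpowers_iff.1 (this ▸ Subgroup.mem_top x)

theorem cyclic_or_index_four (hG : IsPGroup 2 G)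
    (ht : Nat.card {x : G // orderOf x = 2} % 4 = 1) :
    IsCyclic G ∨ (commutator G).index = 4 := by
  classical
  haveI : Fact (Nat.Prime 2) := ⟨Nat.prime_two⟩
  haveI : Fintype (G →* ℂˣ) := Fintype.ofFinite _
  obtain ⟨n, hn⟩ := IsPGroup.iff_card.1 hG
  have hΛ : IsPGroup 2 (G →* ℂˣ) := fun f => ⟨n, MonoidHom.ext fun g => by
    show (f g) ^ 2 ^ n = 1
    rw [← map_pow, ← hn, pow_card_eq_one', map_one]⟩
  let Ω : Subgroup (G →* ℂˣ) :=
    { carrier := {f | f ^ 2 = 1}
      one_mem' := one_pow 2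
      mul_mem' := fun {a b} ha hb => by
        show (a * b) ^ 2 = 1
        rw [mul_pow, show a ^ 2 = 1 from ha, show b ^ 2 = 1 from hb, one_mul]
      inv_mem' := fun {a} ha => by
        show a⁻¹ ^ 2 = 1
        rw [inv_pow, show a ^ 2 = 1 from ha, inv_one] }
  by_cases h2 : Nat.card Ω ≤ 2
  · exact Or.inl (isCyclic_of_le_two hG h2)
  right
  obtain ⟨a, ha⟩ := IsPGroup.iff_card.1 (hΛ.to_subgroup Ω)
  have ha2 : 2 ≤ a := by
    by_contra hc
    exact h2 (ha ▸ (Nat.pow_le_pow_right (by norm_num) (by omega : a ≤ 1)))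
  -- real characters of degree two
  let S : Finset (IrrCharacter G) := Finset.univ.filter fun χ =>
    (∀ g, conj ((χ : G → ℂ) g) = (χ : G → ℂ) g) ∧ (χ : G → ℂ) 1 = 2
  let L : Finset (IrrCharacter G) := Finset.univ.filter fun χ =>
    (∀ g, conj ((χ : G → ℂ) g) = (χ : G → ℂ) g) ∧ (χ : G → ℂ) 1 = 1
  have hLcard : L.card = Nat.card Ω := by
    rw [Nat.card_eq_fintype_card, ← Finset.card_univ]
    symm
    refine Finset.card_bij (fun f _ => ⟨_, isIrrCharacter_linear (f : G →* ℂˣ)⟩) ?_ ?_ ?_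
    · intro f _
      simp only [L, Finset.mem_filter, Finset.mem_univ, true_and, map_one, Units.val_one, and_true]
      intro g
      rw [hom_conj]
      have : (f : G →* ℂˣ)⁻¹ = (f : G →* ℂˣ) := by
        rw [inv_eq_iff_mul_eq_one, ← pow_two]; exact f.2
      rw [this]
    · intro f _ f' _ h
      exact Subtype.ext (MonoidHom.ext fun g =>
        Units.ext (congrFun (congrArg Subtype.val h) g))
    · intro χ hχ
      simp only [L, Finset.mem_filter, Finset.mem_univ, true_and] at hχ
      obtain ⟨f, hf⟩ := exists_hom_of_degree_one (irr_isCharacter χ) hχ.2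
      refine ⟨⟨f, ?_⟩, Finset.mem_univ _, Subtype.ext hf.symm⟩
      show f ^ 2 = 1
      rw [pow_two, ← inv_eq_iff_mul_eq_one]
      refine MonoidHom.ext fun g => Units.ext ?_
      rw [← hom_conj]
      have := hχ.1 g
      rwa [hf] at this
  -- the count modulo four
  have hmod : ∀ χ : IrrCharacter G, ∃ z : ℤ,
      (χ : G → ℂ) 1 * ((Nat.card G : ℂ)⁻¹ * ∑ g : G, (χ : G → ℂ) (g * g)) = (z : ℂ) ∧
      (z : ZMod 4) = (if χ ∈ L then 1 else 0) + (if χ ∈ S then 2 else 0) := by
    intro χ
    obtain ⟨j, -, hj⟩ := (Nat.dvd_prime_pow Nat.prime_two).1 (hn ▸ Cfsg.Agent.CharX.irr_deg_dvd_card χ)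
    have h1 : (χ : G → ℂ) 1 = ((2 ^ j : ℕ) : ℂ) := by rw [irr_one_eq_charDegree, hj]
    rcases FSchur.irr_indicator χ with ⟨hnr, h0⟩ | ⟨hr, h0⟩
    · refine ⟨0, by rw [h0]; simp, ?_⟩
      rw [if_neg (by simp [L, hnr]), if_neg (by simp [S, hnr])]
      simp
    · have hLiff : χ ∈ L ↔ j = 0 := by
        simp only [L, Finset.mem_filter, Finset.mem_univ, true_and, hr, h1, implies_true]
        rw [show (1 : ℂ) = ((2 ^ 0 : ℕ) : ℂ) by norm_num, Nat.cast_inj]
        exact ⟨fun h => Nat.pow_right_injective le_rfl h, fun h => by rw [h]⟩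
      have hSiff : χ ∈ S ↔ j = 1 := by
        simp only [S, Finset.mem_filter, Finset.mem_univ, true_and, hr, h1, implies_true]
        rw [show (2 : ℂ) = ((2 ^ 1 : ℕ) : ℂ) by norm_num, Nat.cast_inj]
        exact ⟨fun h => Nat.pow_right_injective le_rfl h, fun h => by rw [h]⟩
      simp only [hLiff, hSiff]
      rcases h0 with h0 | ⟨h0, m, hm, hm1⟩
      · refine ⟨2 ^ j, by rw [h0, h1]; push_cast; ring, ?_⟩
        match j with
        | 0 => rfl
        | 1 => rfl
        | j + 2 =>
          simp only [show ¬ j + 2 = 0 by omega, show ¬ j + 2 = 1 by omega, if_false, add_zero]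
          rw [pow_add, Int.cast_mul]
          norm_num
          exact mul_eq_zero_of_right _ rfl
      · refine ⟨-2 ^ j, by rw [h0, h1]; push_cast; ring, ?_⟩
        rw [h1, Nat.cast_inj] at hm1
        match j with
        | 0 =>
          rw [← hm1] at hm
          exact absurd hm (by decide)
        | 1 => rfl
        | j + 2 =>
          simp only [show ¬ j + 2 = 0 by omega, show ¬ j + 2 = 1 by omega, if_false, add_zero]
          rw [pow_add, Int.cast_neg, Int.cast_mul]
          norm_num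
          exact mul_eq_zero_of_right _ rfl
  choose z hz hz4 using hmod
  have hcnt : Nat.card {g : G // g * g = 1} = Nat.card {x : G // orderOf x = 2} + 1 := by
    rw [Nat.card_eq_fintype_card, Nat.card_eq_fintype_card, Fintype.card_subtype,
      Fintype.card_subtype, show (Finset.univ.filter fun g : G => g * g = 1) =
        insert 1 (Finset.univ.filter fun x : G => orderOf x = 2) from ?_,
      Finset.card_insert_of_notMem (by simp)]
    ext g
    simp only [Finset.mem_filter, Finset.mem_univ, true_and, Finset.mem_insert,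
      orderOf_eq_prime_iff, ← pow_two]
    constructor
    · intro h
      by_cases hg : g = 1
      · exact Or.inl hg
      · exact Or.inr ⟨h, hg⟩
    · rintro (rfl | ⟨h, -⟩)
      · simp
      · exact h
  have hsum : ((Nat.card {g : G // g * g = 1} : ℕ) : ℤ) = ∑ χ, z χ := by
    have := card_sq_eq_one hG
    simp only [hz] at this
    exact_mod_cast this
  have hodd : (S.card : ZMod 2) = 1 := by
    have h4 := congrArg (fun x : ℤ => (x : ZMod 4)) hsum
    simp only [Int.cast_natCast, Int.cast_sum, hz4, Finset.sum_add_distrib, Finset.sum_ite_mem,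
      Finset.univ_inter, Finset.sum_const, nsmul_eq_mul, mul_one] at h4
    rw [hcnt, hLcard, ha, show a = a - 2 + 2 by omega, pow_add] at h4
    have e : ((Nat.card {x : G // orderOf x = 2} : ℕ) : ZMod 4) = 1 := by
      rw [← ZMod.natCast_mod, ht, Nat.cast_one]
    push_cast at h4
    rw [e, show (4 : ZMod 4) = 0 from rfl, mul_zero, zero_add] at h4
    rw [← ZMod.natCast_mod] at h4 ⊢
    rcases Nat.mod_two_eq_zero_or_one S.card with h | h
    · exfalso
      have : (S.card % 4 = 0 ∨ S.card % 4 = 2) := by omega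
      rcases this with hc | hc <;> rw [hc] at h4 <;> exact absurd h4 (by decide)
    · rw [h, Nat.cast_one]
  -- fixed points of the quadratic linear characters
  let T : SubMulAction Ω (IrrCharacter G) :=
    { carrier := {χ | χ ∈ S}
      smul_mem' := fun f {χ} hχ => by
        simp only [S, Finset.mem_filter, Finset.mem_univ, true_and, Set.mem_setOf_eq] at hχ ⊢
        refine ⟨fun g => ?_, ?_⟩
        · show conj (((f : G →* ℂˣ) g : ℂ) * (χ : G → ℂ) g) = _
          rw [map_mul, hχ.1 g, hom_conj,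
            show (f : G →* ℂˣ)⁻¹ = (f : G →* ℂˣ) by
              rw [inv_eq_iff_mul_eq_one, ← pow_two]; exact f.2]
          rfl
        · show ((f : G →* ℂˣ) 1 : ℂ) * (χ : G → ℂ) 1 = 2
          rw [map_one, Units.val_one, one_mul, hχ.2] }
  have hTcard : Nat.card T = S.card := by
    rw [← Nat.card_eq_finsetCard]
    exact Nat.card_congr (Equiv.refl _)
  have hfix := (hΛ.to_subgroup Ω).card_modEq_card_fixedPoints T
  rw [hTcard, ← ZMod.natCast_eq_natCast_iff, hodd] at hfix
  have hΩ4 : a = 2 ∧ ∀ (χ : T), χ ∈ MulAction.fixedPoints Ω T →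
      ∀ f : G →* ℂˣ, f • (χ : IrrCharacter G) = χ → f ^ 2 = 1 := by
    have hbd : ∀ (χ : T), χ ∈ MulAction.fixedPoints Ω T →
        ∀ f : G →* ℂˣ, f • (χ : IrrCharacter G) = χ →
          (insert f (Finset.univ.image (Subtype.val : Ω → (G →* ℂˣ)))).card ≤ 4 := by
      intro χ hχ f hf
      refine card_stabilizer_le (χ : IrrCharacter G) (d := 2) ?_ _ fun f' hf' => ?_
      · have hmem : (χ : IrrCharacter G) ∈ Finset.univ.filter (fun χ : IrrCharacter G =>
            (∀ g, conj ((χ : G → ℂ) g) = (χ : G → ℂ) g) ∧ (χ : G → ℂ) 1 = 2) := χ.2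
        exact_mod_cast (Finset.mem_filter.1 hmem).2.2
      · rcases Finset.mem_insert.1 hf' with rfl | hf'
        · exact hf
        · obtain ⟨w, -, rfl⟩ := Finset.mem_image.1 hf'
          exact congrArg Subtype.val (hχ w)
    have hc : (Finset.univ.image (Subtype.val : Ω → (G →* ℂˣ))).card = 2 ^ a := by
      rw [Finset.card_image_of_injective _ Subtype.val_injective, Finset.card_univ,
        ← Nat.card_eq_fintype_card, ha]
    obtain ⟨χ, hχ⟩ : (MulAction.fixedPoints Ω T).Nonempty := by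
      by_contra hne
      haveI := Set.isEmpty_coe_sort.2 (Set.not_nonempty_iff_eq_empty.1 hne)
      rw [Nat.card_of_isEmpty, Nat.cast_zero] at hfix
      exact one_ne_zero hfix
    have h1 := hbd χ hχ 1 (one_smul _ _)
    have hm1 : (1 : G →* ℂˣ) ∈ Finset.univ.image (Subtype.val : Ω → (G →* ℂˣ)) :=
      Finset.mem_image.2 ⟨(1 : Ω), Finset.mem_univ _, rfl⟩
    rw [Finset.insert_eq_of_mem hm1, hc] at h1
    have ha' : a = 2 := by
      have := (Nat.pow_le_pow_iff_right (show 1 < 2 by norm_num)).1 (show 2 ^ a ≤ 2 ^ 2 from h1)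
      omega
    refine ⟨ha', fun χ hχ f hf => ?_⟩
    by_contra hne
    have h2 := hbd χ hχ f hf
    rw [Finset.card_insert_of_notMem, hc, ha'] at h2
    · omega
    · intro hm
      obtain ⟨w, -, rfl⟩ := Finset.mem_image.1 hm
      exact hne w.2
  obtain ⟨rfl, hstab⟩ := hΩ4
  suffices htop : ∀ f : G →* ℂˣ, f ^ 2 = 1 by
    rw [← card_hom, ← Subgroup.card_top (G := G →* ℂˣ),
      ← (eq_top_iff.2 fun f _ => htop f : Ω = ⊤), ha]
    rfl
  by_contra hex
  push Not at hex
  obtain ⟨l, hl4, hl2⟩ : ∃ l : G →* ℂˣ, l ^ 4 = 1 ∧ l ^ 2 ≠ 1 := by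
    obtain ⟨f, hf⟩ := hex
    obtain ⟨k, hk⟩ := IsPGroup.iff_orderOf.1 hΛ f
    have hk2 : 2 ≤ k := by
      by_contra hc
      exact hf (orderOf_dvd_iff_pow_eq_one.1 (hk ▸ pow_dvd_pow 2 (by omega : k ≤ 1)))
    refine ⟨f ^ 2 ^ (k - 2), ?_, ?_⟩
    · rw [← pow_mul, show 2 ^ (k - 2) * 4 = 2 ^ k by
        rw [show (4 : ℕ) = 2 ^ 2 by norm_num, ← pow_add]; congr 1; omega, ← hk, pow_orderOf_eq_one]
    · rw [← pow_mul, ← pow_succ, Ne, ← orderOf_dvd_iff_pow_eq_one, hk,
        Nat.pow_dvd_pow_iff_le_right (by norm_num)]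
      omega
  have hlsq : l ^ 2 ∈ Ω := by
    show (l ^ 2) ^ 2 = 1
    rw [← pow_mul]; exact hl4
  have hinvl : l⁻¹ = l * l ^ 2 := by
    rw [inv_eq_iff_mul_eq_one, ← mul_assoc, ← pow_two, ← pow_add]; exact hl4
  let U : SubMulAction (Subgroup.zpowers l) (IrrCharacter G) :=
    { carrier := {χ | χ ∈ S ∧ ∀ f : Ω, (f : G →* ℂˣ) • χ = χ}
      smul_mem' := fun w {χ} hχ => by
        have hgen : ∀ χ : IrrCharacter G, (χ ∈ S ∧ ∀ f : Ω, (f : G →* ℂˣ) • χ = χ) →
            (l • χ ∈ S ∧ ∀ f : Ω, (f : G →* ℂˣ) • (l • χ) = l • χ) := by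
          intro χ hχ
          refine ⟨?_, fun f => by rw [← mul_smul, mul_comm, mul_smul, hχ.2 f]⟩
          have hS := hχ.1
          simp only [S, Finset.mem_filter, Finset.mem_univ, true_and] at hS ⊢
          refine ⟨fun g => ?_, ?_⟩
          · have h3 := congrArg (fun φ : IrrCharacter G => (φ : G → ℂ) g) (hχ.2 ⟨_, hlsq⟩)
            simp only [smul_apply'] at h3
            simp only [smul_apply', map_mul, hS.1 g, hom_conj, hinvl, MonoidHom.mul_apply,
              Units.val_mul, mul_assoc, h3]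
          · simp only [smul_apply', map_one, Units.val_one, one_mul, hS.2]
        obtain ⟨w, hw⟩ := w
        obtain ⟨i, rfl⟩ := (isOfFinOrder_of_finite l).mem_powers_iff_mem_zpowers.2 hw
        show (l ^ i) • χ ∈ S ∧ ∀ f : Ω, (f : G →* ℂˣ) • ((l ^ i) • χ) = (l ^ i) • χ
        clear hw
        induction i with
        | zero => rw [pow_zero, one_smul]; exact hχ
        | succ i ih => rw [pow_succ', mul_smul]; exact hgen _ ih }
  have hU : Nat.card U = Nat.card (MulAction.fixedPoints Ω T) := by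
    refine Nat.card_congr
      { toFun := fun χ => ⟨⟨χ.1, χ.2.1⟩, fun f => Subtype.ext (χ.2.2 f)⟩
        invFun := fun χ => ⟨χ.1.1, χ.1.2, fun f => congrArg Subtype.val (χ.2 f)⟩
        left_inv := fun _ => rfl
        right_inv := fun _ => rfl }
  have hfix2 := (hΛ.to_subgroup (Subgroup.zpowers l)).card_modEq_card_fixedPoints U
  rw [hU, ← ZMod.natCast_eq_natCast_iff, ← hfix] at hfix2
  have : IsEmpty (MulAction.fixedPoints (Subgroup.zpowers l) U) := ⟨fun χ => hl2
    (hstab ⟨χ.1.1, χ.1.2.1⟩ (fun f => Subtype.ext (χ.1.2.2 f)) l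
      (congrArg Subtype.val (χ.2 ⟨l, Subgroup.mem_zpowers l⟩)))⟩
  rw [Nat.card_of_isEmpty, Nat.cast_zero] at hfix2
  exact one_ne_zero hfix2

end Cfsg.Agent.TwoInv
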