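import Cfsg.Agent.Lib.Blocks.CentralDefect
import Cfsg.Agent.Lib.Blocks.MinMax
import Cfsg.Agent.Lib.Blocks.Section
import Cfsg.Agent.Lib.Char.Multiplicity
import Cfsg.Agent.Lib.Char.Orbit
import Cfsg.Agent.Lib.Char.Degree
import Cfsg.Agent.Lib.Solvable.Basic
import Cfsg.Prelude.Def_BrauerPairs

/-!
# A Brauer pair carrying a weight is centric and radical
-/

set_option linter.unusedSectionVars false
set_option linter.style.haveILetI false

namespace Cfsg.Agent.WeightPair

open Cfsg Cfsg.Agent Cfsg.Agent.Char Cfsg.Agent.Blocks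
open scoped ComplexConjugate Classical

universe u

variable {T : Type u} [Group T] [Fintype T]

/-- The degree is the largest real part, so kernels pass to constituents. -/
theorem trivial_of_constituent {χ : T → ℂ} (hχ : Cfsg.IsCharacter T χ) (ψ : Cfsg.IrrCharacter T)
    (hne : Cfsg.classInner χ (ψ : T → ℂ) ≠ 0) {x : T} (hx : χ x = χ 1) :
    (ψ : T → ℂ) x = (ψ : T → ℂ) 1 := by
  obtain ⟨m, rfl⟩ := IsCharacter.exists_decomp hχ
  rw [classInner_combination, ne_eq, Nat.cast_eq_zero] at hne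
  have hle : ∀ η : Cfsg.IrrCharacter T,
      ‖(η : T → ℂ) x‖ ≤ (charDegree (η : T → ℂ) : ℝ) := fun η => by
    obtain ⟨η, n, ρ, hρ, rfl⟩ := η
    have := norm_char_le ρ x
    simpa [Cfsg.charDegree, Representation.char_one] using this
  have hle' : ∀ η : Cfsg.IrrCharacter T,
      ((η : T → ℂ) x).re ≤ (charDegree (η : T → ℂ) : ℝ) := fun η =>
    (Complex.re_le_norm _).trans (hle η)
  have hre := congrArg Complex.re hx
  simp only [Finset.sum_apply, Pi.smul_apply, smul_eq_mul, Complex.re_sum, irr_one_eq_charDegree,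
    Complex.mul_re, Complex.natCast_re, Complex.natCast_im, zero_mul, sub_zero] at hre
  have h := (Finset.sum_eq_sum_iff_of_le fun η _ =>
    mul_le_mul_of_nonneg_left (hle' η) (Nat.cast_nonneg (m η))).mp hre ψ (Finset.mem_univ _)
  have hre' : ((ψ : T → ℂ) x).re = (charDegree (ψ : T → ℂ) : ℝ) :=
    mul_left_cancel₀ (Nat.cast_ne_zero.mpr hne) h
  have hn : ((ψ : T → ℂ) x).re = ‖(ψ : T → ℂ) x‖ :=
    le_antisymm (Complex.re_le_norm _) (hre' ▸ hle ψ)
  have him : ((ψ : T → ℂ) x).im = 0 := by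
    have h1 := Complex.sq_norm ((ψ : T → ℂ) x)
    rw [← hn, Complex.normSq_apply] at h1
    have h2 : ((ψ : T → ℂ) x).im * ((ψ : T → ℂ) x).im = 0 := by linarith
    exact mul_self_eq_zero.mp h2
  rw [irr_one_eq_charDegree]
  exact Complex.ext (by rw [hre', Complex.natCast_re]) (by rw [him, Complex.natCast_im])

variable {p : ℕ} [Fact p.Prime]

/-- `θ(1)² ≤ |N : Q|` when `θ` is trivial on `Q`. -/
theorem deg_sq_mul_le {N : Type u} [Group N] [Fintype N] (θ : Cfsg.IrrCharacter N) (Q : Subgroup N)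
    (h : ∀ x ∈ Q, (θ : N → ℂ) x = (θ : N → ℂ) 1) :
    charDegree (θ : N → ℂ) ^ 2 * Nat.card Q ≤ Nat.card N := by
  have h1 : ∑ x : N, Complex.normSq ((θ : N → ℂ) x) = (Nat.card N : ℝ) := by
    have h2 := classInner_self_irr θ.2
    rw [Cfsg.classInner, inv_mul_eq_one₀ (Nat.cast_ne_zero.mpr Nat.card_pos.ne'), eq_comm] at h2
    simp only [Complex.mul_conj] at h2
    exact_mod_cast h2
  have h3 : ∑ x ∈ Finset.univ.filter (· ∈ Q), Complex.normSq ((θ : N → ℂ) x) ≤
      ∑ x : N, Complex.normSq ((θ : N → ℂ) x) :=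
    Finset.sum_le_sum_of_subset_of_nonneg (Finset.subset_univ _) fun x _ _ => Complex.normSq_nonneg _
  rw [h1, Finset.sum_congr rfl fun x hx => by rw [h x (Finset.mem_filter.mp hx).2,
    irr_one_eq_charDegree, Complex.normSq_natCast], Finset.sum_const, nsmul_eq_mul,
    ← Fintype.card_subtype, ← Nat.card_eq_fintype_card] at h3
  have h4 : ((Nat.card {x // x ∈ Q} * (charDegree (θ : N → ℂ) * charDegree (θ : N → ℂ)) : ℕ) : ℝ) ≤
      ((Nat.card N : ℕ) : ℝ) := by push_cast; exact h3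
  have h5 := Nat.cast_le.mp h4
  rw [pow_two, mul_comm]
  exact h5

/-- The degree bound for a constituent on a normal subgroup containing `Q`. -/
theorem factorization_constituent_ge (χ : Cfsg.IrrCharacter T) (Q N : Subgroup T) [N.Normal] [Fintype N]
    (hdeg : (charDegree (χ : T → ℂ)).factorization p + (Nat.card Q).factorization p =
      (Nat.card T).factorization p)
    (θ : Cfsg.IrrCharacter N) (hθ : Cfsg.classInner (fun n : N => (χ : T → ℂ) n) (θ : N → ℂ) ≠ 0) :
    (Nat.card N).factorization p ≤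
      (charDegree (θ : N → ℂ)).factorization p + (Nat.card Q).factorization p := by
  obtain ⟨e, he, hdvd⟩ := exists_ratio_dvd_index N χ.2 θ.2 hθ
  rw [irr_one_eq_charDegree, irr_one_eq_charDegree, ← Nat.cast_mul, Nat.cast_inj] at he
  have he0 : e ≠ 0 := fun h0 => (charDegree_pos χ).ne' (by rw [he, h0, zero_mul])
  have h1 := congrArg (fun n => n.factorization p) he
  simp only [Nat.factorization_mul he0 (charDegree_pos θ).ne', Finsupp.add_apply] at h1
  have h2 : e.factorization p ≤ N.index.factorization p :=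
    (Nat.factorization_le_iff_dvd he0 Subgroup.index_ne_zero_of_finite).mpr hdvd p
  have h3 := congrArg (fun n => n.factorization p) (Subgroup.card_mul_index N)
  simp only [Nat.factorization_mul Nat.card_pos.ne' Subgroup.index_ne_zero_of_finite,
    Finsupp.add_apply] at h3
  omega

/-- Normal `p`-subgroups lie in `Q`. -/
theorem radical (χ : Cfsg.IrrCharacter T) (Q R : Subgroup T) [Q.Normal] [R.Normal]
    (hR : IsPGroup p R) (hQp : IsPGroup p Q)
    (htriv : ∀ x ∈ Q, (χ : T → ℂ) x = (χ : T → ℂ) 1)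
    (hdeg : (charDegree (χ : T → ℂ)).factorization p + (Nat.card Q).factorization p =
      (Nat.card T).factorization p) : R ≤ Q := by
  set N := R ⊔ Q
  haveI : Fintype N := Fintype.ofFinite N
  have hNp : IsPGroup p N := hR.to_sup_of_normal_right hQp
  obtain ⟨θ, hθ⟩ := exists_restrict_constituent χ.2 N
  have hker : ∀ x ∈ Q.subgroupOf N, (θ : N → ℂ) x = (θ : N → ℂ) 1 := fun x hx =>
    trivial_of_constituent (IsCharacter.restrict (IsIrrCharacter.isCharacter χ.2) N) θ hθ (htriv x hx)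
  have hsq := deg_sq_mul_le θ (Q.subgroupOf N) hker
  rw [Nat.card_congr (Subgroup.subgroupOfEquivOfLe (le_sup_right : Q ≤ N)).toEquiv] at hsq
  have hge := factorization_constituent_ge χ Q N hdeg θ hθ
  obtain ⟨a, ha⟩ := hNp.exists_card_eq
  obtain ⟨b, hb⟩ := hQp.exists_card_eq
  have hp : p.Prime := Fact.out
  obtain ⟨i, hi, hd⟩ := (Nat.dvd_prime_pow hp).mp (ha ▸ charDegree_dvd_card θ)
  rw [ha, hb, hd, hp.factorization_pow, hp.factorization_pow, hp.factorization_pow,
    Finsupp.single_eq_same, Finsupp.single_eq_same, Finsupp.single_eq_same] at hge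
  rw [ha, hb, hd, ← pow_mul, ← pow_add] at hsq
  have hle := (Nat.pow_le_pow_iff_right hp.one_lt).mp hsq
  have hab : b ≤ a := by
    have := Nat.le_of_dvd Nat.card_pos (Subgroup.card_dvd_of_le (le_sup_right : Q ≤ N))
    rw [ha, hb] at this
    exact (Nat.pow_le_pow_iff_right hp.one_lt).mp this
  have heq : Q = N := Subgroup.eq_of_le_of_card_ge le_sup_right (by
    rw [ha, hb]; exact Nat.pow_le_pow_right hp.pos (by omega))
  exact le_sup_left.trans heq.ge

/-- The centric property. -/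
theorem centric {C : Type u} [Group C] [Fintype C] {M : Ideal AlgInt} [M.IsPrime]
    (hM : IsPModular p M) (ι : C →* T) (hι : Function.Injective ι) [ι.range.Normal]
    {e : Set (Cfsg.IrrCharacter C)} (he : IsPBlock M e) (Q : Subgroup T) [Q.Normal]
    (hQp : IsPGroup p Q) (hcomm : ∀ c : C, ∀ x ∈ Q, ι c * x = x * ι c)
    (Z : Subgroup C) (hZQ : ∀ c, c ∈ Z ↔ ι c ∈ Q)
    {F : Set (Cfsg.IrrCharacter T)} (hF : IsPBlock M F)
    (hcoeff : ∀ c : C, blockCoeff F (ι c) = blockCoeff e c)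
    (hsupp : ∀ t : T, t ∉ ι.range → blockCoeff F t = 0)
    (χ : Cfsg.IrrCharacter T) (hχ : χ ∈ F)
    (htriv : ∀ x ∈ Q, (χ : T → ℂ) x = (χ : T → ℂ) 1)
    (hdeg : (charDegree (χ : T → ℂ)).factorization p + (Nat.card Q).factorization p =
      (Nat.card T).factorization p) : IsDefectGroup p M e Z := by
  have hp : p.Prime := Fact.out
  have hTsum : ∑ t : T, blockCoeff F t * (χ : T → ℂ) t = (χ : T → ℂ) 1 := by
    simp only [blockCoeff_eq_sum, mul_assoc, ← Finset.mul_sum, Finset.sum_mul]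
    rw [Finset.sum_comm, Finset.mul_sum, Finset.sum_eq_single χ]
    · have h := classInner_self_irr χ.2
      rw [Cfsg.classInner] at h
      rw [Finset.sum_congr rfl fun t _ => show (χ : T → ℂ) 1 * (conj ((χ : T → ℂ) t) * (χ : T → ℂ) t) =
        (χ : T → ℂ) 1 * ((χ : T → ℂ) t * conj ((χ : T → ℂ) t)) by ring, ← Finset.mul_sum,
        mul_left_comm, h, mul_one]
    · intro ψ _ hne
      have h := classInner_irr_of_ne χ.2 ψ.2 fun h => hne (Subtype.ext h).symm
      rw [Cfsg.classInner] at h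
      rw [Finset.sum_congr rfl fun t _ => show (ψ : T → ℂ) 1 * (conj ((ψ : T → ℂ) t) * (χ : T → ℂ) t) =
        (ψ : T → ℂ) 1 * ((χ : T → ℂ) t * conj ((ψ : T → ℂ) t)) by ring, ← Finset.mul_sum,
        mul_left_comm, h, mul_zero]
    · intro hn; exact absurd (Finset.mem_filter.mpr ⟨Finset.mem_univ _, hχ⟩) hn
  set χC : C → ℂ := fun c => (χ : T → ℂ) (ι c) with hχC
  have hχCchar : Cfsg.IsCharacter C χC := IsCharacter.comp (IsIrrCharacter.isCharacter χ.2) ι
  obtain ⟨φ, hφe, hφne⟩ : ∃ φ ∈ e, Cfsg.classInner χC (φ : C → ℂ) ≠ 0 := by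
    by_contra hno
    push Not at hno
    apply irr_one_ne_zero χ
    rw [← hTsum, ← Finset.sum_subset (Finset.subset_univ (Finset.univ.image ι))
      (fun t _ ht => by rw [hsupp t fun ⟨c, hc⟩ =>
        ht (Finset.mem_image.mpr ⟨c, Finset.mem_univ _, hc⟩), zero_mul]),
      Finset.sum_image fun a _ b _ h => hι h]
    simp only [hcoeff, blockCoeff_eq_sum, mul_assoc, ← Finset.mul_sum, Finset.sum_mul]
    rw [Finset.sum_comm, Finset.mul_sum]
    refine Finset.sum_eq_zero fun φ hφ => ?_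
    have h := hno φ (Finset.mem_filter.mp hφ).2
    rw [Cfsg.classInner] at h
    rw [Finset.sum_congr rfl fun c _ => show (φ : C → ℂ) 1 * (conj ((φ : C → ℂ) c) * χC c) =
      (φ : C → ℂ) 1 * (χC c * conj ((φ : C → ℂ) c)) by ring, ← Finset.mul_sum, mul_left_comm, h,
      mul_zero]
  set N := Q ⊔ ι.range
  haveI : Fintype N := Fintype.ofFinite N
  have hrN : ι.range ≤ N := le_sup_right
  let ι₂ : C →* N := (Subgroup.inclusion hrN).comp ι.rangeRestrict
  obtain ⟨m, hm⟩ := IsCharacter.exists_decomp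
    (IsCharacter.restrict (IsIrrCharacter.isCharacter χ.2) N)
  obtain ⟨ψ, hmψ, hψφ⟩ : ∃ ψ : Cfsg.IrrCharacter N, m ψ ≠ 0 ∧
      Cfsg.classInner (fun c : C => (ψ : N → ℂ) (ι₂ c)) (φ : C → ℂ) ≠ 0 := by
    have hexp : χC = ∑ η, (m η : ℂ) • fun c : C => (η : N → ℂ) (ι₂ c) := by
      funext c
      have := congrFun hm (ι₂ c)
      simp only [Finset.sum_apply, Pi.smul_apply] at this ⊢
      exact this
    rw [hexp, classInner_sum_left] at hφne
    obtain ⟨η, -, hη⟩ := Finset.exists_ne_zero_of_sum_ne_zero hφne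
    rw [classInner_smul_left, mul_ne_zero_iff, Nat.cast_ne_zero] at hη
    exact ⟨η, hη.1, hη.2⟩
  have hψne : Cfsg.classInner (fun n : N => (χ : T → ℂ) n) (ψ : N → ℂ) ≠ 0 := by
    rw [hm, classInner_combination, Nat.cast_ne_zero]; exact hmψ
  have hψQ : ∀ x : N, (x : T) ∈ Q → ∀ n : N, (ψ : N → ℂ) (x * n) = (ψ : N → ℂ) n := fun x hx n => by
    obtain ⟨K, -, hK, hKmul⟩ := IsCharacter.exists_kernel (IsIrrCharacter.isCharacter ψ.2)
    exact hKmul x ((hK x).mpr (trivial_of_constituent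
      (IsCharacter.restrict (IsIrrCharacter.isCharacter χ.2) N) ψ hψne (htriv x hx))) n
  -- `ψ` restricts irreducibly
  have hdec : ∀ n : N, ∃ x : N, (x : T) ∈ Q ∧ ∃ c : C, n = x * ι₂ c := fun n => by
    obtain ⟨a, ha, b, ⟨c, rfl⟩, hab⟩ := Subgroup.mem_sup_of_normal_right.mp n.2
    exact ⟨⟨a, (le_sup_left : Q ≤ N) ha⟩, ha, c, Subtype.ext hab.symm⟩
  have hψirr : Cfsg.IsIrrCharacter C (fun c => (ψ : N → ℂ) (ι₂ c)) := by
    refine IsCharacter.isIrr_of_norm_one (IsCharacter.comp (IsIrrCharacter.isCharacter ψ.2) ι₂) ?_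
    have h1 : ∑ w : Q × C, (ψ : N → ℂ) (⟨w.1, (le_sup_left : Q ≤ N) w.1.2⟩ * ι₂ w.2) *
        conj ((ψ : N → ℂ) (⟨w.1, (le_sup_left : Q ≤ N) w.1.2⟩ * ι₂ w.2)) =
        (Nat.card Z : ℂ) * (Nat.card N : ℂ) := by
      rw [← Finset.sum_fiberwise (g := fun w : Q × C =>
        (⟨(w.1 : T), (le_sup_left : Q ≤ N) w.1.2⟩ : N) * ι₂ w.2)]
      have h2 := classInner_self_irr ψ.2
      rw [Cfsg.classInner, inv_mul_eq_one₀ (Nat.cast_ne_zero.mpr Nat.card_pos.ne')] at h2
      rw [h2, Finset.mul_sum]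
      refine Finset.sum_congr rfl fun n _ => ?_
      rw [Finset.sum_congr rfl fun w hw => by rw [(Finset.mem_filter.mp hw).2], Finset.sum_const,
        nsmul_eq_mul]
      congr 2
      rw [← Fintype.card_subtype, ← Nat.card_eq_fintype_card]
      obtain ⟨x, hx, c, rfl⟩ := hdec n
      refine Nat.card_congr
        { toFun := fun w => ⟨c⁻¹ * w.1.2, (hZQ _).mpr ?_⟩
          invFun := fun z => ⟨⟨⟨(x : T) * (ι z)⁻¹, Q.mul_mem hx (Q.inv_mem ((hZQ _).mp z.2))⟩,
            c * z⟩, Subtype.ext ?_⟩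
          left_inv := fun w => ?_
          right_inv := fun z => Subtype.ext (inv_mul_cancel_left c z.1) }
      · have e : (w.1.1 : T) * ι w.1.2 = (x : T) * ι c := congrArg Subtype.val w.2
        have e1 : ι w.1.2 = (w.1.1 : T)⁻¹ * ((x : T) * ι c) := by rw [← e, inv_mul_cancel_left]
        rw [map_mul, map_inv, e1, ← mul_assoc (w.1.1 : T)⁻¹,
          ← hcomm c _ (Q.mul_mem (Q.inv_mem w.1.1.2) hx), inv_mul_cancel_left]
        exact Q.mul_mem (Q.inv_mem w.1.1.2) hx
      · show (x : T) * (ι z)⁻¹ * ι (c * z) = (x : T) * ι c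
        rw [map_mul, hcomm c _ ((hZQ _).mp z.2), mul_assoc, inv_mul_cancel_left]
      · refine Subtype.ext (Prod.ext (Subtype.ext ?_) (mul_inv_cancel_left c w.1.2))
        show (x : T) * (ι (c⁻¹ * w.1.2))⁻¹ = (w.1.1 : T)
        have e : (w.1.1 : T) * ι w.1.2 = (x : T) * ι c := congrArg Subtype.val w.2
        rw [map_mul, mul_inv_rev, map_inv, inv_inv]
        calc (x : T) * ((ι w.1.2)⁻¹ * ι c) = (x : T) * ι c * (ι w.1.2)⁻¹ := by
              have hq := hcomm c _ (Q.mul_mem (Q.inv_mem w.1.1.2) hx)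
              have e1 : (ι w.1.2)⁻¹ = (ι c)⁻¹ * ((x : T)⁻¹ * w.1.1) := by
                rw [show ι w.1.2 = (w.1.1 : T)⁻¹ * ((x : T) * ι c) by rw [← e, inv_mul_cancel_left]]
                group
              rw [e1]
              have hq2 := hcomm c _ (Q.mul_mem (Q.inv_mem hx) w.1.1.2)
              rw [mul_assoc (ι c)⁻¹, ← hq2]
              group
          _ = _ := by rw [← e, mul_inv_cancel_right]
    have h3 : ∀ w : Q × C, (ψ : N → ℂ) (⟨w.1, (le_sup_left : Q ≤ N) w.1.2⟩ * ι₂ w.2) =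
        (ψ : N → ℂ) (ι₂ w.2) := fun w => hψQ _ w.1.2 _
    simp only [h3, Fintype.sum_prod_type, Finset.sum_const, Finset.card_univ, nsmul_eq_mul,
      ← Nat.card_eq_fintype_card] at h1
    have hcard : Nat.card Z * Nat.card N = Nat.card Q * Nat.card C := by
      have e : ∀ n : N, Nat.card {w : Q × C //
          (⟨(w.1 : T), (le_sup_left : Q ≤ N) w.1.2⟩ : N) * ι₂ w.2 = n} = Nat.card Z := by
        intro n
        obtain ⟨x, hx, c, rfl⟩ := hdec n
        refine Nat.card_congr
          { toFun := fun w => ⟨c⁻¹ * w.1.2, (hZQ _).mpr ?_⟩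
            invFun := fun z => ⟨⟨⟨(x : T) * (ι z)⁻¹, Q.mul_mem hx (Q.inv_mem ((hZQ _).mp z.2))⟩,
              c * z⟩, Subtype.ext ?_⟩
            left_inv := fun w => ?_
            right_inv := fun z => Subtype.ext (inv_mul_cancel_left c z.1) }
        · have e : (w.1.1 : T) * ι w.1.2 = (x : T) * ι c := congrArg Subtype.val w.2
          have e1 : ι w.1.2 = (w.1.1 : T)⁻¹ * ((x : T) * ι c) := by rw [← e, inv_mul_cancel_left]
          rw [map_mul, map_inv, e1, ← mul_assoc (w.1.1 : T)⁻¹,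
            ← hcomm c _ (Q.mul_mem (Q.inv_mem w.1.1.2) hx), inv_mul_cancel_left]
          exact Q.mul_mem (Q.inv_mem w.1.1.2) hx
        · show (x : T) * (ι z)⁻¹ * ι (c * z) = (x : T) * ι c
          rw [map_mul, hcomm c _ ((hZQ _).mp z.2), mul_assoc, inv_mul_cancel_left]
        · refine Subtype.ext (Prod.ext (Subtype.ext ?_) (mul_inv_cancel_left c w.1.2))
          show (x : T) * (ι (c⁻¹ * w.1.2))⁻¹ = (w.1.1 : T)
          have e : (w.1.1 : T) * ι w.1.2 = (x : T) * ι c := congrArg Subtype.val w.2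
          have hq2 := hcomm c _ (Q.mul_mem (Q.inv_mem hx) w.1.1.2)
          have e1 : (ι w.1.2)⁻¹ = (ι c)⁻¹ * ((x : T)⁻¹ * w.1.1) := by
            rw [show ι w.1.2 = (w.1.1 : T)⁻¹ * ((x : T) * ι c) by rw [← e, inv_mul_cancel_left]]
            group
          rw [map_mul, mul_inv_rev, map_inv, inv_inv, e1, mul_assoc (ι c)⁻¹, ← hq2]
          group
      have h4 := Nat.card_congr (Equiv.sigmaFiberEquiv fun w : Q × C =>
        (⟨(w.1 : T), (le_sup_left : Q ≤ N) w.1.2⟩ : N) * ι₂ w.2)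
      rw [Nat.card_prod, Nat.card_sigma, Finset.sum_congr rfl fun n _ => e n, Finset.sum_const,
        Finset.card_univ, smul_eq_mul, ← Nat.card_eq_fintype_card, mul_comm] at h4
      exact h4
    have hcC : (Nat.card Z : ℂ) * (Nat.card N : ℂ) = (Nat.card Q : ℂ) * (Nat.card C : ℂ) := by
      exact_mod_cast hcard
    rw [hcC] at h1
    rw [Cfsg.classInner, mul_left_cancel₀ (Nat.cast_ne_zero.mpr Nat.card_pos.ne') h1,
      inv_mul_cancel₀ (Nat.cast_ne_zero.mpr Nat.card_pos.ne')]
  have hφψ : (φ : C → ℂ) = fun c => (ψ : N → ℂ) (ι₂ c) := by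
    by_contra hne
    exact hψφ (classInner_irr_of_ne hψirr φ.2 (Ne.symm hne))
  haveI : N.Normal := Subgroup.sup_normal Q ι.range
  have hge := factorization_constituent_ge χ Q N hdeg ψ hψne
  have hdφ : charDegree (φ : C → ℂ) = charDegree (ψ : N → ℂ) := by
    simp [Cfsg.charDegree, congrFun hφψ 1]
  have hNcard : Nat.card Z * Nat.card N = Nat.card Q * Nat.card C := by
    have hdis : Nat.card N * Nat.card (Q ⊓ ι.range : Subgroup T) = Nat.card Q * Nat.card ι.range :=
      SolvBasic.card_sup_mul_card_inf (fun a _ => by rw [Subgroup.normalizer_eq_top]; trivial)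
    have e1 : Nat.card (Q ⊓ ι.range : Subgroup T) = Nat.card Z := by
      rw [show (Q ⊓ ι.range : Subgroup T) = Z.map ι by
        ext t
        simp only [Subgroup.mem_inf, MonoidHom.mem_range, Subgroup.mem_map]
        constructor
        · rintro ⟨ht, c, rfl⟩; exact ⟨c, (hZQ c).mpr ht, rfl⟩
        · rintro ⟨c, hc, rfl⟩; exact ⟨(hZQ c).mp hc, c, rfl⟩]
      exact (Nat.card_congr (Z.equivMapOfInjective ι hι).toEquiv).symm
    rw [e1, Nat.card_congr (MonoidHom.ofInjective hι).toEquiv.symm, mul_comm] at hdis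
    exact hdis
  have hcards := congrArg (fun n => n.factorization p) hNcard
  simp only [Nat.factorization_mul Nat.card_pos.ne' Nat.card_pos.ne', Finsupp.add_apply] at hcards
  -- the upper bound
  have hZc : Z ≤ Subgroup.center C := fun z hz => Subgroup.mem_center_iff.mpr fun c =>
    hι (by rw [map_mul, map_mul]; exact hcomm c _ ((hZQ z).mp hz))
  have hup : (charDegree (φ : C → ℂ)).factorization p + (Nat.card Z).factorization p ≤
      (Nat.card C).factorization p := by
    have hdvd : charDegree (φ : C → ℂ) ∣ Z.index :=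
      degree_dvd_index_of_scalar φ.2 (irr_one_eq_charDegree φ) Z fun z hz => by
        obtain ⟨c, hc1, hc, -⟩ := IsIrrCharacter.exists_central_scalar φ.2 (hZc hz)
        have h := hc 1
        rw [mul_one] at h
        rw [h, norm_mul, hc1, one_mul, irr_one_eq_charDegree, Complex.norm_natCast]
    have h2 : (charDegree (φ : C → ℂ)).factorization p ≤ Z.index.factorization p :=
      (Nat.factorization_le_iff_dvd (charDegree_pos φ).ne' Subgroup.index_ne_zero_of_finite).mpr hdvd p
    have h3 := congrArg (fun n => n.factorization p) (Subgroup.card_mul_index Z)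
    simp only [Nat.factorization_mul Nat.card_pos.ne' Subgroup.index_ne_zero_of_finite,
      Finsupp.add_apply] at h3
    omega
  have hZp : IsPGroup p Z := by
    rintro ⟨z, hz⟩
    obtain ⟨k, hk⟩ := hQp ⟨ι z, (hZQ z).mp hz⟩
    refine ⟨k, Subtype.ext (hι ?_)⟩
    rw [Subgroup.coe_pow, map_pow, Subgroup.coe_one, map_one]
    exact congrArg Subtype.val hk
  have hd := blockDefect_eq_of_central_deg hM he Z hZc hZp hφe (by
    rw [hdφ] at hup ⊢
    omega)
  obtain ⟨D, hD⟩ := exists_isDefectGroup (p := p) he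
  haveI : Z.Normal := ⟨fun n hn g => by
    rw [Subgroup.mem_center_iff.mp (hZc hn) g, mul_inv_cancel_right]; exact hn⟩
  have hle := le_defectGroup_of_normal hM he hD Z hZp
  have heq : Z = D := Subgroup.eq_of_le_of_card_ge hle (by
    obtain ⟨a, ha⟩ := hZp.exists_card_eq
    rw [card_defectGroup hM he hD, hd, ha, Nat.Prime.factorization_pow hp, Finsupp.single_eq_same])
  rw [heq]; exact hD

end Cfsg.Agent.WeightPair
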